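import Cfsg.Agent.Lib.Char.Burnside
import Cfsg.Agent.Lib.Char.Det
import Cfsg.Agent.Lib.Grp.NormalCompl
import Mathlib.GroupTheory.SpecificGroups.Alternating
import Mathlib.GroupTheory.IndexNormal

/-!
# Elementary facts on non-abelian simple groups and their characters; the simple group of order 60
-/

set_option autoImplicit false
set_option linter.unusedSectionVars false

namespace GT

open Cfsg CT Subgroup
open scoped commutatorElement

variable {G : Type*} [Group G] [Finite G] [IsSimpleGroup G]

theorem toPermHom_quotient_injective_of_simple {H : Subgroup G} (hH : H ≠ ⊤) :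
    Function.Injective (MulAction.toPermHom G (G ⧸ H)) := by
  rw [← MonoidHom.ker_eq_bot_iff, ← normalCore_eq_ker]
  exact (IsSimpleGroup.eq_bot_or_eq_top_of_normal _ inferInstance).resolve_right fun h =>
    hH (top_le_iff.1 (h ▸ normalCore_le H))

theorem card_dvd_factorial_index_of_simple {H : Subgroup G} (hH : H ≠ ⊤) :
    Nat.card G ∣ H.index.factorial := by
  have := card_dvd_of_injective _ (toPermHom_quotient_injective_of_simple hH)
  rwa [Nat.card_perm] at this

section NonAb
variable (hna : ∃ x y : G, x * y ≠ y * x)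
include hna

theorem not_isSolvable_of_simple : ¬ Group.IsSolvable G := fun _ => by
  obtain ⟨x, y, h⟩ := hna
  have := Fact.mk (card_prime_of_isSimpleGroup_of_isSolvable (G := G))
  have := isCyclic_of_prime_card (p := Nat.card G) (α := G) rfl
  exact h (IsCyclic.isMulCommutative.is_comm.comm x y)

theorem commutator_eq_top_of_simple : commutator G = ⊤ :=
  (IsSimpleGroup.eq_bot_or_eq_top_of_normal _ inferInstance).resolve_left fun h => by
    obtain ⟨x, y, h'⟩ := hna
    have : ⁅x, y⁆ ∈ commutator G := commutator_mem_commutator (mem_top x) (mem_top y)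
    rw [h, mem_bot, commutatorElement_eq_one_iff_mul_comm] at this
    exact h' this

theorem center_eq_bot_of_simple : center G = ⊥ :=
  (IsSimpleGroup.eq_bot_or_eq_top_of_normal _ inferInstance).resolve_right fun h => by
    obtain ⟨x, y, h'⟩ := hna
    exact h' (mem_center_iff.1 (h ▸ mem_top y : y ∈ center G) x)

theorem not_hasNormalPComplement_of_simple {p : ℕ} [hp : Fact p.Prime] (h : p ∣ Nat.card G) :
    ¬ HasNormalPComplement p G := fun h' => by
  obtain ⟨N, hN, h1, k, h2⟩ := hasNormalPComplement_iff_exists.1 h'
  rcases hN.eq_bot_or_eq_top with rfl | rfl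
  · rw [index_bot] at h2
    exact not_isSolvable_of_simple hna
      (isSolvable_of_card_eq_pow_mul_pow (a := k) (b := 0) hp.out hp.out (by simpa using h2))
  · exact h1 (by rwa [card_top])

omit hna in
theorem irr_ker_eq_bot_of_simple {χ : IrrCharacter G} (h : χ ≠ irrOne G) : ker χ.1 = ⊥ :=
  (IsSimpleGroup.eq_bot_or_eq_top_of_normal _ inferInstance).resolve_right
    fun h' => h ((irr_ker_eq_top_iff χ).1 h')

theorem irr_degree_ne_one_of_simple {χ : IrrCharacter G} (h : χ ≠ irrOne G) :
    charDegree χ.1 ≠ 1 := fun h' => by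
  have := (irr_commutator_le_ker_iff χ).2 h'
  rw [commutator_eq_top_of_simple hna, top_le_iff, irr_ker_eq_top_iff] at this
  exact h this

theorem irr_center_eq_bot_of_simple {χ : IrrCharacter G} (h : χ ≠ irrOne G) :
    CT.center χ.1 = ⊥ := by
  rw [irr_center_eq_of_faithful χ (irr_ker_eq_bot_of_simple h), center_eq_bot_of_simple hna]

theorem detChar_eq_one_of_simple (χ : G → ℂ) (g : G) : detChar χ g = 1 :=
  (mem_ker_detChar_iff χ).1 (commutator_le_ker_detChar χ
    (commutator_eq_top_of_simple hna ▸ mem_top g))

/-- The value at an involution of a non-principal irreducible character of degree `d` is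
`d - 4 k` with `0 < 2 k < d`. -/
theorem exists_apply_invol_of_simple {χ : IrrCharacter G} (h : χ ≠ irrOne G) {z : G}
    (hz : orderOf z = 2) : ∃ k : ℕ, 0 < k ∧ 2 * k < charDegree χ.1 ∧
      χ.1 z = ((charDegree χ.1 - 4 * k : ℤ) : ℂ) := by
  have hz1 : z ≠ 1 := fun h => by simp [h] at hz
  obtain ⟨a, b, h1, h2, h3⟩ := (irr_isCharacter χ).exists_nat_of_sq_eq_one
    (hz ▸ pow_orderOf_eq_one z)
  rw [detChar_eq_one_of_simple hna] at h3
  obtain ⟨k, rfl⟩ : Even b := by
    by_contra hb
    rw [(Nat.not_even_iff_odd.1 hb).neg_one_pow] at h3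
    norm_num at h3
  have h4 : ‖χ.1 z‖ ≠ charDegree χ.1 := fun h4 => hz1 (by
    have := (irr_mem_center_iff χ).2 h4
    rwa [irr_center_eq_bot_of_simple hna h, mem_bot] at this)
  refine ⟨k, Nat.pos_of_ne_zero ?_, ?_, by rw [h1, h2]; push_cast; ring⟩
  · rintro rfl
    exact h4 (by simp [h1, h2])
  · refine by_contra fun h5 => h4 ?_
    obtain rfl : a = 0 := by omega
    rw [h1, h2, Nat.cast_zero, zero_sub, norm_neg, zero_add, Complex.norm_natCast]

end NonAb

/-- A simple group of order `60` is `A₅`. -/
theorem nonempty_mulEquiv_alternatingGroup_of_card (h : Nat.card G = 60) :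
    Nonempty (G ≃* alternatingGroup (Fin 5)) := by
  classical
  have hna : ∃ x y : G, x * y ≠ y * x := by
    by_contra! h1
    have : IsMulCommutative G := ⟨⟨h1⟩⟩
    have := isSolvable_of_isMulCommutative (G := G)
    have := card_prime_of_isSimpleGroup_of_isSolvable (G := G)
    rw [h] at this
    norm_num at this
  obtain ⟨P⟩ : Nonempty (Sylow 2 G) := inferInstance
  have hP : Nat.card P = 2 ^ 2 := by
    rw [P.card_eq_multiplicity, h]
    congr 1
    rw [show 60 = 2 ^ 2 * 15 from rfl, Nat.factorization_mul (by norm_num) (by norm_num),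
      Nat.prime_two.factorization_pow]
    simp [Nat.factorization_eq_zero_of_not_dvd (show ¬ 2 ∣ 15 by norm_num)]
  set N := normalizer ((P : Subgroup G) : Set G)
  have h1 : (P : Subgroup G).index = 15 := by
    have := (P : Subgroup G).card_mul_index
    rw [hP, h] at this
    omega
  have h2 : N.index ∣ 15 := h1 ▸ index_dvd_of_le le_normalizer
  have h3 : N ≠ ⊤ := fun h3 => by
    rcases (normalizer_eq_top_iff.1 h3).eq_bot_or_eq_top with h4 | h4
    · rw [h4, card_bot] at hP; omega
    · rw [h4, index_top] at h1; omega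
  have h4 := card_dvd_factorial_index_of_simple h3
  have h5 : N.index ≠ 15 := fun h5 => by
    have h6 : N = P := (eq_of_le_of_card_ge le_normalizer (by
      have := N.card_mul_index
      rw [h5, h] at this
      change Nat.card N ≤ _
      omega)).symm
    have := IsPGroup.isMulCommutative_of_card_eq_prime_sq hP
    exact not_hasNormalPComplement_of_simple hna (by rw [h]; norm_num)
      (hasNormalPComplement_of_normalizer_le_centralizer P (h6.trans_le (le_centralizer _)))
  have h6 : N.index = 5 := by
    have : N.index ∈ Nat.divisors 15 := Nat.mem_divisors.2 ⟨h2, by norm_num⟩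
    rw [show Nat.divisors 15 = {1, 3, 5, 15} from rfl] at this
    simp only [Finset.mem_insert, Finset.mem_singleton] at this
    rw [h] at h4
    rcases this with h7 | h7 | h7 | h7
    · rw [h7] at h4; norm_num at h4
    · rw [h7] at h4; norm_num [Nat.factorial] at h4
    · exact h7
    · exact absurd h7 h5
  let φ := (Finite.equivFinOfCardEq h6).permCongrHom.toMonoidHom.comp
    (MulAction.toPermHom G (G ⧸ N))
  have hφ : Function.Injective φ := (Finite.equivFinOfCardEq h6).permCongrHom.injective.comp
    (toPermHom_quotient_injective_of_simple h3)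
  have h7 := φ.range.card_mul_index
  rw [← Nat.card_congr (φ.ofInjective hφ).toEquiv, h, Nat.card_perm, Nat.card_fin] at h7
  rw [← Equiv.Perm.eq_alternatingGroup_of_index_eq_two (G := φ.range) (by
    norm_num [Nat.factorial] at h7; omega)]
  exact ⟨φ.ofInjective hφ⟩

end GT
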