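import Cfsg.Agent.Lib.Char.Degrees

/-!
# Character degrees II: Isaacs 12.3, 12.4, 12.17, 12.18
-/

set_option autoImplicit false

namespace CT

open Cfsg MulAction
open scoped ComplexConjugate commutatorElement Pointwise

variable {G : Type*} [Group G]

/-- `K` is maximal among the normal subgroups with nonabelian quotient. -/
structure IsMaxNonab (K : Subgroup G) : Prop where
  normal : K.Normal
  not_le : ¬ commutator G ≤ K
  le_of_lt : ∀ M : Subgroup G, M.Normal → K < M → commutator G ≤ M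

/-- `G/K` acts as a Frobenius group with abelian kernel `N/K` (possibly with `N = ⊤` or `N = K`). -/
structure FrobSec (K N : Subgroup G) : Prop where
  normalK : K.Normal
  normalN : N.Normal
  le : K ≤ N
  comm : ⁅N, N⁆ ≤ K
  frob : ∀ x ∈ N, ∀ g, g ∉ N → x * g * x⁻¹ * g⁻¹ ∈ K → x ∈ K

theorem normal_inf_centralizer_singleton {X : Subgroup G} [hX : X.Normal]
    (h : X ≤ Subgroup.centralizer (commutator G : Set G)) (g : G) :
    (X ⊓ Subgroup.centralizer {g}).Normal := by
  refine ⟨fun x hx y => ⟨hX.conj_mem x hx.1 y, ?_⟩⟩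
  have h1 : x * g = g * x := Subgroup.mem_centralizer_singleton_iff.1 hx.2
  have h2 := h (hX.conj_mem x hx.1 y) ⁅g, y⁆
    (Subgroup.commutator_mem_commutator (Subgroup.mem_top g) (Subgroup.mem_top y))
  refine Subgroup.mem_centralizer_singleton_iff.2 ?_
  rw [commutatorElement_def] at h2
  calc y * x * y⁻¹ * g = y * x * y⁻¹ * (g * y * g⁻¹ * y⁻¹) * (y * g * y⁻¹) := by group
    _ = g * y * g⁻¹ * y⁻¹ * (y * x * y⁻¹) * (y * g * y⁻¹) := by rw [h2]
    _ = g * y * g⁻¹ * (x * g) * y⁻¹ := by group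
    _ = g * y * g⁻¹ * (g * x) * y⁻¹ := by rw [h1]
    _ = _ := by group

theorem map_mk'_commutator (K : Subgroup G) [K.Normal] :
    (commutator G).map (QuotientGroup.mk' K) = commutator (G ⧸ K) := by
  rw [commutator_def, Subgroup.map_commutator,
    Subgroup.map_top_of_surjective _ (QuotientGroup.mk'_surjective K), commutator_def]

/-- Conjugation of linear characters of a normal subgroup. -/
def conjLin {N : Subgroup G} [N.Normal] (g : G) (f : N →* ℂˣ) : N →* ℂˣ :=
  f.comp (MulAut.conjNormal g⁻¹ : MulAut N).toMonoidHom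

section ConjLin
variable {N : Subgroup G} [N.Normal]

theorem conjLin_apply (g : G) (f : N →* ℂˣ) (n : N) :
    conjLin g f n = f (MulAut.conjNormal g⁻¹ n) := rfl
theorem conjLin_mul (g : G) (f f' : N →* ℂˣ) : conjLin g (f * f') = conjLin g f * conjLin g f' :=
  rfl
theorem conjLin_inv (g : G) (f : N →* ℂˣ) : conjLin g f⁻¹ = (conjLin g f)⁻¹ := rfl
theorem conjLin_conjLin (g h : G) (f : N →* ℂˣ) :
    conjLin g (conjLin h f) = conjLin (g * h) f := by
  ext n; simp only [conjLin_apply, mul_inv_rev, map_mul, MulAut.mul_apply]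
theorem conjLin_one (f : N →* ℂˣ) : conjLin (1 : G) f = f := by
  ext n; simp [conjLin_apply]
theorem conjLin_of_mem {g : G} (hg : g ∈ N) (f : N →* ℂˣ) : conjLin g f = f := by
  ext n
  have : MulAut.conjNormal g⁻¹ n = (⟨g, hg⟩ : N)⁻¹ * n * ⟨g, hg⟩ := by
    apply Subtype.ext; simp
  rw [conjLin_apply, this, map_mul, map_mul, map_inv, inv_mul_cancel_comm]
theorem conjSmul_linChar (g : G) (f : N →* ℂˣ) : g • linChar f = linChar (conjLin g f) := rfl
theorem conjSmul_lin_smul [Finite G] (g : G) (f : N →* ℂˣ) (θ : IrrCharacter N) :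
    g • f • θ = conjLin g f • g • θ := rfl
theorem le_ker_conjLin {K : Subgroup G} [hK : K.Normal] (g : G) {f : N →* ℂˣ}
    (hf : K.subgroupOf N ≤ f.ker) : K.subgroupOf N ≤ (conjLin g f).ker := fun x hx =>
  hf (x := MulAut.conjNormal g⁻¹ x) (hK.conj_mem x hx g⁻¹)

end ConjLin

section LinSmul
variable [Finite G]

theorem lin_smul_smul (u f : G →* ℂˣ) (ψ : IrrCharacter G) : u • f • ψ = (u * f) • ψ :=
  (mul_smul u f ψ).symm
theorem one_lin_smul (ψ : IrrCharacter G) : (1 : G →* ℂˣ) • ψ = ψ :=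
  Subtype.ext (funext fun g => by simp [lin_smul_apply])
theorem lin_smul_comm (u f : G →* ℂˣ) (ψ : IrrCharacter G) : u • f • ψ = f • u • ψ :=
  Subtype.ext (funext fun g => by simp only [lin_smul_apply]; ring)
theorem inv_lin_smul_smul (f : G →* ℂˣ) (ψ : IrrCharacter G) : f⁻¹ • f • ψ = ψ :=
  Subtype.ext (funext fun g => by simp [lin_smul_apply])
theorem lin_smul_inv_smul (f : G →* ℂˣ) (ψ : IrrCharacter G) : f • f⁻¹ • ψ = ψ :=
  Subtype.ext (funext fun g => by simp [lin_smul_apply])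
theorem lin_smul_cancel (f : G →* ℂˣ) {φ ψ : IrrCharacter G} : f • φ = f • ψ ↔ φ = ψ :=
  ⟨fun e => by rw [← inv_lin_smul_smul f φ, e, inv_lin_smul_smul], fun e => by rw [e]⟩
theorem lin_smul_eq_iff (u f : G →* ℂˣ) (ψ : IrrCharacter G) :
    u • ψ = f • ψ ↔ (f⁻¹ * u) • ψ = ψ := by
  rw [← lin_smul_smul, ← lin_smul_cancel f (φ := f⁻¹ • u • ψ), lin_smul_inv_smul]

end LinSmul

variable [Finite G]

theorem exists_isMaxNonab_ge {N : Subgroup G} (hN : N.Normal) (h : ¬ commutator G ≤ N) :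
    ∃ K : Subgroup G, IsMaxNonab K ∧ N ≤ K := by
  obtain ⟨K, hK, hmax⟩ := Set.Finite.exists_le_maximal (Set.toFinite
    {K : Subgroup G | K.Normal ∧ ¬ commutator G ≤ K}) (a := N) ⟨hN, h⟩
  refine ⟨K, ⟨hmax.prop.1, hmax.prop.2, fun M hM hlt => ?_⟩, hK⟩
  by_contra hc
  exact hlt.not_ge (hmax.le_of_ge ⟨hM, hc⟩ hlt.le)

theorem exists_isMaxNonab (h : ¬ IsMulCommutative G) : ∃ K : Subgroup G, IsMaxNonab K := by
  obtain ⟨K, hK, -⟩ := exists_isMaxNonab_ge (N := (⊥ : Subgroup G)) inferInstance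
    (fun hc => h ((commutator_eq_bot_iff G).1 (le_bot_iff.1 hc)))
  exact ⟨K, hK⟩

omit [Finite G] in
theorem isMinNormal_commutator (hne : commutator G ≠ ⊥)
    (hmin : ∀ M : Subgroup G, M.Normal → M ≠ ⊥ → commutator G ≤ M) :
    GT.IsMinNormal (commutator G) :=
  ⟨inferInstance, hne, fun K hK hle h => le_antisymm hle (hmin K hK h)⟩

/-- **Isaacs 12.3**, group-theoretic part. -/
theorem minNonab_dichotomy [IsMulCommutative (commutator G)] (hne : commutator G ≠ ⊥)
    (hmin : ∀ M : Subgroup G, M.Normal → M ≠ ⊥ → commutator G ≤ M) :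
    (∃ p : ℕ, p.Prime ∧ IsPGroup p G ∧ commutator G ≤ Subgroup.center G ∧
      Nat.card (commutator G) = p) ∨
    ∀ x ∈ commutator G, x ≠ 1 → Subgroup.centralizer {x} ≤ commutator G := by
  have hM := isMinNormal_commutator hne hmin
  by_cases hZ : Subgroup.center G = ⊥
  · right
    set N := commutator G with hN
    set C := Subgroup.centralizer (N : Set G) with hC
    have hNC : N ≤ C := Subgroup.le_centralizer N
    have key : ∀ g, g ∉ C → C ⊓ Subgroup.centralizer {g} = ⊥ := by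
      intro g hg
      by_contra h
      have h1 := hmin _ (normal_inf_centralizer_singleton le_rfl g) h
      exact hg fun n hn => Subgroup.mem_centralizer_singleton_iff.1 (h1 hn).2
    have hCN : C ≤ N := by
      have h1 : ∃ g, g ∉ C := by
        by_contra h
        push Not at h
        refine hne (eq_bot_iff.2 (hZ ▸ fun n hn => Subgroup.mem_center_iff.2 fun g => ?_))
        exact (h g n hn).symm
      obtain ⟨g, hg⟩ := h1
      let F : C → N := fun c => ⟨⁅(c : G), g⁆,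
        Subgroup.commutator_mem_commutator (Subgroup.mem_top _) (Subgroup.mem_top _)⟩
      have hF : Function.Injective F := by
        intro a b hab
        have h1 : (a : G) * g * (a : G)⁻¹ * g⁻¹ = b * g * (b : G)⁻¹ * g⁻¹ :=
          congrArg Subtype.val hab
        have h3 := mul_right_cancel h1
        have h2 : (b : G)⁻¹ * a ∈ C ⊓ Subgroup.centralizer {g} := by
          refine ⟨C.mul_mem (C.inv_mem b.2) a.2, Subgroup.mem_centralizer_singleton_iff.2 ?_⟩
          calc (b : G)⁻¹ * a * g = (b : G)⁻¹ * (a * g * (a : G)⁻¹) * a := by group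
            _ = (b : G)⁻¹ * (b * g * (b : G)⁻¹) * a := by rw [h3]
            _ = _ := by group
        rw [key g hg, Subgroup.mem_bot] at h2
        exact Subtype.ext (inv_mul_eq_one.1 h2).symm
      exact (Subgroup.eq_of_le_of_card_ge hNC (Nat.card_le_card_of_injective F hF)).ge
    intro x hx hx1 g hg
    by_contra hgN
    have h1 : x ∈ C ⊓ Subgroup.centralizer {g} := ⟨hNC hx,
      Subgroup.mem_centralizer_singleton_iff.2 (Subgroup.mem_centralizer_singleton_iff.1 hg).symm⟩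
    rw [key g fun h => hgN (hCN h), Subgroup.mem_bot] at h1
    exact hx1 h1
  · left
    have h1 := hmin _ inferInstance hZ
    have hp := hM.card_prime_of_le_center h1
    refine ⟨_, hp, ?_, h1, rfl⟩
    have := Fact.mk hp
    have := isMulCommutative_quotient_of_commutator_le h1
    have : Group.IsNilpotent (G ⧸ Subgroup.center G) := GT.isNilpotent_of_isMulCommutative
    have : Group.IsNilpotent G := GT.isNilpotent_of_quotient_le_center le_rfl
    have h2 := GT.isComplement'_pCore_pPrimeCore_of_isNilpotent (G := G) (Nat.card (commutator G))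
    have h3 : pPrimeCore (Nat.card (commutator G)) G = ⊥ := by
      by_contra h
      exact GT.not_dvd_card_pPrimeCore _ G (Subgroup.card_dvd_of_le (hmin _ inferInstance h))
    have h4 := h2.sup_eq_top
    rw [h3, sup_bot_eq] at h4
    exact GT.pCore_eq_top_iff.1 h4

namespace IsMaxNonab
variable {K : Subgroup G} (h : IsMaxNonab K)
include h

omit [Finite G] in
theorem quotient_ne [K.Normal] : commutator (G ⧸ K) ≠ ⊥ := by
  rw [← map_mk'_commutator, Ne, GT.map_mk'_eq_bot_iff]; exact h.not_le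

omit [Finite G] in
theorem quotient_min [K.Normal] (M : Subgroup (G ⧸ K)) (hM : M.Normal) (h1 : M ≠ ⊥) :
    commutator (G ⧸ K) ≤ M := by
  rw [← map_mk'_commutator, Subgroup.map_le_iff_le_comap]
  refine h.le_of_lt _ (hM.comap _) (lt_of_le_of_ne (GT.le_comap_mk' K M) fun e => h1 ?_)
  rw [← Subgroup.map_comap_eq_self_of_surjective (QuotientGroup.mk'_surjective K) M, ← e,
    GT.map_mk'_eq_bot_iff]

theorem isChief : GT.IsChief K (commutator G ⊔ K) := by
  have := h.normal
  have h1 := (isMinNormal_commutator h.quotient_ne h.quotient_min).isChief_comap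
  rwa [← map_mk'_commutator, GT.comap_map_mk'_eq] at h1

theorem ker_eq {ψ : IrrCharacter G} (h1 : K ≤ ker ψ.1) (h2 : charDegree ψ.1 ≠ 1) :
    ker ψ.1 = K := by
  by_contra h3
  exact h2 ((irr_degree_eq_one_iff_commutator_le_ker ψ).2
    (h.le_of_lt _ inferInstance (lt_of_le_of_ne h1 (Ne.symm h3))))

theorem exists_irr : ∃ ψ : IrrCharacter G, ker ψ.1 = K ∧ charDegree ψ.1 ≠ 1 := by
  have := h.normal
  obtain ⟨ψ, h1, h2⟩ := exists_irr_le_ker_not_le K h.not_le
  have h3 : charDegree ψ.1 ≠ 1 := fun e => h2 ((irr_degree_eq_one_iff_commutator_le_ker ψ).1 e)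
  exact ⟨ψ, h.ker_eq h1 h3, h3⟩

/-- **Isaacs 12.3**. -/
theorem dichotomy [K.Normal] (hc : ⁅commutator G, commutator G⁆ ≤ K) :
    (∃ p : ℕ, p.Prime ∧ IsPGroup p (G ⧸ K) ∧ ⁅commutator G, ⊤⁆ ≤ K ∧
      K.relIndex (commutator G) = p) ∨ FrobSec K (commutator G ⊔ K) := by
  have hcomm : ⁅commutator (G ⧸ K), commutator (G ⧸ K)⁆ = ⊥ := by
    rw [← map_mk'_commutator, ← Subgroup.map_commutator, GT.map_mk'_eq_bot_iff]; exact hc
  have : IsMulCommutative (commutator (G ⧸ K)) := Subgroup.commutator_self_eq_bot_iff.1 hcomm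
  rcases minNonab_dichotomy h.quotient_ne h.quotient_min with ⟨p, hp, h1, h2, h3⟩ | h1
  · refine Or.inl ⟨p, hp, h1, ?_, by rw [← h3, ← map_mk'_commutator, GT.card_map_mk']⟩
    rw [← GT.map_mk'_eq_bot_iff, Subgroup.map_commutator, map_mk'_commutator, eq_bot_iff,
      Subgroup.commutator_le]
    intro a ha b _
    rw [commutatorElement_eq_one_iff_mul_comm.2 (Subgroup.mem_center_iff.1 (h2 ha) b).symm]
    exact one_mem _
  · have e : commutator G ⊔ K = (commutator (G ⧸ K)).comap (QuotientGroup.mk' K) := by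
      rw [← map_mk'_commutator, GT.comap_map_mk'_eq]
    refine Or.inr ⟨inferInstance, inferInstance, le_sup_right, ?_, ?_⟩
    · rw [← GT.map_mk'_eq_bot_iff, Subgroup.map_commutator, e,
        Subgroup.map_comap_eq_self_of_surjective (QuotientGroup.mk'_surjective K), hcomm]
    · intro x hx g hg hxg
      rw [e] at hx hg
      rw [← QuotientGroup.eq_one_iff] at hxg ⊢
      refine eq_one_of_commute_of_centralizer_le h1 hx hg ?_
      exact (commutatorElement_eq_one_iff_mul_comm.1 hxg).symm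

theorem dichotomy_of_isSolvable [K.Normal] [Group.IsSolvable (G ⧸ K)] :
    (∃ p : ℕ, p.Prime ∧ IsPGroup p (G ⧸ K) ∧ ⁅commutator G, ⊤⁆ ≤ K ∧
      K.relIndex (commutator G) = p) ∨ FrobSec K (commutator G ⊔ K) := by
  refine h.dichotomy ?_
  have := (isMinNormal_commutator h.quotient_ne h.quotient_min).isMulCommutative_of_isSolvable
  rw [← GT.map_mk'_eq_bot_iff, Subgroup.map_commutator, map_mk'_commutator]
  exact Subgroup.commutator_self_eq_bot_iff.2 this

end IsMaxNonab

/-- A character with `[G', G]` in the kernel vanishes off its centre. -/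
theorem commutator_le_center_of_le_ker {ψ : IrrCharacter G} (h : ⁅commutator G, ⊤⁆ ≤ ker ψ.1) :
    commutator G ≤ center ψ.1 := fun z hz => (irr_mem_center_iff_commutator ψ).2 fun g =>
  h (Subgroup.commutator_mem_commutator hz (Subgroup.mem_top g))

/-- The product of a character vanishing off its centre `Z` with a character irreducible on `Z`
is irreducible. -/
theorem isIrr_mul_of_vanish_off {Z : Subgroup G} {ψ χ : IrrCharacter G} (hZ : Z ≤ center ψ.1)
    (hv : ∀ g, g ∉ Z → ψ.1 g = 0) (hχ : IsIrrCharacter Z (res Z χ.1)) :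
    IsIrrCharacter G (ψ.1 * χ.1) := by
  have hc := (irr_isCharacter ψ).mul (irr_isCharacter χ)
  rw [hc.isIrr_iff_ip_self]
  have h1 := ip_res_res_of_vanish Z (χ := ψ.1 * χ.1) (ψ := ψ.1 * χ.1)
    (fun g hg => by rw [Pi.mul_apply, hv g hg, zero_mul])
  obtain ⟨lam, h2, -⟩ := (irr_isCharacter ψ).exists_monoidHom_of_le_center hZ
  have h3 : res Z (ψ.1 * χ.1) = ψ.1 1 • (res Z χ.1 * fun z => lam z) := by
    funext z
    have := h2 z 1
    rw [mul_one] at this
    simp only [res_apply, Pi.mul_apply, Pi.smul_apply, smul_eq_mul, this]; ring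
  have h4 := hχ.mul_linear (isIrrCharacter_of_monoidHom lam).isCharacter
    (charDegree_eq_of_apply_one (n := 1) (by simp))
  rw [h3, ip_smul_left, ip_smul_right, h4.isCharacter.isIrr_iff_ip_self.1 h4, irr_apply_one,
    ← (irr_degree_sq_eq_index_iff ψ hZ).2 hv] at h1
  have h5 : ((charDegree ψ.1 ^ 2 : ℕ) : ℂ) ≠ 0 := by
    exact_mod_cast (pow_pos (irr_degree_pos ψ) 2).ne'
  apply mul_left_cancel₀ h5
  rw [← h1]; simp [sq]

/-- Isaacs 12.18 for a normal subgroup. -/
theorem index_dvd_degree_sq_of_vanish {L : Subgroup G} [L.Normal] {χ : IrrCharacter G}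
    (h : ∀ g, g ∉ L → χ.1 g = 0) : L.index ∣ charDegree χ.1 ^ 2 := by
  obtain ⟨θ, hθ⟩ := exists_irr_liesUnder L χ
  rw [clifford_degree hθ, ← Subgroup.relIndex_mul_index (le_inertia θ),
    ← (vanish_off_iff_mult_sq_eq hθ).1 h]
  exact ⟨(stabilizer G θ).index * charDegree θ.1 ^ 2, by ring⟩

/-- **Isaacs 12.17**. -/
theorem mem_normalCore_of_forall_res_eq {H : Subgroup G} {θ : IrrCharacter H}
    (h : ∀ χ : IrrCharacter G, LiesOver H χ.1 θ.1 → res H χ.1 = θ.1) {x : H} (hx : θ.1 x ≠ 0) :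
    (x : G) ∈ H.normalCore := by
  classical
  obtain ⟨χ, hχ⟩ := exists_irr_liesOver θ
  have h1 : ∀ y : H, ind H θ.1 y =
      (∑ ψ ∈ irrOver H θ.1, (mult (res H ψ.1) θ.1 : ℂ)) * θ.1 y := by
    intro y
    rw [ind_eq_sum_irrOver (irr_isCharacter θ), Finset.sum_apply, Finset.sum_mul]
    refine Finset.sum_congr rfl fun ψ hψ => ?_
    rw [Pi.smul_apply, smul_eq_mul, ← congrFun (h ψ (mem_irrOver.1 hψ)) y, res_apply]
  have h2 : ∀ y : H, ind H θ.1 y = ind H (fun _ => 1) y * θ.1 y := by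
    intro y
    have := congrFun (ind_res H (irr_isClassFunction χ)) y
    rwa [Pi.mul_apply, ← res_apply H χ.1, h χ hχ] at this
  have h3 := mul_right_cancel₀ hx ((h2 x).symm.trans (h1 x))
  have h4 := mul_right_cancel₀ (irr_apply_one_ne_zero θ) ((h2 1).symm.trans (h1 1))
  have hπ : IsCharacter G (ind H (fun _ => 1)) := isCharacter_one.ind
  have h5 : (x : G) ∈ ker (ind H (fun _ => (1 : ℂ))) := hπ.mem_ker_iff.2 (h3.trans h4.symm)
  have := hπ.ker_normal
  have h0 : (fun _ : H => (1 : ℂ)) ≠ 0 := fun h0 => one_ne_zero (congrFun h0 1)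
  exact Subgroup.normal_le_normalCore.2
    ((ker_ind_le isCharacter_one h0).trans (Subgroup.map_subtype_le _)) h5

namespace FrobSec
variable {K N : Subgroup G} (h : FrobSec K N)
include h

theorem exists_commutator {g : G} (hg : g ∉ N) {n : G} (hn : n ∈ N) :
    ∃ m ∈ N, (m * g * m⁻¹ * g⁻¹)⁻¹ * n ∈ K := by
  have := h.normalK
  have := h.normalN
  have : (N.map (QuotientGroup.mk' K)).Normal :=
    Subgroup.Normal.map inferInstance _ (QuotientGroup.mk'_surjective K)
  have hmem : ∀ x : G, (x : G ⧸ K) ∈ N.map (QuotientGroup.mk' K) ↔ x ∈ N := fun x => by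
    rw [← GT.comap_map_mk'_of_le h.le, Subgroup.mem_comap, GT.comap_map_mk'_of_le h.le]; rfl
  obtain ⟨m, hm, e⟩ := exists_commutator_eq_of_centralizer_le (N := N.map (QuotientGroup.mk' K))
    (g := (g : G ⧸ K)) (n := (n : G ⧸ K)) (by
      rintro _ ⟨x, hx, rfl⟩ hx1 y hy
      obtain ⟨y, rfl⟩ := QuotientGroup.mk_surjective y
      rw [hmem]
      by_contra hyN
      refine hx1 ((QuotientGroup.eq_one_iff x).2 (h.frob x hx y hyN ?_))
      rw [← QuotientGroup.eq_one_iff]
      exact commutatorElement_eq_one_iff_mul_comm.2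
        (Subgroup.mem_centralizer_singleton_iff.1 hy).symm) (by rwa [hmem]) ⟨n, hn, rfl⟩
  obtain ⟨m, rfl⟩ := QuotientGroup.mk_surjective m
  exact ⟨m, (hmem m).1 hm, QuotientGroup.eq.1 e⟩

theorem eq_one_of_conjLin_eq [N.Normal] {g : G} (hg : g ∉ N) {f : N →* ℂˣ}
    (hf : K.subgroupOf N ≤ f.ker) (e : conjLin g f = f) : f = 1 := by
  ext n
  obtain ⟨m, hm, h1⟩ := h.exists_commutator (g := g⁻¹) (fun h' => hg (N.inv_mem_iff.1 h')) n.2
  have h2 : f ((⟨m, hm⟩ * MulAut.conjNormal g⁻¹ (⟨m, hm⟩ : N)⁻¹)⁻¹ * n) = 1 :=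
    hf (by simpa [Subgroup.mem_subgroupOf, mul_assoc] using h1)
  rw [map_mul, map_inv, map_mul, ← conjLin_apply, e, map_inv, mul_inv_cancel, inv_one,
    one_mul] at h2
  rw [h2]; rfl

omit [Finite G] in
theorem commutator_le : commutator N ≤ K.subgroupOf N := commutator_le_subgroupOf h.comm

theorem degree_eq_one {θ : IrrCharacter N} (hθ : K.subgroupOf N ≤ ker θ.1) :
    charDegree θ.1 = 1 := irr_degree_eq_one_of_le_ker h.commutator_le hθ

theorem stabilizer_eq [N.Normal] {θ : IrrCharacter N} (hθ : K.subgroupOf N ≤ ker θ.1)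
    (h1 : θ ≠ irrOne N) : stabilizer G θ = N := by
  obtain ⟨f, rfl⟩ := (exists_linChar_eq_iff θ).2 (h.degree_eq_one hθ)
  refine le_antisymm (fun g hg => ?_) (le_inertia _)
  by_contra hgN
  rw [ker_linChar] at hθ
  rw [mem_stabilizer_iff, conjSmul_linChar] at hg
  exact h1 (linChar_eq_irrOne_iff.2 (h.eq_one_of_conjLin_eq hgN hθ (linChar_injective hg)))

theorem degree_eq_index {χ : IrrCharacter G} (h1 : K ≤ ker χ.1) (h2 : ¬ N ≤ ker χ.1) :
    charDegree χ.1 = N.index := by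
  have := h.normalN
  obtain ⟨θ, hθ⟩ := exists_irr_liesUnder N χ
  have h3 : K.subgroupOf N ≤ ker θ.1 := by
    refine le_trans ?_ (ker_le_ker_of_ip_ne_zero ((irr_isClassFunction χ).res N) hθ)
    rw [(irr_isCharacter χ).ker_res]
    exact Subgroup.comap_mono h1
  have h4 : θ ≠ irrOne N := by
    rintro rfl
    exact h2 ((liesOver_one_iff N χ).1 hθ)
  rw [← hθ.ind_eq_of_inertia_eq (h.stabilizer_eq h3 h4), charDegree_ind (irr_isCharacter θ),
    h.degree_eq_one h3, mul_one]

theorem exists_irr (hne : K ≠ N) :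
    ∃ χ : IrrCharacter G, K ≤ ker χ.1 ∧ ¬ N ≤ ker χ.1 ∧ charDegree χ.1 = N.index := by
  have := h.normalK
  obtain ⟨χ, h1, h2⟩ := exists_irr_le_ker_not_le K (K := N) (fun e => hne (le_antisymm h.le e))
  exact ⟨χ, h1, h2, h.degree_eq_index h1 h2⟩

theorem index_mem_charDegrees (hne : K ≠ N) : N.index ∈ charDegrees G := by
  obtain ⟨χ, -, -, h3⟩ := h.exists_irr hne
  exact ⟨χ, h3⟩

theorem exists_relIndex_eq : ∃ a, K.relIndex N = 1 + a * N.index := by
  classical
  have := h.normalK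
  have := h.normalN
  have h1 := sum_le_ker_degree_sq K
  rw [← Finset.sum_filter_add_sum_filter_not _ (fun χ : IrrCharacter G => N ≤ ker χ.1),
    Finset.filter_filter, Finset.filter_filter,
    Finset.filter_congr (q := fun χ : IrrCharacter G => N ≤ ker χ.1)
      (fun χ _ => ⟨fun h' => h'.2, fun h' => ⟨h.le.trans h', h'⟩⟩),
    sum_le_ker_degree_sq, Finset.sum_congr rfl (g := fun _ => N.index ^ 2) (fun χ hχ => by
      rw [h.degree_eq_index (Finset.mem_filter.1 hχ).2.1 (Finset.mem_filter.1 hχ).2.2]),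
    Finset.sum_const, smul_eq_mul, ← Subgroup.relIndex_mul_index h.le] at h1
  generalize Finset.card _ = c at h1
  refine ⟨c, Nat.eq_of_mul_eq_mul_right (GT.index_pos N) (h1.symm.trans ?_)⟩
  rw [add_mul, one_mul, sq, mul_assoc]

theorem coprime : (K.relIndex N).Coprime N.index := by
  obtain ⟨a, ha⟩ := h.exists_relIndex_eq
  rw [ha]; simp

theorem index_lt (hne : K ≠ N) : N.index < K.relIndex N := by
  obtain ⟨a, ha⟩ := h.exists_relIndex_eq
  rcases Nat.eq_zero_or_pos a with h0 | h0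
  · rw [h0, zero_mul, add_zero, Subgroup.relIndex_eq_one] at ha
    exact absurd (le_antisymm h.le ha) hne
  · nlinarith

/-- **Isaacs 12.4**. -/
theorem exists_stabilizer_eq_or_vanish [N.Normal] (ψ : IrrCharacter N) :
    (∃ f : N →* ℂˣ, K.subgroupOf N ≤ f.ker ∧ stabilizer G (f • ψ) = N) ∨
      ∀ x : N, (x : G) ∉ K → ψ.1 x = 0 := by
  classical
  have := h.normalK
  by_contra hcon
  rw [not_or] at hcon
  obtain ⟨h1, h2⟩ := hcon
  push Not at h1 h2
  obtain ⟨x, hxK, hx⟩ := h2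
  obtain ⟨f₀, hf₀, hf₀x⟩ := exists_units_hom_apply_ne_one h.commutator_le (g := x) hxK
  have hne : f₀ • ψ ≠ ψ := fun e => hx ((lin_smul_eq_self_iff f₀ ψ).1 e x hf₀x)
  have hswap : ∀ u f : N →* ℂˣ, u • f • ψ = f • ψ ↔ u • ψ = ψ := fun u f => by
    rw [lin_smul_comm, lin_smul_cancel]
  have hdiv : ∀ u f : N →* ℂˣ, u • ψ = f • ψ ↔ (f⁻¹ * u) • ψ = ψ := fun u f =>
    lin_smul_eq_iff u f ψ
  let S : Subgroup G :=
    { carrier := {g | ∀ u : N →* ℂˣ, conjLin g u • ψ = ψ ↔ u • ψ = ψ}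
      one_mem' := fun u => by rw [conjLin_one]
      mul_mem' := fun {a b} ha hb u => by rw [← conjLin_conjLin, ha, hb]
      inv_mem' := fun {a} ha u => by rw [← ha, conjLin_conjLin, mul_inv_cancel, conjLin_one] }
  have hNS : N ≤ S := fun g hg u => by rw [conjLin_of_mem hg]
  have hfix : ∀ (g : G) (f : N →* ℂˣ), g • f • ψ = f • ψ → g ∈ S := by
    intro g f hg u
    rw [← hswap (conjLin g u) f, ← hswap u f]
    conv_lhs => rw [← hg, ← conjSmul_lin_smul, smul_left_cancel_iff]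
  have key : ∀ g ∈ S, g ∉ N → ∀ f : N →* ℂˣ, K.subgroupOf N ≤ f.ker →
      conjLin g f • ψ = f • ψ → f • ψ = ψ := by
    intro g hgS hgN f hf e
    let U := {u : N →* ℂˣ // K.subgroupOf N ≤ u.ker ∧ u • ψ = ψ}
    have hker : ∀ u v : N →* ℂˣ, K.subgroupOf N ≤ u.ker → K.subgroupOf N ≤ v.ker →
        K.subgroupOf N ≤ (u⁻¹ * v).ker := fun u v hu hv y hy => by
      rw [MonoidHom.mem_ker, MonoidHom.mul_apply, MonoidHom.inv_apply, hu hy, hv hy, inv_one,
        one_mul]
    have hinj : ∀ u v : N →* ℂˣ, K.subgroupOf N ≤ u.ker → K.subgroupOf N ≤ v.ker →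
        u⁻¹ * conjLin g u = v⁻¹ * conjLin g v → u = v := fun u v hu hv e => by
      have e1 : u⁻¹ * v = 1 := by
        refine h.eq_one_of_conjLin_eq hgN (hker u v hu hv) ?_
        rw [conjLin_mul, conjLin_inv]
        refine MonoidHom.ext fun y => ?_
        have e2 := DFunLike.congr_fun e y
        simp only [MonoidHom.mul_apply, MonoidHom.inv_apply] at e2 ⊢
        calc (conjLin g u y)⁻¹ * conjLin g v y
            = (conjLin g u y)⁻¹ * (v y * ((v y)⁻¹ * conjLin g v y)) := by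
              rw [mul_inv_cancel_left]
          _ = (conjLin g u y)⁻¹ * (v y * ((u y)⁻¹ * conjLin g u y)) := by rw [e2]
          _ = (u y)⁻¹ * v y := by
              rw [mul_comm (v y), mul_comm (u y)⁻¹ (conjLin g u y), mul_assoc, inv_mul_cancel_left]
      refine MonoidHom.ext fun y => ?_
      have e2 := DFunLike.congr_fun e1 y
      simp only [MonoidHom.mul_apply, MonoidHom.inv_apply, MonoidHom.one_apply] at e2
      exact inv_mul_eq_one.1 e2
    let D : U → U := fun u => ⟨u.1⁻¹ * conjLin g u.1, hker _ _ u.2.1 (le_ker_conjLin g u.2.1), by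
      rw [← hdiv, (hgS u.1).2 u.2.2, u.2.2]⟩
    have hD : Function.Injective D := fun u v e =>
      Subtype.ext (hinj _ _ u.2.1 v.2.1 (congrArg Subtype.val e))
    obtain ⟨u, hu⟩ := Finite.surjective_of_injective hD
      ⟨f⁻¹ * conjLin g f, hker _ _ hf (le_ker_conjLin g hf), (hdiv _ _).1 e⟩
    rw [← hinj _ _ u.2.1 hf (congrArg Subtype.val hu)]
    exact u.2.2
  set O : Set (IrrCharacter N) := {φ | ∃ f : N →* ℂˣ, K.subgroupOf N ≤ f.ker ∧ f • ψ = φ}
    with hO
  set T : Set (G ⧸ N) := {q | q.out ∈ S} with hT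
  have hTmk : ∀ g : G, (g : G ⧸ N) ∈ T ↔ g ∈ S := fun g => by
    obtain ⟨n, hn⟩ := QuotientGroup.mk_out_eq_mul N g
    simp only [hT, Set.mem_ofPred_eq, hn]
    exact S.mul_mem_cancel_right (hNS n.2)
  have hex : ∀ φ ∈ O, ∃ g : G, g ∉ N ∧ g • φ = φ := by
    rintro _ ⟨f, hf, rfl⟩
    by_contra hc
    push Not at hc
    refine h1 f hf (le_antisymm (fun g hg => ?_) (le_inertia _))
    by_contra hgN
    exact hc g hgN hg
  choose! a ha1 ha2 using hex
  have hA : O.ncard ≤ (T \ {1}).ncard := by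
    refine Set.ncard_le_ncard_of_injOn (fun φ => (a φ : G ⧸ N)) ?_ ?_ (Set.toFinite _)
    · intro φ hφ
      obtain ⟨f, hf, rfl⟩ := id hφ
      exact ⟨(hTmk _).2 (hfix _ f (ha2 _ hφ)),
        fun e => ha1 _ hφ ((QuotientGroup.eq_one_iff _).1 e)⟩
    · intro φ hφ φ' hφ' e
      obtain ⟨f, hf, rfl⟩ := id hφ
      obtain ⟨f', hf', rfl⟩ := id hφ'
      have e1 := ha2 _ hφ
      have e2 := ha2 _ hφ'
      rw [← conjSmul_eq_of_coe_eq e] at e2
      have e3 : f' • ψ = (f⁻¹ * f') • f • ψ := by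
        rw [← lin_smul_smul, lin_smul_comm f', inv_lin_smul_smul]
      have hk : K.subgroupOf N ≤ (f⁻¹ * f').ker := fun y hy => by
        rw [MonoidHom.mem_ker, MonoidHom.mul_apply, MonoidHom.inv_apply, hf hy, hf' hy, inv_one,
          one_mul]
      rw [e3, conjSmul_lin_smul, e1, lin_smul_comm _ f, lin_smul_comm _ f, lin_smul_cancel] at e2
      exact ((hdiv _ _).2 (key _ (hfix _ f e1) (ha1 _ hφ) _ hk e2)).symm
  have hB : T.ncard ≤ (O \ {ψ}).ncard := by
    refine Set.ncard_le_ncard_of_injOn (fun q => conjLin q.out f₀ • ψ) ?_ ?_ (Set.toFinite _)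
    · intro q hq
      exact ⟨⟨_, le_ker_conjLin _ hf₀, rfl⟩, fun e => hne ((hq f₀).1 e)⟩
    · intro q hq q' hq' e
      have e1 := (hdiv _ _).1 e
      rw [← S.inv_mem hq' _, conjLin_mul, conjLin_inv, conjLin_conjLin, conjLin_conjLin,
        inv_mul_cancel, conjLin_one, ← hdiv] at e1
      rw [← q.out_eq', ← q'.out_eq', eq_comm, QuotientGroup.eq]
      by_contra hc
      exact hne (key _ (S.mul_mem (S.inv_mem hq') hq) hc f₀ hf₀ e1)
  have hψO : ψ ∈ O := ⟨1, fun _ _ => rfl, one_lin_smul _⟩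
  have h1T : (1 : G ⧸ N) ∈ T := (hTmk 1).2 S.one_mem
  have := Set.ncard_sdiff_singleton_lt_of_mem hψO (Set.toFinite _)
  have := Set.ncard_sdiff_singleton_lt_of_mem h1T (Set.toFinite _)
  omega

theorem exists_irr_or_dvd [N.Normal] (ψ : IrrCharacter N) :
    (∃ (f : N →* ℂˣ) (χ : IrrCharacter G), K.subgroupOf N ≤ f.ker ∧ ind N (f • ψ).1 = χ.1 ∧
      charDegree χ.1 = N.index * charDegree ψ.1) ∨
      ((∀ x : N, (x : G) ∉ K → ψ.1 x = 0) ∧ K.relIndex N ∣ charDegree ψ.1 ^ 2) := by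
  have := h.normalK
  rcases h.exists_stabilizer_eq_or_vanish ψ with ⟨f, h1, h2⟩ | h1
  · exact Or.inl ⟨f, ⟨_, (isIrr_ind_iff_inertia_eq _).2 h2⟩, h1, rfl, by
      rw [charDegree_ind (irr_isCharacter _), charDegree_lin_smul]⟩
  · exact Or.inr ⟨h1, index_dvd_degree_sq_of_vanish (L := K.subgroupOf N) h1⟩

theorem mem_charDegrees_or_dvd (ψ : IrrCharacter N) :
    N.index * charDegree ψ.1 ∈ charDegrees G ∨ K.relIndex N ∣ charDegree ψ.1 ^ 2 := by
  have := h.normalN
  rcases h.exists_irr_or_dvd ψ with ⟨_, χ, -, -, h1⟩ | h1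
  · exact Or.inl ⟨χ, h1⟩
  · exact Or.inr h1.2

end FrobSec

end CT
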