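import Cfsg.Agent.Lib.Char.Degrees2
import Cfsg.Agent.S4461

/-!
# Relative character degrees `cd(G|N)` (Isaacs--Knutson)
-/

set_option autoImplicit false

namespace CT

open Cfsg MulAction
open scoped ComplexConjugate commutatorElement Pointwise

universe u
variable {G : Type*} [Group G] {G' : Type*} [Group G']

/-- The derived series of a subgroup, as subgroups of the ambient group. -/
def der (N : Subgroup G) : ℕ → Subgroup G
  | 0 => N
  | k + 1 => ⁅der N k, der N k⁆

@[simp] theorem der_zero (N : Subgroup G) : der N 0 = N := rfl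
theorem der_succ (N : Subgroup G) (k : ℕ) : der N (k + 1) = ⁅der N k, der N k⁆ := rfl
theorem der_one (N : Subgroup G) : der N 1 = ⁅N, N⁆ := rfl
theorem der_der (N : Subgroup G) (a b : ℕ) : der (der N a) b = der N (a + b) := by
  induction b with
  | zero => rfl
  | succ b ih => rw [der_succ, ih]; rfl
theorem der_succ' (N : Subgroup G) (k : ℕ) : der N (k + 1) = der ⁅N, N⁆ k := by
  rw [add_comm, ← der_der]; rfl
instance der_normal (N : Subgroup G) [hN : N.Normal] (k : ℕ) : (der N k).Normal := by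
  induction k with
  | zero => exact hN
  | succ k ih => rw [der_succ]; infer_instance
theorem der_mono {M N : Subgroup G} (h : M ≤ N) (k : ℕ) : der M k ≤ der N k := by
  induction k with
  | zero => exact h
  | succ k ih => exact Subgroup.commutator_mono ih ih
theorem der_succ_le (N : Subgroup G) (k : ℕ) : der N (k + 1) ≤ der N k :=
  Subgroup.commutator_le.2 fun _ ha _ hb =>
    mul_mem (mul_mem (mul_mem ha hb) (inv_mem ha)) (inv_mem hb)
theorem der_anti (N : Subgroup G) {a b : ℕ} (h : a ≤ b) : der N b ≤ der N a :=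
  antitone_nat_of_succ_le (der_succ_le N) h
theorem der_le (N : Subgroup G) (k : ℕ) : der N k ≤ N := der_anti N (Nat.zero_le k)
theorem map_der (N : Subgroup G) (f : G →* G') (k : ℕ) : (der N k).map f = der (N.map f) k := by
  induction k with
  | zero => rfl
  | succ k ih => rw [der_succ, Subgroup.map_commutator, ih]; rfl
theorem derivedSeries_eq_der (k : ℕ) : derivedSeries G k = der ⊤ k := by
  induction k with
  | zero => rfl
  | succ k ih => rw [derivedSeries_succ, ih]; rfl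
theorem der_commutator (k : ℕ) : der (commutator G) k = derivedSeries G (k + 1) := by
  rw [derivedSeries_eq_der, der_succ']; rfl
theorem map_subtype_derivedSeries (N : Subgroup G) (k : ℕ) :
    (derivedSeries N k).map N.subtype = der N k := by
  rw [derivedSeries_eq_der, map_der, ← MonoidHom.range_eq_map, Subgroup.range_subtype]
theorem der_le_of_map_mk' {N M : Subgroup G} [M.Normal] {k : ℕ}
    (h : der (N.map (QuotientGroup.mk' M)) k = ⊥) : der N k ≤ M := by
  rwa [← map_der, GT.map_mk'_eq_bot_iff] at h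
theorem derivedSeries_le_of_quotient {M : Subgroup G} [M.Normal] {k : ℕ}
    (h : derivedSeries (G ⧸ M) k = ⊥) : derivedSeries G k ≤ M := by
  rw [derivedSeries_eq_der] at h ⊢
  refine der_le_of_map_mk' ?_
  rwa [Subgroup.map_top_of_surjective _ (QuotientGroup.mk'_surjective M)]

theorem commutator_subgroupOf_eq {A B K : Subgroup G} (hA : A ≤ K) (hB : B ≤ K) :
    ⁅A.subgroupOf K, B.subgroupOf K⁆ = ⁅A, B⁆.subgroupOf K := by
  rw [← Subgroup.comap_map_eq_self_of_injective K.subtype_injective ⁅A.subgroupOf K, _⁆,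
    Subgroup.map_commutator, Subgroup.subgroupOf_map_subtype, Subgroup.subgroupOf_map_subtype,
    inf_eq_left.2 hA, inf_eq_left.2 hB]
  rfl

theorem eq_bot_of_subgroupOf_eq_bot {A K : Subgroup G} (hA : A ≤ K) (h : A.subgroupOf K = ⊥) :
    A = ⊥ := by
  rw [Subgroup.subgroupOf_eq_bot, disjoint_iff, inf_eq_left.2 hA] at h; exact h

theorem isMulCommutative_map_mk' {L Q : Subgroup G} [Q.Normal] (h : ⁅L, L⁆ ≤ Q) :
    IsMulCommutative (L.map (QuotientGroup.mk' Q)) := by
  rw [← Subgroup.commutator_self_eq_bot_iff, ← Subgroup.map_commutator, GT.map_mk'_eq_bot_iff]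
  exact h

variable [Finite G]

section Basic
variable {N M : Subgroup G} {d : ℕ}

theorem mem_relCharDegrees :
    d ∈ relCharDegrees N ↔ ∃ χ : IrrCharacter G, ¬ N ≤ ker χ.1 ∧ charDegree χ.1 = d := by
  refine exists_congr fun χ => and_congr_left fun _ => ?_
  simp only [SetLike.le_def, irr_mem_ker_iff, not_forall, exists_prop]

theorem degree_mem_relCharDegrees {χ : IrrCharacter G} (h : ¬ N ≤ ker χ.1) :
    charDegree χ.1 ∈ relCharDegrees N := mem_relCharDegrees.2 ⟨χ, h, rfl⟩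

theorem relCharDegrees_mono (h : M ≤ N) : relCharDegrees M ⊆ relCharDegrees N := fun _ hd => by
  obtain ⟨χ, h1, rfl⟩ := mem_relCharDegrees.1 hd
  exact degree_mem_relCharDegrees fun e => h1 (h.trans e)

omit [Finite G] in
theorem relCharDegrees_subset (N : Subgroup G) : relCharDegrees N ⊆ charDegrees G :=
  fun _ ⟨χ, _, h⟩ => ⟨χ, h⟩

theorem finite_relCharDegrees (N : Subgroup G) : (relCharDegrees N).Finite :=
  finite_charDegrees.subset (relCharDegrees_subset N)

theorem eq_bot_of_forall_le_ker (h : ∀ χ : IrrCharacter G, N ≤ ker χ.1) : N = ⊥ := by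
  by_contra h1
  obtain ⟨χ, hχ⟩ := exists_irr_not_le_ker h1
  exact hχ (h χ)

theorem relCharDegrees_eq_empty_iff : relCharDegrees N = ∅ ↔ N = ⊥ := by
  constructor
  · intro h
    refine eq_bot_of_forall_le_ker fun χ => ?_
    by_contra h1
    exact (h ▸ degree_mem_relCharDegrees h1 : _ ∈ (∅ : Set ℕ))
  · rintro rfl
    refine Set.eq_empty_of_forall_notMem fun d hd => ?_
    obtain ⟨χ, h1, -⟩ := mem_relCharDegrees.1 hd
    exact h1 bot_le

theorem relCharDegrees_commutator : relCharDegrees (commutator G) = charDegrees G \ {1} := by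
  ext d
  rw [mem_relCharDegrees]
  constructor
  · rintro ⟨χ, h1, rfl⟩
    exact ⟨⟨χ, rfl⟩, fun e => h1 ((irr_degree_eq_one_iff_commutator_le_ker χ).1 e)⟩
  · rintro ⟨⟨χ, rfl⟩, h1⟩
    exact ⟨χ, fun e => h1 ((irr_degree_eq_one_iff_commutator_le_ker χ).2 e), rfl⟩

theorem ncard_relCharDegrees_commutator :
    (relCharDegrees (commutator G)).ncard + 1 = (charDegrees G).ncard := by
  rw [relCharDegrees_commutator,
    Set.ncard_sdiff_singleton_add_one one_mem_charDegrees finite_charDegrees]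

omit [Finite G] in
theorem le_ker_inflate_iff [M.Normal] (ψ : IrrCharacter (G ⧸ M)) :
    N ≤ ker (inflate M ψ).1 ↔ N.map (QuotientGroup.mk' M) ≤ ker ψ.1 := by
  rw [ker_inflate, Subgroup.map_le_iff_le_comap]

theorem mem_relCharDegrees_map_mk' [M.Normal] :
    d ∈ relCharDegrees (N.map (QuotientGroup.mk' M)) ↔
      ∃ χ : IrrCharacter G, M ≤ ker χ.1 ∧ ¬ N ≤ ker χ.1 ∧ charDegree χ.1 = d := by
  rw [mem_relCharDegrees]
  constructor
  · rintro ⟨ψ, h1, rfl⟩
    exact ⟨inflate M ψ, le_ker_inflate M ψ, by rwa [le_ker_inflate_iff], charDegree_inflate M ψ⟩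
  · rintro ⟨χ, h1, h2, rfl⟩
    obtain ⟨ψ, rfl⟩ := (exists_inflate_eq_iff M χ).2 h1
    exact ⟨ψ, by rwa [← le_ker_inflate_iff], (charDegree_inflate M ψ).symm⟩

theorem mem_charDegrees_quotient [M.Normal] :
    d ∈ charDegrees (G ⧸ M) ↔ ∃ χ : IrrCharacter G, M ≤ ker χ.1 ∧ charDegree χ.1 = d := by
  constructor
  · rintro ⟨ψ, rfl⟩
    exact ⟨inflate M ψ, le_ker_inflate M ψ, charDegree_inflate M ψ⟩
  · rintro ⟨χ, h1, rfl⟩
    obtain ⟨ψ, rfl⟩ := (exists_inflate_eq_iff M χ).2 h1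
    exact ⟨ψ, (charDegree_inflate M ψ).symm⟩

theorem relCharDegrees_map_mk'_subset [M.Normal] :
    relCharDegrees (N.map (QuotientGroup.mk' M)) ⊆ relCharDegrees N := fun _ hd => by
  obtain ⟨χ, -, h1, rfl⟩ := mem_relCharDegrees_map_mk'.1 hd
  exact degree_mem_relCharDegrees h1

end Basic

theorem exists_liesUnder_not_dvd (H : Subgroup G) {χ : G → ℂ} (hχ : IsCharacter G χ) {d : ℕ}
    (h : ¬ d ∣ charDegree χ) : ∃ θ : IrrCharacter H, LiesOver H χ θ.1 ∧ ¬ d ∣ charDegree θ.1 := by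
  by_contra hc
  push Not at hc
  refine h ?_
  rw [← charDegree_res H, (hχ.res H).degree_eq_sum_mult]
  refine Finset.dvd_sum fun θ _ => ?_
  rcases Nat.eq_zero_or_pos (mult (res H χ) θ.1) with h0 | h0
  · rw [h0, zero_mul]; exact dvd_zero _
  · exact (hc θ ((liesOver_iff_mult_pos hχ (irr_isCharacter θ)).2 h0)).mul_left _

theorem exists_liesOver_not_dvd {H : Subgroup G} {θ : H → ℂ} (hθ : IsCharacter H θ) {d : ℕ}
    (h : ¬ d ∣ H.index * charDegree θ) :
    ∃ χ : IrrCharacter G, LiesOver H χ.1 θ ∧ ¬ d ∣ charDegree χ.1 := by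
  by_contra hc
  push Not at hc
  refine h ?_
  rw [← sum_irrOver_mult_mul_degree hθ]
  exact Finset.dvd_sum fun χ hχ => (hc χ (mem_irrOver.1 hχ)).mul_left _

theorem LiesOver.le_ker_iff {H N : Subgroup G} [N.Normal] (hNH : N ≤ H) {χ : IrrCharacter G}
    {θ : IrrCharacter H} (h : LiesOver H χ.1 θ.1) : N ≤ ker χ.1 ↔ N.subgroupOf H ≤ ker θ.1 := by
  constructor
  · intro h1
    refine le_trans ?_ (ker_le_ker_of_ip_ne_zero ((irr_isClassFunction χ).res H) h)
    rw [(irr_isCharacter χ).ker_res]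
    exact Subgroup.comap_mono h1
  · intro h1
    rw [← liesOver_one_iff]
    refine LiesOver.trans_le hNH (irr_isCharacter χ) isCharacter_one h ?_
    rw [← irrOne_val, ← liesOver_irrOf_iff, irrOf_irrOne, irrOne_val, liesOver_one_iff]
    exact h1

theorem LiesOver.commutator_le_ker_iff {N : Subgroup G} [N.Normal] {χ : IrrCharacter G}
    {θ : IrrCharacter N} (h : LiesOver N χ.1 θ.1) : ⁅N, N⁆ ≤ ker χ.1 ↔ charDegree θ.1 = 1 := by
  rw [h.le_ker_iff (Subgroup.commutator_le_left N N), irr_degree_eq_one_iff_commutator_le_ker,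
    ← commutator_subgroupOf_eq le_rfl le_rfl, Subgroup.subgroupOf_self, commutator_def]

theorem exists_irr_degree_lt_index {H : Subgroup G} {x : G} (hx : x ∉ H) :
    ∃ φ : IrrCharacter G, x ∉ ker φ.1 ∧ charDegree φ.1 < H.index ∧ H.normalCore ≤ ker φ.1 := by
  have hπ : IsCharacter G (ind H (fun _ => 1)) := isCharacter_one.ind
  have h0 : (fun _ : H => (1 : ℂ)) ≠ 0 := fun h0 => one_ne_zero (congrFun h0 1)
  have h1 : x ∉ ker (ind H (fun _ => (1 : ℂ))) := fun h =>
    hx (((ker_ind_le isCharacter_one h0).trans (Subgroup.map_subtype_le _)) h)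
  rw [hπ.mem_ker_iff_forall_irr] at h1
  push Not at h1
  obtain ⟨φ, h1, h2⟩ := h1
  have h3 : φ ≠ irrOne G := by
    rintro rfl
    exact h2 (ker_irrOne (G := G) ▸ Subgroup.mem_top x)
  have h4 : ip (ind H (fun _ => (1 : ℂ))) (irrOne G).1 ≠ 0 := by
    rw [irrOne_val, ip_ind_one_one]; exact one_ne_zero
  refine ⟨φ, h2, ?_, le_trans ?_ (hπ.ker_le_of_ip_ne_zero φ h1)⟩
  · have h5 := hπ.degree_eq_sub_irr_add _ h4
    have h6 := (hπ.sub_irr _ h4).degree_le_of_ip_ne_zero φ (by
      rwa [ip_sub_left, ip_irr_ne h3.symm, sub_zero])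
    rw [charDegree_ind isCharacter_one, charDegree_irrOne,
      charDegree_eq_of_apply_one (n := 1) (χ := fun _ : H => 1) (by simp)] at h5
    omega
  · exact le_ker_ind_of_normal H.normalCore_le fun _ _ _ => rfl

theorem exists_extension_le_of_coprime_det {N T : Subgroup G} (h : N ≤ T) [N.Normal]
    {θ : IrrCharacter N} (hinv : T ≤ stabilizer G θ)
    (h1 : (N.relIndex T).Coprime (charDegree θ.1)) (h2 : (N.relIndex T).Coprime (detOrder θ.1)) :
    ∃ φ : IrrCharacter T, resLe h φ.1 = θ.1 := by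
  obtain ⟨φ, h3, -⟩ := (existsUnique_canonical_extension (N.subgroupOf T) (irrOf h θ)
    (forall_smul_iff.1 (forall_smul_irrOf h fun t ht => hinv ht)) (by rwa [charDegree_irrOf]) (by
      exact ((irr_isCharacter θ).detOrder_comp_of_surjective
        (Subgroup.subgroupOfEquivOfLe h).toMonoidHom
        (Subgroup.subgroupOfEquivOfLe h).surjective).symm ▸ h2)).exists
  exact ⟨φ, (res_subgroupOf_eq_irrOf_iff h).1 h3⟩

theorem exists_extension_le_of_coprime_card {N T : Subgroup G} (h : N ≤ T) [N.Normal]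
    {θ : IrrCharacter N} (hinv : T ≤ stabilizer G θ)
    (h1 : (Nat.card N).Coprime (N.relIndex T)) : ∃ φ : IrrCharacter T, resLe h φ.1 = θ.1 :=
  exists_extension_le_of_coprime_det h hinv (h1.symm.coprime_dvd_right (irr_degree_dvd_card θ))
    (h1.symm.coprime_dvd_right (detOrder_dvd_card _))

/-- Over a character of `p'`-degree and `p'`-determinantal order there is one whose degree has
the smallest possible `p`-part. -/
theorem exists_liesOver_not_pow_dvd {p : ℕ} [hp : Fact p.Prime] {N : Subgroup G} [N.Normal]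
    {θ : IrrCharacter N} (h1 : ¬ p ∣ charDegree θ.1) (h2 : ¬ p ∣ detOrder θ.1) {k : ℕ}
    (hk : ¬ p ^ k ∣ (stabilizer G θ).index) :
    ∃ χ : IrrCharacter G, LiesOver N χ.1 θ.1 ∧ ¬ p ^ k ∣ charDegree χ.1 := by
  obtain ⟨P, hP⟩ := GT.exists_isSylowIn p (stabilizer G θ)
  have hW : N ⊔ P ≤ stabilizer G θ := sup_le (le_inertia θ) hP.le
  obtain ⟨j, hj⟩ := hP.isPGroup.exists_relIndex_eq_pow N
  rw [← Subgroup.relIndex_sup_left] at hj
  obtain ⟨φ, hφ⟩ := exists_extension_le_of_coprime_det le_sup_left hW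
    (by rw [hj]; exact ((Nat.Prime.coprime_iff_not_dvd hp.out).2 h1).pow_left _)
    (by rw [hj]; exact ((Nat.Prime.coprime_iff_not_dvd hp.out).2 h2).pow_left _)
  obtain ⟨χ, h3, h4⟩ := exists_liesOver_not_dvd (irr_isCharacter φ) (d := p ^ k) (by
    rw [← charDegree_resLe le_sup_left, hφ, ← Subgroup.relIndex_mul_index hW]
    intro h
    refine hk ?_
    have h5 := (Nat.Prime.coprime_iff_not_dvd hp.out).2 
      (hP.not_dvd_relIndex_of_le (le_sup_right (a := N)))
    exact (h5.pow_left k).dvd_of_dvd_mul_left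
      ((((Nat.Prime.coprime_iff_not_dvd hp.out).2 h1).pow_left k).dvd_of_dvd_mul_right h))
  exact ⟨χ, h3.trans_le le_sup_left (irr_isCharacter χ) (irr_isCharacter θ)
    (liesOverLe_of_resLe_eq hφ), h4⟩

theorem factorization_lt_of_not_dvd {p a b k : ℕ} (hp : p.Prime) (ha : a ≠ 0) (hb : b ≠ 0)
    (h1 : ¬ p ^ k ∣ a) (h2 : p ^ k ∣ b) : a.factorization p < b.factorization p := by
  rw [hp.pow_dvd_iff_le_factorization ha] at h1
  rw [hp.pow_dvd_iff_le_factorization hb] at h2
  omega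

/-- For a normal `p`-subgroup `N`, the characters of `Irr(G|N)` of least `p`-part have `N'` in
their kernel. -/
theorem exists_factorization_lt_of_isPGroup {p : ℕ} [hp : Fact p.Prime] {N : Subgroup G}
    [N.Normal] (hN : IsPGroup p N) (h1 : N ≠ ⊥) :
    ∃ χ : IrrCharacter G, ¬ N ≤ ker χ.1 ∧ ∀ ψ : IrrCharacter G, ¬ ⁅N, N⁆ ≤ ker ψ.1 →
      (charDegree χ.1).factorization p < (charDegree ψ.1).factorization p := by
  classical
  obtain ⟨P⟩ : Nonempty (Sylow p G) := inferInstance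
  have hNP : N ≤ P := hN.le_sylow_of_normal P
  obtain ⟨θ₁, hθ₁⟩ := exists_irr_not_le_ker (K := N.subgroupOf P)
    fun e => h1 (eq_bot_of_subgroupOf_eq_bot hNP e)
  obtain ⟨θ₀, h2, h3⟩ := Finset.exists_min_image
    (Finset.univ.filter fun θ : IrrCharacter P => ¬ N.subgroupOf P ≤ ker θ.1)
    (fun θ => charDegree θ.1) ⟨θ₁, by simpa using hθ₁⟩
  simp only [Finset.mem_filter, Finset.mem_univ, true_and] at h2 h3
  obtain ⟨k, hk⟩ := exists_degree_eq_pow_of_isPGroup P.isPGroup' θ₀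
  obtain ⟨χ, h4, h5⟩ := exists_liesOver_not_dvd (irr_isCharacter θ₀) (d := p ^ (k + 1)) (by
    rw [hk, pow_succ', Nat.mul_dvd_mul_iff_right (pow_pos hp.out.pos k)]
    exact P.not_dvd_index)
  refine ⟨χ, by rwa [h4.le_ker_iff hNP], fun ψ hψ => factorization_lt_of_not_dvd hp.out
    (irr_degree_pos χ).ne' (irr_degree_pos ψ).ne' h5 ?_⟩
  by_contra h6
  obtain ⟨θ, h7, h8⟩ := exists_liesUnder_not_dvd P (irr_isCharacter ψ) h6
  obtain ⟨j, hj⟩ := exists_degree_eq_pow_of_isPGroup P.isPGroup' θ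
  have h9 : charDegree θ.1 ≤ charDegree θ₀.1 := by
    rw [hj, Nat.pow_dvd_pow_iff_le_right hp.out.one_lt] at h8
    rw [hj, hk]
    exact Nat.pow_le_pow_right hp.out.pos (by omega)
  refine hψ ((h7.le_ker_iff ((Subgroup.commutator_le_left N N).trans hNP)).2 ?_)
  rw [← commutator_subgroupOf_eq hNP hNP]
  refine (isMGroup_of_isPGroup P.isPGroup' θ).commutator_le_ker fun φ hφ => ?_
  by_contra h
  have := h3 φ h
  omega

theorem ncard_relCharDegrees_commutator_lt {p : ℕ} [hp : Fact p.Prime] {N : Subgroup G}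
    [N.Normal] (hN : IsPGroup p N) (h1 : N ≠ ⊥) :
    (relCharDegrees ⁅N, N⁆).ncard < (relCharDegrees N).ncard := by
  obtain ⟨χ, h2, h3⟩ := exists_factorization_lt_of_isPGroup hN h1
  refine Set.ncard_lt_ncard ⟨relCharDegrees_mono (Subgroup.commutator_le_left N N), fun h => ?_⟩
    (finite_relCharDegrees N)
  obtain ⟨ψ, h4, h5⟩ := mem_relCharDegrees.1 (h (degree_mem_relCharDegrees h2))
  have := h3 ψ h4
  rw [h5] at this
  exact this.false

theorem der_eq_bot_of_isPGroup {p : ℕ} [hp : Fact p.Prime] (k : ℕ) : ∀ {N : Subgroup G}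
    [N.Normal], IsPGroup p N → (relCharDegrees N).ncard ≤ k → der N k = ⊥ := by
  induction k with
  | zero =>
    intro N _ _ h
    rwa [Nat.le_zero, Set.ncard_eq_zero (finite_relCharDegrees N),
      relCharDegrees_eq_empty_iff] at h
  | succ k ih =>
    intro N _ hN h
    by_cases h1 : N = ⊥
    · exact eq_bot_iff.2 ((der_le N _).trans h1.le)
    · rw [der_succ']
      have := ncard_relCharDegrees_commutator_lt hN h1
      exact ih (hN.to_le (Subgroup.commutator_le_left N N)) (by omega)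

/-- If `L` is nilpotent and normal and `|G : T|` divides all of `cd(G|L)` then `L ≤ T`. -/
theorem le_of_forall_index_dvd {L T : Subgroup G} [L.Normal] [Group.IsNilpotent L]
    (h : ∀ χ : IrrCharacter G, ¬ L ≤ ker χ.1 → T.index ∣ charDegree χ.1) : L ≤ T := by
  refine GT.le_of_forall_isPElt_mem fun s hs x hxL hx => ?_
  by_contra hxT
  have hxU : x ∈ pCore s G ⊓ L := ⟨GT.le_pCore_of_le_fitting hx.isPGroup_zpowers
    ((Subgroup.zpowers_le.2 hxL).trans GT.le_fitting) (Subgroup.mem_zpowers x), hxL⟩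
  obtain ⟨P, hP⟩ := GT.exists_isSylowIn s T
  obtain ⟨S, hS, hPS⟩ := GT.exists_isSylowIn_ge hP.isPGroup (le_top (a := P))
  have hUS : pCore s G ⊓ L ≤ S := inf_le_left.trans (GT.pCore_le_sylow hS.toSylowTop)
  obtain ⟨φ, h1, h2, -⟩ := exists_irr_degree_lt_index (H := P.subgroupOf S) (x := ⟨x, hUS hxU⟩)
    fun e => hxT (hP.le e)
  obtain ⟨v, hv⟩ := hS.isPGroup.exists_relIndex_eq_pow P
  have h3 : s.Coprime S.index :=
    (Nat.Prime.coprime_iff_not_dvd hs.out).2 (GT.isSylowIn_top_iff'.1 hS).2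
  obtain ⟨χ, h4, h5⟩ := exists_liesOver_not_dvd (irr_isCharacter φ) (d := s ^ v) fun e =>
    (Nat.le_of_dvd (irr_degree_pos φ) ((h3.pow_left v).dvd_of_dvd_mul_left e)).not_gt (hv ▸ h2)
  refine h5 (dvd_trans ?_ (h χ fun e => h1 ((h4.le_ker_iff hUS).1 (inf_le_right.trans e) hxU)))
  have h6 : s ^ v ∣ P.relIndex T * T.index := by
    rw [Subgroup.relIndex_mul_index hP.le, ← Subgroup.relIndex_mul_index hPS, hv]
    exact dvd_mul_right _ _
  exact (((Nat.Prime.coprime_iff_not_dvd hs.out).2 hP.not_dvd).pow_left v).dvd_of_dvd_mul_left h6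

theorem le_of_forall_index_dvd_rel {Q L T : Subgroup G} [Q.Normal] [hL : L.Normal]
    [Group.IsNilpotent (L.map (QuotientGroup.mk' Q))] (hQT : Q ≤ T)
    (h : ∀ χ : IrrCharacter G, Q ≤ ker χ.1 → ¬ L ≤ ker χ.1 → T.index ∣ charDegree χ.1) :
    L ≤ T := by
  have := hL.map _ (QuotientGroup.mk'_surjective Q)
  have h1 : L.map (QuotientGroup.mk' Q) ≤ T.map (QuotientGroup.mk' Q) :=
    le_of_forall_index_dvd fun ψ hψ => by
      rw [GT.index_map_mk', sup_eq_left.2 hQT, ← charDegree_inflate]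
      exact h _ (le_ker_inflate Q ψ) (by rwa [le_ker_inflate_iff])
  rwa [Subgroup.map_le_iff_le_comap, GT.comap_map_mk'_of_le hQT] at h1

theorem le_inertia_of_forall_degree_eq {Q L : Subgroup G} [Q.Normal] [L.Normal]
    (hL : ⁅L, L⁆ ≤ Q) {c : ℕ}
    (hc : ∀ χ : IrrCharacter G, Q ≤ ker χ.1 → ¬ L ≤ ker χ.1 → charDegree χ.1 = c)
    {θ : IrrCharacter Q} {χ : IrrCharacter G} (h : LiesOver Q χ.1 θ.1) (hd : charDegree χ.1 ∣ c) :
    L ≤ stabilizer G θ := by
  have := isMulCommutative_map_mk' hL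
  have : Group.IsNilpotent (L.map (QuotientGroup.mk' Q)) := GT.isNilpotent_of_isMulCommutative
  exact le_of_forall_index_dvd_rel (le_inertia θ) fun ψ h1 h2 =>
    hc ψ h1 h2 ▸ h.index_inertia_dvd.trans hd

theorem commutator_le_ker_of_le_inertia {Q L : Subgroup G} [Q.Normal] [L.Normal] (hQL : Q ≤ L)
    (hL : ⁅L, L⁆ ≤ Q) (hc : (Nat.card Q).Coprime (Q.relIndex L)) {θ : IrrCharacter Q}
    (hθ : L ≤ stabilizer G θ) (h1 : charDegree θ.1 = 1) {χ : IrrCharacter G}
    (h : LiesOver Q χ.1 θ.1) : ⁅L, L⁆ ≤ ker χ.1 := by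
  obtain ⟨φ, hφ⟩ := exists_extension_le_of_coprime_card hQL hθ hc
  have h2 : charDegree φ.1 = 1 := by rw [← charDegree_resLe hQL, hφ, h1]
  rw [h.le_ker_iff hL]
  intro x hx
  have h3 := (irr_degree_eq_one_iff_commutator_le_ker φ).1 h2
    (commutator_subgroupOf_le_commutator (M := L) le_rfl (x := ⟨x, hQL x.2⟩) hx)
  rw [irr_mem_ker_iff] at h3 ⊢
  rw [← hφ]
  exact h3

/-- The linear character `(det φ)^n`. -/
noncomputable def detPow (φ : G → ℂ) (n : ℕ) : IrrCharacter G :=
  ⟨fun g => ((powMonoidHom n).comp (detHom φ)) g, isIrrCharacter_of_monoidHom _⟩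

omit [Finite G] in
theorem detPow_apply (φ : G → ℂ) (n : ℕ) (g : G) : (detPow φ n).1 g = detChar φ g ^ n := rfl

omit [Finite G] in
theorem charDegree_detPow (φ : G → ℂ) (n : ℕ) : charDegree (detPow φ n).1 = 1 :=
  charDegree_eq_of_apply_one (by rw [detPow_apply, detChar_one]; simp)

theorem mem_ker_detPow {φ : G → ℂ} {n : ℕ} {g : G} :
    g ∈ ker (detPow φ n).1 ↔ detChar φ g ^ n = 1 := by
  rw [irr_mem_ker_iff, detPow_apply, detPow_apply, detChar_one, one_pow]

theorem le_ker_detPow_card (φ : G → ℂ) {Q : Subgroup G} {n : ℕ} (hn : Nat.card Q ∣ n) :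
    Q ≤ ker (detPow φ n).1 := fun x hx => by
  obtain ⟨m, rfl⟩ := (Q.orderOf_dvd_natCard hx).trans hn
  rw [mem_ker_detPow, pow_mul, detChar_pow_orderOf, one_pow]

theorem stabilizer_le_stabilizer_detPow {L : Subgroup G} [L.Normal] (φ : IrrCharacter L) (n : ℕ) :
    stabilizer G φ ≤ stabilizer G (detPow φ.1 n) := fun g hg => by
  rw [mem_stabilizer_iff, conjSmul_eq_iff] at hg ⊢
  intro x
  rw [detPow_apply, detPow_apply, detChar_conjNormal L (irr_isCharacter φ) hg]

theorem exists_extension_detPow {r : ℕ} [hr : Fact r.Prime] {Q L : Subgroup G} [Q.Normal]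
    [L.Normal] (hQ : IsPGroup r Q) (hQL : Q < L) (hL : ⁅L, L⁆ ≤ Q) (hc : ¬ r ∣ Q.relIndex L)
    {θ : IrrCharacter Q} (hθ : L ≤ stabilizer G θ) (h1 : charDegree θ.1 ≠ 1) :
    ∃ φ : IrrCharacter L, resLe hQL.le φ.1 = θ.1 ∧ detPow φ.1 (Nat.card Q) ≠ irrOne L ∧
      ∃ χ' : IrrCharacter G, Q ≤ ker χ'.1 ∧ ¬ L ≤ ker χ'.1 ∧ ∀ χ : IrrCharacter G,
        LiesOver L χ.1 φ.1 → (charDegree χ'.1).factorization r < (charDegree χ.1).factorization r := by
  have hcop := hQ.coprime_card hc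
  obtain ⟨φ, hφ, hν⟩ : ∃ φ : IrrCharacter L, resLe hQL.le φ.1 = θ.1 ∧
      detPow φ.1 (Nat.card Q) ≠ irrOne L := by
    obtain ⟨φ, hφ⟩ := exists_extension_le_of_coprime_card hQL.le hθ hcop
    by_cases h : detPow φ.1 (Nat.card Q) = irrOne L
    swap
    · exact ⟨φ, hφ, h⟩
    obtain ⟨x, hxL, hxQ⟩ := SetLike.exists_of_lt hQL
    obtain ⟨f, hf, hfx⟩ := exists_units_hom_apply_ne_one (commutator_le_subgroupOf hL)
      (g := ⟨x, hxL⟩) hxQ
    refine ⟨f • φ, ?_, fun e => hfx ?_⟩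
    · rw [← res_subgroupOf_eq_irrOf_iff, res_lin_smul_of_le_ker hf, res_subgroupOf_eq_irrOf_iff, hφ]
    · have e1 := congrFun (congrArg Subtype.val e) ⟨x, hxL⟩
      have e2 := congrFun (congrArg Subtype.val h) ⟨x, hxL⟩
      rw [detPow_apply, irrOne_apply] at e1 e2
      rw [lin_smul_val, mul_comm, (irr_isCharacter φ).detChar_mul_linear (irr_isCharacter _)
        (charDegree_linChar f), Pi.mul_apply, mul_pow, e2, one_mul, Pi.pow_apply, linChar_apply,
        ← pow_mul, ← Units.val_pow_eq_pow_val, Units.val_eq_one] at e1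
      have e3 := monoidHom_pow_index_eq_one (Q.subgroupOf L) f (fun n hn => hf hn) ⟨x, hxL⟩
      refine (pow_eq_one_iff_of_coprime (m := charDegree φ.1 * Nat.card Q)
        (n := Q.relIndex L) ?_).1 ⟨e1, e3⟩
      rw [← charDegree_resLe hQL.le, hφ]
      exact Nat.Coprime.mul_left (hcop.coprime_dvd_left (irr_degree_dvd_card θ)) hcop
  refine ⟨φ, hφ, hν, ?_⟩
  set ν := detPow φ.1 (Nat.card Q) with hνdef
  have hker : Q.subgroupOf L ≤ ker ν.1 :=
    le_ker_detPow_card _ (by rw [GT.card_subgroupOf_of_le hQL.le])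
  set k := (stabilizer G ν).index.factorization r with hk
  obtain ⟨χ', h2, h3⟩ := exists_liesOver_not_pow_dvd (p := r) (θ := ν) (k := k + 1)
    (by rw [charDegree_detPow]; exact hr.out.one_lt.not_ge ∘ Nat.le_of_dvd one_pos)
    (fun e => hc (e.trans (detOrder_dvd_index_of_le _
      (hker.trans (irr_isCharacter ν).ker_le_ker_detChar))))
    (Nat.pow_succ_factorization_not_dvd (GT.index_pos _).ne' hr.out)
  refine ⟨χ', (h2.le_ker_iff hQL.le).2 hker, fun e => hν ?_, fun χ hχ =>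
    factorization_lt_of_not_dvd hr.out (irr_degree_pos _).ne' (irr_degree_pos _).ne' h3 ?_⟩
  · rw [h2.le_ker_iff le_rfl, Subgroup.subgroupOf_self, top_le_iff] at e
    exact (ker_irr_eq_top_iff ν).1 e
  · rw [clifford_degree hχ, pow_succ, mul_assoc]
    refine Dvd.dvd.mul_left (mul_dvd_mul ((Nat.ordProj_dvd _ _).trans
      (Subgroup.index_dvd_of_le (stabilizer_le_stabilizer_detPow φ _))) ?_) _
    rw [← charDegree_resLe hQL.le, hφ]
    by_contra h4
    exact h1 (degree_eq_one_of_isPGroup hQ h4)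

theorem le_fitting_of_commutator_inf_le_frattini {X : Subgroup G} [hX : X.Normal]
    [Group.IsSolvable X] (h : ⁅X, fittingSubgroup G ⊓ X⁆ ≤ frattini G) :
    X ≤ fittingSubgroup G := by
  set π := QuotientGroup.mk' (frattini G) with hπ
  have hs : Function.Surjective π := QuotientGroup.mk'_surjective _
  have := hX.map π hs
  have := GT.isSolvable_map X π
  rw [← GT.comap_mk'_fitting_of_le_frattini (le_refl (frattini G)),
    ← Subgroup.map_le_iff_le_comap, GT.le_fitting_iff, ← GT.fitting_eq_top_iff, eq_top_iff]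
  refine le_trans ?_ GT.centralizer_fitting_le
  intro y _ z hz
  refine Subtype.ext ?_
  have h1 : (z : G ⧸ frattini G) ∈ fittingSubgroup (G ⧸ frattini G) ⊓ X.map π := by
    rw [← GT.map_subtype_fitting]; exact ⟨z, hz, rfl⟩
  obtain ⟨h1, x, hx, e⟩ := h1
  obtain ⟨y, y', hy', rfl⟩ := y
  have h2 : x ∈ fittingSubgroup G := by
    rw [← GT.comap_mk'_fitting_of_le_frattini (le_refl (frattini G)), Subgroup.mem_comap, e]
    exact h1
  have h3 := (QuotientGroup.eq_one_iff _).2 (h (Subgroup.commutator_mem_commutator hy' ⟨h2, hx⟩))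
  rw [Subgroup.coe_mul, Subgroup.coe_mul, ← e]
  exact (commutatorElement_eq_one_iff_mul_comm.1 h3).symm

/-- Relative version of the Broline--Garrison theorem. -/
theorem exists_degree_lt_of_fitting_inf_le {N : Subgroup G} [N.Normal] [Group.IsSolvable N]
    {χ : IrrCharacter G} (h1 : ¬ N ≤ ker χ.1) (h2 : fittingSubgroup G ⊓ N ≤ ker χ.1) :
    ∃ ψ : IrrCharacter G, ¬ N ≤ ker ψ.1 ∧ charDegree χ.1 < charDegree ψ.1 := by
  classical
  have := Fintype.ofFinite N
  by_contra hcon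
  have hc : ¬ ∃ ψ : IrrCharacter G, charDegree χ.1 < charDegree ψ.1 ∧ ker ψ.1 < ker χ.1 :=
    fun ⟨ψ, h3, h4⟩ => hcon ⟨ψ, fun e => h1 (e.trans h4.le), h3⟩
  set K := fittingSubgroup G ⊓ N with hK
  have h4 : ∀ g ∈ N, g ∉ ker χ.1 → χ.1 g = 0 := by
    intro g hgN hg
    by_contra h0
    set X := N ⊓ ⨅ H : {H : Subgroup G // IsCoatom H ∧ ¬ K ≤ H}, H.1.normalCore ⊔ ker χ.1
      with hX
    have : X.Normal := by
      have : (⨅ H : {H : Subgroup G // IsCoatom H ∧ ¬ K ≤ H}, H.1.normalCore ⊔ ker χ.1).Normal :=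
        Subgroup.normal_iInf_normal fun H => inferInstance
      infer_instance
    have := GT.isSolvable_of_le (inf_le_left : X ≤ N)
    have hF : ker χ.1 ≤ fittingSubgroup G := by
      by_contra h
      exact hc (Cfsg.Agent.S4461.main χ (Or.inl h))
    have hgX : g ∈ X := by
      refine ⟨hgN, Subgroup.mem_iInf.2 ?_⟩
      rintro ⟨H, hH, h5⟩
      have h5' : ¬ ker χ.1 ≤ H := fun e => h5 (h2.trans e)
      have h6 : H ⊔ ker χ.1 = ⊤ :=
        hH.2 _ (lt_of_le_of_ne le_sup_left fun e => h5' (e ▸ le_sup_right))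
      obtain ⟨x, hx, k, hk, rfl⟩ := (Subgroup.mem_sup_of_normal_right).1
        (h6 ▸ Subgroup.mem_top g : g ∈ H ⊔ ker χ.1)
      rw [ker_apply_mul_right (irr_isClassFunction χ) hk] at h0
      exact Subgroup.mul_mem_sup
        ((Cfsg.Agent.S4461.aux χ hH h5').resolve_left hc x hx h0) hk
    refine hg (h2 ⟨le_fitting_of_commutator_inf_le_frattini ?_ hgX, hgN⟩)
    rw [GT.le_frattini_iff]
    intro M hM
    by_cases h5 : K ≤ M
    · exact (Subgroup.commutator_le_right _ _).trans ((inf_le_inf_left _ inf_le_left).trans h5)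
    · refine le_trans (Subgroup.commutator_mono (inf_le_right.trans (iInf_le _ ⟨M, hM, h5⟩))
        inf_le_left) ?_
      refine le_trans (Subgroup.commutator_le.2 fun a ha k hk => ?_) M.normalCore_le
      obtain ⟨n, hn, k', hk', rfl⟩ := (Subgroup.mem_sup_of_normal_left).1 ha
      have h6 : ⁅k', k⁆ ∈ M.normalCore :=
        Subgroup.normal_le_normalCore.2 (GT.le_frattini_iff.1 le_rfl M hM)
          (GT.commutator_fitting_le_frattini (Subgroup.commutator_mem_commutator (hF hk') hk))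
      have h7 : ⁅n * k', k⁆ = n * ⁅k', k⁆ * (k * n⁻¹ * k⁻¹) := by
        simp only [commutatorElement_def]; group
      rw [h7]
      exact mul_mem (mul_mem hn h6) (Subgroup.Normal.conj_mem inferInstance _ (inv_mem hn) k)
  have h5 := sum_normal_irr_eq_zero N h1 1
  rw [Finset.sum_congr rfl (g := fun n : N => if (n : G) ∈ ker χ.1 then χ.1 1 else 0)
    (fun n _ => by
      rw [one_mul]
      split_ifs with h
      · exact ker_apply_eq h
      · exact h4 n n.2 h), ← Finset.sum_filter, Finset.sum_const, nsmul_eq_mul,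
    mul_eq_zero, Nat.cast_eq_zero, Finset.card_eq_zero, Finset.filter_eq_empty_iff] at h5
  exact h5.elim (fun h => h (Finset.mem_univ 1) (one_mem _)) (irr_apply_one_ne_zero χ)

theorem ncard_relCharDegrees_map_lt {N Q : Subgroup G} [N.Normal] [Group.IsSolvable N] [Q.Normal]
    (hQ : fittingSubgroup G ⊓ N ≤ Q) (h : ¬ N ≤ Q) :
    (relCharDegrees (N.map (QuotientGroup.mk' Q))).ncard < (relCharDegrees N).ncard := by
  refine Set.ncard_lt_ncard ⟨relCharDegrees_map_mk'_subset, fun hs => ?_⟩ (finite_relCharDegrees N)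
  obtain ⟨χ, -, h1⟩ := exists_irr_le_ker_not_le Q h
  obtain ⟨d, h2, h3⟩ := (finite_relCharDegrees N).exists_maximal ⟨_, degree_mem_relCharDegrees h1⟩
  obtain ⟨ψ, h4, h5, rfl⟩ := mem_relCharDegrees_map_mk'.1 (hs h2)
  obtain ⟨φ, h6, h7⟩ := exists_degree_lt_of_fitting_inf_le h5 (hQ.trans h4)
  exact h7.not_ge (h3 (degree_mem_relCharDegrees h6) h7.le)

theorem exists_prime_of_forall_le {D : Subgroup G} [hD : D.Normal] [Group.IsSolvable D]
    (h1 : D ≠ ⊥) (h : ∀ M : Subgroup G, M.Normal → M ≠ ⊥ → D ≤ M) :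
    ∃ r : ℕ, r.Prime ∧ IsPGroup r D ∧ pPrimeCore r G = ⊥ := by
  have hm : GT.IsMinNormal D := ⟨hD, h1, fun K hK hle h2 => le_antisymm hle (h K hK h2)⟩
  obtain ⟨r, hr, h2⟩ := hm.exists_isPGroup
  have := Fact.mk hr
  refine ⟨r, hr, h2, ?_⟩
  by_contra h3
  exact h1 (GT.eq_bot_of_isPGroup_of_not_dvd h2 fun e => GT.not_dvd_card_pPrimeCore r G
    (e.trans (Subgroup.card_dvd_of_le (h _ inferInstance h3))))

theorem not_dvd_relIndex_pCore_of_commutator_le {r : ℕ} [hr : Fact r.Prime] {L : Subgroup G}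
    [hL : L.Normal] (h : ⁅L, L⁆ ≤ pCore r G) : ¬ r ∣ (pCore r G).relIndex L := by
  have := isMulCommutative_map_mk' h
  have := hL.map _ (QuotientGroup.mk'_surjective (pCore r G))
  have h1 := (GT.isNilpotent_iff_forall_not_dvd_relIndex_pCore
    (L.map (QuotientGroup.mk' (pCore r G)))).1 GT.isNilpotent_of_isMulCommutative r hr.out
  rwa [GT.pCore_quotient_pCore, Subgroup.relIndex_bot_left, GT.card_map_mk'] at h1

/-- Induction scheme for bounds on the derived length of a normal subgroup. -/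
theorem der_eq_bot_induction {k : ℕ}
    (step : ∀ (G : Type u) [Group G] [Finite G] (N : Subgroup G) [N.Normal] [Group.IsSolvable N]
      (r : ℕ) [Fact r.Prime], pPrimeCore r G = ⊥ → ¬ N ≤ pCore r G →
      (relCharDegrees N).ncard ≤ k → der N k = ⊥)
    (G : Type u) [Group G] [Finite G] : ∀ (N : Subgroup G) [N.Normal] [Group.IsSolvable N],
      (relCharDegrees N).ncard ≤ k → der N k = ⊥ := by
  refine GT.induction_on_card (P := fun G _ _ => ∀ (N : Subgroup G) [N.Normal]
    [Group.IsSolvable N], (relCharDegrees N).ncard ≤ k → der N k = ⊥) ?_ G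
  intro G _ _ ih N hN _ h
  by_contra h1
  have := GT.isSolvable_of_le (der_le N k)
  obtain ⟨r, hr, -, h2⟩ := exists_prime_of_forall_le h1 fun M hM h2 => by
    have := hN.map _ (QuotientGroup.mk'_surjective M)
    have := GT.isSolvable_map N (QuotientGroup.mk' M)
    exact der_le_of_map_mk' (ih (G ⧸ M) (GT.card_quotient_lt h2) _
      ((Set.ncard_le_ncard relCharDegrees_map_mk'_subset (finite_relCharDegrees N)).trans h))
  have := Fact.mk hr
  by_cases h3 : N ≤ pCore r G
  · exact h1 (der_eq_bot_of_isPGroup k ((GT.isPGroup_pCore r G).to_le h3) h)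
  · exact h1 (step G N r h2 h3 h)

/-- If `|cd(G|N)| ≤ 1` with `N` solvable then `N` is abelian. -/
theorem commutator_eq_bot_of_ncard_le_one {N : Subgroup G} [N.Normal] [Group.IsSolvable N]
    (h : (relCharDegrees N).ncard ≤ 1) : ⁅N, N⁆ = ⊥ := by
  refine der_eq_bot_induction (k := 1) (fun G _ _ N _ _ r _ h1 h2 h3 => ?_) G N h
  have h4 := ncard_relCharDegrees_map_lt
    (inf_le_left.trans (GT.fitting_eq_pCore_of_pPrimeCore_eq_bot h1).le) h2
  have h5 : (relCharDegrees (N.map (QuotientGroup.mk' (pCore r G)))).ncard = 0 := by omega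
  rw [Set.ncard_eq_zero (finite_relCharDegrees _), relCharDegrees_eq_empty_iff,
    GT.map_mk'_eq_bot_iff] at h5
  exact absurd h5 h2

theorem commutator_eq_bot_of_forall_degree_eq {N : Subgroup G} [N.Normal] [Group.IsSolvable N]
    {c : ℕ} (h : ∀ χ : IrrCharacter G, ¬ N ≤ ker χ.1 → charDegree χ.1 = c) : ⁅N, N⁆ = ⊥ := by
  refine commutator_eq_bot_of_ncard_le_one ((Set.ncard_le_ncard (t := {c}) (fun d hd => ?_)
    (Set.finite_singleton c)).trans (Set.ncard_singleton c).le)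
  obtain ⟨χ, h1, rfl⟩ := mem_relCharDegrees.1 hd
  exact h χ h1

theorem commutator_eq_bot_of_forall_degree_eq_le {D N : Subgroup G} (hD : D ≤ N)
    [(D.subgroupOf N).Normal] [Group.IsSolvable D] {c : ℕ}
    (h : ∀ χ : IrrCharacter N, ¬ D.subgroupOf N ≤ ker χ.1 → charDegree χ.1 = c) : ⁅D, D⁆ = ⊥ := by
  have := GT.isSolvable_subgroupOf D N
  have h1 := commutator_eq_bot_of_forall_degree_eq h
  rw [commutator_subgroupOf_eq hD hD] at h1
  exact eq_bot_of_subgroupOf_eq_bot ((der_succ_le D 0).trans hD) h1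

/-- If `|cd(G|N)| ≤ 2` with `N` solvable then `N'' = 1`. -/
theorem der_two_eq_bot_of_ncard_le_two {N : Subgroup G} [N.Normal] [Group.IsSolvable N]
    (h : (relCharDegrees N).ncard ≤ 2) : der N 2 = ⊥ := by
  refine der_eq_bot_induction (k := 2) (fun G _ _ N hN _ r _ h1 h2 h3 => ?_) G N h
  set Q := pCore r G ⊓ N with hQ
  have hQp : IsPGroup r Q := (GT.isPGroup_pCore r G).to_le inf_le_left
  have hQN : Q < N := lt_of_le_of_ne inf_le_right fun e => h2 (e ▸ inf_le_left)
  have h4 := ncard_relCharDegrees_map_lt (Q := Q)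
    (by rw [GT.fitting_eq_pCore_of_pPrimeCore_eq_bot h1]) hQN.not_ge
  have := hN.map _ (QuotientGroup.mk'_surjective Q)
  have := GT.isSolvable_map N (QuotientGroup.mk' Q)
  have h5 : ⁅N, N⁆ ≤ Q := der_le_of_map_mk' (k := 1)
    (commutator_eq_bot_of_ncard_le_one (N := N.map (QuotientGroup.mk' Q)) (by omega))
  obtain ⟨χ₀, h6, h7⟩ := exists_irr_le_ker_not_le Q hQN.not_ge
  have hc : ∀ χ : IrrCharacter G, Q ≤ ker χ.1 → ¬ N ≤ ker χ.1 →
      charDegree χ.1 = charDegree χ₀.1 := fun χ e1 e2 =>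
    (Set.ncard_le_one (finite_relCharDegrees _)).1 (by omega) _
      (mem_relCharDegrees_map_mk'.2 ⟨χ, e1, e2, rfl⟩) _
      (mem_relCharDegrees_map_mk'.2 ⟨χ₀, h6, h7, rfl⟩)
  have hr : ¬ r ∣ Q.relIndex N := by
    rw [hQ, Subgroup.inf_relIndex_right]
    exact not_dvd_relIndex_pCore_of_commutator_le (h5.trans inf_le_left)
  have := GT.isSolvable_of_le (Subgroup.commutator_le_left N N)
  refine commutator_eq_bot_of_ncard_le_one (N := ⁅N, N⁆) ?_
  have h8 : relCharDegrees ⁅N, N⁆ ⊆ relCharDegrees N \ {charDegree χ₀.1} := by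
    intro d hd
    refine ⟨relCharDegrees_mono (Subgroup.commutator_le_left N N) hd, fun e => ?_⟩
    obtain ⟨χ, e1, rfl⟩ := mem_relCharDegrees.1 hd
    obtain ⟨θ, hθ⟩ := exists_irr_liesUnder Q χ
    have e2 := le_inertia_of_forall_degree_eq h5 hc hθ (dvd_of_eq e)
    by_cases e3 : charDegree θ.1 = 1
    · exact e1 (commutator_le_ker_of_le_inertia hQN.le h5 (hQp.coprime_card hr) e2 e3 hθ)
    obtain ⟨φ, e4, -, χ', e5, e6, e7⟩ := exists_extension_detPow hQp hQN h5 hr e2 e3
    obtain ⟨χ'', e8⟩ := exists_irr_liesOver φ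
    have e9 := e7 χ'' e8
    rw [hc χ' e5 e6, ← Set.mem_singleton_iff.1 e] at e9
    have e10 := e8.trans_le hQN.le (irr_isCharacter _) (irr_isCharacter θ)
      (liesOverLe_of_resLe_eq e4)
    have e11 : Q ≠ ⊥ := fun e0 => e1 (h5.trans (e0 ▸ bot_le))
    have e12 := ncard_relCharDegrees_commutator_lt hQp e11
    have e13 := Set.ncard_le_ncard (relCharDegrees_mono hQN.le) (finite_relCharDegrees N)
    have e14 := (Set.ncard_le_one (finite_relCharDegrees ⁅Q, Q⁆)).1 (by omega) _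
      (degree_mem_relCharDegrees (mt hθ.commutator_le_ker_iff.1 e3)) _
      (degree_mem_relCharDegrees (mt e10.commutator_le_ker_iff.1 e3))
    rw [e14] at e9
    exact e9.false
  have h9 := Set.ncard_le_ncard h8 ((finite_relCharDegrees N).sdiff)
  have h10 := Set.ncard_sdiff_singleton_add_one (degree_mem_relCharDegrees h7)
    (finite_relCharDegrees N)
  omega

theorem der_eq_bot_of_ncard_le {N : Subgroup G} [N.Normal] [Group.IsSolvable N] {k : ℕ}
    (hk : k ≤ 2) (h : (relCharDegrees N).ncard ≤ k) : der N k = ⊥ := by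
  interval_cases k
  · rwa [Nat.le_zero, Set.ncard_eq_zero (finite_relCharDegrees N),
      relCharDegrees_eq_empty_iff] at h
  · exact commutator_eq_bot_of_ncard_le_one (N := N) h
  · exact der_two_eq_bot_of_ncard_le_two h

theorem derivedSeries_eq_bot_of_ncard_le [Group.IsSolvable G] {k : ℕ} (hk : k ≤ 3)
    (h : (charDegrees G).ncard ≤ k) : derivedSeries G k = ⊥ := by
  have h1 := ncard_relCharDegrees_commutator (G := G)
  obtain ⟨j, rfl⟩ : ∃ j, k = j + 1 := ⟨k - 1, by omega⟩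
  rw [← der_commutator]
  exact der_eq_bot_of_ncard_le (by omega) (by omega)

end CT
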