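import Cfsg.Agent.Lib.Char.Galois
import Cfsg.Agent.Lib.Char.Omega
import Cfsg.Agent.Lib.Grp.MinNormal

/-!
# Burnside's theorems: classes of size prime to the degree, prime-power class sizes, `p^a q^b`
-/

set_option autoImplicit false

namespace CT

open Cfsg
open scoped ComplexConjugate commutatorElement

universe u

variable {G : Type*} [Group G] [Finite G]

/-- If the class size of `g` is prime to `χ(1)` then `χ(g)/χ(1)` is an algebraic integer. -/
theorem irr_isIntegral_div_of_coprime (χ : IrrCharacter G) {g : G}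
    (h : (Subgroup.centralizer ({g} : Set G)).index.Coprime (charDegree χ.1)) :
    IsIntegral ℤ (χ.1 g / χ.1 1) := by
  obtain ⟨a, b, hab⟩ := Nat.isCoprime_iff_coprime.2 h
  have h1 := irr_apply_one_ne_zero χ
  have hab' : (a : ℂ) * (Subgroup.centralizer ({g} : Set G)).index + (b : ℂ) * χ.1 1 = 1 := by
    rw [irr_apply_one]; exact_mod_cast hab
  have : χ.1 g / χ.1 1 = (a : ℂ) * centralChar χ.1 g + (b : ℂ) * χ.1 g := by
    rw [centralChar]
    field_simp
    linear_combination (-χ.1 g) * hab'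
  rw [this]
  exact (isIntegral_algebraMap.mul (isIntegral_centralChar χ g)).add
    (isIntegral_algebraMap.mul (irr_isIntegral χ g))

/-- Burnside: if the class size of `g` is prime to `χ(1)` then `χ(g) = 0` or `g ∈ Z(χ)`. -/
theorem irr_eq_zero_or_mem_center_of_coprime (χ : IrrCharacter G) {g : G}
    (h : (Subgroup.centralizer ({g} : Set G)).index.Coprime (charDegree χ.1)) :
    χ.1 g = 0 ∨ g ∈ center χ.1 :=
  (irr_isCharacter χ).eq_zero_or_mem_center_of_isIntegral (irr_isIntegral_div_of_coprime χ h)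

/-- For `g ≠ 1` and a prime `p` some nonprincipal irreducible character of degree prime to `p`
does not vanish at `g`. -/
theorem exists_irr_ne_one_not_dvd_apply_ne_zero {p : ℕ} (hp : p.Prime) {g : G} (hg : g ≠ 1) :
    ∃ χ : IrrCharacter G, χ ≠ irrOne G ∧ ¬ p ∣ charDegree χ.1 ∧ χ.1 g ≠ 0 := by
  classical
  by_contra hc
  push Not at hc
  have h := sum_irr_degree_mul g
  rw [if_neg hg, ← Finset.add_sum_erase _ _ (Finset.mem_univ (irrOne G))] at h
  have key : ∀ χ ∈ Finset.univ.erase (irrOne G), ∃ z : ℂ, IsIntegral ℤ z ∧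
      χ.1 1 * χ.1 g = p * z := by
    intro χ hχ
    by_cases hd : p ∣ charDegree χ.1
    · obtain ⟨m, hm⟩ := hd
      refine ⟨(m : ℂ) * χ.1 g, ?_, ?_⟩
      · exact (by exact_mod_cast isIntegral_algebraMap (R := ℤ) (A := ℂ) (x := (m : ℤ)) :
          IsIntegral ℤ (m : ℂ)).mul (irr_isIntegral χ g)
      · rw [irr_apply_one, hm]; push_cast; ring
    · exact ⟨0, isIntegral_zero, by rw [hc χ (Finset.ne_of_mem_erase hχ) hd]; simp⟩
  choose! z hz1 hz2 using key
  rw [Finset.sum_congr rfl hz2, ← Finset.mul_sum] at h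
  have hi : IsIntegral ℤ (-∑ χ ∈ Finset.univ.erase (irrOne G), z χ) :=
    (IsIntegral.sum _ hz1).neg
  have : p ∣ 1 := nat_dvd_of_isIntegral hi (by
    simp only [irrOne_apply, mul_one] at h
    push_cast
    linear_combination -h)
  exact hp.one_lt.ne' (Nat.dvd_one.1 this)

/-- If the class of `g ≠ 1` has prime-power size then `g ∈ Z(χ)` for a nonprincipal `χ`. -/
theorem exists_irr_ne_one_mem_center_of_index_eq_pow {p k : ℕ} (hp : p.Prime) {g : G}
    (hg : g ≠ 1) (h : (Subgroup.centralizer ({g} : Set G)).index = p ^ k) :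
    ∃ χ : IrrCharacter G, χ ≠ irrOne G ∧ ¬ p ∣ charDegree χ.1 ∧ g ∈ center χ.1 := by
  obtain ⟨χ, h1, h2, h3⟩ := exists_irr_ne_one_not_dvd_apply_ne_zero hp hg
  refine ⟨χ, h1, h2, (irr_eq_zero_or_mem_center_of_coprime χ ?_).resolve_left h3⟩
  rw [h]
  exact (hp.coprime_iff_not_dvd.2 h2).pow_left k

/-- If the class of `g ≠ 1` has prime-power size then `g` is central modulo a proper normal
subgroup. -/
theorem exists_normal_of_index_centralizer_eq_pow {p k : ℕ} (hp : p.Prime) {g : G}
    (hg : g ≠ 1) (h : (Subgroup.centralizer ({g} : Set G)).index = p ^ k) :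
    ∃ N : Subgroup G, N.Normal ∧ N ≠ ⊤ ∧ ∀ x, ⁅g, x⁆ ∈ N := by
  obtain ⟨χ, h1, -, h3⟩ := exists_irr_ne_one_mem_center_of_index_eq_pow hp hg h
  exact ⟨ker χ.1, inferInstance, fun h => h1 ((irr_ker_eq_top_iff χ).1 h),
    (irr_mem_center_iff_commutator χ).1 h3⟩

/-- Burnside: a simple group with a nontrivial class of prime-power size is abelian. -/
theorem isMulCommutative_of_simple_of_index_centralizer_eq_pow [IsSimpleGroup G] {p k : ℕ}
    (hp : p.Prime) {g : G} (hg : g ≠ 1)
    (h : (Subgroup.centralizer ({g} : Set G)).index = p ^ k) : IsMulCommutative G := by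
  obtain ⟨N, hN, hN1, hN2⟩ := exists_normal_of_index_centralizer_eq_pow hp hg h
  have hb : N = ⊥ := (hN.eq_bot_or_eq_top).resolve_right hN1
  have hz : g ∈ Subgroup.center G := by
    rw [Subgroup.mem_center_iff]
    intro x
    have := hN2 x
    rw [hb, Subgroup.mem_bot, commutatorElement_eq_one_iff_mul_comm] at this
    exact this.symm
  have ht : Subgroup.center G = ⊤ := by
    refine ((inferInstance : (Subgroup.center G).Normal).eq_bot_or_eq_top).resolve_left ?_
    intro h0
    rw [h0, Subgroup.mem_bot] at hz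
    exact hg hz
  exact ⟨⟨fun a b => ((Subgroup.mem_center_iff.1 (ht ▸ Subgroup.mem_top b : b ∈ _)) a)⟩⟩

/-- In a nontrivial finite group whose order involves only the primes `p` and `q`, some
nonidentity element has a class of `p`-power size (when `q` divides the order). -/
theorem exists_index_centralizer_eq_pow_of_two_primes {p q : ℕ} (hq : q.Prime)
    (h : ∀ r : ℕ, r.Prime → r ∣ Nat.card G → r = p ∨ r = q) (hqG : q ∣ Nat.card G) :
    ∃ g : G, g ≠ 1 ∧ ∃ k, (Subgroup.centralizer ({g} : Set G)).index = p ^ k := by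
  have := Fact.mk hq
  obtain ⟨Q⟩ : Nonempty (Sylow q G) := inferInstance
  have hQ : Nontrivial Q := by
    rw [Subgroup.nontrivial_iff_ne_bot]
    exact Q.ne_bot_of_dvd_card hqG
  have hZ := Q.isPGroup'.center_nontrivial
  obtain ⟨z, hz⟩ := exists_ne (1 : Subgroup.center Q)
  refine ⟨((z : Q) : G), fun h1 => hz (Subtype.ext (Subtype.ext h1)), ?_⟩
  have hle : (Q : Subgroup G) ≤ Subgroup.centralizer ({((z : Q) : G)} : Set G) := by
    intro x hx
    rw [Subgroup.mem_centralizer_singleton_iff]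
    exact congrArg Subtype.val (Subgroup.mem_center_iff.1 z.2 ⟨x, hx⟩)
  have hd := Subgroup.index_dvd_of_le hle
  refine ⟨_, Nat.eq_prime_pow_of_unique_prime_dvd Subgroup.index_ne_zero_of_finite ?_⟩
  intro r hr hrd
  refine (h r hr (hrd.trans (Subgroup.index_dvd_card _))).resolve_right ?_
  rintro rfl
  exact Q.not_dvd_index (hrd.trans hd)

/-- Burnside's `p^a q^b` theorem. -/
theorem isSolvable_of_two_primes {p q : ℕ} (hp : p.Prime) (hq : q.Prime) (G : Type u) [Group G]
    [Finite G] (h : ∀ r : ℕ, r.Prime → r ∣ Nat.card G → r = p ∨ r = q) : Group.IsSolvable G := by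
  revert h
  refine GT.induction_on_card (P := fun G _ _ =>
    (∀ r : ℕ, r.Prime → r ∣ Nat.card G → r = p ∨ r = q) → Group.IsSolvable G) ?_ G
  intro G _ _ ih h
  by_cases hqG : q ∣ Nat.card G
  swap
  · have := Fact.mk hp
    refine GT.IsPGroup.isSolvable' (p := p) (IsPGroup.of_card
      (Nat.eq_prime_pow_of_unique_prime_dvd Nat.card_pos.ne' fun hr hrd => ?_))
    refine (h _ hr hrd).resolve_right ?_
    rintro rfl
    exact hqG hrd
  obtain ⟨g, hg, k, hk⟩ := exists_index_centralizer_eq_pow_of_two_primes hq h hqG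
  have : Nontrivial G := ⟨⟨g, 1, hg⟩⟩
  by_cases hs : IsSimpleGroup G
  · have := isMulCommutative_of_simple_of_index_centralizer_eq_pow hp hg hk
    exact GT.isSolvable_of_isMulCommutative
  · have : ∃ N : Subgroup G, N.Normal ∧ N ≠ ⊥ ∧ N ≠ ⊤ := by
      by_contra hc
      push Not at hc
      exact hs ⟨fun N hN => or_iff_not_imp_left.2 (hc N hN)⟩
    obtain ⟨N, hN, hb, ht⟩ := this
    have h1 : Group.IsSolvable N := ih N (GT.card_lt_of_ne_top ht)
      fun r hr hrd => h r hr (hrd.trans (Subgroup.card_subgroup_dvd_card N))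
    have h2 : Group.IsSolvable (G ⧸ N) := ih (G ⧸ N) (GT.card_quotient_lt hb)
      fun r hr hrd => h r hr (hrd.trans (Subgroup.card_quotient_dvd_card N))
    exact Group.isSolvable_of_ker_le_range N.subtype (QuotientGroup.mk' N) (by simp)

/-- Burnside's `p^a q^b` theorem. -/
theorem isSolvable_of_card_dvd_pow_mul_pow {p q a b : ℕ} (hp : p.Prime) (hq : q.Prime)
    (h : Nat.card G ∣ p ^ a * q ^ b) : Group.IsSolvable G :=
  isSolvable_of_two_primes hp hq G fun _ hr hrd =>
    ((Nat.Prime.dvd_mul hr).1 (hrd.trans h)).imp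
      (fun h => (Nat.prime_dvd_prime_iff_eq hr hp).1 (hr.dvd_of_dvd_pow h))
      (fun h => (Nat.prime_dvd_prime_iff_eq hr hq).1 (hr.dvd_of_dvd_pow h))

theorem isSolvable_of_card_eq_pow_mul_pow {p q a b : ℕ} (hp : p.Prime) (hq : q.Prime)
    (h : Nat.card G = p ^ a * q ^ b) : Group.IsSolvable G :=
  isSolvable_of_card_dvd_pow_mul_pow hp hq h.dvd

end CT
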