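import Cfsg.Agent.Lib.Char.RelDeg2
import Cfsg.Agent.Lib.Block.Coherence
import Cfsg.Agent.Lib.Grp.PGrp

/-!
# Character degree graphs: basic structure for solvable groups
-/

set_option autoImplicit false

namespace CT

open Cfsg MulAction
open scoped ComplexConjugate commutatorElement Pointwise

variable {G : Type*} [Group G] [Finite G]

/-- The key consequence of Isaacs 12.3/12.4 for the degree graph of a solvable group. -/
theorem exists_degree_and_prime [Group.IsSolvable G] (h : ¬ IsMulCommutative G) :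
    ∃ f q : ℕ, f ∈ charDegrees G ∧ f ≠ 1 ∧ q.Prime ∧ ∀ χ : IrrCharacter G,
      q ∣ charDegree χ.1 ∨ ∃ d ∈ charDegrees G, f ∣ d ∧ charDegree χ.1 ∣ d := by
  obtain ⟨K, hK⟩ := exists_isMaxNonab h
  have := hK.normal
  obtain ⟨ψ, hψ, hψ1⟩ := hK.exists_irr
  rcases hK.dichotomy_of_isSolvable with ⟨p, hp, hpG, -, -⟩ | hF
  · refine ⟨_, p, mem_charDegrees ψ, hψ1, hp, fun χ => ?_⟩
    by_cases hχ : p ∣ charDegree χ.1
    · exact Or.inl hχ
    · have h1 := isIrr_res_of_isPGroup_quotient hp hpG hχ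
      have h2 := gallagher_isIrr' (irr_isCharacter χ) (θ := ⟨_, h1⟩) rfl hψ.ge
      refine Or.inr ⟨_, mem_charDegrees ⟨_, h2⟩, ?_, ?_⟩
      · rw [(irr_isCharacter ψ).charDegree_mul (irr_isCharacter χ)]; exact dvd_mul_right _ _
      · rw [(irr_isCharacter ψ).charDegree_mul (irr_isCharacter χ)]; exact dvd_mul_left _ _
  · set N := commutator G ⊔ K with hN
    have := hF.normalN
    have hf : charDegree ψ.1 = N.index := hF.degree_eq_index hψ.ge fun h =>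
      hK.not_le (le_sup_left.trans (h.trans hψ.le))
    obtain ⟨q, k, hq, hk, hqk⟩ := hK.isChief.exists_relIndex_eq_pow
    refine ⟨_, q, mem_charDegrees ψ, hψ1, hq, fun χ => ?_⟩
    obtain ⟨θ, hθ⟩ := exists_irr_liesUnder N χ
    rcases hF.mem_charDegrees_or_dvd θ with h1 | h1
    · exact Or.inr ⟨_, h1, hf ▸ dvd_mul_right _ _, hθ.degree_dvd_index_mul⟩
    · left
      obtain ⟨m, -, hm⟩ := hθ.exists_degree_eq_mul
      rw [hm]
      refine Dvd.dvd.mul_left (hq.dvd_of_dvd_pow (n := 2) (dvd_trans ?_ h1)) m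
      rw [hqk]
      exact dvd_pow_self q hk.ne'

theorem card_connectedComponent_le_two {V : Type*} (Γ : SimpleGraph V) (a b : V)
    (h : ∀ v, Γ.Reachable v a ∨ Γ.Reachable v b) : Nat.card Γ.ConnectedComponent ≤ 2 := by
  have h1 : (Set.univ : Set Γ.ConnectedComponent) ⊆
      {Γ.connectedComponentMk a, Γ.connectedComponentMk b} := by
    rintro ⟨v⟩ -
    rcases h v with h | h
    · exact Or.inl (SimpleGraph.ConnectedComponent.sound h)
    · exact Or.inr (SimpleGraph.ConnectedComponent.sound h)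
  rw [← Set.ncard_univ]
  exact (Set.ncard_le_ncard h1).trans ((Set.ncard_insert_le _ _).trans (by simp))

omit [Finite G] in
theorem reachable_degreeGraph {p q : degreePrimes G} {d : ℕ} (hd : d ∈ charDegrees G)
    (hp : p.1 ∣ d) (hq : q.1 ∣ d) : ((degreeGraph G).induce (degreePrimes G)).Reachable p q := by
  by_cases e : p = q
  · rw [e]
  · have hne : p.1 ≠ q.1 := fun h => e (Subtype.ext h)
    refine SimpleGraph.Adj.reachable ⟨hne, p.2.1, q.2.1, d, hd, ?_⟩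
    exact ((Nat.coprime_primes p.2.1 q.2.1).2 hne).mul_dvd_of_dvd_of_dvd hp hq

/-- A generalized character of norm two and degree zero is a difference of two irreducibles. -/
theorem exists_sub_of_ip_self_eq_two {θ : G → ℂ} (hθ : IsGeneralizedCharacter G θ)
    (h : ip θ θ = 2) (h0 : θ 1 = 0) : ∃ χ ψ : IrrCharacter G, χ ≠ ψ ∧ θ = χ.1 - ψ.1 := by
  classical
  choose a ha using (isGen_iff_ip_int hθ.isClassFunction).1 hθ
  have hsum : ∑ χ : IrrCharacter G, a χ * a χ = 2 := by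
    rw [ip_eq_sum_irr hθ.isClassFunction hθ.isClassFunction] at h
    simp only [ha, map_intCast] at h
    exact_mod_cast h
  have hdeg : ∑ χ : IrrCharacter G, (charDegree χ.1 : ℤ) * a χ = 0 := by
    rw [hθ.isClassFunction.apply_eq_sum_irr] at h0
    simp only [ha, irr_apply_one] at h0
    simp only [mul_comm (charDegree _ : ℤ)]
    exact_mod_cast h0
  obtain ⟨χ, ψ, hne, hv⟩ := BT.exists_eq_dl_sub_dl (fun χ : IrrCharacter G => charDegree χ.1)
    (fun χ => by exact_mod_cast irr_degree_pos χ) a hsum hdeg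
  refine ⟨χ, ψ, hne, hθ.isClassFunction.ext_ip
    ((irr_isClassFunction χ).sub (irr_isClassFunction ψ)) fun φ => ?_⟩
  rw [ha, hv, ip_sub_left, ip_irr, ip_irr]
  simp only [BT.dl, eq_comm (a := φ)]
  push_cast
  rfl

theorem card_dvd_degree_of_vanish {χ : G → ℂ} (hχ : IsCharacter G χ) (K : Subgroup G)
    (h : ∀ x ∈ K, x ≠ 1 → χ x = 0) : Nat.card K ∣ charDegree χ := by
  classical
  obtain ⟨n, hn⟩ := (hχ.res K).exists_nat_ip isCharacter_one
  have := Fintype.ofFinite K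
  rw [ip_def, Finset.sum_eq_single 1 (fun x _ hx => by
    rw [res_apply, h x x.2 (fun e => hx (Subtype.ext e)), zero_mul]) (by simp)] at hn
  refine ⟨n, ?_⟩
  have h1 : (Nat.card K : ℂ) ≠ 0 := card_cast_ne_zero
  rw [res_apply, OneMemClass.coe_one, hχ.apply_one, map_one, mul_one, inv_mul_eq_iff_eq_mul₀ h1]
    at hn
  exact_mod_cast hn

/-- If `P` is a self-centralizing subgroup of prime order `p`, then all irreducible characters of
degree `< p - 1` not containing `P` in their kernel have the same degree. -/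
theorem exists_exceptional_degree {P : Subgroup G} {p : ℕ} (hp : p.Prime) (hP : Nat.card P = p)
    (hC : ∀ x ∈ P, x ≠ 1 → Subgroup.centralizer ({x} : Set G) ≤ P) :
    ∃ d, ∀ χ : IrrCharacter G, P ≤ ker χ.1 ∨ p - 1 ≤ charDegree χ.1 ∨ charDegree χ.1 = d := by
  classical
  have := Fact.mk hp
  set N := Subgroup.normalizer (P : Set G) with hN
  set Q := P.subgroupOf N with hQ
  have hQn : Q.Normal := Subgroup.normal_in_normalizer
  have hzp : ∀ x ∈ P, x ≠ 1 → Subgroup.zpowers x = P := fun x hx h1 =>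
    (GT.eq_bot_or_eq_of_card_prime (hP ▸ hp) ((Subgroup.zpowers_le).2 hx)).resolve_left
      (by rwa [Subgroup.zpowers_eq_bot])
  have hTI : ∀ x ∈ {x | x ∈ P ∧ x ≠ 1}, ∀ g : G, g⁻¹ * x * g ∈ {x | x ∈ P ∧ x ≠ 1} → g ∈ N := by
    rintro x ⟨hx, hx1⟩ g ⟨hg, hg1⟩
    rw [← Subgroup.inv_mem_iff, ← GT.conj_smul_eq_iff_mem_normalizer]
    refine Subgroup.eq_of_le_of_card_ge ?_ (by
      rw [GT.conj_smul_eq_map, Subgroup.card_map_of_injective (MulEquiv.injective _)])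
    rw [GT.conj_smul_le_iff, ← hzp x hx hx1]
    rintro _ ⟨k, rfl⟩
    rw [hzp x hx hx1]
    have := P.zpow_mem hg k
    rwa [show g⁻¹ * x * g = g⁻¹ * x * g⁻¹⁻¹ by rw [inv_inv], conj_zpow] at this
  let S : Set (IrrCharacter N) := {φ | charDegree φ.1 = Q.index ∧ ∀ n ∉ Q, φ.1 n = 0}
  have hsupp : ∀ φ ∈ S, ∀ φ' ∈ S, ∀ k : N, (k : G) ∉ {x | x ∈ P ∧ x ≠ 1} → (φ.1 - φ'.1) k = 0 := by
    intro φ hφ φ' hφ' k hk
    by_cases h1 : k = 1
    · rw [h1, Pi.sub_apply, irr_apply_one, irr_apply_one, hφ.1, hφ'.1, sub_self]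
    · have h2 : k ∉ Q := fun h => hk ⟨h, fun e => h1 (Subtype.ext e)⟩
      rw [Pi.sub_apply, hφ.2 k h2, hφ'.2 k h2, sub_self]
  have hip : ∀ φ₁ ∈ S, ∀ φ₂ ∈ S, ∀ φ₃ ∈ S, ∀ φ₄ ∈ S,
      ip (ind N (φ₁.1 - φ₂.1)) (ind N (φ₃.1 - φ₄.1)) = ip (φ₁.1 - φ₂.1) (φ₃.1 - φ₄.1) :=
    fun φ₁ h₁ φ₂ h₂ φ₃ h₃ φ₄ h₄ => ip_ind_ind_of_TI hTI
      ((irr_isClassFunction _).sub (irr_isClassFunction _)) (hsupp _ h₁ _ h₂) (hsupp _ h₃ _ h₄)
  let R : IrrCharacter N → IrrCharacter N → IrrCharacter G → Prop :=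
    fun φ φ' χ => ip (ind N (φ.1 - φ'.1)) χ.1 ≠ 0
  have hRne : ∀ φ φ' χ, R φ φ' χ → φ ≠ φ' := by
    rintro φ _ χ h rfl
    simp [R] at h
  have hRsymm : ∀ φ φ' χ, R φ φ' χ → R φ' φ χ := by
    intro φ φ' χ h
    simp only [R] at h ⊢
    rwa [← neg_sub, ind_neg, ip_neg_left, neg_ne_zero]
  have hA : ∀ φ ∈ S, ∀ φ' ∈ S, φ ≠ φ' → ∃ d, (∃ χ, R φ φ' χ) ∧
      ∀ χ, R φ φ' χ → charDegree χ.1 = d := by
    intro φ hφ φ' hφ' hne
    have h0 : ind N (φ.1 - φ'.1) 1 = 0 := by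
      rw [ind_apply_one, hsupp φ hφ φ' hφ' 1 (fun h => h.2 rfl), mul_zero]
    obtain ⟨χ, ψ, hχψ, e⟩ := exists_sub_of_ip_self_eq_two
      ((irr_isCharacter φ).isGen.sub (irr_isCharacter φ').isGen).ind
      (by rw [hip _ hφ _ hφ' _ hφ _ hφ', ip_sub_left, ip_sub_right, ip_sub_right, ip_irr_self,
        ip_irr_self, ip_irr_ne hne, ip_irr_ne hne.symm]; norm_num) h0
    have h1 : charDegree ψ.1 = charDegree χ.1 := by
      rw [e, Pi.sub_apply, irr_apply_one, irr_apply_one, sub_eq_zero] at h0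
      exact_mod_cast h0.symm
    refine ⟨charDegree χ.1, ⟨χ, ?_⟩, fun ξ hξ => ?_⟩
    · simp only [R]
      rw [e, ip_sub_left, ip_irr_self, ip_irr_ne hχψ.symm]
      norm_num
    · simp only [R] at hξ
      by_contra h2
      rw [e, ip_sub_left, ip_irr_ne (fun e => h2 (by rw [e])),
        ip_irr_ne (fun e => h2 (by rw [← e, h1]))] at hξ
      simp at hξ
  have hfirst : ∀ φ₁ ∈ S, ∀ φ₂ ∈ S, ∀ φ₃ ∈ S, ∀ χ χ', R φ₁ φ₂ χ → R φ₁ φ₃ χ' →
      charDegree χ.1 = charDegree χ'.1 := by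
    intro φ₁ h₁ φ₂ h₂ φ₃ h₃ χ χ' hχ hχ'
    obtain ⟨d, -, hd⟩ := hA _ h₁ _ h₂ (hRne _ _ _ hχ)
    obtain ⟨d', -, hd'⟩ := hA _ h₁ _ h₃ (hRne _ _ _ hχ')
    have h4 : ip (ind N (φ₁.1 - φ₂.1)) (ind N (φ₁.1 - φ₃.1)) ≠ 0 := by
      rw [hip _ h₁ _ h₂ _ h₁ _ h₃, ip_sub_left, ip_sub_right, ip_sub_right, ip_irr_self,
        ip_irr_ne (hRne _ _ _ hχ'), ip_irr_ne (hRne _ _ _ hχ).symm, ip_irr]
      split_ifs <;> norm_num
    rw [ip_eq_sum_irr (isClassFunction_ind _ _) (isClassFunction_ind _ _)] at h4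
    obtain ⟨ξ, -, hξ⟩ := Finset.exists_ne_zero_of_sum_ne_zero h4
    rw [hd χ hχ, hd' χ' hχ', ← hd ξ (left_ne_zero_of_mul hξ),
      hd' ξ (by simpa using right_ne_zero_of_mul hξ)]
  have hall : ∀ φ₁ ∈ S, ∀ φ₂ ∈ S, ∀ φ₃ ∈ S, ∀ φ₄ ∈ S, ∀ χ χ', R φ₁ φ₂ χ → R φ₃ φ₄ χ' →
      charDegree χ.1 = charDegree χ'.1 := by
    intro φ₁ h₁ φ₂ h₂ φ₃ h₃ φ₄ h₄ χ χ' hχ hχ'
    by_cases e : φ₁ = φ₃
    · subst e
      exact hfirst _ h₁ _ h₂ _ h₄ _ _ hχ hχ'
    · obtain ⟨-, ⟨ξ, hξ⟩, -⟩ := hA _ h₁ _ h₃ e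
      exact (hfirst _ h₁ _ h₂ _ h₃ _ _ hχ hξ).trans
        (hfirst _ h₃ _ h₁ _ h₄ _ _ (hRsymm _ _ _ hξ) hχ')
  have hQC : ∀ x ∈ Q, x ≠ 1 → Subgroup.centralizer ({x} : Set N) ≤ Q := by
    intro x hx h1 y hy
    refine hC x hx (fun e => h1 (Subtype.ext e)) ?_
    rw [Subgroup.mem_centralizer_singleton_iff] at hy ⊢
    exact congrArg Subtype.val hy
  have hQcard : Nat.card Q = p := by
    rw [hQ, Nat.card_congr (Subgroup.subgroupOfEquivOfLe Subgroup.le_normalizer).toEquiv, hP]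
  have hQcyc : IsCyclic Q := isCyclic_of_prime_card hQcard
  have hB : ∀ χ : IrrCharacter G, (∀ φ ∈ S, ∀ φ' ∈ S, ¬ R φ φ' χ) →
      P ≤ ker χ.1 ∨ p - 1 ≤ charDegree χ.1 := by
    intro χ h
    have hχ := ((irr_isCharacter χ).res N).res Q
    have hS : ∀ θ (h1 : θ ≠ irrOne Q), (⟨_, isIrr_ind_of_centralizer_le hQC h1⟩ : IrrCharacter N)
        ∈ S := fun θ h1 => ⟨by
      rw [charDegree_ind (irr_isCharacter θ), irr_degree_eq_one_of_isMulCommutative, mul_one],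
      fun n hn => ind_apply_eq_zero_of_normal _ hn⟩
    have hm : ∀ θ θ' : IrrCharacter Q, θ ≠ irrOne Q → θ' ≠ irrOne Q →
        mult (res Q (res N χ.1)) θ.1 = mult (res Q (res N χ.1)) θ'.1 := by
      intro θ θ' h1 h1'
      have h2 := h _ (hS θ h1) _ (hS θ' h1')
      simp only [R, not_not] at h2
      rw [ip_ind_left _ _ (irr_isClassFunction χ), ip_sub_left, sub_eq_zero,
        ip_ind_left _ _ ((irr_isClassFunction χ).res N),
        ip_ind_left _ _ ((irr_isClassFunction χ).res N), (irr_isCharacter θ).ip_comm hχ,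
        (irr_isCharacter θ').ip_comm hχ, hχ.ip_eq_mult (irr_isCharacter θ),
        hχ.ip_eq_mult (irr_isCharacter θ')] at h2
      exact_mod_cast h2
    by_cases h3 : ∃ θ : IrrCharacter Q, θ ≠ irrOne Q ∧ ip (res Q (res N χ.1)) θ.1 ≠ 0
    · right
      obtain ⟨θ, h1, h4⟩ := h3
      have h5 := (hχ.mult_pos_iff (irr_isCharacter θ)).2 h4
      have h6 := hχ.degree_eq_sum_mult
      rw [charDegree_res, charDegree_res] at h6
      rw [h6, ← hQcard, ← card_irr_of_isMulCommutative, Nat.card_eq_fintype_card,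
        ← Finset.card_univ, ← Finset.card_erase_of_mem (Finset.mem_univ (irrOne Q)),
        Finset.card_eq_sum_ones]
      refine le_trans (Finset.sum_le_sum fun θ' h7 => ?_)
        (Finset.sum_le_sum_of_subset (Finset.erase_subset (irrOne Q) _))
      rw [irr_degree_eq_one_of_isMulCommutative, mul_one, hm θ' θ (Finset.mem_erase.1 h7).1 h1]
      exact h5
    · left
      push Not at h3
      intro x hx
      have h4 : (⟨⟨x, Subgroup.le_normalizer hx⟩, hx⟩ : Q) ∈ ker (res Q (res N χ.1)) := by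
        rw [hχ.mem_ker_iff_forall_irr]
        intro θ hθ
        by_cases h1 : θ = irrOne Q
        · rw [h1, ker_irrOne]; trivial
        · exact absurd (h3 θ h1) hθ
      rw [hχ.mem_ker_iff] at h4
      exact (irr_mem_ker_iff χ).2 h4
  by_cases hex : ∃ φ ∈ S, ∃ φ' ∈ S, ∃ χ, R φ φ' χ
  · obtain ⟨φ, hφ, φ', hφ', χ₀, h₀⟩ := hex
    refine ⟨charDegree χ₀.1, fun χ => ?_⟩
    by_cases h : ∃ φ ∈ S, ∃ φ' ∈ S, R φ φ' χ
    · obtain ⟨ψ, hψ, ψ', hψ', h⟩ := h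
      exact Or.inr (Or.inr (hall _ hψ _ hψ' _ hφ _ hφ' _ _ h h₀))
    · push Not at h
      exact (hB χ h).imp_right Or.inl
  · push Not at hex
    exact ⟨0, fun χ => (hB χ fun φ hφ φ' hφ' => hex φ hφ φ' hφ' χ).imp_right Or.inl⟩

end CT
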