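import Cfsg.Agent.Lib.Char.Monomial
import Cfsg.Agent.Lib.Char.BrauerPerm
import Cfsg.Agent.Lib.Char.Prod
import Cfsg.Agent.Lib.Char.Mackey
import Cfsg.Agent.Lib.Grp.Fitting
import Cfsg.Agent.Lib.Grp.NormalCompl

/-!
# Character degrees: Isaacs 12.1, Thompson's theorem, Itô's theorem
-/

set_option autoImplicit false

namespace CT

open Cfsg MulAction
open scoped ComplexConjugate commutatorElement Pointwise

variable {G : Type*} [Group G] [Finite G]

theorem mem_charDegrees {G : Type*} [Group G] (χ : IrrCharacter G) :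
    charDegree χ.1 ∈ charDegrees G := ⟨χ, rfl⟩

theorem exists_degree_dvd_of_normal {N : Subgroup G} [N.Normal] (θ : IrrCharacter N) :
    ∃ χ : IrrCharacter G, charDegree θ.1 ∣ charDegree χ.1 := by
  obtain ⟨χ, hχ⟩ := exists_irr_liesOver θ
  exact ⟨χ, hχ.degree_dvd⟩

theorem exists_degree_le_of_subgroup {K : Subgroup G} (θ : IrrCharacter K) :
    ∃ χ : IrrCharacter G, charDegree θ.1 ≤ charDegree χ.1 := by
  obtain ⟨χ, hχ⟩ := exists_irr_liesOver θ
  exact ⟨χ, hχ.degree_le (irr_isCharacter χ)⟩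

theorem exists_degree_eq_pow_of_isPGroup {p : ℕ} [hp : Fact p.Prime] (h : IsPGroup p G)
    (χ : IrrCharacter G) : ∃ a, charDegree χ.1 = p ^ a := by
  obtain ⟨n, hn⟩ := IsPGroup.iff_card.1 h
  have := irr_degree_dvd_card χ
  rw [hn, Nat.dvd_prime_pow hp.out] at this
  obtain ⟨a, -, ha⟩ := this
  exact ⟨a, ha⟩

theorem degree_eq_one_of_isPGroup {p : ℕ} [hp : Fact p.Prime] (h : IsPGroup p G)
    {χ : IrrCharacter G} (hχ : ¬ p ∣ charDegree χ.1) : charDegree χ.1 = 1 := by
  obtain ⟨a, ha⟩ := exists_degree_eq_pow_of_isPGroup h χ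
  rcases a with _ | a
  · simpa using ha
  · exact absurd (ha ▸ dvd_pow_self p a.succ_ne_zero) hχ

theorem card_apply_eq_apply_one (χ : IrrCharacter G) :
    Nat.card {g : G // χ.1 g = χ.1 1} = Nat.card (ker χ.1) :=
  Nat.card_congr (Equiv.subtypeEquivRight fun _ => (irr_mem_ker_iff χ).symm)

theorem exists_faithful_inflate_eq (χ : IrrCharacter G) :
    ∃ ψ : IrrCharacter (G ⧸ ker χ.1), inflate _ ψ = χ ∧ ker ψ.1 = ⊥ := by
  obtain ⟨ψ, hψ⟩ := (exists_inflate_eq_iff (ker χ.1) χ).2 le_rfl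
  refine ⟨ψ, hψ, ?_⟩
  have h := ker_inflate (ker χ.1) ψ
  rw [hψ] at h
  rw [eq_bot_iff]
  intro x hx
  obtain ⟨g, rfl⟩ := QuotientGroup.mk_surjective x
  have : g ∈ ker χ.1 := h ▸ hx
  exact (QuotientGroup.eq_one_iff g).2 this

theorem irr_degree_dvd_index_ker (χ : IrrCharacter G) : charDegree χ.1 ∣ (ker χ.1).index :=
  irr_degree_dvd_index_of_le_center χ (ker_le_center _)

theorem irr_degree_dvd_index_of_le_ker (χ : IrrCharacter G) {K : Subgroup G} (h : K ≤ ker χ.1) :
    charDegree χ.1 ∣ K.index :=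
  irr_degree_dvd_index_of_le_center χ (h.trans (ker_le_center _))

/-- The codegree times the degree is the index of the kernel. -/
theorem codeg_mul_degree (χ : IrrCharacter G) :
    Nat.card G / (Nat.card {g : G // χ.1 g = χ.1 1} * charDegree χ.1) * charDegree χ.1 =
      (ker χ.1).index := by
  obtain ⟨c, hc⟩ := irr_degree_dvd_index_ker χ
  rw [card_apply_eq_apply_one, ← (ker χ.1).card_mul_index, hc, ← mul_assoc,
    Nat.mul_div_cancel_left _ (Nat.mul_pos Nat.card_pos (irr_degree_pos χ)), mul_comm]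

theorem irr_degree_sq_lt_index_of_le_ker {χ : IrrCharacter G} (h1 : χ ≠ irrOne G)
    {K : Subgroup G} [K.Normal] (h : K ≤ ker χ.1) : charDegree χ.1 ^ 2 < K.index := by
  classical
  rw [← sum_le_ker_degree_sq K]
  have hsub : ({χ, irrOne G} : Finset (IrrCharacter G)) ⊆
      Finset.univ.filter (fun ψ : IrrCharacter G => K ≤ ker ψ.1) := by
    intro ψ hψ
    simp only [Finset.mem_insert, Finset.mem_singleton] at hψ
    rcases hψ with rfl | rfl
    · simpa using h
    · simp [ker_irrOne]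
  have := Finset.sum_le_sum_of_subset (f := fun ψ : IrrCharacter G => charDegree ψ.1 ^ 2) hsub
  rw [Finset.sum_pair h1, charDegree_irrOne] at this
  omega

theorem irr_degree_sq_lt_card {χ : IrrCharacter G} (h1 : χ ≠ irrOne G) :
    charDegree χ.1 ^ 2 < Nat.card G := by
  rw [← Subgroup.index_bot]
  exact irr_degree_sq_lt_index_of_le_ker h1 bot_le

/-- An invariant function summed over a finite set acted on with orbits of size one or
divisible by `p`. -/
theorem sum_modEq_sum_fixed {A X : Type*} [Group A] [MulAction A X] [Fintype X] {p : ℕ}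
    (h : ∀ x : X, (∀ a : A, a • x = x) ∨ p ∣ (stabilizer A x).index) (F : X → ℕ)
    (hF : ∀ (a : A) (x : X), F (a • x) = F x) [DecidablePred fun x : X => ∀ a : A, a • x = x] :
    ∑ x, F x ≡ ∑ x with ∀ a : A, a • x = x, F x [MOD p] := by
  classical
  rw [← Finset.sum_filter_add_sum_filter_not Finset.univ (fun x : X => ∀ a : A, a • x = x)]
  refine (Nat.modEq_iff_dvd' (Nat.le_add_right _ _)).2 ?_ |>.symm
  rw [Nat.add_sub_cancel_left,
    ← Finset.sum_fiberwise_of_maps_to (g := fun x : X => (Quotient.mk'' x : orbitRel.Quotient A X))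
      (t := Finset.univ) (fun _ _ => Finset.mem_univ _)]
  refine Finset.dvd_sum fun q _ => ?_
  obtain ⟨x, rfl⟩ := Quotient.mk''_surjective q
  by_cases hx : ∀ a : A, a • x = x
  · rw [Finset.sum_eq_zero]
    · exact dvd_zero _
    · intro y hy
      simp only [Finset.mem_filter, Finset.mem_univ, true_and] at hy
      obtain ⟨a, rfl⟩ : y ∈ orbit A x := orbitRel_apply.1 (Quotient.exact' hy.2)
      exact absurd (fun b => by simp only [hx]) hy.1
  · have hs : (Finset.univ.filter (fun x : X => ¬ ∀ a : A, a • x = x)).filter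
        (fun y => (Quotient.mk'' y : orbitRel.Quotient A X) = Quotient.mk'' x) =
        (orbit A x).toFinset := by
      ext y
      simp only [Finset.mem_filter, Finset.mem_univ, true_and, Set.mem_toFinset]
      constructor
      · exact fun hy => orbitRel_apply.1 (Quotient.exact' hy.2)
      · intro hy
        refine ⟨fun hf => hx ?_, Quotient.sound' (orbitRel_apply.2 hy)⟩
        obtain ⟨a, rfl⟩ := hy
        intro b
        have h1 : x = a • x := by
          have := hf a⁻¹
          simpa using this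
        rw [h1]; exact hf b
    rw [hs, Finset.sum_congr rfl (g := fun _ => F x) (fun y hy => by
      obtain ⟨a, rfl⟩ := Set.mem_toFinset.1 hy
      exact hF a x), Finset.sum_const, smul_eq_mul, Set.toFinset_card, ← Nat.card_eq_fintype_card,
      Nat.card_coe_set_eq, ← index_stabilizer]
    exact Dvd.dvd.mul_right ((h x).resolve_left hx) _

theorem not_dvd_detOrder_of_pResidual_eq_top {p : ℕ} [hp : Fact p.Prime]
    (h : pResidual p G = ⊤) (θ : G → ℂ) : ¬ p ∣ detOrder θ := by
  intro hd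
  rw [detOrder_eq_index] at hd
  have hn : (ker (detChar θ)).Normal := (isCharacter_detChar θ).ker_normal
  have hc := isMulCommutative_quotient_of_commutator_le (commutator_le_ker_detChar θ)
  have hnil : Group.IsNilpotent (G ⧸ ker (detChar θ)) := GT.isNilpotent_of_isMulCommutative
  have h1 := GT.map_pResidual_of_surjective (p := p) (QuotientGroup.mk'_surjective (ker (detChar θ)))
  rw [h, Subgroup.map_top_of_surjective _ (QuotientGroup.mk'_surjective _)] at h1
  have h2 := GT.isComplement'_pCore_pPrimeCore_of_isNilpotent (G := G ⧸ ker (detChar θ)) p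
  obtain ⟨k, hk⟩ := IsPGroup.iff_card.1 (GT.isPGroup_pCore p (G ⧸ ker (detChar θ)))
  have h3 := GT.pResidual_le (p := p) (h2.index_eq_card.trans hk)
  rw [← h1, top_le_iff] at h3
  exact GT.pPrimeCore_eq_top_iff.1 h3 hd

/-- **Isaacs 12.1**. -/
theorem card_pResidual_modEq (p : ℕ) [hp : Fact p.Prime]
    [DecidablePred fun χ : IrrCharacter G => ¬ p ∣ charDegree χ.1 ∧ ¬ p ∣ detOrder χ.1] :
    Nat.card (pResidual p G) ≡
      ∑ χ : IrrCharacter G with ¬ p ∣ charDegree χ.1 ∧ ¬ p ∣ detOrder χ.1,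
        charDegree χ.1 ^ 2 [MOD p] := by
  classical
  set N := pResidual p G with hN
  obtain ⟨k, hk⟩ := GT.exists_index_pResidual p G
  have hcop : ∀ n, ¬ p ∣ n → N.index.Coprime n := fun n hn => by
    rw [hk]; exact ((Nat.Prime.coprime_iff_not_dvd hp.out).2 hn).pow_left k
  rw [← sum_irr_degree_sq (G := N)]
  refine (sum_modEq_sum_fixed (A := G) (p := p) (fun θ => ?_) _
    (fun a θ => by rw [charDegree_conjSmul])).trans ?_
  · have h1 : (stabilizer G θ).index ∣ p ^ k := hk ▸ Subgroup.index_dvd_of_le (le_inertia θ)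
    obtain ⟨a, -, ha⟩ := (Nat.dvd_prime_pow hp.out).1 h1
    rcases a with _ | a
    · left
      rw [pow_zero, Subgroup.index_eq_one] at ha
      exact forall_smul_iff_inertia_eq_top.2 ha
    · right; rw [ha]; exact dvd_pow_self p a.succ_ne_zero
  rw [← Finset.sum_filter_add_sum_filter_not _ (fun θ : IrrCharacter N => ¬ p ∣ charDegree θ.1)]
  have h0 : p ∣ ∑ θ ∈ (Finset.univ.filter fun θ : IrrCharacter N => ∀ a : G, a • θ = θ).filter
      (fun θ => ¬ ¬ p ∣ charDegree θ.1), charDegree θ.1 ^ 2 :=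
    Finset.dvd_sum fun θ hθ => (not_not.1 (Finset.mem_filter.1 hθ).2).pow two_ne_zero
  refine ((Nat.ModEq.refl _).add ((Nat.modEq_zero_iff_dvd).2 h0)).trans ?_
  rw [add_zero]
  refine Eq.subst (motive := fun x => x ≡ _ [MOD p]) ?_ (Nat.ModEq.refl _)
  have hirr : ∀ χ : IrrCharacter G, ¬ p ∣ charDegree χ.1 → IsIrrCharacter N (res N χ.1) :=
    fun χ h => isIrr_res_of_coprime (hcop _ h)
  have hdet : ∀ θ : IrrCharacter N, N.index.Coprime (detOrder θ.1) := fun θ =>
    hcop _ (not_dvd_detOrder_of_pResidual_eq_top GT.pResidual_pResidual θ.1)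
  refine Finset.sum_bij (fun χ hχ => ⟨res N χ.1, hirr χ (Finset.mem_filter.1 hχ).2.1⟩) ?_ ?_ ?_ ?_
  · intro χ hχ
    simp only [Finset.mem_filter, Finset.mem_univ, true_and] at hχ ⊢
    exact ⟨smul_eq_of_res_eq (irr_isClassFunction χ) rfl, by rw [charDegree_res]; exact hχ.1⟩
  · intro χ hχ ψ hψ e
    have e' : res N χ.1 = res N ψ.1 := congrArg Subtype.val e
    have hχ' := (Finset.mem_filter.1 hχ).2
    have hψ' := (Finset.mem_filter.1 hψ).2
    let θ : IrrCharacter N := ⟨res N χ.1, hirr χ hχ'.1⟩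
    exact (existsUnique_canonical_extension N θ
      (forall_smul_iff.1 (smul_eq_of_res_eq (irr_isClassFunction χ) rfl))
      (hcop _ (by rw [charDegree_res]; exact hχ'.1)) (hdet θ)).unique ⟨rfl, hcop _ hχ'.2⟩
      ⟨e'.symm, hcop _ hψ'.2⟩
  · intro θ hθ
    simp only [Finset.mem_filter, Finset.mem_univ, true_and] at hθ
    obtain ⟨χ, ⟨h1, h2⟩, -⟩ := existsUnique_canonical_extension N θ (forall_smul_iff.1 hθ.1)
      (hcop _ hθ.2) (hdet θ)
    by_cases hk0 : k = 0
    · refine ⟨χ, ?_, Subtype.ext h1⟩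
      simp only [Finset.mem_filter, Finset.mem_univ, true_and]
      refine ⟨by rw [← charDegree_res N, h1]; exact hθ.2, ?_⟩
      rw [hk0, pow_zero, Subgroup.index_eq_one] at hk
      exact not_dvd_detOrder_of_pResidual_eq_top hk _
    · refine ⟨χ, ?_, Subtype.ext h1⟩
      simp only [Finset.mem_filter, Finset.mem_univ, true_and]
      refine ⟨by rw [← charDegree_res N, h1]; exact hθ.2, ?_⟩
      rw [hk] at h2
      exact (Nat.Prime.coprime_iff_not_dvd hp.out).1
        (Nat.Coprime.coprime_dvd_left (dvd_pow_self p hk0) h2)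
  · intro χ _
    rw [charDegree_res]

theorem not_dvd_detOrder_iff_le_ker {p : ℕ} [hp : Fact p.Prime] {χ : IrrCharacter G}
    (h1 : charDegree χ.1 = 1) : ¬ p ∣ detOrder χ.1 ↔ GT.pPrimeResidual p G ≤ ker χ.1 := by
  rw [detOrder_eq_index, (irr_isCharacter χ).detChar_of_degree_one h1, GT.pPrimeResidual_le_iff]

/-- **Thompson**: if `p` divides every nonlinear degree, `G` has a normal `p`-complement. -/
theorem not_dvd_card_pResidual_of_degrees {p : ℕ} [hp : Fact p.Prime]
    (h : ∀ χ : IrrCharacter G, charDegree χ.1 ≠ 1 → p ∣ charDegree χ.1) :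
    ¬ p ∣ Nat.card (pResidual p G) := by
  classical
  have h1 := card_pResidual_modEq (G := G) p
  have h2 : (Finset.univ.filter fun χ : IrrCharacter G =>
      ¬ p ∣ charDegree χ.1 ∧ ¬ p ∣ detOrder χ.1) = Finset.univ.filter fun χ : IrrCharacter G =>
      GT.pPrimeResidual p G ⊔ commutator G ≤ ker χ.1 := by
    ext χ
    simp only [Finset.mem_filter, Finset.mem_univ, true_and, sup_le_iff]
    constructor
    · rintro ⟨h3, h4⟩
      have h5 : charDegree χ.1 = 1 := by
        by_contra h5; exact h3 (h χ h5)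
      exact ⟨(not_dvd_detOrder_iff_le_ker h5).1 h4,
        (irr_degree_eq_one_iff_commutator_le_ker χ).1 h5⟩
    · rintro ⟨h3, h4⟩
      have h5 := (irr_degree_eq_one_iff_commutator_le_ker χ).2 h4
      exact ⟨by rw [h5]; exact hp.out.not_dvd_one, (not_dvd_detOrder_iff_le_ker h5).2 h3⟩
  rw [h2, sum_le_ker_degree_sq] at h1
  intro hd
  exact GT.not_dvd_index_pPrimeResidual p G
    (((h1.dvd_iff dvd_rfl).1 hd).trans (Subgroup.index_dvd_of_le le_sup_left))

theorem hasNormalPComplement_of_degrees {p : ℕ} [hp : Fact p.Prime]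
    (h : ∀ χ : IrrCharacter G, charDegree χ.1 ≠ 1 → p ∣ charDegree χ.1) :
    HasNormalPComplement p G :=
  GT.hasNormalPComplement_iff_not_dvd_card_pResidual.2 (not_dvd_card_pResidual_of_degrees h)

/-- A finite group is not the union of the conjugates of a proper subgroup. -/
theorem eq_top_of_forall_conj_mem (K : Subgroup G) (h : ∀ g : G, ∃ x : G, x⁻¹ * g * x ∈ K) :
    K = ⊤ := by
  classical
  have := Fintype.ofFinite G
  have h1 := ip_ind_one_one K
  rw [ind_one_eq_permChar, ip_def] at h1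
  simp only [permChar_apply', map_one, mul_one] at h1
  have h2 : ∑ g : G, Nat.card {q : G ⧸ K // g • q = q} = ∑ _g : G, 1 := by
    have := (inv_mul_eq_iff_eq_mul₀ (card_cast_ne_zero (G := G))).1 h1
    rw [mul_one] at this
    rw [Finset.sum_const, smul_eq_mul, mul_one, Finset.card_univ, ← Nat.card_eq_fintype_card]
    exact_mod_cast this
  have h3 := (Finset.sum_eq_sum_iff_of_le (fun g _ => show 1 ≤ Nat.card {q : G ⧸ K // g • q = q} by
    obtain ⟨x, hx⟩ := h g
    have : Nonempty {q : G ⧸ K // g • q = q} := ⟨⟨(x : G ⧸ K), by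
      change ((g * x : G) : G ⧸ K) = x
      rw [eq_comm, QuotientGroup.eq, ← mul_assoc]; exact hx⟩⟩
    exact Nat.card_pos)).1 h2.symm 1 (Finset.mem_univ _)
  rw [← Subgroup.index_eq_one, Subgroup.index, h3]
  exact Nat.card_congr (Equiv.subtypeUnivEquiv fun q => one_smul G q).symm

/-- A coprime operator group fixing every irreducible character acts trivially. -/
theorem le_centralizer_of_forall_smul_eq {A N : Subgroup G} [N.Normal] (hA : GT.CoprimeAct A N)
    (h : ∀ a ∈ A, ∀ θ : IrrCharacter N, a • θ = θ) : N ≤ Subgroup.centralizer (A : Set G) := by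
  have h1 := eq_top_of_forall_conj_mem ((Subgroup.centralizer (A : Set G)).subgroupOf N) fun n => by
    obtain ⟨g, hg, h2⟩ := hA.exists_conj_mem_centralizer (x := n) fun a ha => by
      have h3 : IsConj n (MulAut.conjNormal a n) :=
        isConj_iff_forall_irr.2 fun θ => (conjSmul_eq_iff.1 (h a ha θ) n).symm
      obtain ⟨c, hc⟩ := isConj_iff.1 h3
      exact ⟨c, c.2, (congrArg Subtype.val hc).symm⟩
    exact ⟨(⟨g, hg⟩ : N)⁻¹, by simpa [Subgroup.mem_subgroupOf] using h2⟩
  exact Subgroup.subgroupOf_eq_top.1 h1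

theorem isMulCommutative_of_normal_isPGroup_of_degrees {p : ℕ} [hp : Fact p.Prime]
    (h : ∀ χ : IrrCharacter G, ¬ p ∣ charDegree χ.1) {Q : Subgroup G} [Q.Normal]
    (hQ : IsPGroup p Q) : IsMulCommutative Q := by
  refine isMulCommutative_iff_forall_degree_one.2 fun θ => degree_eq_one_of_isPGroup hQ ?_
  obtain ⟨χ, hχ⟩ := exists_degree_dvd_of_normal θ
  exact fun hd => h χ (hd.trans hχ)

/-- A character whose inertia group has index prime to `p` is fixed by every normal subgroup
that is a `p`-group modulo `N`. -/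
theorem le_inertia_of_not_dvd {p : ℕ} [hp : Fact p.Prime] {N M : Subgroup G} [N.Normal]
    [M.Normal] {k : ℕ} (hM : N.relIndex M = p ^ k) {θ : IrrCharacter N}
    (hθ : ¬ p ∣ (stabilizer G θ).index) : M ≤ stabilizer G θ := by
  obtain ⟨P, hP⟩ := GT.exists_sylow_le_of_not_dvd_index hθ
  have h1 : M.map (QuotientGroup.mk' N) ≤ (P : Subgroup G).map (QuotientGroup.mk' N) := by
    have h2 := (GT.isSylowIn_sylow P).map_top_of_surjective (QuotientGroup.mk'_surjective N)
    have : (M.map (QuotientGroup.mk' N)).Normal :=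
      Subgroup.Normal.map inferInstance _ (QuotientGroup.mk'_surjective N)
    refine h2.le_of_normalizes (IsPGroup.of_card ((GT.card_map_mk' N M).trans hM)) le_top ?_
    exact Subgroup.le_normalizer_of_normal
  have h3 := Subgroup.comap_mono (f := QuotientGroup.mk' N) h1
  rw [GT.comap_map_mk'_eq, GT.comap_map_mk'_eq] at h3
  exact (le_sup_left.trans h3).trans (sup_le hP (le_inertia θ))

theorem not_dvd_card_of_degrees_of_pCore_eq_bot {p : ℕ} [hp : Fact p.Prime]
    (hG : IsPSolvable p G) (h : ∀ χ : IrrCharacter G, ¬ p ∣ charDegree χ.1)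
    (h1 : pCore p G = ⊥) : ¬ p ∣ Nat.card G := by
  obtain ⟨Q, hQ⟩ := GT.exists_isSylowIn p (pPrimePCore p G)
  obtain ⟨k, hk⟩ := GT.exists_relIndex_pPrimePCore (p := p) (G := G)
  have hc : pPrimeCore p G ≤ Subgroup.centralizer (Q : Set G) := by
    refine le_centralizer_of_forall_smul_eq (GT.coprimeAct_of_isPGroup_left
      Subgroup.le_normalizer_of_normal hQ.isPGroup (GT.not_dvd_card_pPrimeCore p G)) ?_
    intro a ha θ
    obtain ⟨χ, hχ⟩ := exists_irr_liesOver θ
    exact le_inertia_of_not_dvd hk (fun hd => h χ (hd.trans hχ.index_inertia_dvd)) (hQ.le ha)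
  have hc' : Q ≤ Subgroup.centralizer (pPrimeCore p G : Set G) := Subgroup.le_centralizer_iff.1 hc
  have h2 : Q ≤ pPrimeCore p G := hc'.trans (GT.centralizer_pPrimeCore_le hG h1)
  have h3 : Q = ⊥ := GT.eq_bot_of_isPGroup_of_not_dvd hQ.isPGroup fun hd =>
    GT.not_dvd_card_pPrimeCore p G (hd.trans (Subgroup.card_dvd_of_le h2))
  have h4 := GT.centralizer_le_pPrimePCore hG hQ
  have h5 := GT.pPrimeCore_sup_eq_of_isSylowIn hQ
  rw [h3] at h4 h5
  rw [sup_bot_eq] at h5
  rw [← h5] at h4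
  refine GT.pPrimeCore_eq_top_iff.1 (top_le_iff.1 (le_trans ?_ h4))
  intro g _ x hx
  rw [SetLike.mem_coe, Subgroup.mem_bot] at hx
  rw [hx, one_mul, mul_one]

/-- **Itô's theorem** for `p`-solvable groups. -/
theorem not_dvd_index_pCore_of_degrees {p : ℕ} [hp : Fact p.Prime] (hG : IsPSolvable p G)
    (h : ∀ χ : IrrCharacter G, ¬ p ∣ charDegree χ.1) : ¬ p ∣ (pCore p G).index :=
  not_dvd_card_of_degrees_of_pCore_eq_bot (G := G ⧸ pCore p G) (GT.isPSolvable_quotient hG _)
    (fun ψ => by rw [← charDegree_inflate]; exact h _) (GT.pCore_quotient_pCore p G)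

theorem ito_sylow_iff {p : ℕ} [hp : Fact p.Prime] (hG : IsPSolvable p G) (P : Sylow p G) :
    ((P : Subgroup G).Normal ∧ IsMulCommutative (P : Subgroup G)) ↔
      ∀ χ : IrrCharacter G, ¬ p ∣ charDegree χ.1 := by
  constructor
  · rintro ⟨h1, h2⟩ χ
    exact not_dvd_degree_of_normal_comm χ _ (GT.isMulCommutative_iff_forall.1 h2) P.not_dvd_index
  · intro h
    have h1 := (GT.normal_sylow_iff_not_dvd_index_pCore P).2 (not_dvd_index_pCore_of_degrees hG h)
    exact ⟨h1, isMulCommutative_of_normal_isPGroup_of_degrees h P.isPGroup'⟩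

omit [Finite G] in
theorem eq_one_of_commute_of_centralizer_le {N : Subgroup G}
    (hN : ∀ x ∈ N, x ≠ 1 → Subgroup.centralizer ({x} : Set G) ≤ N) {x g : G} (hx : x ∈ N)
    (hg : g ∉ N) (h : g * x = x * g) : x = 1 := by
  by_contra hx1
  exact hg (hN x hx hx1 (Subgroup.mem_centralizer_singleton_iff.2 h))

theorem exists_commutator_eq_of_centralizer_le {N : Subgroup G} [hn : N.Normal]
    (hN : ∀ x ∈ N, x ≠ 1 → Subgroup.centralizer ({x} : Set G) ≤ N) {g : G} (hg : g ∉ N)
    {n : G} (h : n ∈ N) : ∃ m ∈ N, m * g * m⁻¹ * g⁻¹ = n := by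
  let F : N → N := fun m => ⟨m * g * (m : G)⁻¹ * g⁻¹, by
    rw [mul_assoc, mul_assoc, ← mul_assoc g]
    exact N.mul_mem m.2 (hn.conj_mem _ (N.inv_mem m.2) g)⟩
  have hF : Function.Injective F := by
    intro a b hab
    have h1 : (a : G) * g * (a : G)⁻¹ * g⁻¹ = b * g * (b : G)⁻¹ * g⁻¹ := congrArg Subtype.val hab
    have h2 : g * ((b : G)⁻¹ * a) = (b : G)⁻¹ * a * g := by
      have h3 := mul_right_cancel h1
      calc g * ((b : G)⁻¹ * a) = (b : G)⁻¹ * (b * g * (b : G)⁻¹) * a := by group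
        _ = (b : G)⁻¹ * (a * g * (a : G)⁻¹) * a := by rw [h3]
        _ = _ := by group
    have h4 := eq_one_of_commute_of_centralizer_le hN (N.mul_mem (N.inv_mem b.2) a.2) hg h2
    exact Subtype.ext (inv_mul_eq_one.1 h4).symm
  obtain ⟨m, hm⟩ := Finite.surjective_of_injective hF ⟨n, h⟩
  exact ⟨m, m.2, congrArg Subtype.val hm⟩

theorem isFrobeniusComplement_of_centralizer_le {N H : Subgroup G} [hn : N.Normal]
    (hN : ∀ x ∈ N, x ≠ 1 → Subgroup.centralizer ({x} : Set G) ≤ N) (hd : Disjoint N H)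
    (hs : N ⊔ H = ⊤) (hN1 : N ≠ ⊥) (hH1 : H ≠ ⊥) :
    IsFrobeniusComplement H ∧ frobeniusKernel H = (N : Set G) := by
  have hdec : ∀ g : G, ∃ n ∈ N, ∃ y ∈ H, n * y = g := fun g =>
    (GT.mem_sup_of_le_normalizer_left Subgroup.le_normalizer_of_normal).1
      (hs ▸ Subgroup.mem_top g)
  have hd' : ∀ g, g ∈ N → g ∈ H → g = 1 := fun g h1 h2 => Subgroup.disjoint_def.1 hd h1 h2
  refine ⟨⟨hH1, ?_, ?_⟩, ?_⟩
  · rintro rfl
    exact hN1 (disjoint_top.1 hd)
  · intro g hg
    obtain ⟨n, hn', y, hy, rfl⟩ := hdec g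
    rw [eq_bot_iff]
    intro x hx0
    obtain ⟨hx1, hx2⟩ := Subgroup.mem_inf.1 hx0
    rw [GT.mem_conj_smul] at hx2
    have h1 : n⁻¹ * x * n ∈ H := by
      have := H.mul_mem (H.mul_mem hy hx2) (H.inv_mem hy)
      simpa [mul_assoc] using this
    have h2 : x⁻¹ * (n⁻¹ * x * n) = 1 := by
      refine hd' _ ?_ (H.mul_mem (H.inv_mem hx1) h1)
      have := N.mul_mem (hn.conj_mem _ (N.inv_mem hn') x⁻¹) hn'
      simpa [mul_assoc] using this
    rw [Subgroup.mem_bot]
    by_contra hx
    have hxN : x ∉ N := fun h => hx (hd' x h hx1)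
    have h3 : x * n = n * x := by
      have h4 := inv_mul_eq_one.1 h2
      calc x * n = n * (n⁻¹ * x * n) := by group
        _ = n * x := by rw [← h4]
    have := eq_one_of_commute_of_centralizer_le hN hn' hxN h3
    exact hg (by rw [this, one_mul]; exact hy)
  · ext x
    simp only [frobeniusKernel, Set.mem_ofPred_eq, SetLike.mem_coe]
    constructor
    · rintro (rfl | h)
      · exact N.one_mem
      · by_contra hx
        obtain ⟨n, hn', y, hy, rfl⟩ := hdec x
        have hyN : y ∉ N := fun h' => hx (N.mul_mem hn' h')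
        obtain ⟨m, -, hm⟩ := exists_commutator_eq_of_centralizer_le hN hyN hn'
        refine h m (GT.mem_conj_smul'.2 ⟨y, hy, ?_⟩)
        rw [← hm]; group
    · intro hx
      by_cases hx1 : x = 1
      · exact Or.inl hx1
      · refine Or.inr fun g hg => hx1 ?_
        rw [GT.mem_conj_smul] at hg
        have := hd' _ (by simpa using hn.conj_mem x hx g⁻¹) hg
        calc x = g * (g⁻¹ * x * g) * g⁻¹ := by group
          _ = 1 := by rw [this]; group

end CT
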