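import Cfsg.Agent.Lib.Char.Linear
import Cfsg.Agent.Lib.Char.Induce

/-!
# Exceptional characters of an abelian TI subgroup with dihedral normalizer
-/

set_option autoImplicit false

namespace CT

open Cfsg
open scoped ComplexConjugate

variable {G : Type*} [Group G] [Finite G] {E L : Subgroup G}

theorem res_ind_dihedral [IsMulCommutative E] (hEL : E ≤ L) (hL : Nat.card L = 2 * Nat.card E)
    (hTI : ∀ x ∈ E, x ≠ 1 → ∀ g, g⁻¹ * x * g ∈ E → g ∈ L)
    (hinv : ∀ g ∈ L, g ∉ E → ∀ x ∈ E, g⁻¹ * x * g = x⁻¹) {f : E → ℂ} (hf : f 1 = 0) (x : E) :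
    ind E f x = f x + f x⁻¹ := by
  classical
  have := Fintype.ofFinite G
  rcases eq_or_ne x 1 with rfl | hx
  · rw [Subgroup.coe_one, ind_apply_one, inv_one, hf, mul_zero, add_zero]
  have h1 : ∀ (K : Subgroup G) (c : ℂ), ∑ g : G, (if g ∈ K then c else 0) = Nat.card K * c :=
    fun K c => by
      rw [← Finset.sum_filter, Finset.sum_const, nsmul_eq_mul, Nat.card_eq_fintype_card,
        Fintype.card_subtype]
  rw [ind_def, Finset.sum_congr rfl (g := fun g => (if g ∈ E then f x - f x⁻¹ else 0) +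
    if g ∈ L then f x⁻¹ else 0) fun g _ => ?_, Finset.sum_add_distrib, h1, h1, hL]
  · have : (Nat.card E : ℂ) ≠ 0 := card_cast_ne_zero
    push_cast
    field_simp
    ring
  by_cases h2 : g ∈ E
  · have h3 : g⁻¹ * x * g = x := by
      rw [mul_assoc, show x * g = g * x from congrArg Subtype.val (mul_comm' x ⟨g, h2⟩),
        inv_mul_cancel_left]
    rw [h3, extendByZero_of_mem _ _ x.2, if_pos h2, if_pos (hEL h2), sub_add_cancel]
  by_cases h3 : g ∈ L
  · rw [hinv g h3 h2 x x.2, extendByZero_of_mem _ _ (inv_mem x.2), if_neg h2, if_pos h3, zero_add]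
    rfl
  · rw [extendByZero_of_notMem _ _ (mt (hTI x x.2 (by simpa using hx) g) h3), if_neg h2, if_neg h3,
      add_zero]

theorem exists_dihedral_family [IsMulCommutative E] (hEL : E ≤ L)
    (hL : Nat.card L = 2 * Nat.card E) (hTI : ∀ x ∈ E, x ≠ 1 → ∀ g, g⁻¹ * x * g ∈ E → g ∈ L)
    (hinv : ∀ g ∈ L, g ∉ E → ∀ x ∈ E, g⁻¹ * x * g = x⁻¹) (hodd : Odd (Nat.card E))
    {χ : IrrCharacter G} (h1 : χ ≠ irrOne G) (hχ : ∀ x ∈ E, x ≠ 1 → χ.1 x = 1)
    (hr : cbar χ.1 = χ.1) : ∃ R : Finset (IrrCharacter G), 2 * R.card + 1 = Nat.card E ∧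
      irrOne G ∉ R ∧ ∀ ξ ∈ R, cbar ξ.1 = ξ.1 ∧
        ∀ g, (g = 1 ∨ ∀ y, y⁻¹ * g * y ∉ E) → ξ.1 g = 1 + χ.1 g := by
  classical
  let f : (E →* ℂˣ) → E → ℂ := fun l => (linChar 1).1 - (linChar l).1
  have hf : ∀ l, f l 1 = 0 := fun l => by simp [f, linChar_val]
  have hi : ∀ {l : E →* ℂˣ}, l ≠ 1 → l⁻¹ ≠ 1 := fun {l} hl h => hl ((inv_eq_one (a := l)).1 h)
  have hg : ∀ l, IsGeneralizedCharacter G (ind E (f l)) := fun l =>
    ((irr_isCharacter _).isGen.sub (irr_isCharacter _).isGen).ind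
  have h2 : ∀ l, res E (ind E (f l)) = f l + f l⁻¹ := fun l => funext fun x => by
    rw [res_apply, res_ind_dihedral hEL hL hTI hinv (hf l)]
    simp [f, linChar_val]
  have h3 : ∀ l ≠ 1, ∀ m ≠ 1, ip (f l) (f m) = 1 + if l = m then 1 else 0 := fun l hl m hm => by
    simp only [f, ip_sub_left, ip_sub_right, ip_irr, linChar_injective.eq_iff, if_neg hl,
      if_neg hm.symm]
    simp
  have h4 : ∀ l ≠ 1, ∀ θ : IrrCharacter G, (∀ x ∈ E, x ≠ 1 → θ.1 x = 1) →
      ip (ind E (f l)) θ.1 = 1 ∧ ip θ.1 (ind E (f l)) = 1 := fun l hl θ hθ => by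
    have := Fintype.ofFinite E
    have h4 : ip (ind E (f l)) θ.1 = 1 := by
      rw [ip_ind_left _ _ (irr_isClassFunction θ), show ip (f l) (res E θ.1) =
        ip (f l) (linChar 1).1 from ?_]
      · simp [f, ip_sub_left, ip_irr, linChar_injective.eq_iff, hl]
      rw [ip_def, ip_def]
      refine congrArg _ (Finset.sum_congr rfl fun x _ => ?_)
      rcases eq_or_ne x 1 with rfl | hx
      · rw [hf, zero_mul, zero_mul]
      · rw [res_apply, hθ x x.2 (by simpa using hx)]; rfl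
    exact ⟨h4, by rw [← conj_ip, h4, map_one]⟩
  let ξ : (E →* ℂˣ) → G → ℂ := fun l => (irrOne G).1 + χ.1 - ind E (f l)
  have h5 : ∀ l ≠ 1, ∀ m ≠ 1, ip (ξ l) (ξ m) = (if l = m then 1 else 0) +
      if l = m⁻¹ then 1 else 0 := fun l hl m hm => by
    simp only [ξ, ip_sub_left, ip_sub_right, ip_add_left, ip_add_right, ip_irr, if_neg h1,
      if_neg h1.symm, h4 l hl _ hχ, h4 m hm _ hχ, h4 l hl (irrOne G) fun _ _ _ => rfl,
      h4 m hm (irrOne G) fun _ _ _ => rfl, ip_ind_left _ _ (isClassFunction_ind E _), h2,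
      h3 l hl m hm, h3 l hl m⁻¹ (hi hm), if_true]
    ring
  have h6 : ∀ l : E →* ℂˣ, l ≠ 1 → l ≠ l⁻¹ := fun l hl h => hl (MonoidHom.ext fun x => by
    obtain ⟨n, hn⟩ := hodd
    have h6 : l x ^ 2 = 1 := by rw [sq, ← eq_inv_iff_mul_eq_one]; exact DFunLike.congr_fun h x
    have := congrArg l (pow_card_eq_one' (x := x))
    rwa [map_pow, hn, pow_succ, pow_mul, h6, one_pow, one_mul, map_one] at this)
  have h7 : ∀ l g, (g = 1 ∨ ∀ y, y⁻¹ * g * y ∉ E) → ξ l g = 1 + χ.1 g := fun l g hg => by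
    have : ind E (f l) g = 0 := hg.elim (fun h => by rw [h, ind_apply_one, hf, mul_zero])
      (ind_apply_eq_zero _)
    simp [ξ, this]
  have h8 : ∀ l, ∃ ζ : IrrCharacter G, l ≠ 1 → ξ l = ζ.1 := fun l => by
    by_cases hl : l = 1
    · exact ⟨χ, fun h => absurd hl h⟩
    obtain ⟨ζ, h | h⟩ := (((irr_isCharacter _).add (irr_isCharacter χ)).isGen.sub
      (hg l)).eq_irr_or_neg_of_ip_self (θ := ξ l) (by rw [h5 l hl l hl, if_neg (h6 l hl)]; simp)
    · exact ⟨ζ, fun _ => h⟩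
    have := h7 l 1 (Or.inl rfl)
    rw [h, Pi.neg_apply, irr_apply_one, irr_apply_one] at this
    norm_cast at this
    omega
  choose ζ hζ using h8
  have h9 : ∀ l ≠ 1, ∀ m ≠ 1, ζ l = ζ m ↔ l = m ∨ l = m⁻¹ := fun l hl m hm => by
    have := h5 l hl m hm
    rw [hζ l hl, hζ m hm, ip_irr] at this
    by_cases h : l = m
    · simp [h]
    · by_cases h' : l = m⁻¹ <;> simpa [h, h', (h6 m hm).symm] using this
  refine ⟨(Finset.univ.erase 1).image ζ, ?_, fun h => ?_, fun θ hθ => ?_⟩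
  · rw [← Subgroup.index_bot (G := E), ← commutator_eq_bot (G := E), ← card_units_hom,
      Nat.card_eq_fintype_card, ← Finset.card_univ, ← Finset.card_erase_add_one
      (Finset.mem_univ 1), Finset.card_eq_sum_card_image ζ (Finset.univ.erase 1),
      Finset.sum_const_nat (m := 2), mul_comm]
    intro θ hθ
    obtain ⟨m, hm, rfl⟩ := Finset.mem_image.1 hθ
    have hm' := Finset.ne_of_mem_erase hm
    refine Finset.card_eq_two.2 ⟨m, m⁻¹, h6 m hm', Finset.ext fun l => ?_⟩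
    by_cases hl : l = 1
    · simp [hl, hm'.symm, (hi hm').symm]
    · simp [hl, h9 l hl m hm']
  · obtain ⟨m, hm, h⟩ := Finset.mem_image.1 h
    have hm' := Finset.ne_of_mem_erase hm
    have := ip_irr_self (irrOne G)
    nth_rw 1 [← h] at this
    rw [← hζ m hm', ip_sub_left, ip_add_left, (h4 m hm' (irrOne G) fun _ _ _ => rfl).1,
      ip_irr_ne h1, ip_irr_self] at this
    simp at this
  · obtain ⟨m, hm, rfl⟩ := Finset.mem_image.1 hθ
    have hm' := Finset.ne_of_mem_erase hm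
    refine ⟨?_, hζ m hm' ▸ h7 m⟩
    conv_rhs => rw [(h9 m hm' m⁻¹ (hi hm')).2 (Or.inr (inv_inv m).symm)]
    rw [← hζ m hm', ← hζ _ (hi hm')]
    ext g
    have := congrFun (cbar_ind E (f m)) g
    rw [show cbar (f m) = f m⁻¹ from funext fun x => by simp [f, linChar_val, units_hom_conj]] at this
    simp only [ξ, cbar_apply, Pi.sub_apply, Pi.add_apply, map_sub, map_add, ← this, irrOne_apply,
      map_one]
    rw [← cbar_apply χ.1, hr]

end CT
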