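import Cfsg.Agent.Lib.Char.BrauerApp

/-!
# Frobenius' theorem on the number of solutions of `x ^ n = 1`
-/

set_option autoImplicit false

namespace CT

open Cfsg
open scoped ComplexConjugate

variable {G : Type*} [Group G] [Finite G]

/-- Frobenius: the function `|G| / gcd(|G|, n)` on the solutions of `x ^ n = 1`, zero elsewhere,
is a generalized character. -/
theorem isGen_indicator_pow_eq_one (n : ℕ) [∀ g : G, Decidable (g ^ n = 1)] :
    IsGeneralizedCharacter G
      (fun g => if g ^ n = 1 then ((Nat.card G / Nat.gcd (Nat.card G) n : ℕ) : ℂ) else 0) := by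
  sorry

/-- **Frobenius' theorem** on the solutions of `x ^ n = 1`. -/
theorem gcd_dvd_card_pow_eq_one (G : Type*) [Group G] [Finite G] (n : ℕ) :
    Nat.gcd (Nat.card G) n ∣ Nat.card {x : G // x ^ n = 1} := by
  sorry

theorem dvd_card_pow_eq_one {n : ℕ} (hn : n ∣ Nat.card G) :
    n ∣ Nat.card {x : G // x ^ n = 1} := by
  sorry

end CT
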