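import Cfsg.Agent.Lib.Char.NConj
import Cfsg.Agent.Lib.Char.Extend
import Cfsg.Agent.Lib.Char.CliffordDeg
import Cfsg.Agent.Lib.Char.Burnside
import Cfsg.Agent.Lib.Grp.Hall

/-!
# Fully ramified characters: DeMeyer–Janusz, Gagola's complements, Hall's solvability criterion
-/

set_option autoImplicit false

namespace GT

open Cfsg Subgroup
open scoped Pointwise

universe u

theorem relIndex_dvd_of_le_normalizer {G : Type*} [Group G] [Finite G] {H K L : Subgroup G}
    (h : H ≤ normalizer (K : Set G)) (hH : H ≤ L) (hK : K ≤ L) : H.relIndex K ∣ H.relIndex L := by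
  have h1 := card_sup_mul_card_inf_of_le_normalizer h
  rw [← card_mul_relIndex (le_sup_left : H ≤ H ⊔ K), ← card_inf_mul_relIndex H K, mul_assoc,
    mul_comm (H.relIndex _)] at h1
  rw [← Nat.eq_of_mul_eq_mul_left Nat.card_pos (Nat.eq_of_mul_eq_mul_left Nat.card_pos h1)]
  exact Dvd.intro _ (relIndex_mul_relIndex _ _ _ le_sup_left (sup_le hH hK))

theorem relIndex_eq_relIndex_of_forall_exists_mul_eq {G : Type*} [Group G] {H K L : Subgroup G}
    (hH : H ≤ L) (hK : K ≤ L) (h : ∀ g ∈ L, ∃ k ∈ K, ∃ x ∈ H, k * x = g) :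
    H.relIndex K = H.relIndex L := by
  rw [← relIndex_subgroupOf hK]
  refine relIndex_eq_index_of_forall_exists_mul_eq fun g => ?_
  obtain ⟨k, hk, x, hx, e⟩ := h g g.2
  exact ⟨⟨k, hK hk⟩, hk, ⟨x, hH hx⟩, hx, Subtype.ext e⟩

theorem isCyclic_quotient_of_eq_ker {G C : Type*} [Group G] [Group C] [IsCyclic C] {f : G →* C}
    {N : Subgroup G} [N.Normal] (hf : N = f.ker) : IsCyclic (G ⧸ N) :=
  isCyclic_of_injective (QuotientGroup.lift _ f hf.le) ((QuotientGroup.injective_lift_iff _ _ _).2 hf)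

/-- P. Hall: a group with `p`-complements for all primes `p` is solvable. -/
theorem isSolvable_of_forall_exists_pComplement (G : Type u) [Group G] [Finite G]
    (h : ∀ p : ℕ, p.Prime → ∃ H : Subgroup G, ¬ p ∣ Nat.card H ∧ ∃ k, H.index = p ^ k) :
    Group.IsSolvable G := by
  revert h
  refine induction_on_card (P := fun G _ _ => (∀ p : ℕ, p.Prime → ∃ H : Subgroup G,
    ¬ p ∣ Nat.card H ∧ ∃ k, H.index = p ^ k) → Group.IsSolvable G) ?_ G
  intro G _ _ ih h
  have key : ∀ p : ℕ, p.Prime → p ∣ Nat.card G → ∀ H : Subgroup G, ¬ p ∣ Nat.card H →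
      ∀ k, H.index = p ^ k → Group.IsSolvable H := fun p hp hpG H hH k hk => by
    refine ih H (card_lt_of_ne_top fun e => hH (by rwa [e, card_top])) fun q hq => ?_
    by_cases hqp : q = p
    · exact ⟨⊤, by rwa [card_top, hqp], 0, by simp⟩
    obtain ⟨K, hK, j, hj⟩ := h q hq
    refine ⟨K.subgroupOf H, fun h1 => hK (h1.trans ?_), j, ?_⟩
    · rw [card_subgroupOf]; exact card_dvd_of_le inf_le_left
    · rw [← relIndex, relIndex_eq_index_of_coprime, hj]
      rw [hj, hk]
      exact Nat.coprime_pow_primes _ _ hq hp hqp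
  rcases subsingleton_or_nontrivial G with h1 | h1
  · infer_instance
  obtain ⟨p, hp, hpG⟩ := Nat.exists_prime_and_dvd (Finite.one_lt_card (α := G)).ne'
  obtain ⟨H, hH, k, hk⟩ := h p hp
  have := key p hp hpG H hH k hk
  by_cases hH1 : H = ⊥
  · rw [hH1, index_bot] at hk
    exact CT.isSolvable_of_card_eq_pow_mul_pow hp hp (a := k) (b := 0) (by rw [pow_zero, mul_one, hk])
  have := (nontrivial_iff_ne_bot H).2 hH1
  obtain ⟨s, hs, hO⟩ := exists_pCore_ne_bot (G := H)
  have : Fact s.Prime := ⟨hs⟩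
  by_cases h2 : ∀ r : ℕ, r.Prime → r ∣ Nat.card G → r = p ∨ r = s
  · exact CT.isSolvable_of_two_primes hp hs G h2
  push Not at h2
  obtain ⟨q, hq, hqG, hqp, hqs⟩ := h2
  obtain ⟨K, hK, j, hj⟩ := h q hq
  obtain ⟨S, hS⟩ := exists_sylow_le_of_not_dvd_index (p := s) (H := K) fun h3 =>
    hqs ((Nat.prime_dvd_prime_iff_eq hs hq).1 (hs.dvd_of_dvd_pow (hj ▸ h3))).symm
  have hM : IsPGroup s ((pCore s H).map H.subtype) := (isPGroup_pCore s H).map _
  obtain ⟨g, -, hg⟩ := (isSylowIn_sylow S).exists_le_conj hM le_top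
  replace hg := hg.trans (conj_smul_mono g hS)
  rw [← card_conj_smul g] at hK
  rw [← index_conj_smul g] at hj
  generalize MulAut.conj g • K = K at hK hj hg
  have := key q hq hqG K hK j hj
  have h3 : (pCore s H).map H.subtype ≤ K.normalCore := fun m hm x => by
    obtain ⟨a, ha, b, hb, rfl⟩ := exists_mul_eq_of_coprime_index (H := K) (K := H) (by
      rw [hj, hk]; exact Nat.coprime_pow_primes _ _ hq hp hqp) x
    rw [show a * b * m * (a * b)⁻¹ = a * (b * m * b⁻¹) * a⁻¹ by group]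
    exact mul_mem (mul_mem ha (hg (conj_mem_of_mem_normalizer
      (normalizer_le_normalizer_map_subtype H _ (le_normalizer hb)) hm))) (inv_mem ha)
  have := isSolvable_of_le K.normalCore_le
  have : Group.IsSolvable (G ⧸ K.normalCore) := by
    refine ih _ (card_quotient_lt fun e => hO ?_) fun r hr => ?_
    · exact (map_eq_bot_iff_of_injective _ H.subtype_injective).1 (le_bot_iff.1 (e ▸ h3))
    obtain ⟨L, hL, i, hi⟩ := h r hr
    refine ⟨L.map (QuotientGroup.mk' _), fun h4 => hL (h4.trans (card_map_dvd _ _)), ?_⟩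
    obtain ⟨i', -, hi'⟩ := (Nat.dvd_prime_pow hr).1
      (hi ▸ L.index_map_dvd (QuotientGroup.mk'_surjective K.normalCore))
    exact ⟨i', hi'⟩
  exact Group.isSolvable_of_ker_le_range K.normalCore.subtype (QuotientGroup.mk' K.normalCore)
    (by simp)

end GT

namespace CT

open Cfsg MulAction Subgroup GT

variable {G : Type*} [Group G] [Finite G]

theorem _root_.Cfsg.IsCharacter.eq_mult_smul_of_degree_le {θ : G → ℂ} (hθ : IsCharacter G θ)
    (χ : IrrCharacter G) (h : charDegree θ ≤ mult θ χ.1 * charDegree χ.1) :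
    θ = (mult θ χ.1 : ℂ) • χ.1 := by
  classical
  rw [hθ.degree_eq_sum_mult, ← Finset.add_sum_erase _ _ (Finset.mem_univ χ),
    add_le_iff_nonpos_right, nonpos_iff_eq_zero, Finset.sum_eq_zero_iff] at h
  conv_lhs => rw [hθ.eq_sum_mult]
  refine Finset.sum_eq_single χ (fun ψ _ hψ => ?_) fun h => absurd (Finset.mem_univ χ) h
  rw [(mul_eq_zero.1 (h ψ (Finset.mem_erase.2 ⟨hψ, Finset.mem_univ ψ⟩))).resolve_right
    (irr_degree_pos ψ).ne', Nat.cast_zero, zero_smul]

/-- DeMeyer–Janusz: a fully ramified character restricts homogeneously to the preimage of a Sylow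
subgroup. -/
theorem exists_res_eq_smul_of_fullyRamified {Z P : Subgroup G} [Z.Normal] (hZP : Z ≤ P)
    {χ : IrrCharacter G} {θ : IrrCharacter Z} {e : ℕ} (he : e ^ 2 = Z.index)
    (h : res Z χ.1 = (e : ℂ) • θ.1) {p : ℕ} (hp : p.Prime) (hP : ¬ p ∣ P.index) {k : ℕ}
    (hk : Z.relIndex P = p ^ k) : ∃ (η : IrrCharacter P) (a : ℕ), ¬ p ∣ a ∧
      res P χ.1 = (a : ℂ) • η.1 := by
  obtain ⟨η, hη⟩ := exists_irr_liesUnder P χ
  have hinv := smul_eq_of_res_eq_smul (irr_isClassFunction χ) (ne_zero_of_res_eq_smul h) h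
  obtain ⟨θ', hθ⟩ := exists_irr_liesUnderLe hZP η
  obtain rfl : θ' = θ := eq_of_liesOver_of_res_eq_smul h
    (hη.trans_le hZP (irr_isCharacter χ) (irr_isCharacter θ') hθ)
  have h1 : irrOver P η.1 = {χ} := Finset.eq_singleton_iff_unique_mem.2 ⟨mem_irrOver.2 hη,
    fun ψ hψ => (fullyRamified_iff_unique h).1 he ψ ((mem_irrOver.1 hψ).trans_le hZP
      (irr_isCharacter ψ) (irr_isCharacter θ') hθ)⟩
  have h2 := sum_irrOver_mult_mul_degree (irr_isCharacter η)
  rw [h1, Finset.sum_singleton] at h2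
  set a := mult (res P χ.1) η.1
  have h3 := (liesOver_irrOf_iff hZP).2 hθ
  have h4 := clifford_invariant_degree (forall_smul_irrOf hZP fun t _ => hinv t) h3
  have h5 := (Nat.le_mul_of_pos_right _ (index_pos _)).trans (clifford_mult_sq_mul_le h3)
  set f := mult (res (Z.subgroupOf P) η.1) (irrOf hZP θ').1
  have h6 : charDegree χ.1 = e * charDegree θ'.1 := charDegree_eq_of_apply_one (by
    rw [Nat.cast_mul, ← irr_apply_one]; exact congrFun h 1)
  rw [charDegree_irrOf] at h4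
  rw [h6, h4, ← mul_assoc, ← mul_assoc] at h2
  replace h2 := Nat.eq_of_mul_eq_mul_right (irr_degree_pos θ') h2
  rw [← relIndex_mul_index hZP, hk] at he
  rw [← relIndex, hk] at h5
  have h7 : a ^ 2 * p ^ k = P.index * f ^ 2 := Nat.eq_of_mul_eq_mul_left (index_pos P) (by
    rw [← mul_assoc P.index P.index, ← sq, ← mul_pow, ← h2, mul_pow, he]; ring)
  have hf : 0 < f := (liesOver_iff_mult_pos (irr_isCharacter η) (irr_isCharacter _)).1 h3
  have h8 : f ^ 2 = p ^ k := le_antisymm h5 (Nat.le_of_dvd (pow_pos hf 2)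
    ((Nat.Coprime.pow_left k (hp.coprime_iff_not_dvd.2 hP)).dvd_of_dvd_mul_left
      (h7 ▸ dvd_mul_left _ _)))
  rw [h8] at h7
  replace h7 := Nat.eq_of_mul_eq_mul_right (pow_pos hp.pos k) h7
  refine ⟨η, a, fun h9 => hP (h7 ▸ h9.trans (dvd_pow_self a two_ne_zero)), ?_⟩
  have h9 : e = a * f := Nat.pow_left_injective two_ne_zero (by
    change e ^ 2 = (a * f) ^ 2
    rw [he, mul_pow, h7, h8, mul_comm])
  exact ((irr_isCharacter χ).res P).eq_mult_smul_of_degree_le η
    (by rw [charDegree_res, h6, h4, h9, mul_assoc])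

/-- Gagola's complement construction. -/
theorem exists_index_eq_of_res_eq_smul {K P : Subgroup G} [K.Normal] {p : ℕ} (hp : p.Prime)
    (hF : K ⊔ normalizer ((K ⊓ P : Subgroup G) : Set G) = ⊤) (hP : ¬ p ∣ P.index) {k : ℕ}
    (hk : K.relIndex P = p ^ k) {χ : G → ℂ} (hχ : IsClassFunction G χ) {η : IrrCharacter P} {a : ℂ}
    (ha : a ≠ 0) (h : res P χ = a • η.1) {σ : IrrCharacter ↥(K ⊓ P)}
    (hσ : LiesOverLe inf_le_right η.1 σ.1) (hI : charStab σ.1 ⊓ P ≤ K) :
    ∃ M : Subgroup (G ⧸ K), ¬ p ∣ Nat.card M ∧ ∃ k, M.index = p ^ k := by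
  set I := charStab σ.1 with hIdef
  set N := normalizer ((K ⊓ P : Subgroup G) : Set G) with hN
  have hIN : I ≤ N := charStab_le_normalizer _
  have hPN : P ≤ N := le_normalizer_inf le_normalizer_of_normal le_normalizer
  have h0 : K ⊓ P ≤ I := le_charStab (irr_isClassFunction σ)
  have hres : ∀ τ : IrrCharacter ↥(K ⊓ P),
      ip (res _ χ) τ.1 = a * ip (resLe inf_le_right η.1) τ.1 := fun τ => by
    rw [← resLe_res (inf_le_right : K ⊓ P ≤ P), h, resLe_smul, ip_smul_left]
  have h1 : I.relIndex P = I.relIndex N := by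
    refine relIndex_eq_relIndex_of_forall_exists_mul_eq hIN hPN fun n hn => ?_
    have h1 := isConjCharOf_nconj hn σ
    have h2 := (isConjCharOf_res hχ _ n).ip_eq hn h1
    rw [hres, hres] at h2
    have := normal_subgroupOf_of_le_normalizer hPN
    obtain ⟨t, ht, h3⟩ := hσ.exists_conj (φ := nconj hn σ)
      (fun e => hσ ((mul_left_cancel₀ ha h2).symm.trans e))
    exact ⟨t, ht, t⁻¹ * n, mem_charStab.2 ⟨mul_mem (inv_mem (hPN ht)) hn, h1.mul hn h3.inv⟩,
      mul_inv_cancel_left t n⟩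
  have h2 : I.relIndex P = p ^ k := by
    rw [← inf_relIndex_right, le_antisymm (le_inf hI inf_le_right) (le_inf h0 inf_le_right),
      inf_relIndex_right, hk]
  have h3 : K ⊓ N ≤ I := by
    rw [← relIndex_eq_one]
    have h3 : I.relIndex (K ⊓ N) ∣ p ^ k := h2 ▸ h1 ▸ relIndex_dvd_of_le_normalizer
      (le_normalizer_inf le_normalizer_of_normal (hIN.trans le_normalizer)) hIN inf_le_right
    have h4 : I.relIndex (K ⊓ N) ∣ P.index := by
      refine (relIndex_dvd_of_le_left _ h0).trans ((Dvd.intro _ (relIndex_mul_relIndex _ _ K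
        (le_inf inf_le_left le_normalizer) inf_le_left)).trans ?_)
      rw [inf_relIndex_left, ← relIndex_top_right]
      exact relIndex_dvd_of_le_normalizer le_normalizer_of_normal le_top le_top
    exact Nat.eq_one_of_dvd_coprimes (Nat.Coprime.pow_left k (hp.coprime_iff_not_dvd.2 hP)) h3 h4
  have h4 : (I ⊔ K).index = p ^ k := by
    rw [← relIndex_eq_index_of_forall_exists_mul_eq (K := N) fun g => ?_, ← inf_relIndex_right,
      sup_inf_assoc_of_le_normalizer hIN (Or.inl le_normalizer_of_normal), sup_eq_left.2 h3, ← h1,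
      h2]
    obtain ⟨y, hy, n, hn, e⟩ := (mem_sup_of_le_normalizer_right (H := N) (N := K)
      le_normalizer_of_normal).1 (sup_comm K N ▸ hF ▸ mem_top g)
    exact ⟨y, hy, n, mem_sup_right hn, e⟩
  refine ⟨I.map (QuotientGroup.mk' K), fun h5 => hP ?_, k, by rw [index_map_mk', h4]⟩
  have h6 := relIndex_mul_index (le_sup_right : K ≤ I ⊔ K)
  rw [← relIndex_mul_index (le_sup_right : K ≤ P ⊔ K), relIndex_sup_right, relIndex_sup_right, h4,
    hk, mul_comm, ← card_map_mk'] at h6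
  exact (Nat.eq_of_mul_eq_mul_left (pow_pos hp.pos k) h6 ▸ h5).trans (index_dvd_of_le le_sup_left)

/-- The set-up for a fully ramified character, a normal subgroup `K ≥ Z` and a prime `p`. -/
theorem exists_pComplement_of_fullyRamified {Z K : Subgroup G} [Z.Normal] [K.Normal] (hZK : Z ≤ K)
    {χ : IrrCharacter G} {θ : IrrCharacter Z} {e : ℕ} (he : e ^ 2 = Z.index)
    (h : res Z χ.1 = (e : ℂ) • θ.1) {p : ℕ} [hp : Fact p.Prime] {S : Subgroup G}
    (hS : IsSylowIn p S ⊤)
    (H : ∀ (η : IrrCharacter ↥(Z ⊔ S)) (a : ℕ), ¬ p ∣ a → res _ χ.1 = (a : ℂ) • η.1 →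
      ∀ σ : IrrCharacter ((K ⊓ (Z ⊔ S)).subgroupOf (Z ⊔ S)), LiesOver _ η.1 σ.1 →
        mult (res _ η.1) σ.1 = 1) :
    ∃ M : Subgroup (G ⧸ K), ¬ p ∣ Nat.card M ∧ ∃ k, M.index = p ^ k := by
  have hP : ¬ p ∣ (Z ⊔ S).index := by
    rw [← relIndex_top_right]; exact hS.not_dvd_relIndex_of_le le_sup_right
  obtain ⟨k, hk⟩ := hS.isPGroup.exists_relIndex_eq_pow Z
  rw [← relIndex_sup_left] at hk
  obtain ⟨η, a, ha, h1⟩ := exists_res_eq_smul_of_fullyRamified le_sup_left he h hp.out hP hk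
  have ha0 : (a : ℂ) ≠ 0 := Nat.cast_ne_zero.2 fun e => ha (e ▸ dvd_zero p)
  obtain ⟨σ, hσ⟩ := exists_irr_liesUnderLe (inf_le_right : K ⊓ (Z ⊔ S) ≤ _) η
  obtain ⟨j, -, hj⟩ := (Nat.dvd_prime_pow hp.out).1 (hk ▸ relIndex_dvd_of_le_left (Z ⊔ S) hZK)
  have hPN : Z ⊔ S ≤ normalizer ((K ⊓ (Z ⊔ S) : Subgroup G) : Set G) :=
    le_normalizer_inf le_normalizer_of_normal le_normalizer
  have := normal_subgroupOf_of_le_normalizer hPN
  refine exists_index_eq_of_res_eq_smul hp.out ?_ hP hj (irr_isClassFunction χ) ha0 h1 hσ ?_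
  · rw [eq_top_iff, ← (hS.inf_of_le_normalizer (N := K) le_top le_normalizer_of_normal).frattini_top,
      inf_comm K, sup_inf_assoc_of_le_normalizer hZK (Or.inr le_normalizer_of_normal)]
    exact sup_le_sup_left (le_normalizer_sup le_normalizer_of_normal le_rfl) _
  · have h2 := (liesOver_irrOf_iff _).2 hσ
    have h3 := (vanish_off_iff_mult_sq_eq h2).1 fun g hg => by
      have h3 := congrFun h1 g
      rw [res_apply, (fullyRamified_iff_vanish h).1 he g fun h4 => hg ⟨hZK h4, g.2⟩] at h3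
      exact (mul_eq_zero.1 h3.symm).resolve_left ha0
    rw [H η a ha h1 _ h2, one_pow, eq_comm, relIndex_eq_one] at h3
    exact fun x hx => (h3 (x := ⟨x, hx.2⟩) ((smul_irrOf_eq_iff _).2 (mem_charStab.1 hx.1).2)).1

theorem LiesOver.mult_eq_one_of_isCyclic {N : Subgroup G} [N.Normal] [IsCyclic (G ⧸ N)]
    {χ : IrrCharacter G} {θ : IrrCharacter N} (h : LiesOver N χ.1 θ.1) :
    mult (res N χ.1) θ.1 = 1 := by
  obtain ⟨ψ, h1, -, -, h2⟩ := exists_clifford_correspondent h
  have : IsCyclic (stabilizer G θ ⧸ N.subgroupOf (stabilizer G θ)) :=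
    isCyclic_quotient_of_eq_ker (f := (QuotientGroup.mk' N).comp (stabilizer G θ).subtype)
      (by rw [← MonoidHom.comap_ker, QuotientGroup.ker_mk']; rfl)
  obtain ⟨τ, hτ⟩ := exists_extension_le_of_isCyclic (le_inertia θ) θ
    fun x hx => isConjCharOf_iff_smul.2 hx
  have h3 := degree_eq_of_liesOver_of_commutator_le commutator_le_of_isCyclic_quotient
    ((liesOver_irrOf_iff _).2 h1) ((liesOver_irrOf_iff _).2 (liesOverLe_of_resLe_eq hτ))
  rw [h2, ← charDegree_resLe (le_inertia θ), hτ] at h3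
  exact (Nat.mul_eq_right (irr_degree_pos θ).ne').1 h3.symm

end CT
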