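import Cfsg.Agent.Lib.Char.OkuWaj

/-!
# Gallagher's count of the characters over an invariant character
-/

set_option autoImplicit false
set_option linter.unusedSectionVars false
set_option linter.style.haveILetI false

namespace CT

open Cfsg GT Subgroup MulAction
open scoped ComplexConjugate Pointwise commutatorElement

universe u

theorem isMulCommutative_closure_pair {A : Type*} [Group A] {a c : A} (h : Commute a c) :
    IsMulCommutative (closure ({a, c} : Set A)) :=
  isMulCommutative_closure (by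
    rintro x (rfl | rfl) y (rfl | rfl)
    exacts [rfl, h.eq, h.eq.symm, rfl])

section Central

variable {Q : Type*} [Group Q] [Finite Q] {Z U : Subgroup Q}

theorem irr_apply_one_of_le_center (hZ : Z ≤ Subgroup.center Q) (lam : IrrCharacter Z) :
    charDegree lam.1 = 1 :=
  irr_degree_eq_one_of_comm (fun a b => Subtype.ext (mem_center_iff.1 (hZ b.2) a)) lam

theorem resLe_eq_smul_of_le_center (hZ : Z ≤ Subgroup.center Q) (h : Z ≤ U) {χ : IrrCharacter U}
    {lam : IrrCharacter Z} (h1 : LiesOverLe h χ.1 lam.1) : resLe h χ.1 = χ.1 1 • lam.1 := by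
  haveI := normal_of_le_center' hZ
  have h2 := clifford_invariant_le' (fun t _ => conjSmul_of_le_center hZ t lam) h1
  have h3 : χ.1 1 = _ := congrFun h2 1
  rw [Pi.smul_apply, irr_apply_one lam, irr_apply_one_of_le_center hZ, Nat.cast_one, smul_eq_mul,
    mul_one] at h3
  rw [h2, h3]

theorem liesOverLe_iff_of_le_center (hZ : Z ≤ Subgroup.center Q) (h : Z ≤ U) (χ : IrrCharacter U)
    (lam : IrrCharacter Z) : LiesOverLe h χ.1 lam.1 ↔ resLe h χ.1 = χ.1 1 • lam.1 :=
  ⟨resLe_eq_smul_of_le_center hZ h, fun e => by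
    unfold LiesOverLe
    rw [e, ip_smul_left, ip_irr_self, mul_one]
    exact irr_apply_one_ne_zero χ⟩

open Classical in
theorem sum_conj_mul_central [Fintype Z] (hZ : Z ≤ Subgroup.center Q) (h : Z ≤ U)
    (χ : IrrCharacter U) (lam : IrrCharacter Z) (g : U) :
    ∑ z : Z, conj (lam.1 z) * χ.1 (inclusion h z * g) =
      if LiesOverLe h χ.1 lam.1 then Nat.card Z * χ.1 g else 0 := by
  have h1 : ∀ z : Z, χ.1 (inclusion h z * g) = resLe h χ.1 z / χ.1 1 * χ.1 g := fun z =>
    irr_apply_central_mul χ (mem_center_iff.2 fun x => Subtype.ext (mem_center_iff.1 (hZ z.2) x)) g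
  have h2 : ∑ z : Z, conj (lam.1 z) * χ.1 (inclusion h z * g) =
      Nat.card Z * ip (resLe h χ.1) lam.1 / χ.1 1 * χ.1 g := by
    rw [ip_def, ← mul_assoc, mul_inv_cancel₀ card_cast_ne_zero, one_mul, Finset.sum_div,
      Finset.sum_mul]
    exact Finset.sum_congr rfl fun z _ => by rw [h1]; ring
  rw [h2]
  split_ifs with h3
  · rw [resLe_eq_smul_of_le_center hZ h h3, ip_smul_left, ip_irr_self, mul_one,
      mul_div_cancel_right₀ _ (irr_apply_one_ne_zero χ)]
  · rw [not_not.1 h3]; simp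

open Classical in
theorem card_over_central_eq_sum [Fintype U] (hZ : Z ≤ Subgroup.center Q) (h : Z ≤ U)
    (lam : IrrCharacter Z) :
    (Nat.card {χ : IrrCharacter U // LiesOverLe h χ.1 lam.1} : ℂ) * Nat.card U * Nat.card Z =
      ∑ g : U, ∑ y : U, if hy : ⁅(y : Q), (g : Q)⁆ ∈ Z then conj (lam.1 ⟨_, hy⟩) else 0 := by
  haveI := Fintype.ofFinite Z
  have h1 : ∀ χ : IrrCharacter U, ∑ g : U, χ.1 g * conj (χ.1 g) = Nat.card U := fun χ => by
    have := ip_irr_self χ
    rw [ip_def, inv_mul_eq_one₀ card_cast_ne_zero] at this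
    exact this.symm
  calc _ = ∑ χ : IrrCharacter U, if LiesOverLe h χ.1 lam.1 then
          (Nat.card U : ℂ) * Nat.card Z else 0 := by
        rw [← Finset.sum_filter, Finset.sum_const, nsmul_eq_mul, Nat.card_eq_fintype_card,
          Fintype.card_subtype, mul_assoc]
    _ = ∑ χ : IrrCharacter U, ∑ g : U, ∑ z : Z,
          conj (lam.1 z) * (χ.1 (inclusion h z * g) * conj (χ.1 g)) := by
        refine Finset.sum_congr rfl fun χ _ => ?_
        simp_rw [← mul_assoc, ← Finset.sum_mul, sum_conj_mul_central hZ h]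
        split_ifs
        · simp_rw [mul_assoc]; rw [← Finset.mul_sum, h1, mul_comm]
        · simp
    _ = ∑ g : U, ∑ z : Z, ∑ y : U,
          if y⁻¹ * (inclusion h z * g) * y = g then conj (lam.1 z) else 0 := by
        rw [Finset.sum_comm]
        refine Finset.sum_congr rfl fun g _ => ?_
        rw [Finset.sum_comm]
        refine Finset.sum_congr rfl fun z _ => ?_
        rw [← Finset.mul_sum, sum_irr_mul_conj, ← Finset.sum_filter, Finset.sum_const,
          nsmul_eq_mul, mul_comm]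
        congr 1
        convert (card_filter_conj_eq (inclusion h z * g) g).symm
        rfl
    _ = _ := by
        refine Finset.sum_congr rfl fun g _ => ?_
        rw [Finset.sum_comm]
        refine Finset.sum_congr rfl fun y _ => ?_
        have e : ∀ z : Z, y⁻¹ * (inclusion h z * g) * y = g ↔ (z : Q) = ⁅(y : Q), (g : Q)⁆ :=
          fun z => by
            rw [Subtype.ext_iff, commutatorElement_def]
            push_cast
            rw [coe_inclusion]
            constructor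
            · intro e
              calc (z : Q) = y * ((y : Q)⁻¹ * (z * g) * y) * (y : Q)⁻¹ * (g : Q)⁻¹ := by group
                _ = _ := by rw [e]
            · intro e
              rw [e]; group
        simp_rw [e]
        split_ifs with hy
        · rw [Finset.sum_eq_single ⟨_, hy⟩ (fun z _ hz => if_neg fun e => hz (Subtype.ext e))
            (fun hz => (hz (Finset.mem_univ _)).elim), if_pos rfl]
        · exact Finset.sum_eq_zero fun z _ => if_neg fun e => hy (by rw [← e]; exact z.2)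

open Classical in
theorem sum_commutator_central [Fintype U] (hZ : Z ≤ Subgroup.center Q) (lam : IrrCharacter Z)
    (g : U) :
    (∑ y : U, if hy : ⁅(y : Q), (g : Q)⁆ ∈ Z then conj (lam.1 ⟨_, hy⟩) else 0) =
      ∑ y : U, if ⁅(y : Q), (g : Q)⁆ ∈ Z ∧ ∀ (x : U) (hx : ⁅(x : Q), (g : Q)⁆ ∈ Z),
        lam.1 ⟨_, hx⟩ = 1 then 1 else 0 := by
  obtain ⟨μ, rfl⟩ := (exists_linChar_eq_iff lam).2 (irr_apply_one_of_le_center hZ lam)
  have hm : ∀ x y : Q, ⁅y, (g : Q)⁆ ∈ Z → ⁅x * y, (g : Q)⁆ = ⁅x, (g : Q)⁆ * ⁅y, (g : Q)⁆ := by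
    intro x y hy
    have h1 := mem_center_iff.1 (hZ hy)
    calc ⁅x * y, (g : Q)⁆ = x * ⁅y, (g : Q)⁆ * (x⁻¹ * ⁅x, (g : Q)⁆) := by
          simp only [commutatorElement_def]; group
      _ = _ := by rw [mul_assoc, ← h1]; group
  let C : Subgroup U :=
    { carrier := {y | ⁅(y : Q), (g : Q)⁆ ∈ Z}
      one_mem' := by simp
      mul_mem' := fun {x y} hx hy => by
        change ⁅(x : Q) * y, (g : Q)⁆ ∈ Z
        rw [hm _ _ hy]; exact mul_mem hx hy
      inv_mem' := fun {y} hy => by
        change ⁅(y : Q)⁻¹, (g : Q)⁆ ∈ Z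
        have := hm (y : Q)⁻¹ y hy
        rw [inv_mul_cancel, commutatorElement_one_left, eq_comm, mul_eq_one_iff_eq_inv] at this
        rw [this]; exact inv_mem hy }
  let ω : C →* ℂˣ := MonoidHom.mk' (fun y => μ ⟨_, y.2⟩) fun x y => by
    rw [← map_mul]; congr 1; exact Subtype.ext (hm _ _ y.2)
  by_cases hω : ω = 1
  · have h1 : ∀ (x : U) (hx : ⁅(x : Q), (g : Q)⁆ ∈ Z), (linChar μ).1 ⟨_, hx⟩ = 1 := fun x hx =>
      congrArg Units.val (DFunLike.congr_fun hω (⟨x, hx⟩ : C))
    refine Finset.sum_congr rfl fun y _ => ?_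
    by_cases hy : ⁅(y : Q), (g : Q)⁆ ∈ Z
    · rw [dif_pos hy, if_pos ⟨hy, h1⟩, h1, map_one]
    · rw [dif_neg hy, if_neg fun h => hy h.1]
  · rw [Finset.sum_eq_zero (s := Finset.univ) (f := fun y : U => if ⁅(y : Q), (g : Q)⁆ ∈ Z ∧
      ∀ (x : U) (hx : ⁅(x : Q), (g : Q)⁆ ∈ Z), (linChar μ).1 ⟨_, hx⟩ = 1 then (1 : ℂ) else 0)
      fun y _ => if_neg fun h => hω (MonoidHom.ext fun x => Units.ext (h.2 x.1 x.2))]
    have h1 := sum_apply_units_hom ω
    rw [if_neg hω] at h1
    have h2 := congrArg conj h1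
    rw [map_sum, map_zero] at h2
    rw [← Fintype.sum_subtype_add_sum_subtype (· ∈ C), Finset.sum_eq_zero
      (s := Finset.univ) (f := fun y : {x // ¬ x ∈ C} => _) fun y _ => dif_neg y.2, add_zero, ← h2]
    exact Finset.sum_congr rfl fun y _ => dif_pos y.2

theorem extTo_iff_apply_commutator (hZ : Z ≤ Subgroup.center Q) (lam : IrrCharacter Z) {g y : Q}
    (hy : ⁅y, g⁆ ∈ Z) : ExtTo lam.1 (closure {g, y} ⊔ Z) ↔ lam.1 ⟨_, hy⟩ = 1 := by
  have hg' : g ∈ closure {g, y} ⊔ Z := mem_sup_left (subset_closure (by simp))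
  have hy' : y ∈ closure {g, y} ⊔ Z := mem_sup_left (subset_closure (by simp))
  constructor
  · rintro ⟨h, η, h1, h2⟩
    have h3 : charDegree η = 1 := by
      rw [← charDegree_resLe h, h2, irr_apply_one_of_le_center hZ]
    obtain ⟨f, rfl⟩ := h1.exists_units_hom_of_degree_one h3
    rw [← h2]
    change (f ⁅(⟨y, hy'⟩ : (closure {g, y} ⊔ Z : Subgroup Q)), ⟨g, hg'⟩⁆ : ℂ) = 1
    rw [map_commutatorElement, commutatorElement_eq_one_iff_mul_comm.2 (mul_comm _ _),
      Units.val_one]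
  · intro h1
    obtain ⟨μ, rfl⟩ := (exists_linChar_eq_iff lam).2 (irr_apply_one_of_le_center hZ lam)
    set J := μ.ker.map Z.subtype with hJ
    haveI : J.Normal := normal_of_le_center' ((map_subtype_le _).trans hZ)
    have h2 : ⁅closure {g, y} ⊔ Z, closure {g, y} ⊔ Z⁆ ≤ J := by
      refine (commutator_le_of_sup_central hZ rfl).trans ?_
      rw [← map_mk'_eq_bot_iff, map_commutator, commutator_self_eq_bot_iff,
        MonoidHom.map_closure, Set.image_pair]
      refine isMulCommutative_closure_pair (commutatorElement_eq_one_iff_commute.1 ?_).symm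
      rw [← map_commutatorElement]
      exact (QuotientGroup.eq_one_iff _).2 ⟨⟨_, hy⟩, Units.ext h1, rfl⟩
    obtain ⟨f, hf⟩ := exists_units_hom_extend (Z.subgroupOf (closure {g, y} ⊔ Z))
      (μ.comp (subgroupOfEquivOfLe le_sup_right).toMonoidHom) fun k hk => by
        have h3 := mem_map_of_mem (closure {g, y} ⊔ Z).subtype hk
        rw [map_subtype_commutator] at h3
        obtain ⟨z, hz, e⟩ := h2 h3
        have : subgroupOfEquivOfLe le_sup_right k = z := Subtype.ext e.symm
        exact (congrArg μ this).trans hz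
    exact ⟨le_sup_right, fun v => f v, isCharacter_units_hom f, funext fun z =>
      congrArg Units.val (hf ⟨⟨z, mem_sup_right z.2⟩, z.2⟩)⟩

open Classical in
theorem card_over_central {A : Type*} [Group A] (ρ : Q →* A) {B : Subgroup A}
    (hZ : Z ≤ Subgroup.center Q) (h : Z ≤ U) (hk : Z = U ⊓ ρ.ker) (hB : U.map ρ = B)
    (lam : IrrCharacter Z) :
    Nat.card {χ : IrrCharacter U // LiesOverLe h χ.1 lam.1} * Nat.card B =
      Nat.card {ab : B × B // Commute ab.1 ab.2 ∧ ∀ c : B, Commute ab.1 c →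
        ExtTo lam.1 (U ⊓ (closure {(ab.1 : A), (c : A)}).comap ρ)} := by
  subst hB
  haveI := Fintype.ofFinite U
  set φ := ρ.subgroupMap U with hφ
  have hs : Function.Surjective φ := MonoidHom.subgroupMap_surjective _ _
  haveI : Finite (U.map ρ) := Finite.of_surjective φ hs
  haveI := Fintype.ofFinite (U.map ρ)
  have hker : φ.ker = Z.subgroupOf U := by
    ext x
    rw [MonoidHom.mem_ker, mem_subgroupOf, hk, Subtype.ext_iff]
    exact ⟨fun e => ⟨x.2, e⟩, fun e => e.2⟩
  have hck : Nat.card φ.ker = Nat.card Z := by rw [hker, card_subgroupOf_of_le h]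
  have hU : Nat.card U = Nat.card (U.map ρ) * Nat.card Z := by
    rw [← card_map_mul_card_inf_ker ρ U, inf_comm, ← hk]
  have hcomm : ∀ y g : U, ⁅(y : Q), (g : Q)⁆ ∈ Z ↔ Commute (φ g) (φ y) := fun y g => by
    rw [commute_iff_eq, eq_comm, ← commutatorElement_eq_one_iff_mul_comm, ← map_commutatorElement,
      ← MonoidHom.mem_ker, hker, mem_subgroupOf]
    rfl
  have hV : ∀ y g : U, U ⊓ (closure {(φ g : A), (φ y : A)}).comap ρ = closure {(g : Q), (y : Q)} ⊔ Z :=
    fun y g => by
      have h1 : closure {(g : Q), (y : Q)} ≤ U := (closure_le _).2 (by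
        rintro _ (rfl | rfl); exacts [g.2, y.2])
      change U ⊓ (closure {ρ g, ρ y}).comap ρ = _
      rw [← Set.image_pair, ← MonoidHom.map_closure, comap_map_eq, inf_comm,
        sup_inf_assoc_of_le_normalizer h1 (Or.inl (by rw [normalizer_eq_top]; exact le_top)),
        inf_comm, ← hk]
  set P : U.map ρ → U.map ρ → Prop := fun a b => Commute a b ∧ ∀ c : U.map ρ, Commute a c →
    ExtTo lam.1 (U ⊓ (closure {(a : A), (c : A)}).comap ρ) with hP
  have h1 := card_over_central_eq_sum hZ h lam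
  simp_rw [sum_commutator_central hZ lam] at h1
  have h2 : ∀ g y : U, (⁅(y : Q), (g : Q)⁆ ∈ Z ∧ ∀ (x : U) (hx : ⁅(x : Q), (g : Q)⁆ ∈ Z),
      lam.1 ⟨_, hx⟩ = 1) ↔ P (φ g) (φ y) := fun g y => by
    refine and_congr (hcomm y g) ⟨fun H c hc => ?_, fun H x hx => ?_⟩
    · obtain ⟨x, rfl⟩ := hs c
      rw [hV, extTo_iff_apply_commutator hZ lam ((hcomm x g).2 hc)]
      exact H x _
    · rw [← extTo_iff_apply_commutator hZ lam hx, ← hV]
      exact H _ ((hcomm x g).1 hx)
  simp_rw [h2] at h1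
  rw [sum_comp_of_surjective φ hs fun a => ∑ y : U, if P a (φ y) then (1 : ℂ) else 0] at h1
  have h5 : ∀ a, ∑ y : U, (if P a (φ y) then (1 : ℂ) else 0) = _ := fun a =>
    sum_comp_of_surjective φ hs fun b => if P a b then (1 : ℂ) else 0
  simp_rw [h5] at h1
  rw [← Finset.mul_sum, ← Finset.sum_product', Finset.sum_boole, hck, hU, Finset.univ_product_univ,
    ← Fintype.card_subtype, ← Nat.card_eq_fintype_card] at h1
  have h3 : (Nat.card Z : ℂ) ≠ 0 := card_cast_ne_zero
  have h4 := mul_left_cancel₀ h3 (mul_left_cancel₀ h3 (Eq.trans (by push_cast; ring) h1) :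
    (Nat.card Z : ℂ) * ((Nat.card {χ : IrrCharacter U // LiesOverLe h χ.1 lam.1} *
      Nat.card (U.map ρ) : ℕ) : ℂ) = _)
  exact_mod_cast h4

end Central

section Triple

variable {G : Type u} [Group G] [Finite G] {N U : Subgroup G} [N.Normal] {θ : IrrCharacter N}
  {E : CentralExt N θ.1} {lam : IrrCharacter (E.star N)}

theorem CentralExt.Rel.extTo_iff (hlam : E.Rel θ.1 lam.1) (hU : N ≤ U) :
    ExtTo θ.1 U ↔ ExtTo lam.1 (E.star U) := by
  constructor
  · intro h
    obtain ⟨χ, hχ⟩ := h.exists_irr hU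
    obtain ⟨β, hβ⟩ := E.exists_rel_right hU (liesOverLe_of_resLe_eq hχ)
    have h1 := hβ.resLe hU
    rw [hχ] at h1
    exact extTo_of_irr _ (h1.right_unique le_rfl hlam)
  · intro h
    obtain ⟨β, hβ⟩ := h.exists_irr (E.star_mono hU)
    obtain ⟨χ, hχ⟩ := CentralExt.exists_rel_left hU hlam (liesOverLe_of_resLe_eq hβ)
    have h1 := hχ.resLe hU
    rw [hβ] at h1
    exact extTo_of_irr _ (h1.left_unique hlam)

theorem CentralExt.Rel.card_over_eq (hlam : E.Rel θ.1 lam.1) (hU : N ≤ U) (P : ℕ → Prop) :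
    Nat.card {χ : IrrCharacter U // P (charDegree χ.1) ∧ LiesOverLe hU χ.1 θ.1} =
      Nat.card {β : IrrCharacter (E.star U) // P (charDegree θ.1 * charDegree β.1) ∧
        LiesOverLe (E.star_mono hU) β.1 lam.1} := by
  have key : ∀ (χ : IrrCharacter U) (β : IrrCharacter (E.star U)), E.Rel χ.1 β.1 →
      (P (charDegree χ.1) ∧ LiesOverLe hU χ.1 θ.1 ↔ P (charDegree θ.1 * charDegree β.1) ∧
        LiesOverLe (E.star_mono hU) β.1 lam.1) := fun χ β h1 => by
    rw [h1.degree_eq, h1.liesOverLe_iff le_rfl hU hlam]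
  refine RelBij.card_eq (R := fun χ β => E.Rel χ.1 β.1) ⟨fun χ hχ => ?_, fun β hβ => ?_,
    fun χ β β' _ _ _ h1 h2 => ?_, fun χ χ' β _ _ _ h1 h2 => ?_⟩
  · obtain ⟨β, h1⟩ := E.exists_rel_right hU hχ.2
    exact ⟨β, (key χ β h1).1 hχ, h1⟩
  · obtain ⟨χ, h1⟩ := CentralExt.exists_rel_left hU hlam hβ.2
    exact ⟨χ, (key χ β h1).2 hβ, h1⟩
  · exact Subtype.ext (h1.right_unique hU h2)
  · exact Subtype.ext (h1.left_unique h2)

end Triple

variable {Γ : Type u} [Group Γ] [Finite Γ] {M H T : Subgroup Γ}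

theorem card_over_irrOf (h : M ≤ H) (hT : H ≤ T) (η : IrrCharacter M) (P : ℕ → Prop) :
    Nat.card {χ : IrrCharacter H // P (charDegree χ.1) ∧ LiesOverLe h χ.1 η.1} =
      Nat.card {χ : IrrCharacter (H.subgroupOf T) // P (charDegree χ.1) ∧
        LiesOverLe (subgroupOf_le_subgroupOf h T) χ.1 (irrOf (h.trans hT) η).1} :=
  Nat.card_congr ((irrOf hT).subtypeEquiv fun χ => by
    rw [charDegree_irrOf, liesOverLe_irrOf_iff hT])

/-- Gallagher's count. -/
theorem card_over_invariant {A : Type*} [Group A] (f : Γ →* A) {B : Subgroup A} (h : M ≤ H)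
    (hk : M = H ⊓ f.ker) (hB : H.map f = B) {η : IrrCharacter M} (hη : InvBy H η.1) :
    Nat.card {χ : IrrCharacter H // LiesOverLe h χ.1 η.1} * Nat.card B =
      Nat.card {ab : B × B // Commute ab.1 ab.2 ∧ ∀ c : B, Commute ab.1 c →
        ExtTo η.1 (H ⊓ (closure {(ab.1 : A), (c : A)}).comap f)} := by
  have hn : H ≤ normalizer (M : Set Γ) :=
    hk ▸ le_normalizer_inf le_normalizer (by rw [normalizer_eq_top]; exact le_top)
  haveI := normal_subgroupOf_of_le_normalizer hn
  obtain ⟨E⟩ := nonempty_centralExt (M.subgroupOf H) (irrOf h η) fun x n =>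
    hη x x.2 ⟨n, n.2⟩ ⟨_, (MulAut.conjNormal x n).2⟩ rfl
  obtain ⟨lam, hlam⟩ := E.exists_rel_self
  have hMk : M.subgroupOf H ≤ (f.comp H.subtype).ker := fun x hx => (hk.le hx).2
  set ρ : E.Q →* A := (QuotientGroup.lift _ (f.comp H.subtype) hMk).comp E.ρ with hρ
  have hρσ : ∀ x, ρ (E.σ x) = f (E.π x) := fun x => by
    rw [hρ, MonoidHom.comp_apply, E.ρ_σ]; rfl
  have hMH := subgroupOf_le_subgroupOf h H
  have hstar : ∀ X : Subgroup A, M ≤ X.comap f → E.star ((H ⊓ X.comap f).subgroupOf H) =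
      E.star (H.subgroupOf H) ⊓ X.comap ρ := fun X hX => by
    ext q
    obtain ⟨x, rfl⟩ := E.σ_surjective q
    rw [E.σ_mem_star_iff (subgroupOf_le_subgroupOf (le_inf h hX) H), mem_inf,
      E.σ_mem_star_iff hMH, mem_comap, hρσ]
    rfl
  have hMf : ∀ X : Subgroup A, M ≤ X.comap f := fun X =>
    (hk.le.trans inf_le_right).trans (ker_le_comap _ _)
  have h1 := card_over_central ρ (B := B) E.star_self_le_center (E.star_mono hMH) (by
    rw [← MonoidHom.comap_bot, ← hstar ⊥ (hMf ⊥), MonoidHom.comap_bot, ← hk]) (by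
    rw [← hB]
    ext a
    constructor
    · rintro ⟨q, -, rfl⟩
      obtain ⟨x, rfl⟩ := E.σ_surjective q
      exact ⟨_, (E.π x).2, (hρσ x).symm⟩
    · rintro ⟨g, hg, rfl⟩
      obtain ⟨x, hx⟩ := E.surj ⟨g, hg⟩
      exact ⟨E.σ x, E.σ_mem_star (E.π x).2, by rw [hρσ, hx]⟩) lam
  have h2 := (card_over_irrOf h le_rfl η fun _ => True).trans
    (hlam.card_over_eq hMH fun _ => True)
  simp only [true_and] at h2
  rw [h2, h1]
  refine Nat.card_congr (Equiv.subtypeEquivRight fun ab => and_congr_right fun _ =>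
    forall_congr' fun c => imp_congr_right fun _ => ?_)
  rw [← hstar _ (hMf _), ← hlam.extTo_iff (subgroupOf_le_subgroupOf (le_inf h (hMf _)) H),
    extTo_irrOf_iff h inf_le_left]

end CT
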