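import Cfsg.Agent.Lib.Char.SetSum
import Cfsg.Agent.Lib.Char.Omega
import Cfsg.Agent.Lib.Char.CommSum

/-!
# Gelfand's trick: multiplicity one from an anti-automorphism
-/

set_option autoImplicit false
set_option linter.unusedSectionVars false

namespace CT

open Cfsg
open scoped MonoidAlgebra

variable {G : Type*} [Group G] [Fintype G]

theorem ev_gel (χ : G → ℂ) (g : G) : ev χ (gel ℂ g) = χ g := by
  rw [gel, ev_single, one_mul]

theorem sum_ev_mul_conj (χ : IrrCharacter G) (a b : ℂ[G]) :
    ∑ g : G, ev χ.1 (a * gel ℂ g * b * gel ℂ g⁻¹) =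
      (Nat.card G : ℂ) * ev χ.1 a * ev χ.1 b / χ.1 1 := by
  induction a using MonoidAlgebra.induction_linear with
  | zero => simp
  | add a a' ha ha' => simp only [add_mul, map_add, Finset.sum_add_distrib, ha, ha']; ring
  | single x r =>
    induction b using MonoidAlgebra.induction_linear with
    | zero => simp
    | add b b' hb hb' =>
      simp only [add_mul, mul_add, map_add, Finset.sum_add_distrib, hb, hb']; ring
    | single y s =>
      simp only [gel, MonoidAlgebra.single_mul_single, ev_single, mul_one, ← Finset.mul_sum]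
      have := sum_irr_mul_conjugate χ y x
      simp only [← mul_assoc] at this
      rw [this]; ring

theorem sum_ev_mul_ev (χ : IrrCharacter G) (a b : ℂ[G]) :
    ∑ g : G, ev χ.1 (a * gel ℂ g) * ev χ.1 (gel ℂ g⁻¹ * b) =
      (Nat.card G : ℂ) * ev χ.1 (b * a) / χ.1 1 := by
  classical
  induction a using MonoidAlgebra.induction_linear with
  | zero => simp
  | add a a' ha ha' =>
    simp only [add_mul, mul_add, map_add, Finset.sum_add_distrib, ha, ha']; ring
  | single x r =>
    induction b using MonoidAlgebra.induction_linear with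
    | zero => simp
    | add b b' hb hb' =>
      simp only [add_mul, mul_add, map_add, Finset.sum_add_distrib, hb, hb']; ring
    | single y s =>
      simp only [gel, MonoidAlgebra.single_mul_single, ev_single, mul_one, one_mul]
      have := sum_irr_mul_inv_mul χ χ (x * y)
      rw [if_pos rfl, ← Equiv.sum_comp (Equiv.mulLeft y⁻¹)] at this
      simp only [Equiv.coe_mulLeft, mul_inv_rev, inv_inv, mul_assoc, mul_inv_cancel_left] at this
      rw [(irr_isClassFunction χ).mul_comm y x]
      have h2 : ∑ g, r * χ.1 (x * g) * (s * χ.1 (g⁻¹ * y)) =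
          r * s * ∑ g, χ.1 (x * g) * χ.1 (g⁻¹ * y) := by
        rw [Finset.mul_sum]; exact Finset.sum_congr rfl fun g _ => by ring
      rw [h2, this]; ring

/-- If `e ℂG e` is commutative then `χ(e) ∈ {0, 1, -1}`. -/
theorem ev_pow_three_of_comm (χ : IrrCharacter G) {e : ℂ[G]} (he : e * e = e)
    (hc : ∀ g h : G, (e * gel ℂ g * e) * (e * gel ℂ h * e) = (e * gel ℂ h * e) * (e * gel ℂ g * e)) :
    ev χ.1 e ^ 3 = ev χ.1 e := by
  have hcl := irr_isClassFunction χ
  have hN : (Nat.card G : ℂ) ≠ 0 := card_cast_ne_zero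
  have h1 := irr_apply_one_ne_zero χ
  have he' : ∀ x : ℂ[G], e * (e * x) = e * x := fun x => by rw [← mul_assoc, he]
  have key : ∀ h : G, ev χ.1 (e * gel ℂ h) * ev χ.1 (gel ℂ h⁻¹ * e) =
      ev χ.1 e * ev χ.1 (e * gel ℂ h⁻¹ * e * gel ℂ h⁻¹⁻¹) := fun h => by
    have h2 := sum_ev_mul_conj χ (e * gel ℂ h⁻¹ * e) (e * gel ℂ h * e)
    have h3 := sum_ev_mul_conj χ ((e * gel ℂ h⁻¹ * e) * (e * gel ℂ h * e)) e
    have h4 : ∀ g : G, (e * gel ℂ h⁻¹ * e) * gel ℂ g * (e * gel ℂ h * e) =
        (e * gel ℂ h⁻¹ * e) * (e * gel ℂ h * e) * gel ℂ g * e := fun g => by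
      have h5 := congrArg (e * gel ℂ h⁻¹ * ·) (hc g h)
      simp only [mul_assoc, he'] at h5 ⊢
      exact h5
    simp only [h4, h3] at h2
    have h6 : ev χ.1 (e * gel ℂ h * e) = ev χ.1 (e * gel ℂ h) := by
      rw [ev_mul_comm hcl, he']
    have h7 : ev χ.1 (e * gel ℂ h⁻¹ * e) = ev χ.1 (gel ℂ h⁻¹ * e) := by
      rw [mul_assoc, ev_mul_comm hcl, mul_assoc, he]
    have h8 : ev χ.1 (e * gel ℂ h⁻¹ * e * (e * gel ℂ h * e)) =
        ev χ.1 (e * gel ℂ h⁻¹ * e * gel ℂ h⁻¹⁻¹) := by
      rw [← mul_assoc, ev_mul_comm hcl, inv_inv]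
      simp only [mul_assoc, he']
    rw [h6, h7, h8] at h2
    field_simp at h2
    linear_combination -h2
  have h9 := sum_ev_mul_ev χ e e
  simp only [key] at h9
  rw [← Finset.mul_sum, he] at h9
  have h10 : ∑ h : G, ev χ.1 (e * gel ℂ h⁻¹ * e * gel ℂ h⁻¹⁻¹) =
      (Nat.card G : ℂ) * ev χ.1 e * ev χ.1 e / χ.1 1 :=
    (Equiv.sum_comp (Equiv.inv G) (fun g => ev χ.1 (e * gel ℂ g * e * gel ℂ g⁻¹))).trans
      (sum_ev_mul_conj χ e e)
  rw [h10] at h9
  field_simp at h9
  linear_combination h9

/-- Gelfand's trick. -/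
theorem comm_of_antiAut {R : Type*} [CommRing R] (ι : G → G) (hι : ∀ g h, ι (g * h) = ι h * ι g)
    {e : R[G]} (he' : ∑ g, e.coeff g • gel R (ι g) = e)
    (h : ∀ g, e * gel R (ι g) * e = e * gel R g * e) (g g' : G) :
    (e * gel R g * e) * (e * gel R g' * e) = (e * gel R g' * e) * (e * gel R g * e) := by
  classical
  let L : R[G] →ₗ[R] R[G] :=
    { toFun := fun a => ∑ g, a.coeff g • gel R (ι g)
      map_add' := fun a b => by
        simp only [MonoidAlgebra.coeff_add, Finsupp.add_apply, add_smul, Finset.sum_add_distrib]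
      map_smul' := fun c a => by
        simp only [MonoidAlgebra.coeff_smul_apply, smul_eq_mul, RingHom.id_apply, mul_smul,
          Finset.smul_sum] }
  have hL : ∀ x (r : R), L (MonoidAlgebra.single x r) = MonoidAlgebra.single (ι x) r :=
    fun x r => by
      simp only [L, LinearMap.coe_mk, AddHom.coe_mk, MonoidAlgebra.coeff_single,
        Finsupp.single_apply, ite_smul, zero_smul, Finset.sum_ite_eq, Finset.mem_univ, if_true]
      simp
  have hmul : ∀ a b, L (a * b) = L b * L a := fun a b => by
    induction a using MonoidAlgebra.induction_linear with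
    | zero => simp
    | add a a' ha ha' => simp only [add_mul, mul_add, map_add, ha, ha']
    | single x r =>
      induction b using MonoidAlgebra.induction_linear with
      | zero => simp
      | add b b' hb hb' => simp only [add_mul, mul_add, map_add, hb, hb']
      | single y s => simp only [MonoidAlgebra.single_mul_single, hL, hι, mul_comm r s]
  have hLe : L e = e := he'
  have hfix : ∀ x, L (e * x * e) = e * x * e := fun x => by
    induction x using MonoidAlgebra.induction_linear with
    | zero => simp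
    | add a a' ha ha' => simp only [add_mul, mul_add, map_add, ha, ha']
    | single y r =>
      have h1 : ∀ z : G, (MonoidAlgebra.single z r : R[G]) = r • gel R z := fun z => by simp
      rw [hmul, hmul, hLe, hL, h1, h1, ← mul_assoc]
      simp only [mul_smul_comm, smul_mul_assoc, h]
  have h2 := hfix (gel R g * e * (e * gel R g'))
  have h3 : e * (gel R g * e * (e * gel R g')) * e = (e * gel R g * e) * (e * gel R g' * e) := by
    simp only [mul_assoc]
  rw [h3, hmul, hfix, hfix] at h2
  exact h2.symm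

end CT
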