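import Cfsg.Agent.Lib.Char.Extend
import Cfsg.Agent.Lib.Char.Galois
import Cfsg.Agent.Lib.Char.Prod

/-!
# The Glauberman correspondence for a cyclic operator group (Isaacs 13.5, 13.6)
-/

set_option autoImplicit false

namespace CT

open Cfsg
open scoped ComplexConjugate

section Coset

variable {Γ D : Type*} [Group Γ] [Finite Γ] [Group D] [Finite D]

/-- Characters whose restrictions to `N` are orthogonal are orthogonal on every coset of `N`. -/
theorem sum_coset_mul_conj_eq_zero {N : Subgroup Γ} [N.Normal] [Fintype N] {χ ψ : Γ → ℂ}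
    (hχ : IsCharacter Γ χ) (hψ : IsCharacter Γ ψ) (h : ip (res N χ) (res N ψ) = 0) (g : Γ) :
    ∑ n : N, χ (g * n) * conj (ψ (g * n)) = 0 := by
  classical
  have hΦ : IsCharacter Γ (χ * cbar ψ) := hχ.mul hψ.cbar
  have h1 : ip (res N (χ * cbar ψ)) (fun _ => 1) = 0 := by
    rw [← h, ip_def, ip_def]; simp
  have h2 : ∀ n : N, χ (g * n) * conj (ψ (g * n)) =
      ∑ φ : IrrCharacter Γ, ip (χ * cbar ψ) φ.1 * φ.1 (g * n) := fun n =>
    hΦ.isClassFunction.apply_eq_sum_irr (g * n)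
  rw [Finset.sum_congr rfl fun n _ => h2 n, Finset.sum_comm]
  refine Finset.sum_eq_zero fun φ _ => ?_
  rw [← Finset.mul_sum]
  by_cases h3 : ip (χ * cbar ψ) φ.1 = 0
  · rw [h3, zero_mul]
  by_cases h4 : N ≤ ker φ.1
  · exact absurd h1 (ip_comp_ne_zero_trans N.subtype hΦ isCharacter_one h3
      ((ip_res_one_ne_zero_iff N φ).2 h4))
  · rw [sum_normal_irr_eq_zero N h4, mul_zero]

omit [Finite D] in
/-- If the conjugates of `D s` under `N` that meet `D s` are the conjugates under `D`, the coset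
`N s` is the disjoint union of these conjugates. -/
theorem sum_coset_eq_of_ti {N : Subgroup Γ} [N.Normal] [Fintype N] [Fintype D] (j : D →* Γ)
    (hj : Function.Injective j) (hjN : j.range ≤ N) (s : Γ)
    (hD : ∀ h ∈ N, ∀ d d', h * (j d * s) * h⁻¹ = j d' * s → h ∈ j.range) {F : Γ → ℂ}
    (hF : IsClassFunction Γ F) :
    (Nat.card D : ℂ) * ∑ n : N, F (n * s) = Nat.card N * ∑ d : D, F (j d * s) := by
  classical
  let Q := N ⧸ j.range.subgroupOf N
  have : Fintype Q := Fintype.ofFinite _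
  have hmem : ∀ (h : N) (d : D), (h : Γ) * (j d * s) * (h : Γ)⁻¹ * s⁻¹ ∈ N := fun h d => by
    have h1 : (h : Γ) * (j d * s) * (h : Γ)⁻¹ * s⁻¹ = h * j d * (s * (h : Γ)⁻¹ * s⁻¹) := by group
    rw [h1]
    exact mul_mem (mul_mem h.2 (hjN ⟨d, rfl⟩))
      (Subgroup.Normal.conj_mem inferInstance _ (inv_mem h.2) s)
  let Φ : Q × D → N := fun x => ⟨_, hmem x.1.out x.2⟩
  have hcard : Nat.card Q * Nat.card D = Nat.card N := by
    rw [Subgroup.card_eq_card_quotient_mul_card_subgroup (j.range.subgroupOf N),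
      Nat.card_congr (Subgroup.subgroupOfEquivOfLe hjN).toEquiv,
      Nat.card_congr (MonoidHom.ofInjective hj).toEquiv]
  have hinj : Function.Injective Φ := by
    rintro ⟨q, d⟩ ⟨q', d'⟩ h
    have h1 : (q.out : Γ) * (j d * s) * (q.out : Γ)⁻¹ = q'.out * (j d' * s) * (q'.out : Γ)⁻¹ :=
      mul_right_cancel (congrArg Subtype.val h)
    have h2 : ((q'.out : Γ)⁻¹ * q.out) * (j d * s) * ((q'.out : Γ)⁻¹ * q.out)⁻¹ = j d' * s := by
      calc _ = (q'.out : Γ)⁻¹ * ((q.out : Γ) * (j d * s) * (q.out : Γ)⁻¹) * q'.out := by group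
        _ = _ := by rw [h1]; group
    have h3 := hD _ (mul_mem (inv_mem q'.out.2) q.out.2) _ _ h2
    have h4 : q' = q := by
      rw [← QuotientGroup.out_eq' q, ← QuotientGroup.out_eq' q', QuotientGroup.eq]
      exact h3
    subst h4
    rw [mul_left_inj, mul_right_inj, mul_left_inj] at h1
    rw [hj h1]
  have hbij : Function.Bijective Φ :=
    (Nat.bijective_iff_injective_and_card Φ).2 ⟨hinj, by rw [Nat.card_prod, hcard]⟩
  rw [← hbij.sum_comp fun n : N => F (n * s), Fintype.sum_prod_type]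
  have h5 : ∀ (q : Q) (d : D), F (Φ (q, d) * s) = F (j d * s) := fun q d => by
    simp only [Φ, inv_mul_cancel_right]
    exact hF _ _
  simp only [h5, Finset.sum_const, Finset.card_univ, nsmul_eq_mul, Fintype.card_eq_nat_card]
  rw [← hcard]; push_cast; ring

/-- A slice of a character of a direct product is a character of the second factor. -/
theorem _root_.Cfsg.IsCharacter.ip_prod_left {θ : D × Γ → ℂ} (hθ : IsCharacter (D × Γ) θ)
    (β : IrrCharacter D) : IsCharacter Γ (fun t => ip (fun c => θ (c, t)) β.1) := by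
  classical
  have h : (fun t => ip (fun c => θ (c, t)) β.1) =
      ∑ ψ : IrrCharacter Γ, (mult θ (irrProd β ψ).1 : ℂ) • ψ.1 := by
    funext t
    have h1 : (fun c => θ (c, t)) = ∑ φ : IrrCharacter D,
        (∑ ψ : IrrCharacter Γ, (mult θ (irrProd φ ψ).1 : ℂ) * ψ.1 t) • φ.1 := by
      funext c
      conv_lhs => rw [hθ.eq_sum_mult]
      rw [Finset.sum_apply, Finset.sum_apply,
        sum_irr_prod fun χ => ((mult θ χ.1 : ℂ) • χ.1) (c, t)]
      refine Finset.sum_congr rfl fun φ _ => ?_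
      rw [Pi.smul_apply, smul_eq_mul, Finset.sum_mul]
      refine Finset.sum_congr rfl fun ψ _ => ?_
      simp only [Pi.smul_apply, irrProd_apply, smul_eq_mul]; ring
    rw [h1, ip_sum_irr_left, Finset.sum_apply]
    rfl
  rw [h]
  exact isCharacter_nat_comb _

/-- A character lying homogeneously over an extendible `θ` is a multiple of the extension by a
character of the quotient. -/
theorem exists_eq_comp_mk_mul {N : Subgroup Γ} [N.Normal] {θ : IrrCharacter N} {χ Ψ : Γ → ℂ}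
    (hχ : IsCharacter Γ χ) (hres : res N χ = θ.1) (hΨ : IsCharacter Γ Ψ) {e : ℂ}
    (h : res N Ψ = e • θ.1) :
    ∃ η : Γ ⧸ N → ℂ, IsCharacter (Γ ⧸ N) η ∧ ∀ g : Γ, Ψ g = η g * χ g := by
  classical
  refine ⟨_, isCharacter_nat_comb fun β => mult Ψ ((inflate N β).1 * χ), fun g => ?_⟩
  have h1 := sum_irrOver_of_extension hχ hres fun f => (mult Ψ f : ℂ) * f g
  rw [Finset.sum_apply, Finset.sum_mul, Finset.sum_congr rfl (g := fun β : IrrCharacter (Γ ⧸ N) =>
    (mult Ψ ((inflate N β).1 * χ) : ℂ) * ((inflate N β).1 * χ) g) fun β _ => by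
      simp [mul_assoc], ← h1]
  conv_lhs => rw [hΨ.eq_sum_mult, Finset.sum_apply]
  refine (Finset.sum_subset (Finset.subset_univ _) fun ψ _ hψ => ?_).symm
  by_contra h2
  have h3 : ip Ψ ψ.1 ≠ 0 := by
    rw [hΨ.ip_eq_mult (irr_isCharacter ψ)]; exact left_ne_zero_of_mul h2
  obtain ⟨θ', h4⟩ := exists_irr_liesUnder N ψ
  have h5 : LiesOver N Ψ θ'.1 := ip_comp_ne_zero_trans N.subtype hΨ (irr_isCharacter θ') h3 h4
  rw [eq_of_liesOver_of_res_eq_smul h h5] at h4
  exact hψ (mem_irrOver.2 h4)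

/-- A character of an abelian group whose values off the identity have absolute value one is
`a ρ ± μ` with `ρ` the regular character and `μ` linear. -/
theorem _root_.Cfsg.IsCharacter.exists_eq_of_norm_eq_one [IsMulCommutative Γ] [Nontrivial Γ]
    {η : Γ → ℂ} (hη : IsCharacter Γ η) (h : ∀ x, x ≠ 1 → η x * conj (η x) = 1) :
    ∃ (a : ℕ) (ε : ℤ) (μ : IrrCharacter Γ), (ε = 1 ∨ ε = -1) ∧ (∀ x, x ≠ 1 → η x = ε * μ.1 x) ∧
      (charDegree η : ℤ) = Nat.card Γ * a + ε := by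
  classical
  have := Fintype.ofFinite Γ
  have hn : (2 : ℤ) ≤ Nat.card Γ := by exact_mod_cast Finite.one_lt_card
  set n : ℤ := (Nat.card Γ : ℤ) with hndef
  set m : ℤ := (charDegree η : ℤ) with hm
  obtain ⟨a, t, hat, ht⟩ : ∃ a t : ℤ, m = n * a + t ∧ 2 * |t| ≤ n := by
    refine ⟨(2 * m + n) / (2 * n), m - n * ((2 * m + n) / (2 * n)), by ring, ?_⟩
    have h1 := Int.mul_ediv_add_emod (2 * m + n) (2 * n)
    have h2 := Int.emod_nonneg (2 * m + n) (by omega : 2 * n ≠ 0)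
    have h3 := Int.emod_lt_of_pos (2 * m + n) (by omega : 0 < 2 * n)
    rcases abs_cases (m - n * ((2 * m + n) / (2 * n))) with h4 | h4 <;> rw [h4.1] <;> nlinarith
  let f : Γ → ℂ := η - (a : ℂ) • fun g => if g = 1 then (Nat.card Γ : ℂ) else 0
  have hf : IsGeneralizedCharacter Γ f := hη.isGen.sub (isCharacter_regular.isGen.zsmul a)
  have hf1 : f 1 = t := by
    have h1 : (charDegree η : ℂ) = Nat.card Γ * a + t := by exact_mod_cast congrArg (Int.cast (R := ℂ)) hat
    simp only [f, Pi.sub_apply, Pi.smul_apply, if_true, smul_eq_mul, hη.apply_one, h1]; ring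
  have hfx : ∀ x, x ≠ 1 → f x = η x := fun x hx => by simp [f, hx]
  choose b hb using (isGen_iff_ip_int hf.isClassFunction).1 hf
  have h1 : ∑ μ, b μ = t := by
    have h2 := hf.isClassFunction.apply_eq_sum_irr 1
    simp only [hb, irr_apply_one, irr_degree_eq_one_of_isMulCommutative, Nat.cast_one,
      mul_one, hf1] at h2
    exact_mod_cast h2.symm
  have h2 : ip f f = ((∑ μ, b μ ^ 2 : ℤ) : ℂ) := by
    rw [ip_eq_sum_irr hf.isClassFunction hf.isClassFunction]
    simp [hb, sq]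
  have h3 : n * ∑ μ, b μ ^ 2 = t ^ 2 + n - 1 := by
    have h4 : (Nat.card Γ : ℂ) * ip f f = t ^ 2 + Nat.card Γ - 1 := by
      rw [ip_def, mul_inv_cancel_left₀ card_cast_ne_zero,
        ← Finset.add_sum_erase _ _ (Finset.mem_univ 1), hf1,
        Finset.sum_congr rfl (g := fun _ => (1 : ℂ)) fun x hx => by
          rw [hfx x (Finset.ne_of_mem_erase hx), h x (Finset.ne_of_mem_erase hx)]]
      simp only [map_intCast, Finset.sum_const, Finset.card_erase_of_mem (Finset.mem_univ _),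
        Finset.card_univ, Fintype.card_eq_nat_card, nsmul_eq_mul, mul_one]
      rw [Nat.cast_sub Nat.card_pos]; push_cast; ring
    rw [h2] at h4
    exact_mod_cast h4
  have h4 : |t| ≤ ∑ μ, b μ ^ 2 := by
    rw [← h1]
    refine (Finset.abs_sum_le_sum_abs _ _).trans (Finset.sum_le_sum fun μ _ => ?_)
    rw [← sq_abs]
    have := abs_nonneg (b μ)
    rcases this.eq_or_lt with h5 | h5
    · rw [← h5]; simp
    · nlinarith
  have h5 : ∑ μ, b μ ^ 2 = 1 := by
    have h6 : t ^ 2 = |t| ^ 2 := (sq_abs t).symm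
    have h7 := abs_nonneg t
    set N := ∑ μ, b μ ^ 2
    set u := |t|
    have h8 : u ≤ 1 := by
      by_contra h9
      nlinarith
    have h9 : 0 ≤ N := h7.trans h4
    have h10 : u = 0 ∨ u = 1 := by omega
    rcases h10 with h10 | h10
    · rw [h6, h10] at h3
      have : N < 1 := by nlinarith
      have : N = 0 := by omega
      rw [this] at h3; omega
    · rw [h6, h10] at h3
      have : n * (N - 1) = 0 := by linarith
      rcases mul_eq_zero.1 this with h11 | h11 <;> omega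
  rw [h5, Int.cast_one] at h2
  obtain ⟨μ, hμ⟩ := hf.eq_irr_or_neg_of_ip_self h2
  obtain ⟨ε, hε, hfε⟩ : ∃ ε : ℤ, (ε = 1 ∨ ε = -1) ∧ ∀ x, f x = ε * μ.1 x := by
    rcases hμ with hμ | hμ
    · exact ⟨1, .inl rfl, fun x => by simp [hμ]⟩
    · exact ⟨-1, .inr rfl, fun x => by simp [hμ]⟩
  have h6 : t = ε := by
    have := hfε 1
    rw [hf1, irr_apply_one, irr_degree_eq_one_of_isMulCommutative, Nat.cast_one, mul_one] at this
    exact_mod_cast this
  have h7 : 0 ≤ a := by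
    have : 0 ≤ m := by positivity
    by_contra h8
    rcases hε with rfl | rfl <;> nlinarith
  refine ⟨a.toNat, ε, μ, hε, fun x hx => by rw [← hfx x hx, hfε], ?_⟩
  rw [Int.toNat_of_nonneg h7, hat, h6]

end Coset

section Cyc

variable {Γ C : Type*} [Group Γ] [Finite Γ] [Group C] [Finite C]

/-- For `j(C)` centralizing `S`, the function `t ↦ [ψ(j(·) t), β]` is a character of `S`. -/
theorem isCharacter_slice (j : C →* Γ) (S : Subgroup Γ) (hS : ∀ c, ∀ t : S, Commute (j c) t)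
    {ψ : Γ → ℂ} (hψ : IsCharacter Γ ψ) (β : IrrCharacter C) :
    IsCharacter S (fun t : S => ip (fun c => ψ (j c * t)) β.1) :=
  (hψ.comp (MonoidHom.noncommCoprod j S.subtype hS)).ip_prod_left β

/-- `N` is a Hall subgroup, `s` has order prime to `|N|`, and `j` identifies `C` with `C_N(s)`. -/
structure CycSetup (N : Subgroup Γ) (s : Γ) (j : C →* Γ) : Prop where
  cop_index : (Nat.card N).Coprime N.index
  cop : (Nat.card N).Coprime (orderOf s)
  inj : Function.Injective j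
  mem : ∀ g, g ∈ j.range ↔ g ∈ N ∧ g * s = s * g

omit [Finite Γ] in
theorem index_dvd_orderOf_of_sup_eq_top {N : Subgroup Γ} [N.Normal] {s : Γ}
    (h : N ⊔ Subgroup.zpowers s = ⊤) : N.index ∣ orderOf s := by
  rw [← Subgroup.relIndex_top_right, ← h, Subgroup.relIndex_sup_left, ← Nat.card_zpowers]
  exact Subgroup.relIndex_dvd_card _ _

omit [Finite Γ] in
theorem cycSetup_of_eq {N D : Subgroup Γ} {s : Γ} (hidx : (Nat.card N).Coprime N.index)
    (hcop : (Nat.card N).Coprime (orderOf s)) (hD : D = N ⊓ Subgroup.centralizer {s}) :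
    CycSetup N s D.subtype :=
  ⟨hidx, hcop, D.subtype_injective, fun g => by
    rw [Subgroup.range_subtype, hD, Subgroup.mem_inf, Subgroup.mem_centralizer_singleton_iff]⟩

omit [Finite Γ] in
theorem cycSetup_of_zpowers_eq {N S D : Subgroup Γ} [N.Normal] {s : Γ}
    (hs : Subgroup.zpowers s = S) (htop : N ⊔ S = ⊤) (hcop : (Nat.card N).Coprime (Nat.card S))
    (hD : D = N ⊓ Subgroup.centralizer (S : Set Γ)) : CycSetup N s D.subtype := by
  subst hs
  rw [Nat.card_zpowers] at hcop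
  refine cycSetup_of_eq (hcop.of_dvd_right (index_dvd_orderOf_of_sup_eq_top htop)) hcop ?_
  rw [hD, Subgroup.zpowers_eq_closure, Subgroup.centralizer_closure]

theorem exists_pow_eq_of_zpowers_eq {s t : Γ}
    (h : Subgroup.zpowers t = Subgroup.zpowers s) :
    ∃ k : ℕ, k.Coprime (orderOf s) ∧ t = s ^ k := by
  obtain ⟨k, rfl⟩ := (mem_powers_iff_mem_zpowers (x := s) (y := t)).2
    (h ▸ Subgroup.mem_zpowers t)
  refine ⟨k, ?_, rfl⟩
  have h1 : orderOf (s ^ k) = orderOf s := by rw [← Nat.card_zpowers, ← Nat.card_zpowers]; exact h ▸ rfl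
  rw [orderOf_pow, Nat.div_eq_self] at h1
  exact Nat.Coprime.symm (h1.resolve_left (orderOf_pos s).ne')

namespace CycSetup

variable {N : Subgroup Γ} [N.Normal] {s : Γ} {j : C →* Γ} (h : CycSetup N s j)
include h

omit [Finite Γ] [Finite C] [N.Normal] in
theorem mem_N (c : C) : j c ∈ N := ((h.mem _).1 ⟨c, rfl⟩).1

omit [Finite Γ] [Finite C] [N.Normal] in
theorem commute (c : C) : Commute (j c) s := ((h.mem _).1 ⟨c, rfl⟩).2

omit [Finite Γ] [Finite C] [N.Normal] in
theorem commute_zpowers (c : C) (t : Subgroup.zpowers s) : Commute (j c) t := by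
  obtain ⟨_, k, rfl⟩ := t
  exact (h.commute c).zpow_right k

omit [Finite Γ] [Finite C] [N.Normal] in
theorem mul_pow_eq {m a b : ℕ} (ha : m ≡ a [MOD Nat.card N]) (hb : m ≡ b [MOD orderOf s])
    (c : C) : (j c * s) ^ m = j c ^ a * s ^ b := by
  rw [(h.commute c).mul_pow, pow_eq_pow_of_modEq' (pow_orderOf_eq_one s) hb,
    pow_eq_pow_of_modEq' (n := Nat.card N) _ ha]
  exact congrArg Subtype.val (pow_card_eq_one' (x := (⟨j c, h.mem_N c⟩ : N)))

omit [Finite Γ] [Finite C] [N.Normal] in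
theorem ti (x : Γ) (hx : x ∈ N) (c c' : C) (e : x * (j c * s) * x⁻¹ = j c' * s) :
    x ∈ j.range := by
  obtain ⟨m, h1, h2⟩ := Nat.chineseRemainder h.cop 0 1
  have h3 := congrArg (· ^ m) e
  simp only [conj_pow, h.mul_pow_eq h1 h2, pow_zero, one_mul, pow_one] at h3
  exact (h.mem x).2 ⟨hx, by rw [← mul_inv_eq_iff_eq_mul, h3]⟩

omit [Finite Γ] [Finite C] [N.Normal] in
theorem eq_one_of_isConj {c : C} (e : IsConj s (j c * s)) : c = 1 := by
  obtain ⟨m, h1, h2⟩ := Nat.chineseRemainder h.cop 1 0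
  obtain ⟨x, hx⟩ := isConj_iff.1 e
  have h3 := congrArg (· ^ m) hx
  simp only [conj_pow, h.mul_pow_eq h1 h2, pow_zero, mul_one, pow_one,
    pow_eq_pow_of_modEq' (pow_orderOf_eq_one s) h2, mul_inv_cancel] at h3
  exact h.inj (by rw [← h3, map_one])

omit [Finite C] in
/-- Isaacs 13.5: the values of the canonical extension do not depend on the generator. -/
theorem apply_pow {ψ : IrrCharacter Γ} {θ : IrrCharacter N} (hres : res N ψ.1 = θ.1)
    (hdet : N.index.Coprime (detOrder ψ.1)) {k : ℕ} (hk : k.Coprime (orderOf s)) (c : C) :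
    ψ.1 (j c * s ^ k) = ψ.1 (j c * s) := by
  obtain ⟨m₀, h1, h2⟩ := Nat.chineseRemainder h.cop 1 k
  obtain ⟨m, hm, hm'⟩ := exists_coprime_modEq (m := Nat.card N * orderOf s) (k := m₀)
    (Nat.card_pos (α := Γ)).ne' (Nat.Coprime.mul_right (by rw [Nat.Coprime, h1.gcd_eq]; simp)
      (by rw [Nat.Coprime, h2.gcd_eq]; exact hk))
  replace h1 := (hm'.of_mul_right _).trans h1
  replace h2 := (hm'.of_mul_left _).trans h2
  obtain ⟨σ, -, hσ⟩ := exists_gal_of_coprime_card hm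
  have h3 := hσ ψ.1 (irr_isCharacter ψ).isGen
  have h4 : res N (gal σ ψ.1) = θ.1 := by
    rw [h3, ← hres]
    funext n
    rw [res_apply, res_apply, powFun_apply, pow_eq_pow_of_modEq' (n := Nat.card N) _ h1, pow_one]
    exact congrArg Subtype.val (pow_card_eq_one' (x := n))
  have h5 : gal σ ψ.1 = ψ.1 :=
    extension_eq_of_detChar_eq N θ (h.cop_index.symm.of_dvd_right (irr_degree_dvd_card θ))
      ((irr_isCharacter ψ).gal σ) (irr_isCharacter ψ) h4 hres
      (detChar_eq_of_extension N ((irr_isCharacter ψ).gal σ) (irr_isCharacter ψ)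
        (h4.trans hres.symm) (by rwa [(irr_isCharacter ψ).detOrder_gal]) hdet)
  have h6 := congrFun (h3.symm.trans h5) (j c * s)
  rwa [powFun_apply, h.mul_pow_eq h1 h2, pow_one] at h6

omit [Finite C] in
theorem apply_of_zpowers_eq {ψ : IrrCharacter Γ} {θ : IrrCharacter N} (hres : res N ψ.1 = θ.1)
    (hdet : N.index.Coprime (detOrder ψ.1)) {t : Γ} (ht : Subgroup.zpowers t = Subgroup.zpowers s)
    (c : C) : ψ.1 (j c * t) = ψ.1 (j c * s) := by
  obtain ⟨k, hk, rfl⟩ := exists_pow_eq_of_zpowers_eq ht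
  exact h.apply_pow hres hdet hk c

theorem exists_int_ip {ψ : IrrCharacter Γ} {θ : IrrCharacter N} (hres : res N ψ.1 = θ.1)
    (hdet : N.index.Coprime (detOrder ψ.1)) (β : IrrCharacter C) :
    ∃ n : ℤ, ip (fun c => ψ.1 (j c * s)) β.1 = n := by
  refine ((isCharacter_slice j _ h.commute_zpowers (irr_isCharacter ψ) β).isGen.exists_int_iff
    ⟨s, Subgroup.mem_zpowers s⟩).2 fun k hk => ?_
  rw [Subgroup.orderOf_mk] at hk
  simp only [SubgroupClass.coe_pow, h.apply_pow hres hdet hk]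

omit [Finite Γ] [Finite C] [N.Normal] in
theorem isClassFunction {F : Γ → ℂ} (hF : IsClassFunction Γ F) :
    IsClassFunction C (fun c => F (j c * s)) := fun c d => by
  beta_reduce
  rw [← hF (j c * s) (j d), map_mul, map_mul, map_inv, mul_assoc, mul_assoc, mul_assoc, mul_assoc,
    (h.commute d).inv_left.eq]

theorem card_mul_ip [Fintype N] {F F' : Γ → ℂ} (hF : IsClassFunction Γ F)
    (hF' : IsClassFunction Γ F') :
    Nat.card N * ip (fun c => F (j c * s)) (fun c => F' (j c * s)) =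
      ∑ n : N, F (s * n) * conj (F' (s * n)) := by
  have := Fintype.ofFinite C
  have h1 := sum_coset_eq_of_ti j h.inj (by rintro _ ⟨c, rfl⟩; exact h.mem_N c) s h.ti
    (hF.mul hF'.cbar)
  simp only [Pi.mul_apply, cbar_apply] at h1
  rw [ip_def, mul_left_comm, ← h1, inv_mul_cancel_left₀ card_cast_ne_zero]
  exact Finset.sum_congr rfl fun n _ => by rw [hF.mul_comm, hF'.mul_comm]

theorem ip_self {ψ : Γ → ℂ} (hψ : IsCharacter Γ ψ) {θ : IrrCharacter N} (hres : res N ψ = θ.1) :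
    ip (fun c => ψ (j c * s)) (fun c => ψ (j c * s)) = 1 := by
  have := Fintype.ofFinite N
  refine mul_left_cancel₀ (card_cast_ne_zero (G := N)) ?_
  rw [h.card_mul_ip hψ.isClassFunction hψ.isClassFunction, sum_coset_mul_conj_of_res_irr hψ hres,
    mul_one]

theorem ip_eq_zero {ψ ψ' : Γ → ℂ} (hψ : IsCharacter Γ ψ) (hψ' : IsCharacter Γ ψ')
    (h0 : ip (res N ψ) (res N ψ') = 0) :
    ip (fun c => ψ (j c * s)) (fun c => ψ' (j c * s)) = 0 := by
  have := Fintype.ofFinite N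
  refine mul_left_cancel₀ (card_cast_ne_zero (G := N)) ?_
  rw [h.card_mul_ip hψ.isClassFunction hψ'.isClassFunction, sum_coset_mul_conj_eq_zero hψ hψ' h0,
    mul_zero]

/-- Isaacs 13.6(a). -/
theorem exists_corr {ψ : IrrCharacter Γ} {θ : IrrCharacter N} (hres : res N ψ.1 = θ.1)
    (hdet : N.index.Coprime (detOrder ψ.1)) :
    ∃ (β : IrrCharacter C) (ε : ℤ), (ε = 1 ∨ ε = -1) ∧ ∀ c, ψ.1 (j c * s) = ε * β.1 c := by
  obtain ⟨β, hβ | hβ⟩ := ((isGen_iff_ip_int (h.isClassFunction (irr_isClassFunction ψ))).2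
    (h.exists_int_ip hres hdet)).eq_irr_or_neg_of_ip_self (h.ip_self (irr_isCharacter ψ) hres)
  · exact ⟨β, 1, .inl rfl, fun c => by simpa using congrFun hβ c⟩
  · exact ⟨β, -1, .inr rfl, fun c => by simpa using congrFun hβ c⟩

/-- Isaacs 13.6(b), injectivity. -/
theorem eq_of_corr {ψ ψ' : Γ → ℂ} (hψ : IsCharacter Γ ψ) (hψ' : IsCharacter Γ ψ')
    {θ θ' : IrrCharacter N} (hres : res N ψ = θ.1) (hres' : res N ψ' = θ'.1)
    {β : IrrCharacter C} {ε ε' : ℂ} (hε : ε ≠ 0) (hε' : ε' ≠ 0)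
    (h1 : ∀ c, ψ (j c * s) = ε * β.1 c) (h2 : ∀ c, ψ' (j c * s) = ε' * β.1 c) : θ = θ' := by
  by_contra hne
  have h3 := h.ip_eq_zero hψ hψ' (by rw [hres, hres', ip_irr_ne hne])
  rw [show (fun c => ψ (j c * s)) = ε • β.1 from funext h1,
    show (fun c => ψ' (j c * s)) = ε' • β.1 from funext h2, ip_smul_left, ip_smul_right,
    ip_irr_self] at h3
  simp [hε, hε'] at h3

omit [N.Normal] in
/-- Isaacs 13.6(c). -/
theorem ip_ne_zero_of_corr {ψ : Γ → ℂ} (hψ : IsCharacter Γ ψ) {β : IrrCharacter C} {ε : ℂ}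
    (hε : ε ≠ 0) (h1 : ∀ c, ψ (j c * s) = ε * β.1 c) : ip (fun c => ψ (j c)) β.1 ≠ 0 := by
  intro h0
  have h2 := isCharacter_slice j _ h.commute_zpowers hψ β
  have h3 := congrFun (h2.eq_zero_of_degree_eq_zero (charDegree_eq_of_apply_one
    (by simpa using h0))) ⟨s, Subgroup.mem_zpowers s⟩
  rw [show (fun c => ψ (j c * ((⟨s, Subgroup.mem_zpowers s⟩ : Subgroup.zpowers s) : Γ))) =
    ε • β.1 from funext h1, ip_smul_left, ip_irr_self] at h3
  simp [hε] at h3

/-- Isaacs 13.6(b), surjectivity. -/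
theorem exists_of_irr (hsup : N ⊔ Subgroup.zpowers s = ⊤) (β : IrrCharacter C) :
    ∃ (ψ : IrrCharacter Γ) (θ : IrrCharacter N) (ε : ℤ), res N ψ.1 = θ.1 ∧
      N.index.Coprime (detOrder ψ.1) ∧ (ε = 1 ∨ ε = -1) ∧ ∀ c, ψ.1 (j c * s) = ε * β.1 c := by
  classical
  have := Fintype.ofFinite C
  obtain ⟨ψ₀, h0⟩ : ∃ ψ₀ : IrrCharacter Γ, ip (fun c => ψ₀.1 (j c * s)) β.1 ≠ 0 := by
    by_contra! h0
    let F : Γ → ℂ := fun g => if IsConj s g then 1 else 0
    have hF : IsClassFunction Γ F := fun g x => by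
      have : IsConj g (x * g * x⁻¹) := isConj_iff.2 ⟨x, rfl⟩
      simp only [F]
      exact if_congr ⟨fun h => h.trans this.symm, fun h => h.trans this⟩ rfl rfl
    have h1 : (fun c => F (j c * s)) =
        ∑ ψ : IrrCharacter Γ, ip F ψ.1 • fun c => ψ.1 (j c * s) := by
      funext c
      rw [hF.apply_eq_sum_irr, Finset.sum_apply]; rfl
    have h2 : ip (fun c => F (j c * s)) β.1 = 0 := by
      rw [h1, ip_sum_left]
      exact Finset.sum_eq_zero fun ψ _ => by rw [ip_smul_left, h0, mul_zero]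
    rw [ip_def, Finset.sum_eq_single 1 (fun c _ hc => by
      simp only [F]; rw [if_neg fun e => hc (h.eq_one_of_isConj e), zero_mul]) (by simp)] at h2
    simp only [F, map_one, one_mul, IsConj.refl, if_true] at h2
    simp [irr_apply_one_ne_zero] at h2
  obtain ⟨c₀, hc₀⟩ : ∃ c, ψ₀.1 (j c * s) ≠ 0 := by
    by_contra! h1
    exact h0 (by rw [show (fun c => ψ₀.1 (j c * s)) = 0 from funext h1, ip_zero_left])
  have h1 : N ⊔ Subgroup.zpowers (j c₀ * s) = ⊤ := by
    rw [eq_top_iff, ← hsup, sup_le_iff, Subgroup.zpowers_le]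
    refine ⟨le_sup_left, ?_⟩
    rw [← inv_mul_cancel_left (j c₀) s]
    exact mul_mem (Subgroup.mem_sup_left (inv_mem (h.mem_N c₀)))
      (Subgroup.mem_sup_right (by simp))
  let θ : IrrCharacter N := ⟨_, isIrr_res_of_apply_ne_zero h1 hc₀⟩
  obtain ⟨ψ, ⟨h2, h3⟩, -⟩ := existsUnique_canonical_extension_of_coprime N θ
    (res_conjNormal (irr_isClassFunction ψ₀)) h.cop_index
  obtain ⟨β', ε, hε, h4⟩ := h.exists_corr h2 h3
  obtain ⟨lam, h5, h6⟩ := exists_linear_of_res_eq_res (irr_isCharacter ψ) h2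
    (irr_isCharacter ψ₀) rfl
  have h7 : (fun c => ψ₀.1 (j c * s)) = (lam s * ε) • β'.1 := by
    funext c
    rw [h6, Pi.mul_apply, h4, map_mul, h5 _ (h.mem_N c), one_mul, Pi.smul_apply, smul_eq_mul,
      mul_assoc]
  rw [h7, ip_smul_left] at h0
  obtain rfl := irr_eq_of_ip_ne_zero (right_ne_zero_of_mul h0)
  exact ⟨ψ, θ, ε, h2, h3, hε, h4⟩

omit [N.Normal] in
/-- For `s` a `p`-element, the correspondent is detected by the multiplicities modulo `p`. -/
theorem mult_modEq {p k : ℕ} (hp : p.Prime) (hs : s ^ p ^ k = 1) {ψ : Γ → ℂ}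
    (hψ : IsCharacter Γ ψ) {β : IrrCharacter C} {ε : ℤ} (h1 : ∀ c, ψ (j c * s) = ε * β.1 c)
    (γ : IrrCharacter C) [Decidable (γ = β)] :
    (mult (fun c => ψ (j c)) γ.1 : ℤ) ≡ if γ = β then ε else 0 [ZMOD p] := by
  refine ((isCharacter_slice j _ h.commute_zpowers hψ γ).isGen.int_modEq_of_commute hp
    (x := ⟨s, Subgroup.mem_zpowers s⟩) (y := 1) (Commute.one_right _) (k := k)
    (Subtype.ext hs) ?_ ?_).symm
  · rw [mul_one, show (fun c => ψ (j c * ((⟨s, Subgroup.mem_zpowers s⟩ :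
      Subgroup.zpowers s) : Γ))) = (ε : ℂ) • β.1 from funext h1, ip_smul_left]
    split_ifs with h2
    · rw [h2, ip_irr_self, mul_one]
    · rw [ip_irr_ne (Ne.symm h2), mul_zero, Int.cast_zero]
  · simp only [OneMemClass.coe_one, mul_one, Int.cast_natCast]
    exact (hψ.comp j).ip_eq_mult (irr_isCharacter γ)

end CycSetup

/-- Isaacs 13.32: a cyclic group all of whose non-identity elements have the same fixed points. -/
theorem exists_decomp_of_forall_cycSetup {N S : Subgroup Γ} [N.Normal] {j : C →* Γ}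
    (hS : ∀ x ∈ S, x ≠ 1 → CycSetup N x j) {s : Γ} (hs : Subgroup.zpowers s = S) (hs1 : s ≠ 1)
    {ψ : IrrCharacter Γ} {θ : IrrCharacter N} (hres : res N ψ.1 = θ.1)
    (hdet : N.index.Coprime (detOrder ψ.1)) {β : IrrCharacter C} {ε₀ : ℤ}
    (hε₀ : ε₀ = 1 ∨ ε₀ = -1) (hβ : ∀ c, ψ.1 (j c * s) = ε₀ * β.1 c) :
    ∃ (ε : ℤ) (μ : IrrCharacter S), (ε = 1 ∨ ε = -1) ∧ μ.1 1 = 1 ∧ (∀ x, μ.1 x * μ.1 x = 1) ∧
      (∀ c (x : S), x ≠ 1 → ψ.1 (j c * x) = ε * β.1 c * μ.1 x) ∧
      ∃ ϑ : C → ℂ, IsCharacter C ϑ ∧ ∀ c, ψ.1 (j c) = Nat.card S * ϑ c + ε * β.1 c := by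
  classical
  subst hs
  have := Fintype.ofFinite (Subgroup.zpowers s)
  have hs0 := hS s (Subgroup.mem_zpowers s) hs1
  have : Nontrivial (Subgroup.zpowers s) :=
    ⟨⟨⟨s, Subgroup.mem_zpowers s⟩, 1, fun h => hs1 (congrArg Subtype.val h)⟩⟩
  let η : IrrCharacter C → Subgroup.zpowers s → ℂ := fun γ t => ip (fun c => ψ.1 (j c * t)) γ.1
  have hη : ∀ γ, IsCharacter _ (η γ) := fun γ =>
    isCharacter_slice j _ hs0.commute_zpowers (irr_isCharacter ψ) γ
  have hval : ∀ (x : Subgroup.zpowers s) (β' : IrrCharacter C) (ε : ℤ),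
      (∀ c, ψ.1 (j c * x) = ε * β'.1 c) → ∀ γ, η γ x = if β' = γ then (ε : ℂ) else 0 := by
    intro x β' ε h γ
    simp only [η]
    rw [show (fun c => ψ.1 (j c * x)) = (ε : ℂ) • β'.1 from funext h, ip_smul_left, ip_irr]
    split_ifs <;> simp
  have key : ∀ d : ℕ, s ^ d ≠ 1 → ∃ ε : ℤ, (ε = 1 ∨ ε = -1) ∧
      ∀ c, ψ.1 (j c * s ^ d) = ε * β.1 c := by
    intro d
    induction d using induction_on_primes with
    | zero => simp
    | one => exact fun _ => ⟨ε₀, hε₀, by simpa using hβ⟩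
    | prime_mul p a hp ih =>
      intro hne
      obtain ⟨ε, hε, h1⟩ := ih fun h => hne (by rw [mul_comm, pow_mul, h, one_pow])
      obtain ⟨β', ε', hε', h2⟩ := (hS _ (Subgroup.npow_mem_zpowers s _) hne).exists_corr hres hdet
      obtain rfl : β' = β := by
        by_contra h3
        obtain ⟨γ, hγ⟩ := (hη β).isGen.apply_pow_prime_pow hp 1 (⟨s, Subgroup.mem_zpowers s⟩ ^ a)
        rw [pow_one, ← pow_mul, mul_comm a, hval _ β ε h1, hval _ β' ε' h2, if_pos rfl, if_neg h3,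
          sub_zero] at hγ
        have h4 : (p : ℤ) ∣ ε ^ p := int_dvd_of_isIntegral γ.2 (by push_cast; exact hγ.symm)
        have h5 := (Nat.prime_iff_prime_int.1 hp).dvd_of_dvd_pow h4
        refine (Nat.prime_iff_prime_int.1 hp).not_isUnit (isUnit_of_dvd_unit h5 ?_)
        rcases hε with rfl | rfl <;> simp
      exact ⟨ε', hε', h2⟩
  have key' : ∀ x : Subgroup.zpowers s, x ≠ 1 → ∃ ε : ℤ, (ε = 1 ∨ ε = -1) ∧
      ∀ c, ψ.1 (j c * x) = ε * β.1 c := by
    rintro ⟨x, hx⟩ hx1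
    obtain ⟨d, rfl⟩ := (mem_powers_iff_mem_zpowers (x := s)).2 hx
    exact key d fun h => hx1 (Subtype.ext h)
  obtain ⟨a, ε, μ, hε, h1, h2⟩ := (hη β).exists_eq_of_norm_eq_one fun x hx => by
    obtain ⟨ε, hε, h⟩ := key' x hx
    rw [hval x β ε h, if_pos rfl]
    rcases hε with rfl | rfl <;> simp
  have hμ1 : μ.1 1 = 1 := by rw [irr_apply_one, irr_degree_eq_one_of_isMulCommutative, Nat.cast_one]
  have h3 : ∀ x : Subgroup.zpowers s, x ≠ 1 → ∃ ε' : ℤ, (ε' = 1 ∨ ε' = -1) ∧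
      (ε' : ℂ) = ε * μ.1 x ∧ ∀ c, ψ.1 (j c * x) = ε' * β.1 c := fun x hx => by
    obtain ⟨ε', hε', h⟩ := key' x hx
    exact ⟨ε', hε', by rw [← h1 x hx, hval x β ε' h, if_pos rfl], h⟩
  refine ⟨ε, μ, hε, hμ1, fun x => ?_, fun c x hx => ?_, ?_⟩
  · by_cases hx : x = 1
    · rw [hx, hμ1, mul_one]
    · obtain ⟨ε', hε', h4, -⟩ := h3 x hx
      have h5 : (ε' : ℂ) * ε' = 1 := by rcases hε' with rfl | rfl <;> simp
      have h6 : (ε : ℂ) * ε = 1 := by rcases hε with rfl | rfl <;> simp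
      rw [h4] at h5
      linear_combination h5 - μ.1 x * μ.1 x * h6
  · obtain ⟨ε', -, h4, h5⟩ := h3 x hx
    rw [h5, h4]; ring
  · have h4 : ∀ γ, ∃ b : ℕ, η γ 1 = Nat.card (Subgroup.zpowers s) * b +
        if γ = β then (ε : ℂ) else 0 := by
      intro γ
      split_ifs with hγ
      · refine ⟨a, ?_⟩
        rw [hγ, (hη β).apply_one]
        exact_mod_cast h2
      · obtain ⟨b, hb⟩ := (hη γ).exists_nat_ip isCharacter_one
        refine ⟨b, ?_⟩
        rw [add_zero, ← hb, ip_def, mul_inv_cancel_left₀ card_cast_ne_zero,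
          Finset.sum_eq_single 1 (fun x _ hx => ?_) (by simp), map_one, mul_one]
        obtain ⟨ε', -, h⟩ := key' x hx
        rw [hval x β ε' h, if_neg (Ne.symm hγ), zero_mul]
    choose b hb using h4
    refine ⟨_, isCharacter_nat_comb b, fun c => ?_⟩
    rw [((irr_isClassFunction ψ).comp j).apply_eq_sum_irr c, Finset.sum_apply, Finset.mul_sum]
    have h5 : ∀ γ, ip (fun c => ψ.1 (j c)) γ.1 = η γ 1 := fun γ => by simp [η]
    simp only [h5, hb, add_mul, Finset.sum_add_distrib, ite_mul, zero_mul, Finset.sum_ite_eq',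
      Finset.mem_univ, if_true, Pi.smul_apply, smul_eq_mul, mul_assoc]

end Cyc

end CT
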