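import Cfsg.Agent.Lib.Char.RealExt

/-!
# Groups whose real irreducible characters have degree prime to `p`
-/

set_option autoImplicit false

namespace CT

open Cfsg MulAction
open scoped ComplexConjugate

universe u

variable {G : Type u} [Group G] [Finite G]

/-- All real irreducible characters of `G` have degree prime to `p`. -/
def RealPPrime (p : ℕ) (G : Type*) [Group G] : Prop :=
  ∀ χ : IrrCharacter G, IsReal χ.1 → ¬ p ∣ charDegree χ.1

variable {p : ℕ}

theorem realPPrime_of_im
    (h : ∀ χ : IrrCharacter G, (∀ g : G, (χ.1 g).im = 0) → ¬ p ∣ charDegree χ.1) :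
    RealPPrime p G := fun χ hχ => h χ (isReal_iff_im.1 hχ)

omit [Finite G] in
theorem RealPPrime.of_surjective (h : RealPPrime p G) {H : Type*} [Group H] {f : G →* H}
    (hf : Function.Surjective f) : RealPPrime p H := fun ψ hψ => by
  rw [← charDegree_irrComp f hf]
  exact h _ fun g => hψ (f g)

theorem RealPPrime.of_odd_index (h : RealPPrime p G) {K : Subgroup G} [K.Normal]
    (hK : Odd K.index) : RealPPrime p K := fun θ hθ hd => by
  obtain ⟨χ, h1, h2, -⟩ := existsUnique_isReal_liesOver hK hθ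
  exact h χ h2 (hd.trans (liesOver_of_mult_eq_one h1).degree_dvd)

theorem odd_index_pPrimeResidual_two : Odd (GT.pPrimeResidual 2 G).index :=
  Nat.not_even_iff_odd.1 fun h => GT.not_dvd_index_pPrimeResidual 2 G h.two_dvd

/-- A real element lies in every normal subgroup of odd index and is real there. -/
theorem exists_conj_eq_inv_of_odd_index {K : Subgroup G} [K.Normal] (hodd : Odd K.index) {x : G}
    (hx : IsConj x x⁻¹) : x ∈ K ∧ ∃ t ∈ K, t * x * t⁻¹ = x⁻¹ := by
  obtain ⟨t, ht, htx⟩ := GT.exists_isPElt_two_conj_eq_inv hx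
  have htK : t ∈ K := ht.mem_of_coprime_index K (Nat.coprime_two_left.2 hodd)
  refine ⟨?_, t, htK, htx⟩
  rw [← QuotientGroup.eq_one_iff] at htK ⊢
  have h1 := congrArg (QuotientGroup.mk' K) htx
  simp only [map_mul, map_inv, QuotientGroup.mk'_apply, htK, one_mul, inv_one, mul_one] at h1
  refine (pow_eq_one_iff_of_coprime (Nat.coprime_two_left.2 hodd)).1 ⟨?_, pow_card_eq_one'⟩
  rw [sq]
  exact mul_eq_one_iff_eq_inv.2 h1

/-- A `2`-element acting nontrivially on a subgroup of odd order inverts one of its nonidentity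
elements, after replacing it by a power. -/
theorem exists_isConj_inv_of_not_centralizes {M : Subgroup G} {s : G} (hs : GT.IsPElt 2 s)
    (hsM : s ∈ Subgroup.normalizer (M : Set G)) (h : s ∉ Subgroup.centralizer (M : Set G)) :
    ∃ x ∈ M, x ≠ 1 ∧ IsConj x x⁻¹ := by
  classical
  have h1 : ∃ k, s ^ 2 ^ k ∈ Subgroup.centralizer (M : Set G) := by
    obtain ⟨k, hk⟩ := hs.exists_pow_eq_one
    exact ⟨k, hk ▸ one_mem _⟩
  have h2 := Nat.find_spec h1
  obtain ⟨j, hj⟩ : ∃ j, Nat.find h1 = j + 1 :=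
    Nat.exists_eq_succ_of_ne_zero fun e => h (by simpa [e] using h2)
  have h3 := Nat.find_min h1 (m := j) (by omega)
  rw [hj, pow_succ, pow_mul] at h2
  set u := s ^ 2 ^ j
  rw [Subgroup.mem_centralizer_iff] at h2 h3
  push Not at h3
  obtain ⟨m, hm, hmu⟩ := h3
  refine ⟨m⁻¹ * (u * m * u⁻¹), M.mul_mem (M.inv_mem hm)
    (GT.conj_mem_of_mem_normalizer (Subgroup.pow_mem _ hsM _) hm), fun e => hmu ?_,
    isConj_iff.2 ⟨u, ?_⟩⟩
  · rw [inv_mul_eq_one, eq_mul_inv_iff_mul_eq] at e
    exact e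
  · calc u * (m⁻¹ * (u * m * u⁻¹)) * u⁻¹ = u * m⁻¹ * u⁻¹ * (u ^ 2 * m) * (u ^ 2)⁻¹ := by
          rw [sq]; group
      _ = _ := by rw [← h2 m hm]; group

theorem exists_isReal_not_le_ker {M : Subgroup G} (hM : Odd (Nat.card M)) {s : G}
    (hs : GT.IsPElt 2 s) (hsM : s ∈ Subgroup.normalizer (M : Set G))
    (h : s ∉ Subgroup.centralizer (M : Set G)) :
    ∃ χ : IrrCharacter G, IsReal χ.1 ∧ ¬ M ≤ ker χ.1 := by
  obtain ⟨x, hx, hx1, hr⟩ := exists_isConj_inv_of_not_centralizes hs hsM h
  obtain ⟨χ, h1, h2⟩ := exists_isReal_not_mem_ker hx1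
    (hM.of_dvd_nat (Subgroup.orderOf_dvd_natCard _ hx)) hr
  exact ⟨χ, h1, fun e => h2 (e hx)⟩

variable [hp : Fact p.Prime]

theorem LiesOver.exists_sylow_le_stabilizer {N : Subgroup G} [N.Normal] {χ : IrrCharacter G}
    {θ : IrrCharacter N} (h : LiesOver N χ.1 θ.1) (hχ : ¬ p ∣ charDegree χ.1) :
    ∃ P : Sylow p G, (P : Subgroup G) ≤ stabilizer G θ :=
  GT.exists_sylow_le_of_not_dvd_index fun e => hχ (e.trans h.index_inertia_dvd)

/-- A normal subgroup contained in the derived subgroup of a `p`-subgroup lies in the kernel of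
every irreducible character of `p'`-degree. -/
theorem le_ker_of_le_commutator {P M : Subgroup G} (hP : IsPGroup p P) [M.Normal]
    (hM : M ≤ ⁅P, P⁆) {χ : IrrCharacter G} (hχ : ¬ p ∣ charDegree χ.1) : M ≤ ker χ.1 := by
  have hMP : M ≤ P := hM.trans (Subgroup.commutator_le_self P)
  obtain ⟨μ, hμ, hμ1⟩ : ∃ μ : IrrCharacter P, LiesOver P χ.1 μ.1 ∧ charDegree μ.1 = 1 := by
    by_contra hc
    push Not at hc
    refine hχ ?_
    rw [← charDegree_res P, ((irr_isCharacter χ).res P).degree_eq_sum_mult]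
    refine Finset.dvd_sum fun μ _ => ?_
    rcases (mult (res P χ.1) μ.1).eq_zero_or_pos with h | h
    · simp [h]
    obtain ⟨k, hk⟩ := IsPGroup.iff_card.1 hP
    obtain ⟨j, -, hj⟩ := (Nat.dvd_prime_pow hp.out).1 (hk ▸ irr_degree_dvd_card μ)
    refine Dvd.dvd.mul_left (hj ▸ dvd_pow_self p fun e => ?_) _
    exact hc μ ((liesOver_iff_mult_pos (irr_isCharacter χ) (irr_isCharacter μ)).2 h)
      (by rw [hj, e, pow_zero])
  rw [← liesOver_one_iff]
  refine hμ.trans_le hMP (irr_isCharacter χ) isCharacter_one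
    (liesOverLe_of_resLe_eq (θ := irrOne M) (funext fun m => ?_))
  have h1 := commutator_le_ker_of_degree_one (irr_isCharacter μ) hμ1
    (x := ⟨m, hMP m.2⟩) (by
      have := hM m.2
      rw [← Subgroup.map_subtype_commutator] at this
      obtain ⟨y, hy, e⟩ := this
      rwa [show (⟨m, hMP m.2⟩ : P) = y from Subtype.ext e.symm])
  rw [resLe_apply, (irr_mem_ker_iff μ).1 h1, irr_apply_one, hμ1]
  simp

omit hp in
/-- An invariant linear character kills the commutators. -/
theorem commutator_le_ker_of_le_stabilizer {N P : Subgroup G} [N.Normal] {θ : IrrCharacter N}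
    (h1 : charDegree θ.1 = 1) (hP : P ≤ stabilizer G θ) :
    ⁅N, P⁆ ≤ (ker θ.1).map N.subtype := by
  rw [Subgroup.commutator_le]
  intro n hn x hx
  obtain ⟨f, rfl⟩ := (exists_linChar_eq_iff θ).2 h1
  refine ⟨⟨n, hn⟩ * MulAut.conjNormal x ⟨n, hn⟩⁻¹, ?_, by
    simp [commutatorElement_def, mul_assoc]⟩
  have h2 := conjSmul_eq_iff.1 (hP hx) ⟨n, hn⟩⁻¹
  rw [linChar_apply, linChar_apply, Units.val_inj] at h2
  rw [SetLike.mem_coe, ker_linChar, MonoidHom.mem_ker, map_mul, h2, ← map_mul, mul_inv_cancel,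
    map_one]

theorem sylow_normal_of_realPPrime_aux (G : Type u) [Group G] [Finite G] :
    Group.IsSolvable (GT.pPrimeResidual p G) → RealPPrime p G →
      (∃ k, (GT.pPrimeResidual 2 G).index = p ^ k) → ∀ P : Sylow p G, (P : Subgroup G).Normal := by
  refine GT.induction_on_card (P := fun G _ _ => Group.IsSolvable (GT.pPrimeResidual p G) →
    RealPPrime p G → (∃ k, (GT.pPrimeResidual 2 G).index = p ^ k) →
      ∀ P : Sylow p G, (P : Subgroup G).Normal) ?_ G
  intro G _ _ ih hs hR ⟨k, hk⟩ P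
  by_contra hP
  have hq : ∀ (M : Subgroup G) [M.Normal], M ≠ ⊥ → ((P : Subgroup G) ⊔ M).Normal := by
    intro M _ hM
    have hf := QuotientGroup.mk'_surjective M
    have h1 := ih (G ⧸ M) (GT.card_quotient_lt hM) (by
        rw [← GT.map_pPrimeResidual_of_surjective hf]
        exact GT.isSolvable_map _ _) (hR.of_surjective hf) (by
        rw [← GT.map_pPrimeResidual_of_surjective hf]
        obtain ⟨j, -, hj⟩ := (Nat.dvd_prime_pow hp.out).1 (hk ▸ Subgroup.index_map_dvd _ hf)
        exact ⟨j, hj⟩) ((GT.isSylowIn_sylow P).map_top_of_surjective hf).toSylowTop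
    rw [← GT.comap_map_mk'_eq]
    exact h1.comap _
  obtain ⟨N, hN, -, q, hq', hNq⟩ := GT.exists_isMinNormal_isElementaryAbelian_le
    (N := GT.pPrimeResidual p G) inferInstance (fun e => hP (by
      rw [le_bot_iff.1 ((GT.sylow_le_pPrimeResidual P).trans e.le)]
      infer_instance))
  have := hN.normal
  have hNc := GT.isMulCommutative_iff_forall.1 hNq.1
  have hPN := hq N hN.ne_bot
  have hfr : ∀ Q : Sylow p G, N ⊔ Subgroup.normalizer ((Q : Subgroup G) : Set G) = ⊤ := by
    intro Q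
    have h1 : (Q : Subgroup G) ≤ (P : Subgroup G) ⊔ N :=
      GT.sylow_le_of_not_dvd_index Q (GT.not_dvd_index_of_sylow_le P le_sup_left)
    have h2 : (P : Subgroup G) ⊔ N = (Q : Subgroup G) ⊔ N := by
      obtain ⟨g, rfl⟩ := exists_smul_eq G P Q
      rw [Sylow.coe_subgroup_smul, ← GT.conj_smul_of_normal g ((P : Subgroup G) ⊔ N),
        Subgroup.smul_sup, GT.conj_smul_of_normal g N]
    have h3 := (GT.isSylowIn_sylow_of_le Q h1).frattini_top
    rwa [h2, sup_comm (Q : Subgroup G), sup_assoc, sup_of_le_right Subgroup.le_normalizer] at h3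
  have hnn : ∀ Q : Sylow p G, ¬ N ≤ Subgroup.normalizer ((Q : Subgroup G) : Set G) := by
    intro Q h
    have h1 := hfr Q
    rw [sup_of_le_right h, Subgroup.normalizer_eq_top_iff] at h1
    obtain ⟨g, rfl⟩ := exists_smul_eq G Q P
    exact hP (by rwa [Sylow.coe_subgroup_smul, GT.conj_smul_of_normal])
  have hNN : ∀ M : Subgroup G, M ≤ N → N ≤ Subgroup.normalizer (M : Set G) := fun M hM x hx =>
    GT.mem_normalizer_of_conj_mem fun y hy => by rwa [hNc x hx y (hM hy), mul_inv_cancel_right]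
  have htop : ∀ H : Subgroup G, H ≤ Subgroup.normalizer (N : Set G) := fun H => by
    rw [Subgroup.normalizer_eq_top]; exact le_top
  -- it suffices to find a real character not containing `N` in its kernel
  suffices ∃ χ : IrrCharacter G, IsReal χ.1 ∧ ¬ N ≤ ker χ.1 by
    obtain ⟨χ, h1, h2⟩ := this
    obtain ⟨θ, hθ⟩ := exists_irr_liesUnder N χ
    obtain ⟨Q, hQ⟩ := hθ.exists_sylow_le_stabilizer (hR χ h1)
    have h3 := commutator_le_ker_of_le_stabilizer (irr_degree_eq_one_of_comm
      (fun a b => Subtype.ext (hNc _ a.2 _ b.2)) θ) hQ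
    have h4 : ⁅N, (Q : Subgroup G)⁆ = N := by
      refine (hN.eq_bot_or_eq (GT.normal_of_le_normalizer_of_sup_eq_top (hfr Q)
        (hNN _ (Subgroup.commutator_le_left _ _)) (GT.le_normalizer_commutator (htop _) le_rfl))
        (Subgroup.commutator_le_left _ _)).resolve_left fun e => hnn Q ?_
      exact (Subgroup.commutator_eq_bot_iff_le_centralizer.1 e).trans
        (Subgroup.centralizer_le_normalizer _)
    rw [h4] at h3
    have h5 : θ = irrOne N := by
      rw [← ker_irr_eq_top_iff, eq_top_iff]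
      intro n _
      obtain ⟨y, hy, e⟩ := h3 n.2
      rwa [← show y = n from Subtype.ext e]
    exact h2 ((liesOver_one_iff N χ).1 (by rwa [h5] at hθ))
  set H := Subgroup.normalizer ((P : Subgroup G) : Set G) with hH
  have hd : Disjoint N H := by
    rw [disjoint_iff]
    exact (hN.eq_bot_or_eq (GT.normal_of_le_normalizer_of_sup_eq_top (hfr P)
      (hNN _ inf_le_left) (GT.le_normalizer_inf (htop _) Subgroup.le_normalizer))
      inf_le_left).resolve_right fun e => hnn P (e ▸ inf_le_right)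
  by_cases hq2 : q = 2
  · subst hq2
    obtain ⟨θ, hθ⟩ := exists_irr_not_le_ker (G := N) (K := ⊤) (by
      have := hN.nontrivial
      exact top_ne_bot)
    have h1 : (1 : G) • θ = irrBar θ := by
      refine Subtype.ext (funext fun n => ?_)
      rw [one_smul, irrBar_val, cbar_apply, ← (irr_isCharacter θ).apply_inv,
        inv_eq_of_mul_eq_one_left (a := n) (Subtype.ext ((sq (n : G)).symm.trans (hNq.2 n n.2)))]
    obtain ⟨χ, h2, h3, -⟩ := (irr_isCharacter θ).ind.exists_nu2_eq_one_of_vanish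
      (isReal_ind_of_smul_eq h1) H (fun s hs hs1 => ind_apply_eq_zero_of_normal _ fun h =>
        hs1 (Subgroup.disjoint_def.1 hd h hs)) odd_one (by
        rw [charDegree_ind (irr_isCharacter θ), irr_degree_eq_one_of_comm
          (fun a b => Subtype.ext (hNc _ a.2 _ b.2)) θ, mul_one, one_mul,
          GT.index_eq_card_of_disjoint_of_sup_eq_top hd (hfr P)])
    rw [mult_ind N (irr_isCharacter θ) (irr_isCharacter χ)] at h3
    refine ⟨χ, irr_isReal_of_nu2_eq_one χ h2, fun e => hθ ?_⟩
    obtain ⟨g, hg⟩ := LiesOver.mem_orbit (θ := irrOne N) ((liesOver_one_iff N χ).2 e)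
      ((liesOver_iff_mult_pos (irr_isCharacter χ) (irr_isCharacter θ)).2 h3.pos)
    rw [← hg]
    simp [ker_irrOne]
  have := Fact.mk hq'
  have hodd : Odd (Nat.card N) := by
    obtain ⟨j, hj⟩ := IsPGroup.iff_card.1 (GT.IsElementaryAbelian.isPGroup' hNq)
    exact hj ▸ (hq'.odd_of_ne_two hq2).pow
  by_cases h2 : 2 ∣ Nat.card H
  · obtain ⟨t, ht⟩ := exists_prime_orderOf_dvd_card' 2 h2
    rw [← Subgroup.orderOf_coe] at ht
    refine exists_isReal_not_le_ker hodd ⟨1, ht⟩ (htop ⊤ trivial) fun hc => ?_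
    have h3 : (H ⊓ Subgroup.centralizer (N : Set G)).Normal :=
      GT.normal_of_le_normalizer_of_sup_eq_top (hfr P)
        (GT.le_normalizer_of_le_centralizer (Subgroup.le_centralizer_iff.1 inf_le_right))
        (GT.le_normalizer_inf Subgroup.le_normalizer (GT.le_normalizer_centralizer (htop _)))
    have h4 := hq (H ⊓ Subgroup.centralizer (N : Set G)) fun e => by
      rw [(Subgroup.eq_bot_iff_forall _).1 e t ⟨t.2, hc⟩, orderOf_one] at ht
      omega
    refine hP ?_
    have h5 : ((P : Subgroup G) ⊔ N) ⊓ ((P : Subgroup G) ⊔ H ⊓ Subgroup.centralizer (N : Set G)) =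
        P := by
      refine le_antisymm ((inf_le_inf_left _ (sup_le Subgroup.le_normalizer inf_le_left)).trans ?_)
        (le_inf le_sup_left le_sup_left)
      rw [GT.sup_inf_assoc_of_le_normalizer Subgroup.le_normalizer (Or.inl (htop _)),
        hd.eq_bot, sup_bot_eq]
    rw [← h5]
    infer_instance
  · exfalso
    have h3 : GT.pPrimeResidual 2 G = ⊥ := by
      rw [GT.pPrimeResidual_eq_bot_iff, ← N.card_mul_index,
        GT.index_eq_card_of_disjoint_of_sup_eq_top hd (hfr P), Nat.prime_two.dvd_mul, not_or]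
      exact ⟨hodd.not_two_dvd_nat, h2⟩
    rw [h3, Subgroup.index_bot] at hk
    refine hP ?_
    rw [(GT.isSylowIn_sylow P).eq_self_of_isPGroup (GT.isPGroup_top_iff.2 (IsPGroup.of_card hk))]
    infer_instance

/-- Isaacs–Navarro: normal subgroups `U ≥ O^{2'}(G)` with `U / O^{2'}(G)` a `p`-group have a
normal Sylow `p`-subgroup. -/
theorem RealPPrime.sylow_normal (hR : RealPPrime p G) [Group.IsSolvable (GT.pPrimeResidual p G)]
    {U : Subgroup G} [U.Normal] (hKU : GT.pPrimeResidual 2 G ≤ U) {a : ℕ}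
    (ha : (GT.pPrimeResidual 2 G).relIndex U = p ^ a) (Q : Sylow p U) :
    (Q : Subgroup U).Normal := by
  have hodd : Odd U.index :=
    odd_index_pPrimeResidual_two.of_dvd_nat (Subgroup.index_dvd_of_le hKU)
  refine sylow_normal_of_realPPrime_aux U ?_ (hR.of_odd_index hodd) ⟨a, ?_⟩ Q
  · have := GT.isSolvable_of_le (GT.map_pPrimeResidual_le (p := p) U.subtype)
    exact GT.isSolvable_of_mulEquiv
      ((GT.pPrimeResidual p U).equivMapOfInjective _ U.subtype_injective).symm
  · rw [← ha, ← GT.map_subtype_pPrimeResidual U hodd.not_two_dvd_nat, Subgroup.relIndex,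
      Subgroup.subgroupOf, Subgroup.comap_map_eq_self_of_injective U.subtype_injective]

/-- `P ∩ O^{2'}(G)` is normal. -/
theorem RealPPrime.inf_normal (hR : RealPPrime p G) [Group.IsSolvable (GT.pPrimeResidual p G)]
    (P : Sylow p G) : ((P : Subgroup G) ⊓ GT.pPrimeResidual 2 G).Normal := by
  have h1 := GT.isSylowIn_inf_of_normal P (GT.pPrimeResidual 2 G)
  have h2 := hR.sylow_normal le_rfl (a := 0) (by simp) h1.toSylow
  have := Sylow.characteristic_of_normal _ h2
  rw [← h1.map_toSylow]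
  exact GT.normal_map_subtype_of_characteristic _ _

end CT
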