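import Cfsg.Agent.Lib.Char.Glauberman
import Cfsg.Agent.Lib.Char.RealPPrime
import Cfsg.Agent.Lib.Grp.NormalCompl

/-!
# The Glauberman correspondence relative to a normal `p`-subgroup
-/

set_option autoImplicit false

namespace GT

open Subgroup
open scoped Pointwise

variable {G : Type*} [Group G] [Finite G] {p : ℕ} [hp : Fact p.Prime]

/-- Two points in an orbit of a normal subgroup `K` fixed by a Sylow subgroup `P` are conjugate
under `N_K(P)`. -/
theorem exists_mem_normalizer_smul_eq {Ω : Type*} [MulAction G Ω] (P : Sylow p G)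
    {K : Subgroup G} [K.Normal] {x : Ω} {k : G} (hk : k ∈ K)
    (hx : (P : Subgroup G) ≤ MulAction.stabilizer G x)
    (hy : (P : Subgroup G) ≤ MulAction.stabilizer G (k • x)) :
    ∃ d ∈ K ⊓ normalizer ((P : Subgroup G) : Set G), d • x = k • x := by
  have h1 : IsSylowIn p (P : Subgroup G) (MulAction.stabilizer G x ⊓ (K ⊔ P)) :=
    isSylowIn_sylow_of_le P (le_inf hx le_sup_right)
  have h2 : IsSylowIn p (MulAut.conj k⁻¹ • (P : Subgroup G))
      (MulAction.stabilizer G x ⊓ (K ⊔ P)) := by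
    refine isSylowIn_sylow_of_le (k⁻¹ • P) ?_
    change MulAut.conj k⁻¹ • (P : Subgroup G) ≤ _
    rw [conj_smul_le_iff]
    intro u hu
    refine mem_inf.2 ⟨?_, ?_⟩
    · have := hy hu
      rw [MulAction.mem_stabilizer_iff] at this ⊢
      rw [inv_inv, mul_smul, mul_smul, this, inv_smul_smul]
    · exact mul_mem (mul_mem (inv_mem (mem_sup_left hk)) (mem_sup_right hu))
          (inv_mem (inv_mem (mem_sup_left hk)))
  obtain ⟨g, hg0, hg⟩ := h1.exists_conj_eq h2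
  obtain ⟨hg1, hg2⟩ := mem_inf.1 hg0
  have h3 : k * g ∈ normalizer ((P : Subgroup G) : Set G) := by
    rw [← conj_smul_eq_iff_mem_normalizer, ← conj_smul_conj_smul, hg, conj_smul_conj_inv_smul]
  have h4 : k * g ∈ K ⊔ (P : Subgroup G) := mul_mem (mem_sup_left hk) hg2
  have h5 : (P : Subgroup G) ≤ normalizer (K : Set G) := by
    rw [normalizer_eq_top]; exact le_top
  obtain ⟨d, hd, u, hu, e⟩ := (mem_sup_of_le_normalizer_left h5).1 h4
  refine ⟨d, mem_inf.2 ⟨hd, ?_⟩, ?_⟩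
  · rw [eq_mul_inv_of_mul_eq e]
    exact mul_mem h3 (inv_mem (le_normalizer hu))
  · rw [eq_mul_inv_of_mul_eq e, mul_smul, mul_smul, MulAction.mem_stabilizer_iff.1 (hx (inv_mem hu)),
      MulAction.mem_stabilizer_iff.1 hg1]

theorem relIndex_normalizer_modEq_one (P : Sylow p G) {S : Subgroup G}
    (h : (P : Subgroup G) ≤ S) :
    (normalizer ((P : Subgroup G) : Set G)).relIndex S ≡ 1 [MOD p] := by
  have h1 := card_sylow_modEq_one p S
  rwa [(P.subtype h).card_eq_index_normalizer, ← Sylow.coe_coe, Sylow.coe_subtype,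
    ← subgroupOf_normalizer_eq h] at h1

theorem index_modEq_relIndex_normalizer (P : Sylow p G) {S : Subgroup G}
    (h : (P : Subgroup G) ≤ S) :
    S.index ≡ S.relIndex (normalizer ((P : Subgroup G) : Set G)) [MOD p] := by
  have h1 := relIndex_normalizer_modEq_one P h
  have h2 := relIndex_normalizer_modEq_one P le_top
  rw [relIndex_top_right] at h2
  have h3 := relIndex_mul_index
    (inf_le_left : S ⊓ normalizer ((P : Subgroup G) : Set G) ≤ S)
  rw [← relIndex_mul_index (inf_le_right : S ⊓ normalizer ((P : Subgroup G) : Set G) ≤ _),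
    inf_relIndex_left, inf_relIndex_right] at h3
  calc S.index = 1 * S.index := (one_mul _).symm
    _ ≡ _ [MOD p] := (h1.mul_right _).symm
    _ = _ := h3
    _ ≡ _ * 1 [MOD p] := h2.mul_left _
    _ = _ := mul_one _

end GT

namespace CT

open Cfsg Subgroup MulAction
open scoped ComplexConjugate

section Twist
variable {C : Type*} [Group C] [Finite C] {p : ℕ}

theorem mult_linChar_mul (f : C →* ℂˣ) (θ : C → ℂ) (β : IrrCharacter C) :
    mult ((linChar f).1 * θ) (f • β).1 = mult θ β.1 := by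
  rw [mult, mult, mul_comm, ip_mul_left, lin_smul_val, ← mul_assoc,
    (irr_isCharacter _).cbar_mul_self_of_degree_one (charDegree_linChar f), one_mul]

theorem ModCorr.lin_smul {θ : C → ℂ} {β : IrrCharacter C} (h : ModCorr p θ β) (f : C →* ℂˣ) :
    ModCorr p ((linChar f).1 * θ) (f • β) := by
  obtain ⟨ε, h1, h2, h3⟩ := h
  refine ⟨ε, h1, by rwa [mult_linChar_mul], fun γ hγ => ?_⟩
  rw [← smul_inv_smul f γ, mult_linChar_mul]
  exact h3 _ fun e => hγ (inv_smul_eq_iff.1 e)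

end Twist

variable {Γ : Type*} [Group Γ] [Finite Γ] {p : ℕ} {P K Q T E D U : Subgroup Γ}

theorem exists_eq_smul_irrComp [Q.Normal] (hQ : Q ≤ U) (μ : U →* ℂˣ) {lam : IrrCharacter Q}
    (hμ : resLe hQ (linChar μ).1 = lam.1) (ψ : IrrCharacter U) :
    LiesOverLe hQ ψ.1 lam.1 ↔ ∃ β, μ • irrComp ((QuotientGroup.mk' Q).subgroupMap U)
      (MonoidHom.subgroupMap_surjective _ U) β = ψ := by
  have h1 : ∀ q : Q, lam.1 q = μ ⟨q, hQ q.2⟩ := fun q => (congrFun hμ q).symm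
  constructor
  · intro h
    have h2 := clifford_invariant_le' (fun t ht => isConjCharOf_iff_smul.1 (hμ ▸
      isConjCharOf_resLe_of_mem (irr_isClassFunction _) hQ ht)) h
    obtain ⟨β, hβ⟩ := (exists_irrComp_eq_iff ((QuotientGroup.mk' Q).subgroupMap U)
      (MonoidHom.subgroupMap_surjective _ U) (μ⁻¹ • ψ)).2 (fun x hx => by
        have hx' : (x : Γ) ∈ Q := (QuotientGroup.eq_one_iff _).1 (congrArg Subtype.val hx)
        have h3 := congrFun h2 ⟨x, hx'⟩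
        have h4 := congrFun h2 1
        rw [resLe_apply, Pi.smul_apply, h1] at h3 h4
        rw [irr_mem_ker_iff, lin_smul_apply, lin_smul_apply, h3]
        refine Eq.trans ?_ (congrArg _ h4.symm)
        have h5 : (⟨((1 : Q) : Γ), hQ (1 : Q).2⟩ : U) = 1 := rfl
        rw [h5, map_one, map_one, smul_eq_mul, smul_eq_mul, mul_left_comm, ← Units.val_mul,
          MonoidHom.inv_apply, inv_mul_cancel, mul_left_comm, ← Units.val_mul, one_mul])
    exact ⟨β, by rw [hβ]; exact _root_.smul_inv_smul μ ψ⟩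
  · rintro ⟨β, rfl⟩
    have : resLe hQ (μ • irrComp ((QuotientGroup.mk' Q).subgroupMap U)
        (MonoidHom.subgroupMap_surjective _ U) β).1 = β.1 1 • lam.1 := by
      funext q
      rw [resLe_apply, lin_smul_apply, irrComp_apply, Pi.smul_apply, h1, smul_eq_mul, mul_comm]
      exact congrArg (β.1 · * _) (Subtype.ext ((QuotientGroup.eq_one_iff _).2 q.2))
    rw [LiesOverLe, this, ip_smul_left, ip_irr_self, mul_one]
    exact irr_apply_one_ne_zero β

theorem invBy_smul_irrComp_iff [Q.Normal] (hP : P ≤ normalizer (U : Set Γ)) (μ : U →* ℂˣ)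
    (hμ : InvBy P (linChar μ).1) (β : IrrCharacter (U.map (QuotientGroup.mk' Q))) :
    InvBy P (μ • irrComp ((QuotientGroup.mk' Q).subgroupMap U)
      (MonoidHom.subgroupMap_surjective _ U) β).1 ↔
      InvBy (P.map (QuotientGroup.mk' Q)) β.1 := by
  constructor
  · rintro h _ ⟨s, hs, rfl⟩ g g' e
    obtain ⟨g, rfl⟩ := MonoidHom.subgroupMap_surjective _ U g
    have h1 := h s hs g ⟨_, GT.conj_mem_of_mem_normalizer (hP hs) g.2⟩ rfl
    have h2 := hμ s hs g ⟨_, GT.conj_mem_of_mem_normalizer (hP hs) g.2⟩ rfl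
    rw [linChar_apply, linChar_apply] at h2
    rw [lin_smul_apply, lin_smul_apply, h2, mul_right_inj' (Units.ne_zero _), irrComp_apply,
      irrComp_apply] at h1
    rw [← h1]
    exact congrArg β.1 (Subtype.ext e)
  · intro h s hs g g' e
    have h2 := hμ s hs g g' e
    rw [linChar_apply, linChar_apply] at h2
    rw [lin_smul_apply, lin_smul_apply, h2, irrComp_apply, irrComp_apply]
    exact congrArg (_ * ·) (h _ ⟨s, hs, rfl⟩ _ _ (congrArg (QuotientGroup.mk' Q) e))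

/-- The Glauberman correspondence over a character `lam` of `Q`. -/
structure GlaubOver (p : ℕ) (P : Subgroup Γ) {Q E T : Subgroup Γ} (hQ : Q ≤ E) (h : E ≤ T)
    (lam : Q → ℂ) : Prop where
  ex : ∀ ψ : IrrCharacter T, LiesOverLe (hQ.trans h) ψ.1 lam → InvBy P ψ.1 →
    ∃ φ, ModCorr p (resLe h ψ.1) φ
  inj : ∀ ψ ψ' : IrrCharacter T, LiesOverLe (hQ.trans h) ψ.1 lam →
    LiesOverLe (hQ.trans h) ψ'.1 lam → InvBy P ψ.1 → InvBy P ψ'.1 →
    ∀ φ, ModCorr p (resLe h ψ.1) φ → ModCorr p (resLe h ψ'.1) φ → ψ = ψ'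
  surj : ∀ φ : IrrCharacter E, LiesOverLe hQ φ.1 lam → ∃ ψ : IrrCharacter T,
    LiesOverLe (hQ.trans h) ψ.1 lam ∧ InvBy P ψ.1 ∧ ModCorr p (resLe h ψ.1) φ

theorem exists_invBy_linear_extension [Q.Normal] (hp : p.Prime) (hQp : IsPGroup p Q) (hQ : Q ≤ T)
    (hPT : P ≤ normalizer (T : Set Γ)) (hcop : ¬ p ∣ Q.relIndex T) {lam : IrrCharacter Q}
    (h1 : charDegree lam.1 = 1) (hT : T ≤ stabilizer Γ lam) (hP : P ≤ stabilizer Γ lam) :
    ∃ μ : T →* ℂˣ, resLe hQ (linChar μ).1 = lam.1 ∧ InvBy P (linChar μ).1 := by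
  have := Fact.mk hp
  obtain ⟨f, rfl⟩ := (exists_linChar_eq_iff lam).2 h1
  obtain ⟨k, hk⟩ := IsPGroup.iff_card.1 hQp
  obtain ⟨μ, h2, h3⟩ := exists_extension_linear_of_coprime (Q.subgroupOf T)
    ((Units.coeHom ℂ).comp (f.comp (subgroupOfEquivOfLe hQ).toMonoidHom)) (fun x n =>
      mem_inertia_iff.1 (hT x.2) _ _ rfl) (o := p ^ k) (fun n => by
        rw [← map_pow, ← hk, ← GT.card_subgroupOf_of_le hQ, pow_card_eq_one', map_one])
      (Nat.Coprime.pow_right _ ((Nat.Prime.coprime_iff_not_dvd hp).2 hcop).symm)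
  have h4 : ∀ (q : Γ) (hq : q ∈ Q), μ ⟨q, hQ hq⟩ = f ⟨q, hq⟩ := fun q hq => h2 ⟨⟨q, hQ hq⟩, hq⟩
  refine ⟨μ.toHomUnits, funext fun q => h4 q q.2, fun s hs g g' e => ?_⟩
  rw [linChar_apply, linChar_apply, Units.val_inj, ← mul_inv_eq_one]
  let ν : T →* ℂˣ := μ.toHomUnits.comp (T.normalizerMonoidHom ⟨s, hPT hs⟩).toMonoidHom /
    μ.toHomUnits
  have h5 : ν g = μ.toHomUnits g' * (μ.toHomUnits g)⁻¹ := by
    rw [show g' = T.normalizerMonoidHom ⟨s, hPT hs⟩ g from Subtype.ext e]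
    exact div_eq_mul_inv _ _
  rw [← h5]
  refine (pow_eq_one_iff_of_coprime (Nat.Coprime.pow_right k
    ((Nat.Prime.coprime_iff_not_dvd hp).2 hcop).symm)).1 ⟨?_, ?_⟩
  · refine monoidHom_pow_index_eq_one (Q.subgroupOf T) ν (fun n hn => ?_) g
    have hn' : (n : Γ) ∈ Q := hn
    have h6 := mem_inertia_iff.1 (hP hs) ⟨n, hn'⟩ ⟨_, ‹Q.Normal›.conj_mem (n : Γ) hn' s⟩ rfl
    rw [linChar_apply, linChar_apply, ← h4, ← h4] at h6
    exact div_eq_one.2 (Units.ext h6)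
  · rw [h5, mul_pow, inv_pow, mul_inv_eq_one]
    exact Units.ext (by simp [h3])

theorem glaubOver [Q.Normal] (hp : p.Prime) (hP : IsPGroup p P) (hQP : Q ≤ P) (hQ : Q ≤ E)
    (h : E ≤ T) (hPT : P ≤ normalizer (T : Set Γ)) (hinf : P ⊓ T ≤ Q)
    (hcop : ¬ p ∣ Q.relIndex T) (hE : E = T ⊓ normalizer (P : Set Γ)) {lam : IrrCharacter Q}
    (h1 : charDegree lam.1 = 1) (hT : T ≤ stabilizer Γ lam) (hPl : P ≤ stabilizer Γ lam) :
    GlaubOver p P hQ h lam.1 := by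
  obtain ⟨μ, hμ, hμP⟩ := exists_invBy_linear_extension hp (hP.to_le hQP) (hQ.trans h) hPT hcop h1
    hT hPl
  have hC : E.map (QuotientGroup.mk' Q) = T.map (QuotientGroup.mk' Q) ⊓
      centralizer (P.map (QuotientGroup.mk' Q) : Set (Γ ⧸ Q)) := by
    refine le_antisymm (le_inf (map_mono h) ?_) ?_
    · rintro _ ⟨e, he, rfl⟩ _ ⟨u, hu, rfl⟩
      obtain ⟨he1, he2⟩ := mem_inf.1 (hE.le he)
      have hu' : u ∈ P := hu
      rw [← map_mul, ← map_mul, QuotientGroup.mk'_apply, QuotientGroup.mk'_apply,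
        QuotientGroup.eq]
      refine hinf (mem_inf.2 ⟨?_, ?_⟩)
      · rw [show (u * e)⁻¹ * (e * u) = e⁻¹ * u⁻¹ * e * u by group]
        exact P.mul_mem (GT.inv_conj_mem_of_mem_normalizer he2 (P.inv_mem hu')) hu'
      · rw [show (u * e)⁻¹ * (e * u) = e⁻¹ * (u⁻¹ * e * u) by group]
        exact T.mul_mem (T.inv_mem he1) (GT.inv_conj_mem_of_mem_normalizer (hPT hu') he1)
    · intro x hx
      obtain ⟨⟨t, ht, rfl⟩, hc⟩ := mem_inf.1 hx
      refine ⟨t, hE.ge (mem_inf.2 ⟨ht, GT.mem_normalizer_of_conj_mem fun u hu => ?_⟩), rfl⟩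
      have h2 := mem_centralizer_iff.1 hc _ ⟨u, hu, rfl⟩
      rw [← map_mul, ← map_mul, QuotientGroup.mk'_apply, QuotientGroup.mk'_apply,
        QuotientGroup.eq] at h2
      rw [show t * u * t⁻¹ = u * (t * ((u * t)⁻¹ * (t * u)) * t⁻¹) by group]
      exact P.mul_mem hu (hQP (‹Q.Normal›.conj_mem _ h2 t))
  have H := glaubP_of_isPGroup hp (hP.map (QuotientGroup.mk' Q))
    (GT.map_le_normalizer_map hPT _) (by rwa [GT.card_map_mk']) hC (map_mono h)
  have hμE : resLe hQ (linChar (μ.comp (inclusion h))).1 = lam.1 := hμ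
  have key : ∀ (β : IrrCharacter (T.map (QuotientGroup.mk' Q)))
      (γ : IrrCharacter (E.map (QuotientGroup.mk' Q))), ModCorr p (resLe (map_mono h) β.1) γ →
      ModCorr p (resLe h (μ • irrComp ((QuotientGroup.mk' Q).subgroupMap T)
        (MonoidHom.subgroupMap_surjective _ T) β).1)
        (μ.comp (inclusion h) • irrComp ((QuotientGroup.mk' Q).subgroupMap E)
          (MonoidHom.subgroupMap_surjective _ E) γ) := by
    intro β γ hβ
    have h2 := (hβ.comp ((irr_isCharacter β).resLe _) ((QuotientGroup.mk' Q).subgroupMap E)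
      (modCorr_self p (irrComp _ (MonoidHom.subgroupMap_surjective _ E) γ))).lin_smul
      (μ.comp (inclusion h))
    refine (congrArg (ModCorr p · _) (funext fun x => ?_)).mp h2
    rfl
  refine ⟨fun ψ h2 h3 => ?_, fun ψ ψ' h2 h2' h3 h3' φ h4 h4' => ?_, fun φ h2 => ?_⟩
  · obtain ⟨β, rfl⟩ := (exists_eq_smul_irrComp _ μ hμ ψ).1 h2
    obtain ⟨γ, hγ⟩ := H.ex β ((invBy_smul_irrComp_iff hPT μ hμP β).1 h3)
    exact ⟨_, key β γ hγ⟩
  · obtain ⟨β, rfl⟩ := (exists_eq_smul_irrComp _ μ hμ ψ).1 h2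
    obtain ⟨β', rfl⟩ := (exists_eq_smul_irrComp _ μ hμ ψ').1 h2'
    replace h3 := (invBy_smul_irrComp_iff hPT μ hμP β).1 h3
    replace h3' := (invBy_smul_irrComp_iff hPT μ hμP β').1 h3'
    obtain ⟨γ, hγ⟩ := H.ex β h3
    obtain ⟨γ', hγ'⟩ := H.ex β' h3'
    have h5 := (h4.unique hp (key β γ hγ)).trans (h4'.unique hp (key β' γ' hγ')).symm
    rw [irrComp_injective _ _ (MulAction.injective _ h5)] at hγ
    rw [H.inj β β' h3 h3' γ' hγ hγ']
  · obtain ⟨γ, rfl⟩ := (exists_eq_smul_irrComp _ _ hμE φ).1 h2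
    obtain ⟨β, h3, h4⟩ := H.surj γ
    exact ⟨_, (exists_eq_smul_irrComp _ μ hμ _).2 ⟨β, rfl⟩,
      (invBy_smul_irrComp_iff hPT μ hμP β).2 h3, key β γ h4⟩

section Cliff
variable [Q.Normal] {lam : IrrCharacter Q}

theorem cliff_ind_eq {hQ : Q ≤ T} (hTU : T ≤ U) (hT : U ⊓ stabilizer Γ lam ≤ T)
    {θ : IrrCharacter U} {ψ : IrrCharacter T} (h1 : LiesOverLe hQ ψ.1 lam.1)
    (h2 : LiesOverLe hTU θ.1 ψ.1) : indHom (inclusion hTU) ψ.1 = θ.1 :=
  cliffordCorr_ind_eq_of_liesOver_le hTU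
    (fun _ hu hc => hT (mem_inf.2 ⟨hu, isConjCharOf_iff_smul.1 hc⟩)) h1 h2

theorem cliff_unique_under {hQ : Q ≤ T} (hTU : T ≤ U) (hT : U ⊓ stabilizer Γ lam ≤ T)
    {θ : IrrCharacter U} {ψ ψ' : IrrCharacter T} (h1 : LiesOverLe hQ ψ.1 lam.1)
    (h1' : LiesOverLe hQ ψ'.1 lam.1) (h2 : LiesOverLe hTU θ.1 ψ.1)
    (h2' : LiesOverLe hTU θ.1 ψ'.1) : ψ = ψ' :=
  cliffordCorr_injective_le hTU
    (fun _ hu hc => hT (mem_inf.2 ⟨hu, isConjCharOf_iff_smul.1 hc⟩)) h1 h1'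
    ((cliff_ind_eq hTU hT h1 h2).trans (cliff_ind_eq hTU hT h1' h2').symm)

theorem cliff_unique_over {hQ : Q ≤ T} (hTU : T ≤ U) (hT : U ⊓ stabilizer Γ lam ≤ T)
    {θ θ' : IrrCharacter U} {ψ : IrrCharacter T} (h1 : LiesOverLe hQ ψ.1 lam.1)
    (h2 : LiesOverLe hTU θ.1 ψ.1) (h2' : LiesOverLe hTU θ'.1 ψ.1) : θ = θ' :=
  Subtype.ext ((cliff_ind_eq hTU hT h1 h2).symm.trans (cliff_ind_eq hTU hT h1 h2'))

theorem cliff_invBy_iff {hQ : Q ≤ T} (hTU : T ≤ U) (hT : U ⊓ stabilizer Γ lam ≤ T)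
    (hPT : P ≤ normalizer (T : Set Γ)) (hPU : P ≤ normalizer (U : Set Γ)) (hl : InvBy P lam.1)
    {θ : IrrCharacter U} {ψ : IrrCharacter T} (h1 : LiesOverLe hQ ψ.1 lam.1)
    (h2 : LiesOverLe hTU θ.1 ψ.1) : InvBy P θ.1 ↔ InvBy P ψ.1 := by
  have hQn : ∀ s : Γ, s ∈ normalizer (Q : Set Γ) := fun s => by
    rw [normalizer_eq_top]; exact mem_top s
  refine ⟨fun h => invBy_iff.2 fun s hs => ?_, fun h => invBy_iff.2 fun s hs => ?_⟩
  · have h3 := isConjCharOf_nconj (hPT hs) ψ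
    rwa [← cliff_unique_under hTU hT h1 ((h3.liesOverLe_iff hQ (hQn s) (hl.isConj hs)).2 h1) h2
      (((h.isConj hs).liesOverLe_iff hTU (hPT hs) h3).2 h2)] at h3
  · have h3 := isConjCharOf_nconj (hPU hs) θ
    rwa [← cliff_unique_over hTU hT h1 h2
      ((h3.liesOverLe_iff hTU (hPT hs) (h.isConj hs)).2 h2)] at h3

theorem cliff_mult {hQ : Q ≤ E} (hET : E ≤ T) (hTK : T ≤ K) (hED : E ≤ D) (hDK : D ≤ K)
    (hT : K ⊓ stabilizer Γ lam ≤ T) (hE : D ⊓ stabilizer Γ lam ≤ E)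
    {θ : IrrCharacter K} {ψ : IrrCharacter T} (h1 : LiesOverLe (hQ.trans hET) ψ.1 lam.1)
    (h2 : LiesOverLe hTK θ.1 ψ.1) {η : IrrCharacter D} {φ : IrrCharacter E}
    (h3 : LiesOverLe hQ φ.1 lam.1) (h4 : LiesOverLe hED η.1 φ.1) :
    mult (resLe hDK θ.1) η.1 = mult (resLe hET ψ.1) φ.1 := by
  have h5 : mult (resLe hTK θ.1) ψ.1 = 1 := by
    refine mult_eq_of_ip_eq ?_
    rw [← ip_indHom_inclusion_right hTK _ (irr_isClassFunction θ), cliff_ind_eq hTK hT h1 h2,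
      ip_irr_self, Nat.cast_one]
  have h6 : mult (resLe hDK θ.1) η.1 = mult (resLe hET (resLe hTK θ.1)) φ.1 := by
    rw [mult, mult, ← cliff_ind_eq hED hE h3 h4,
      ip_indHom_inclusion_right hED _ ((irr_isClassFunction θ).resLe hDK)]
    rfl
  rw [h6, resLe_eq_comp hET, mult_comp_eq_sum (inclusion hET) ((irr_isCharacter θ).resLe hTK)
    (irr_isCharacter φ), Finset.sum_eq_single ψ, h5, one_mul]
  · rfl
  · intro ξ _ hξ
    by_contra h7
    obtain ⟨h8, h9⟩ := mul_ne_zero_iff.1 h7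
    refine hξ (cliff_unique_under hTK hT ?_ h1 ?_ h2)
    · exact LiesOverLe.trans (irr_isCharacter ξ) (irr_isCharacter lam)
        ((liesOverLe_iff_mult_pos hET (irr_isCharacter ξ) (irr_isCharacter φ)).2
          (Nat.pos_of_ne_zero h9)) h3
    · exact (liesOverLe_iff_mult_pos hTK (irr_isCharacter θ) (irr_isCharacter ξ)).2
        (Nat.pos_of_ne_zero h8)
  · exact fun h => (h (Finset.mem_univ _)).elim

theorem exists_invBy_linear_under (hp : p.Prime) (hP : IsPGroup p P) (hQp : IsPGroup p Q)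
    (hQ : Q ≤ U) (hPU : P ≤ normalizer (U : Set Γ)) (hcop : ¬ p ∣ Q.relIndex U)
    {θ : IrrCharacter U} (h1 : InvBy P θ.1) (h2 : ¬ p ∣ charDegree θ.1) :
    ∃ lam : IrrCharacter Q, LiesOverLe hQ θ.1 lam.1 ∧ InvBy P lam.1 ∧ charDegree lam.1 = 1 := by
  have := Fact.mk hp
  obtain ⟨k, hk⟩ := IsPGroup.iff_card.1 hP
  have := hP.isNilpotent
  obtain ⟨lam, h3, h4⟩ := exists_invBy_liesUnder hQ hPU (by rw [normalizer_eq_top]; exact le_top)
    (hk ▸ Nat.Coprime.pow_right _ ((Nat.Prime.coprime_iff_not_dvd hp).2 hcop).symm)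
    (Or.inr inferInstance) h1
  refine ⟨lam, h3, h4, ?_⟩
  obtain ⟨m, hm⟩ := IsPGroup.iff_card.1 hQp
  exact Nat.Coprime.eq_one_of_dvd (Nat.Coprime.pow_right m ((Nat.Prime.coprime_iff_not_dvd hp).2
    fun h => h2 (h.trans h3.degree_dvd)).symm) (hm ▸ irr_degree_dvd_card lam)

theorem LiesOverLe.not_dvd_degree_of_linear {hQ : Q ≤ U} (hcop : ¬ p ∣ Q.relIndex U)
    {θ : IrrCharacter U} (h : LiesOverLe hQ θ.1 lam.1) (h1 : charDegree lam.1 = 1) :
    ¬ p ∣ charDegree θ.1 := fun hd =>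
  hcop (hd.trans (by simpa [h1] using h.degree_dvd_relIndex_mul))

end Cliff

/-- The correspondence between `P`-invariant `p'`-degree characters of `K` and `D`. -/
structure GlaubNorm (p : ℕ) (P : Subgroup Γ) {D K : Subgroup Γ} (h : D ≤ K) : Prop where
  ex : ∀ θ : IrrCharacter K, InvBy P θ.1 → ¬ p ∣ charDegree θ.1 → ∃ η : IrrCharacter D,
    InvBy P η.1 ∧ ¬ p ∣ charDegree η.1 ∧ ∃ ε : ℤ, (ε = 1 ∨ ε = -1) ∧
      (mult (resLe h θ.1) η.1 : ℤ) ≡ ε [ZMOD p] ∧ ∀ η' : IrrCharacter D, InvBy P η'.1 →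
        ¬ p ∣ charDegree η'.1 → η' ≠ η → p ∣ mult (resLe h θ.1) η'.1
  surj : ∀ η : IrrCharacter D, InvBy P η.1 → ¬ p ∣ charDegree η.1 → ∃ θ : IrrCharacter K,
    InvBy P θ.1 ∧ ¬ p ∣ charDegree θ.1 ∧ ¬ p ∣ mult (resLe h θ.1) η.1
  inj : ∀ (θ θ' : IrrCharacter K) (η : IrrCharacter D), InvBy P θ.1 → InvBy P θ'.1 →
    InvBy P η.1 → ¬ p ∣ charDegree η.1 → ¬ p ∣ mult (resLe h θ.1) η.1 →
    ¬ p ∣ mult (resLe h θ'.1) η.1 → θ = θ'

theorem glaubNorm [hp : Fact p.Prime] (P : Sylow p Γ) [K.Normal]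
    [((P : Subgroup Γ) ⊓ K).Normal] :
    GlaubNorm p (P : Subgroup Γ)
      (inf_le_left : K ⊓ normalizer ((P : Subgroup Γ) : Set Γ) ≤ K) := by
  set Q := (P : Subgroup Γ) ⊓ K with hQdef
  set D := K ⊓ normalizer ((P : Subgroup Γ) : Set Γ) with hDdef
  have hDK : D ≤ K := inf_le_left
  have hQD : Q ≤ D := le_inf inf_le_right (inf_le_left.trans le_normalizer)
  have hQp : IsPGroup p Q := P.isPGroup'.to_le inf_le_left
  have hcop : ¬ p ∣ Q.relIndex K := (GT.isSylowIn_inf_of_normal P K).not_dvd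
  have hcop' : ∀ {U : Subgroup Γ}, Q ≤ U → U ≤ K → ¬ p ∣ Q.relIndex U := fun h1 h2 hd =>
    hcop (hd.trans (Dvd.intro _ (relIndex_mul_relIndex _ _ _ h1 h2)))
  have hPK : (P : Subgroup Γ) ≤ normalizer (K : Set Γ) := by
    rw [normalizer_eq_top]; exact le_top
  have hPD : (P : Subgroup Γ) ≤ normalizer (D : Set Γ) :=
    GT.le_normalizer_inf hPK (le_normalizer.trans le_normalizer)
  have hPS : ∀ {lam : IrrCharacter Q}, InvBy (P : Subgroup Γ) lam.1 →
      (P : Subgroup Γ) ≤ stabilizer Γ lam := fun h s hs => invBy_iff_smul.1 h s hs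
  have hN : ∀ {U : Subgroup Γ} {lam : IrrCharacter Q}, InvBy (P : Subgroup Γ) lam.1 →
      (P : Subgroup Γ) ≤ normalizer (U : Set Γ) →
      (P : Subgroup Γ) ≤ normalizer ((U ⊓ stabilizer Γ lam : Subgroup Γ) : Set Γ) :=
    fun h1 h2 => GT.le_normalizer_inf h2 ((hPS h1).trans le_normalizer)
  have hle : ∀ lam : IrrCharacter Q, D ⊓ stabilizer Γ lam ≤ K ⊓ stabilizer Γ lam := fun lam =>
    inf_le_inf_right _ hDK
  have hQE : ∀ lam : IrrCharacter Q, Q ≤ D ⊓ stabilizer Γ lam := fun lam =>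
    le_inf hQD (le_inertia lam)
  have H : ∀ {lam : IrrCharacter Q}, InvBy (P : Subgroup Γ) lam.1 → charDegree lam.1 = 1 →
      GlaubOver p (P : Subgroup Γ) (hQE lam) (hle lam) lam.1 := fun {lam} h1 h2 =>
    glaubOver hp.out P.isPGroup' inf_le_left _ _ (hN h1 hPK) (inf_le_inf_left _ inf_le_left)
      (hcop' ((hQE lam).trans (hle lam)) inf_le_left) (inf_right_comm _ _ _) h2 inf_le_right
      (hPS h1)
  have hmult : ∀ {lam : IrrCharacter Q} {θ : IrrCharacter K}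
      {ψ : IrrCharacter (K ⊓ stabilizer Γ lam : Subgroup Γ)} {η : IrrCharacter D}
      {φ : IrrCharacter (D ⊓ stabilizer Γ lam : Subgroup Γ)},
      LiesOverLe ((hQE lam).trans (hle lam)) ψ.1 lam.1 → LiesOverLe inf_le_left θ.1 ψ.1 →
      LiesOverLe (hQE lam) φ.1 lam.1 → LiesOverLe inf_le_left η.1 φ.1 →
      mult (resLe hDK θ.1) η.1 = mult (resLe (hle lam) ψ.1) φ.1 := fun h1 h2 h3 h4 =>
    cliff_mult _ _ _ _ le_rfl le_rfl h1 h2 h3 h4
  have hover : ∀ {θ : IrrCharacter K} {η : IrrCharacter D}, ¬ p ∣ mult (resLe hDK θ.1) η.1 →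
      LiesOverLe hDK θ.1 η.1 := fun {θ η} h =>
    (liesOverLe_iff_mult_pos hDK (irr_isCharacter θ) (irr_isCharacter η)).2
      (Nat.pos_of_ne_zero fun h0 => h (h0 ▸ dvd_zero p))
  refine ⟨fun θ h1 h2 => ?_, fun η h1 h2 => ?_, fun θ θ' η h1 h1' h2 h3 h4 h4' => ?_⟩
  · obtain ⟨lam, h3, h4, h5⟩ := exists_invBy_linear_under hp.out P.isPGroup' hQp (hQD.trans hDK)
      hPK hcop h1 h2
    obtain ⟨ψ, h6, h7⟩ := LiesOverLe.exists_between ((hQE lam).trans (hle lam)) inf_le_left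
      (irr_isClassFunction θ) h3
    have h8 := (cliff_invBy_iff inf_le_left le_rfl (hN h4 hPK) hPK h4 h7 h6).1 h1
    obtain ⟨φ, hφ⟩ := (H h4 h5).ex ψ h7 h8
    have h9 : LiesOverLe (hQE lam) φ.1 lam.1 := by
      obtain ⟨lam', g1⟩ := exists_irr_liesUnderLe (hQE lam) φ
      obtain ⟨t, ht, g2⟩ := h7.exists_smul (LiesOverLe.trans (irr_isCharacter ψ)
        (irr_isCharacter lam') (hφ.ip_ne_zero hp.out ((irr_isCharacter ψ).resLe _)) g1)
      rwa [← g2, mem_stabilizer_iff.1 (mem_inf.1 ht).2] at g1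
    obtain ⟨η, h10⟩ := exists_irr_liesOverLe (inf_le_left : D ⊓ stabilizer Γ lam ≤ D) φ
    have h11 := LiesOverLe.trans (irr_isCharacter η) (irr_isCharacter lam) h10 h9
    refine ⟨η, (cliff_invBy_iff inf_le_left le_rfl (hN h4 hPD) hPD h4 h9 h10).2
      (hφ.invBy hp.out (hN h4 hPD) (h8.resLe _)),
      h11.not_dvd_degree_of_linear (hcop' hQD hDK) h5, ?_⟩
    obtain ⟨ε, e1, e2, e3⟩ := hφ
    refine ⟨ε, e1, by rwa [hmult h7 h6 h9 h10], fun η' g1 g2 g3 => ?_⟩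
    by_contra g4
    obtain ⟨lam', g5, g6, -⟩ := exists_invBy_linear_under hp.out P.isPGroup' hQp hQD
      hPD (hcop' hQD hDK) g1 g2
    obtain ⟨k, hk, rfl⟩ := h3.exists_smul
      (LiesOverLe.trans (irr_isCharacter θ) (irr_isCharacter lam') (hover g4) g5)
    obtain ⟨d, hd, g7⟩ := GT.exists_mem_normalizer_smul_eq P hk (hPS h4) (hPS g6)
    have g8 := g5.smul_of_mem (irr_isClassFunction η') (D.inv_mem hd)
    rw [← g7, inv_smul_smul] at g8
    obtain ⟨φ', g9, g10⟩ := LiesOverLe.exists_between (hQE lam) inf_le_left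
      (irr_isClassFunction η') g8
    rw [hmult h7 h6 g10 g9] at g4
    refine g4 (e3 φ' ?_)
    rintro rfl
    exact g3 (cliff_unique_over inf_le_left le_rfl h9 g9 h10)
  · obtain ⟨lam, h3, h4, h5⟩ := exists_invBy_linear_under hp.out P.isPGroup' hQp hQD
      hPD (hcop' hQD hDK) h1 h2
    obtain ⟨φ, h6, h7⟩ := LiesOverLe.exists_between (hQE lam) inf_le_left
      (irr_isClassFunction η) h3
    obtain ⟨ψ, h8, h9, h10⟩ := (H h4 h5).surj φ h7
    obtain ⟨θ, h11⟩ := exists_irr_liesOverLe (inf_le_left : K ⊓ stabilizer Γ lam ≤ K) ψ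
    refine ⟨θ, (cliff_invBy_iff inf_le_left le_rfl (hN h4 hPK) hPK h4 h8 h11).2 h9,
      (LiesOverLe.trans (irr_isCharacter θ) (irr_isCharacter lam) h11 h8).not_dvd_degree_of_linear
        hcop h5, ?_⟩
    rw [hmult h8 h11 h7 h6]
    exact h10.not_dvd hp.out
  · obtain ⟨lam, h5, h6, h7⟩ := exists_invBy_linear_under hp.out P.isPGroup' hQp hQD
      hPD (hcop' hQD hDK) h2 h3
    obtain ⟨φ, h8, h9⟩ := LiesOverLe.exists_between (hQE lam) inf_le_left
      (irr_isClassFunction η) h5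
    have key : ∀ θ : IrrCharacter K, InvBy (P : Subgroup Γ) θ.1 →
        ¬ p ∣ mult (resLe hDK θ.1) η.1 →
        ∃ ψ : IrrCharacter (K ⊓ stabilizer Γ lam : Subgroup Γ),
          LiesOverLe ((hQE lam).trans (hle lam)) ψ.1 lam.1 ∧ LiesOverLe inf_le_left θ.1 ψ.1 ∧
          InvBy (P : Subgroup Γ) ψ.1 ∧ ModCorr p (resLe (hle lam) ψ.1) φ := by
      intro θ g1 g2
      obtain ⟨ψ, g3, g4⟩ := LiesOverLe.exists_between ((hQE lam).trans (hle lam)) inf_le_left
        (irr_isClassFunction θ)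
        (LiesOverLe.trans (irr_isCharacter θ) (irr_isCharacter lam) (hover g2) h5)
      have g5 := (cliff_invBy_iff inf_le_left le_rfl (hN h6 hPK) hPK h6 g4 g3).1 g1
      obtain ⟨φ', g6⟩ := (H h6 h7).ex ψ g4 g5
      rw [hmult g4 g3 h9 h8] at g2
      exact ⟨ψ, g4, g3, g5, g6.eq_of_not_dvd g2 ▸ g6⟩
    obtain ⟨ψ, g1, g2, g3, g4⟩ := key θ h1 h4
    obtain ⟨ψ', g1', g2', g3', g4'⟩ := key θ' h1' h4'
    obtain rfl := (H h6 h7).inj ψ ψ' g1 g1' g3 g3' φ g4 g4'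
    exact cliff_unique_over inf_le_left le_rfl g1 g2 g2'

namespace GlaubNorm
variable {h : D ≤ K} {θ : IrrCharacter K} {η η' : IrrCharacter D}

theorem unique (H : GlaubNorm p P h) (h1 : InvBy P θ.1) (h2 : ¬ p ∣ charDegree θ.1)
    (h3 : InvBy P η.1) (h4 : ¬ p ∣ charDegree η.1) (h5 : ¬ p ∣ mult (resLe h θ.1) η.1)
    (h3' : InvBy P η'.1) (h4' : ¬ p ∣ charDegree η'.1) (h5' : ¬ p ∣ mult (resLe h θ.1) η'.1) :
    η = η' := by
  obtain ⟨η₀, -, -, -, -, -, h6⟩ := H.ex θ h1 h2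
  exact (by_contra fun e => h5 (h6 η h3 h4 e) : η = η₀).trans
    (by_contra fun e => h5' (h6 η' h3' h4' e) : η' = η₀).symm

theorem degree_modEq [hp : Fact p.Prime] (H : GlaubNorm p P h) (hP : IsPGroup p P)
    (hPD : P ≤ normalizer (D : Set Γ)) (h1 : InvBy P θ.1) (h2 : ¬ p ∣ charDegree θ.1)
    (h3 : InvBy P η.1) (h4 : ¬ p ∣ charDegree η.1) (h5 : ¬ p ∣ mult (resLe h θ.1) η.1) :
    (charDegree η.1 : ZMod p) = charDegree θ.1 ∨ (charDegree η.1 : ZMod p) = -charDegree θ.1 := by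
  classical
  obtain ⟨η₀, -, -, ε, h6, h7, h8⟩ := H.ex θ h1 h2
  obtain rfl : η = η₀ := by_contra fun e => h5 (h8 η h3 h4 e)
  let _ := normAction hPD
  have h9 : (charDegree θ.1 : ZMod p) = mult (resLe h θ.1) η.1 * charDegree η.1 := by
    rw [← charDegree_resLe h, ((irr_isCharacter θ).resLe h).degree_eq_sum_mult, Nat.cast_sum,
      sum_eq_sum_fixedPoints hP, Finset.sum_eq_single_of_mem η, Nat.cast_mul]
    · exact Finset.mem_filter.2 ⟨Finset.mem_univ _, (mem_fixedPoints_normAction hPD η).2 h3⟩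
    · intro η' g1 g2
      have g3 := (mem_fixedPoints_normAction hPD η').1 (Finset.mem_filter.1 g1).2
      rw [ZMod.natCast_eq_zero_iff]
      by_cases g4 : p ∣ charDegree η'.1
      · exact g4.mul_left _
      · exact (h8 η' g3 g4 g2).mul_right _
    · intro a η'
      have g1 := isConjCharOf_nconj (hPD a.2) η'
      rw [normAction_smul, ((h1.resLe h).isConj a.2).mult_eq (hPD a.2) g1, g1.charDegree_eq]
  have h10 := (ZMod.intCast_eq_intCast_iff _ _ _).2 h7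
  rw [Int.cast_natCast] at h10
  rw [h9, h10]
  rcases h6 with rfl | rfl <;> simp

end GlaubNorm

section Real
variable {h : D ≤ U} [(D.subgroupOf U).Normal]

theorem existsUnique_isReal_liesOverLe (h : D ≤ U) (hodd : Odd (D.relIndex U))
    {η : IrrCharacter D} (hη : IsReal η.1) : ∃ ξ : IrrCharacter U, LiesOverLe h ξ.1 η.1 ∧
      IsReal ξ.1 ∧ ∀ ξ' : IrrCharacter U, LiesOverLe h ξ'.1 η.1 → IsReal ξ'.1 → ξ' = ξ := by
  obtain ⟨ξ, h1, h2, h3⟩ := existsUnique_isReal_liesOver (N := D.subgroupOf U) hodd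
    (θ := irrOf h η) fun x => hη _
  exact ⟨ξ, (liesOver_irrOf_iff h).1 (liesOver_of_mult_eq_one h1), h2,
    fun ξ' h4 h5 => h3 ξ' ((liesOver_irrOf_iff h).2 h4) h5⟩

theorem LiesOverLe.isReal_of_odd (hodd : Odd (D.relIndex U)) {ξ : IrrCharacter U}
    (hξ : IsReal ξ.1) {η : IrrCharacter D} (h1 : LiesOverLe h ξ.1 η.1) : IsReal η.1 := fun x =>
  LiesOver.isReal_of_odd_index (N := D.subgroupOf U) hodd hξ ((liesOver_irrOf_iff h).2 h1)
    ⟨⟨x, h x.2⟩, x.2⟩

omit [Finite Γ] in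
theorem stabilizer_irrOf_eq (h : D ≤ U) (η : IrrCharacter D) :
    stabilizer U (irrOf h η) = (charStab η.1).subgroupOf U := by
  ext u
  rw [mem_stabilizer_iff, smul_irrOf_eq_iff, mem_subgroupOf, mem_charStab,
    and_iff_right (le_normalizer_of_normal_subgroupOf h u.2)]

theorem LiesOverLe.degree_eq_of_isReal (hodd : Odd (D.relIndex U)) {ξ : IrrCharacter U}
    (hξ : IsReal ξ.1) {η : IrrCharacter D} (h1 : LiesOverLe h ξ.1 η.1) :
    charDegree ξ.1 = (charStab η.1).relIndex U * charDegree η.1 := by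
  have h2 := (liesOver_irrOf_iff h).2 h1
  rw [clifford_degree h2, LiesOver.mult_eq_one_of_isReal (N := D.subgroupOf U) hodd hξ h2, one_mul,
    stabilizer_irrOf_eq, charDegree_irrOf]
  rfl

theorem LiesOverLe.relIndex_charStab_dvd {ξ : IrrCharacter U} {η : IrrCharacter D}
    (h1 : LiesOverLe h ξ.1 η.1) : (charStab η.1).relIndex U ∣ charDegree ξ.1 := by
  have h2 := ((liesOver_irrOf_iff h).2 h1).index_inertia_dvd
  rwa [stabilizer_irrOf_eq] at h2

end Real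

/-- The bijection between the real characters of `Γ` and the real `p'`-degree characters of the
Sylow normalizer. -/
theorem RealPPrime.exists_equiv_normalizer [hp : Fact p.Prime] (hR : RealPPrime p Γ)
    (P : Sylow p Γ) [K.Normal] (hK : Odd K.index) [((P : Subgroup Γ) ⊓ K).Normal] :
    ∃ e : {χ : IrrCharacter Γ // IsReal χ.1} ≃
      {ξ : IrrCharacter (normalizer ((P : Subgroup Γ) : Set Γ)) //
        IsReal ξ.1 ∧ ¬ p ∣ charDegree ξ.1},
      ∀ χ, (charDegree (e χ).1.1 : ZMod p) = charDegree χ.1.1 ∨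
        (charDegree (e χ).1.1 : ZMod p) = -charDegree χ.1.1 := by
  have H := glaubNorm (K := K) P
  set N := normalizer ((P : Subgroup Γ) : Set Γ) with hNdef
  set D := K ⊓ N with hDdef
  have hDK : D ≤ K := inf_le_left
  have hDN : D ≤ N := inf_le_right
  have hND : N ≤ normalizer (D : Set Γ) := GT.le_normalizer_inf le_normalizer_of_normal
    le_normalizer
  have hPN : (P : Subgroup Γ) ≤ N := le_normalizer
  have : (D.subgroupOf N).Normal := normal_subgroupOf_of_le_normalizer hND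
  have hodd : Odd (D.relIndex N) := by
    rw [hDdef, inf_relIndex_right]
    exact hK.of_dvd_nat (relIndex_dvd_index_of_normal K N)
  have hKn : ∀ s : Γ, s ∈ normalizer (K : Set Γ) := fun s => le_normalizer_of_normal (mem_top s)
  -- characters under real `p'`-degree characters
  have hu : ∀ {ξ : IrrCharacter N} {η : IrrCharacter D}, ¬ p ∣ charDegree ξ.1 →
      LiesOverLe hDN ξ.1 η.1 → InvBy (P : Subgroup Γ) η.1 ∧ ¬ p ∣ charDegree η.1 := by
    intro ξ η h1 h2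
    refine ⟨InvBy.of_le_charStab ?_, fun h => h1 (h.trans h2.degree_dvd)⟩
    have h3 : ¬ p ∣ (charStab η.1 ⊓ N).relIndex N := by
      rw [inf_relIndex_right]; exact fun h => h1 (h.trans h2.relIndex_charStab_dvd)
    obtain ⟨S, hS⟩ := GT.exists_isSylowIn p (charStab η.1 ⊓ N)
    obtain ⟨g, hg, h4⟩ := (GT.isSylowIn_sylow_of_le P hPN).exists_conj_eq
      (hS.trans inf_le_right h3)
    rw [GT.conj_smul_eq_iff_mem_normalizer.2 hg] at h4
    exact h4.le.trans (hS.le.trans inf_le_left)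
  have hd : ∀ {χ : IrrCharacter Γ} {θ : IrrCharacter K}, IsReal χ.1 → LiesOver K χ.1 θ.1 →
      ¬ p ∣ charDegree θ.1 := fun h1 h2 h => hR _ h1 (h.trans h2.degree_dvd)
  have hbar : ∀ (θ : IrrCharacter K) (η : IrrCharacter D),
      mult (resLe hDK (irrBar θ).1) (irrBar η).1 = mult (resLe hDK θ.1) η.1 := fun θ η =>
    mult_cbar_cbar ((irr_isCharacter θ).resLe hDK) (irr_isCharacter η)
  have hfix : ∀ {H : Subgroup Γ} {θ : IrrCharacter H}, IsReal θ.1 → irrBar θ = θ := fun h =>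
    Subtype.ext (isReal_iff_cbar.1 h)
  have hconj : ∀ {n : Γ} (hn : n ∈ N) (θ : IrrCharacter K) {η η' : IrrCharacter D},
      IsConjCharOf D n η.1 η'.1 →
      mult (resLe hDK (n • θ).1) η'.1 = mult (resLe hDK θ.1) η.1 := fun hn θ _ _ h =>
    ((isConjCharOf_iff_smul.2 rfl).resLe hDK).mult_eq (hND hn) h
  obtain ⟨e, he⟩ := exists_equiv_of_rel
    (fun (χ : {χ : IrrCharacter Γ // IsReal χ.1})
      (ξ : {ξ : IrrCharacter N // IsReal ξ.1 ∧ ¬ p ∣ charDegree ξ.1}) =>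
      ∃ (θ : IrrCharacter K) (η : IrrCharacter D), LiesOver K χ.1.1 θ.1 ∧
        InvBy (P : Subgroup Γ) θ.1 ∧ LiesOverLe hDN ξ.1.1 η.1 ∧ ¬ p ∣ mult (resLe hDK θ.1) η.1)
    (by
      rintro ⟨χ, hχ⟩
      obtain ⟨θ₀, h0⟩ := exists_irr_liesUnder K χ
      obtain ⟨P', h1⟩ := h0.exists_sylow_le_stabilizer (hR χ hχ)
      obtain ⟨g, rfl⟩ := exists_smul_eq Γ P P'
      have h2 : LiesOver K χ.1 (g⁻¹ • θ₀).1 :=
        (liesOver_conjSmul_iff (irr_isClassFunction χ) _ _).2 h0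
      have h3 : InvBy (P : Subgroup Γ) (g⁻¹ • θ₀).1 := invBy_iff_smul.2 fun s hs => by
        have h4 : (g * s * g⁻¹) • θ₀ = θ₀ := h1 (GT.conj_mem_conj_smul.2 hs)
        rw [eq_inv_smul_iff, ← mul_smul, ← mul_smul, h4]
      obtain ⟨η, h4, h5, ε, h6, h7, -⟩ := H.ex _ h3 (hd hχ h2)
      have h8 : ¬ p ∣ mult (resLe hDK (g⁻¹ • θ₀).1) η.1 := fun h => by
        have g1 : (p : ℤ) ∣ ε := Int.modEq_zero_iff_dvd.1
          (h7.symm.trans (Int.modEq_zero_iff_dvd.2 (Int.natCast_dvd_natCast.2 h)))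
        refine (Nat.prime_iff_prime_int.1 hp.out).not_isUnit (isUnit_of_dvd_unit g1 ?_)
        rcases h6 with rfl | rfl <;> simp
      have h9 : irrBar η = η := H.unique h3 (hd hχ h2) h4.cbar 
        (by rwa [charDegree_eq_of_apply_one (χ := (irrBar η).1) (n := charDegree η.1)
          (by rw [irrBar_val, cbar_apply, irr_apply_one, map_natCast])])
        (by rwa [← hfix (h2.isReal_of_odd_index hK hχ), hbar]) h4 h5 h8
      obtain ⟨ξ, g1, g2, -⟩ := existsUnique_isReal_liesOverLe hDN hodd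
        (isReal_iff_cbar.2 (congrArg Subtype.val h9))
      refine ⟨⟨ξ, g2, ?_⟩, _, η, h2, h3, g1, h8⟩
      rw [g1.degree_eq_of_isReal hodd g2, hp.out.dvd_mul, not_or, ← inf_relIndex_right]
      exact ⟨(GT.isSylowIn_sylow_of_le P hPN).not_dvd_relIndex_of_le
        (le_inf (h4.le_charStab (hPN.trans hND)) hPN), h5⟩)
    (by
      rintro ⟨ξ, hξ, hξ'⟩
      obtain ⟨η, h0⟩ := exists_irr_liesUnderLe hDN ξ
      obtain ⟨h1, h2⟩ := hu hξ' h0
      obtain ⟨θ, h3, -, h4⟩ := H.surj η h1 h2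
      have h5 : irrBar θ = θ := H.inj _ _ η h3.cbar h3 h1 h2
        (by rwa [← hfix (h0.isReal_of_odd hodd hξ), hbar]) h4
      obtain ⟨χ, g1, g2, -⟩ := existsUnique_isReal_liesOver hK
        (isReal_iff_cbar.2 (congrArg Subtype.val h5))
      exact ⟨⟨χ, g2⟩, θ, η, liesOver_of_mult_eq_one g1, h3, h0, h4⟩)
    (by
      rintro ⟨χ, hχ⟩ ⟨ξ, hξ, hξp⟩ ⟨ξ', hξ', hξp'⟩ ⟨θ, η, h1, h2, h3, h4⟩ ⟨θ', η', h1', h2', h3', h4'⟩
      obtain ⟨k, rfl⟩ := h1.mem_orbit h1'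
      obtain ⟨n, hn, h5⟩ := GT.exists_mem_normalizer_smul_eq P (K := ⊤) (mem_top k)
        (fun s hs => invBy_iff_smul.1 h2 s hs) (fun s hs => invBy_iff_smul.1 h2' s hs)
      replace hn : n ∈ N := (mem_inf.1 hn).2
      have h6 := isConjCharOf_nconj (hND hn) η
      have h7 := h3.of_conj (irr_isClassFunction ξ) hn h6
      have h8 : nconj (hND hn) η = η' := H.unique h2' (hd hχ h1') (hu hξp h7).1 (hu hξp h7).2
        (by rwa [← hconj hn θ h6, h5] at h4) (hu hξp' h3').1 (hu hξp' h3').2 h4'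
      rw [h8] at h7
      obtain ⟨ξ₀, -, -, g⟩ := existsUnique_isReal_liesOverLe hDN hodd (h3'.isReal_of_odd hodd hξ')
      exact Subtype.ext ((g ξ h7 hξ).trans (g ξ' h3' hξ').symm))
    (by
      rintro ⟨χ, hχ⟩ ⟨χ', hχ'⟩ ⟨ξ, hξ, hξp⟩ ⟨θ, η, h1, h2, h3, h4⟩ ⟨θ', η', h1', h2', h3', h4'⟩
      obtain ⟨n, hn, h5⟩ := h3.exists_conj h3'
      have h6 : n • θ = θ' := H.inj _ _ η' (h2.of_isConjCharOf le_normalizer_of_normal (hKn n) hn
        (isConjCharOf_iff_smul.2 rfl)) h2' (hu hξp h3').1 (hu hξp h3').2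
        (by rwa [hconj hn θ h5]) h4'
      have h7 := (liesOver_conjSmul_iff (irr_isClassFunction χ) n θ).2 h1
      rw [h6] at h7
      obtain ⟨χ₀, -, -, g⟩ := existsUnique_isReal_liesOver hK (h1'.isReal_of_odd_index hK hχ')
      exact Subtype.ext ((g χ h7 hχ).trans (g χ' h1' hχ').symm))
  refine ⟨e, fun χ => ?_⟩
  obtain ⟨θ, η, h1, h2, h3, h4⟩ := he χ
  obtain ⟨h5, h6⟩ := hu (e χ).2.2 h3
  have h7 : (charStab η.1).relIndex N = (stabilizer Γ θ).relIndex N := by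
    rw [← inf_relIndex_right, ← inf_relIndex_right (stabilizer Γ θ)]
    congr 1
    ext n
    rw [mem_inf, mem_inf, and_congr_left_iff]
    intro hn
    rw [mem_charStab, and_iff_right (hND hn), mem_stabilizer_iff]
    refine ⟨fun h => H.inj _ _ η (h2.of_isConjCharOf le_normalizer_of_normal (hKn n) hn
      (isConjCharOf_iff_smul.2 rfl)) h2 h5 h6 (by rwa [hconj hn θ h]) h4, fun h => ?_⟩
    have g1 := isConjCharOf_nconj (hND hn) η
    have g2 := h3.of_conj (irr_isClassFunction _) hn g1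
    rwa [H.unique h2 (hd χ.2 h1) (hu (e χ).2.2 g2).1 (hu (e χ).2.2 g2).2
      (by rwa [← hconj hn θ g1, h] at h4) h5 h6 h4] at g1
  rw [h3.degree_eq_of_isReal hodd (e χ).2.1, clifford_degree h1,
    h1.mult_eq_one_of_isReal hK χ.2, one_mul, h7, Nat.cast_mul, Nat.cast_mul,
    (ZMod.natCast_eq_natCast_iff _ _ _).2 (GT.index_modEq_relIndex_normalizer P
      fun s hs => invBy_iff_smul.1 h2 s hs)]
  rcases H.degree_modEq P.isPGroup' (hPN.trans hND) h2 (hd χ.2 h1) h5 h6 h4 with h | h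
  · exact Or.inl (by rw [h])
  · exact Or.inr (by rw [h, mul_neg])

theorem RealPPrime.exists_mem_normalizer_isConj_aux [hp : Fact p.Prime] (hR : RealPPrime p Γ)
    (P : Sylow p Γ) [K.Normal] (hK : Odd K.index) (hb : (P : Subgroup Γ) ⊓ K = ⊥) {x : Γ}
    (hx : IsConj x x⁻¹) : ∃ y ∈ normalizer ((P : Subgroup Γ) : Set Γ), IsConj x y := by
  have : ((P : Subgroup Γ) ⊓ K).Normal := hb ▸ inferInstance
  obtain ⟨e, -⟩ := hR.exists_equiv_normalizer P hK
  set N := normalizer ((P : Subgroup Γ) : Set Γ) with hNdef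
  have hinv : ∀ {a b : Γ}, IsConj a b → IsConj a⁻¹ b⁻¹ := fun h => by
    obtain ⟨c, rfl⟩ := isConj_iff.1 h
    exact isConj_iff.2 ⟨c, by group⟩
  have hc : ∀ y : N, IsConj y y⁻¹ → (y : Γ) ∈ centralizer ((P : Subgroup Γ) : Set Γ) := by
    intro y hy u hu
    have h1 := (exists_conj_eq_inv_of_odd_index hK (N.subtype.map_isConj hy)).1
    have h2 : (y : Γ) * u * (y : Γ)⁻¹ * u⁻¹ ∈ (P : Subgroup Γ) ⊓ K := by
      refine mem_inf.2 ⟨mul_mem (GT.conj_mem_of_mem_normalizer y.2 hu) (inv_mem hu), ?_⟩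
      rw [mul_assoc, mul_assoc, ← mul_assoc u]
      exact K.mul_mem h1 (‹K.Normal›.conj_mem _ (K.inv_mem h1) u)
    rw [hb, mem_bot, mul_inv_eq_one, mul_inv_eq_iff_eq_mul] at h2
    exact h2.symm
  let f : {c : ConjClasses N // ∀ g : N, ConjClasses.mk g = c → IsConj g g⁻¹} →
      {c : ConjClasses Γ // ∀ g : Γ, ConjClasses.mk g = c → IsConj g g⁻¹} := fun c =>
    ⟨ConjClasses.map N.subtype c.1, fun g hg => by
      obtain ⟨c, h1⟩ := c
      obtain ⟨y, rfl⟩ := ConjClasses.mk_surjective c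
      have h2 : IsConj g y := ConjClasses.mk_eq_mk_iff_isConj.1 hg
      exact h2.trans ((N.subtype.map_isConj (h1 y rfl)).trans (hinv h2.symm))⟩
  have hf : Function.Injective f := by
    rintro ⟨c, h1⟩ ⟨c', h1'⟩ h
    obtain ⟨y, rfl⟩ := ConjClasses.mk_surjective c
    obtain ⟨y', rfl⟩ := ConjClasses.mk_surjective c'
    obtain ⟨g, hg⟩ := isConj_iff.1
      (ConjClasses.mk_eq_mk_iff_isConj.1 (congrArg Subtype.val h) : IsConj (y : Γ) (y' : Γ))
    obtain ⟨n, hn, h2⟩ := GT.exists_mem_normalizer_conj_eq_of_mem_centralizer P (g := g)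
      (hc y (h1 y rfl)) (hg ▸ hc y' (h1' y' rfl))
    exact Subtype.ext (ConjClasses.mk_eq_mk_iff_isConj.2
      (isConj_iff.2 ⟨⟨n, hn⟩, Subtype.ext (h2.trans hg)⟩))
  have hs := (hf.bijective_of_nat_card_le (by
    rw [← card_real_irr_eq_card_real_classes, ← card_real_irr_eq_card_real_classes,
      Nat.card_congr e]
    exact Nat.card_le_card_of_injective (fun ξ => ⟨ξ.1, ξ.2.1⟩)
      fun _ _ h => Subtype.ext (Subtype.mk.inj h))).2
  obtain ⟨⟨c, h1⟩, h2⟩ := hs ⟨ConjClasses.mk x, fun g hg => by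
    have h2 : IsConj g x := ConjClasses.mk_eq_mk_iff_isConj.1 hg
    exact h2.trans (hx.trans (hinv h2.symm))⟩
  obtain ⟨y, rfl⟩ := ConjClasses.mk_surjective c
  exact ⟨y, y.2, (ConjClasses.mk_eq_mk_iff_isConj.1 (congrArg Subtype.val h2)).symm⟩

theorem RealPPrime.exists_mem_normalizer_isConj [hp : Fact p.Prime] (hR : RealPPrime p Γ)
    (P : Sylow p Γ) [K.Normal] (hK : Odd K.index) [((P : Subgroup Γ) ⊓ K).Normal] {x : Γ}
    (hx : IsConj x x⁻¹) : ∃ y ∈ normalizer ((P : Subgroup Γ) : Set Γ), IsConj x y := by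
  set Q := (P : Subgroup Γ) ⊓ K with hQdef
  have hs := QuotientGroup.mk'_surjective Q
  have : (K.map (QuotientGroup.mk' Q)).Normal := ‹K.Normal›.map _ hs
  obtain ⟨y, hy, h1⟩ := (hR.of_surjective hs).exists_mem_normalizer_isConj_aux
    (P.mapSurjective hs) (K := K.map (QuotientGroup.mk' Q))
    (by rwa [GT.index_map_mk', sup_eq_left.2 inf_le_right]) (by
      rw [eq_bot_iff]
      intro z hz
      obtain ⟨⟨u, hu, rfl⟩, k, hk, e⟩ := mem_inf.1 hz
      have h2 : k⁻¹ * u ∈ Q := QuotientGroup.eq.1 e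
      exact (QuotientGroup.eq_one_iff u).2 (mem_inf.2 ⟨hu,
        mul_inv_cancel_left k u ▸ K.mul_mem hk (mem_inf.1 h2).2⟩))
    (x := QuotientGroup.mk' Q x) (by simpa using (QuotientGroup.mk' Q).map_isConj hx)
  obtain ⟨c, rfl⟩ := isConj_iff.1 h1
  obtain ⟨c, rfl⟩ := hs c
  refine ⟨c * x * c⁻¹, ?_, isConj_iff.2 ⟨c, rfl⟩⟩
  have h2 : c * x * c⁻¹ ∈ (normalizer (((P : Subgroup Γ).map (QuotientGroup.mk' Q) :
      Subgroup (Γ ⧸ Q)) : Set (Γ ⧸ Q))).comap (QuotientGroup.mk' Q) := hy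
  rwa [comap_normalizer_eq_of_surjective _ hs, GT.comap_map_mk'_eq,
    sup_eq_left.2 inf_le_left] at h2

end CT
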