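import Cfsg.Agent.Lib.Char.GlaubUp
import Cfsg.Agent.Lib.Char.TripleIso
import Cfsg.Agent.Lib.Char.Prod
import Cfsg.Agent.Lib.Grp.Hall

/-!
# Invariant characters over invariant characters, relative version (Isaacs 13.31)
-/

set_option autoImplicit false

namespace CT

open Cfsg Subgroup
open scoped Pointwise commutatorElement

variable {Γ : Type*} [Group Γ] [Finite Γ] {G N S U Z : Subgroup Γ}

omit [Finite Γ] in
theorem normal_of_le_center' (h : Z ≤ Subgroup.center Γ) : Z.Normal :=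
  ⟨fun z hz g => by rwa [mem_center_iff.1 (h hz) g, mul_inv_cancel_right]⟩

/-- Isaacs 13.28 and 13.30 together. -/
theorem exists_invBy_liesOver_of_coprimeAct (H : GT.CoprimeAct S G) (hNG : N ≤ G)
    (hGN : G ≤ normalizer (N : Set Γ)) (hN : S ≤ normalizer (N : Set Γ)) {θ : IrrCharacter N}
    (hθ : InvBy S θ.1) : ∃ χ : IrrCharacter G, LiesOverLe hNG χ.1 θ.1 ∧ InvBy S χ.1 := by
  rcases H.solv with h | h
  · have := normal_subgroupOf_of_le_normalizer hGN
    exact exists_invBy_liesOver_of_isSolvable_right hNG H.norm hN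
      (H.cop.of_dvd_left (relIndex_dvd_card N G)) hθ
  · exact exists_invBy_liesOver_of_isSolvable_left H.norm H.cop hNG hGN hN hθ

/-- Characters of a central product, for subgroups of a common group. -/
theorem exists_irr_of_commute_le {V : Subgroup Γ} (hU : U ≤ G) (hV : V ≤ G)
    (hc : V ≤ centralizer (U : Set Γ)) (hs : U ⊔ V = G) (φ : IrrCharacter U) (ψ : IrrCharacter V)
    (hz : ∀ (z : Γ) (hu : z ∈ U) (hv : z ∈ V), φ.1 ⟨z, hu⟩ * ψ.1 1 = φ.1 1 * ψ.1 ⟨z, hv⟩) :
    ∃ χ : IrrCharacter G, ∀ (u : U) (v : V),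
      χ.1 ⟨u * v, mul_mem (hU u.2) (hV v.2)⟩ = φ.1 u * ψ.1 v := by
  obtain ⟨χ, hχ⟩ := exists_irr_of_commute (U := U.subgroupOf G) (V := V.subgroupOf G)
    (fun u hu v hv => Subtype.ext (hc hv u hu)) (GT.subgroupOf_sup_eq_top hs) (irrOf hU φ)
    (irrOf hV ψ) fun z hu hv => hz z hu hv
  exact ⟨χ, fun u v => hχ ⟨⟨u, hU u.2⟩, u.2⟩ ⟨⟨v, hV v.2⟩, v.2⟩⟩

/-- Extending an invariant character to a central product. -/
theorem exists_invBy_of_sup_central (hU : U ≤ G) (hZ : Z ≤ G) (hc : Z ≤ Subgroup.center Γ)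
    (hs : U ⊔ Z = G) (hS : S ≤ normalizer (U : Set Γ)) {φ : IrrCharacter U} (hφ : InvBy S φ.1)
    {lam : IrrCharacter Z} {μ : IrrCharacter ↥(U ⊓ Z)} (h1 : LiesOverLe inf_le_left φ.1 μ.1)
    (h2 : LiesOverLe inf_le_right lam.1 μ.1) :
    ∃ χ : IrrCharacter G, LiesOverLe hZ χ.1 lam.1 ∧ InvBy S χ.1 := by
  have hn : (U ⊓ Z).Normal := normal_of_le_center' (inf_le_right.trans hc)
  have h3 := clifford_invariant_le'
    (fun t _ => conjSmul_of_le_center (inf_le_right.trans hc) t μ) h1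
  have h4 := clifford_invariant_le'
    (fun t _ => conjSmul_of_le_center (inf_le_right.trans hc) t μ) h2
  obtain ⟨χ, hχ⟩ := exists_irr_of_commute_le hU hZ (hc.trans (center_le_centralizer _)) hs φ lam
    fun z hu hv => by
      rw [show φ.1 ⟨z, hu⟩ = _ from congrFun h3 ⟨z, hu, hv⟩, show φ.1 1 = _ from congrFun h3 1,
        show lam.1 ⟨z, hv⟩ = _ from congrFun h4 ⟨z, hu, hv⟩, show lam.1 1 = _ from congrFun h4 1]
      simp only [Pi.smul_apply, smul_eq_mul]
      ring
  refine ⟨χ, ?_, fun s hs' g g' e => ?_⟩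
  · have : resLe hZ χ.1 = φ.1 1 • lam.1 := funext fun z => by
      simpa using hχ 1 z
    unfold LiesOverLe
    rw [this, ip_smul_left, ip_irr_self, mul_one]
    exact irr_apply_one_ne_zero φ
  · have hZ' : U ≤ normalizer (Z : Set Γ) := by
      have := normal_of_le_center' hc
      rw [normalizer_eq_top]; exact le_top
    obtain ⟨u, hu, z, hz, e'⟩ := (GT.mem_sup_of_le_normalizer_right hZ').1 (hs.ge g.2)
    have hu' := GT.conj_mem_of_mem_normalizer (hS hs') hu
    have h5 : g' = ⟨s * u * s⁻¹ * z, mul_mem (hU hu') (hZ hz)⟩ := Subtype.ext (by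
      change _ = s * u * s⁻¹ * z
      rw [e, ← e', mul_assoc (s * u), mem_center_iff.1 (hc hz) s⁻¹]; group)
    have h6 : g = ⟨u * z, mul_mem (hU hu) (hZ hz)⟩ := Subtype.ext e'.symm
    rw [h5, h6, hχ ⟨_, hu'⟩ ⟨z, hz⟩, hχ ⟨_, hu⟩ ⟨z, hz⟩, hφ s hs' ⟨u, hu⟩ ⟨_, hu'⟩ rfl]

omit [Finite Γ] in
theorem commutator_le_of_sup_central (hc : Z ≤ Subgroup.center Γ) (hs : U ⊔ Z = G) :
    ⁅G, G⁆ ≤ ⁅U, U⁆ := by
  have hZ' : U ≤ normalizer (Z : Set Γ) := by
    have := normal_of_le_center' hc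
    rw [normalizer_eq_top]; exact le_top
  rw [commutator_le]
  intro g hg g' hg'
  obtain ⟨u, hu, z, hz, rfl⟩ := (GT.mem_sup_of_le_normalizer_right hZ').1 (hs.ge hg)
  obtain ⟨u', hu', z', hz', rfl⟩ := (GT.mem_sup_of_le_normalizer_right hZ').1 (hs.ge hg')
  have h1 := mem_center_iff.1 (hc hz)
  have h2 := mem_center_iff.1 (hc hz')
  have : ⁅u * z, u' * z'⁆ = ⁅u, u'⁆ := by
    simp only [commutatorElement_def, mul_inv_rev]
    calc u * z * (u' * z') * (z⁻¹ * u⁻¹) * (z'⁻¹ * u'⁻¹)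
        = u * (z * (u' * z') * z⁻¹) * u⁻¹ * z'⁻¹ * u'⁻¹ := by group
      _ = u * u' * (z' * u⁻¹ * z'⁻¹) * u'⁻¹ := by rw [← h1]; group
      _ = _ := by rw [← h2]; group
  rw [this]
  exact commutator_mem_commutator hu hu'

/-- Splitting off the part of a central subgroup prime to its index. -/
theorem exists_central_split [G.Normal] (hZ : Z ≤ G) (hc : Z ≤ Subgroup.center Γ)
    (hcop : G.index.Coprime (Z.relIndex G)) :
    ∃ U S : Subgroup Γ, U.Normal ∧ U ⊔ Z = G ∧ U ⊔ S = ⊤ ∧ (Nat.card U).Coprime (Nat.card S) := by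
  have : Group.IsSolvable Z := Group.isSolvable_of_comm fun a b =>
    Subtype.ext (mem_center_iff.1 (hc b.2) a)
  obtain ⟨B, hB⟩ := (GT.hallOK_of_isSolvable (G := Z)
    (π := {q | q ∣ Z.relIndex G}ᶜ)).exists_isPiHallOf
  have hBZ := (GT.isPiHallOf_iff.1 hB).1
  have h1 := GT.isPiNat_card_of_isPiHallOf hB
  have h2 := GT.isPiNat_relIndex_of_isPiHallOf hB
  rw [compl_compl] at h2
  have h3 : GT.IsPiNat {q | q ∣ Z.relIndex G} (B.relIndex G) :=
    relIndex_mul_relIndex B Z G hBZ hZ ▸ h2.mul GT.isPiNat_primeFactors_self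
  have hBn := normal_of_le_center' (hBZ.trans hc)
  obtain ⟨U, hU, h4, h5, h6⟩ := GT.exists_complement_in (hBZ.trans hZ)
    (by rw [normalizer_eq_top]; exact le_top) (h1.coprime' h3)
  have h7 : U.relIndex G = Nat.card B := by
    have h8 := GT.card_mul_relIndex hU
    rw [h6, ← GT.card_mul_relIndex (hBZ.trans hZ), mul_comm] at h8
    exact Nat.eq_of_mul_eq_mul_right (Nat.pos_of_ne_zero (h6 ▸ Nat.card_pos.ne')) h8
  have hUn : U.Normal := by
    rw [← normalizer_eq_top_iff, eq_top_iff, ← normalizer_eq_top G]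
    refine GT.normalizer_le_normalizer_of_coprime hU ?_ (by rw [h6, h7]; exact h3.coprime h1)
    rw [← h4]
    exact sup_le ((hBZ.trans hc).trans (center_le_normalizer _)) le_normalizer
  have h9 : (Nat.card U).Coprime (U.relIndex ⊤) := by
    rw [relIndex_top_right, ← relIndex_mul_index hU, h6, h7]
    exact h3.coprime (h1.mul (GT.isPiNat_compl_of_coprime hcop.symm))
  obtain ⟨S, -, h10, -, h11⟩ := GT.exists_complement_in (le_top : U ≤ ⊤)
    (by rw [normalizer_eq_top]) h9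
  exact ⟨U, S, hUn, le_antisymm (sup_le hU hZ) (h4.ge.trans (sup_le (hBZ.trans le_sup_right)
    le_sup_left)), h10, h11 ▸ h9⟩

theorem exists_invBy_liesOver_of_le_center [G.Normal] (hZ : Z ≤ G) (hc : Z ≤ Subgroup.center Γ)
    (hcop : G.index.Coprime (Z.relIndex G))
    (hs : Group.IsSolvable (Γ ⧸ G) ∨ Group.IsSolvable G) (lam : IrrCharacter Z) :
    ∃ χ : IrrCharacter G, LiesOverLe hZ χ.1 lam.1 ∧ InvBy ⊤ χ.1 := by
  obtain ⟨U, S, hUn, h1, h2, h3⟩ := exists_central_split hZ hc hcop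
  have hU : U ≤ G := h1 ▸ le_sup_left
  have hn : ∀ (A B : Subgroup Γ) [B.Normal], A ≤ normalizer (B : Set Γ) := fun A B _ => by
    rw [normalizer_eq_top]; exact le_top
  have H : GT.CoprimeAct S U := by
    refine ⟨hn _ _, h3, ?_⟩
    rcases hs with hs | hs
    · right
      have : Group.IsSolvable (G.subgroupOf S) := Group.isSolvable_of_comm fun a b => by
        have h4 : ⁅(a : Γ), (b : Γ)⁆ ∈ U ⊓ S := ⟨commutator_le_self U
          (commutator_le_of_sup_central hc h1 (commutator_mem_commutator a.2 b.2)),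
          commutator_le_self S (commutator_mem_commutator a.1.2 b.1.2)⟩
        rw [(disjoint_of_coprime_natCard h3).eq_bot, mem_bot,
          commutatorElement_eq_one_iff_mul_comm] at h4
        exact Subtype.ext (Subtype.ext h4)
      exact Group.isSolvable_of_ker_le_range (G.subgroupOf S).subtype
        ((QuotientGroup.mk' G).comp S.subtype) fun x hx =>
          ⟨⟨x, (QuotientGroup.eq_one_iff (x : Γ)).1 hx⟩, rfl⟩
    · exact .inl (GT.isSolvable_of_le hU)
  obtain ⟨μ, hμ⟩ := exists_irr_liesUnderLe (inf_le_right : U ⊓ Z ≤ Z) lam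
  have := normal_of_le_center' (inf_le_right.trans hc : U ⊓ Z ≤ _)
  obtain ⟨φ, h4, h5⟩ := exists_invBy_liesOver_of_coprimeAct H inf_le_left (hn _ _) (hn _ _)
    (θ := μ) (invBy_of_le_centralizer _ (le_centralizer_iff.1
      ((inf_le_right.trans hc).trans (center_le_centralizer _))))
  obtain ⟨χ, h6, h7⟩ := exists_invBy_of_sup_central hU hZ hc h1 (hn _ _) h5 h4 hμ
  exact ⟨χ, h6, (((invBy_self (irr_isClassFunction χ)).mono hU).sup h7 (hn _ _) (hn _ _)).mono h2.ge⟩

/-- Isaacs 13.31. -/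
theorem exists_invBy_liesOver_of_coprime_index [G.Normal] [N.Normal] (hNG : N ≤ G)
    (hcop : G.index.Coprime (N.relIndex G))
    (hs : Group.IsSolvable (Γ ⧸ G) ∨ Group.IsSolvable (G ⧸ N.subgroupOf G)) {θ : IrrCharacter N}
    (hθ : InvBy ⊤ θ.1) : ∃ χ : IrrCharacter G, LiesOverLe hNG χ.1 θ.1 ∧ InvBy ⊤ χ.1 := by
  obtain ⟨E⟩ := nonempty_centralExt N θ fun x n => hθ x trivial n _ rfl
  obtain ⟨lam, hlam⟩ := E.exists_rel_self
  have hs' : Group.IsSolvable (E.Q ⧸ E.star G) ∨ Group.IsSolvable (E.star G) := by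
    rcases hs with h | h
    · left
      let f : E.Q ⧸ E.star G →* Γ ⧸ G := QuotientGroup.lift _
        ((QuotientGroup.map N G (MonoidHom.id Γ) hNG).comp E.ρ) (by
          rintro q ⟨g, hg, h⟩
          rw [MonoidHom.mem_ker, MonoidHom.comp_apply, ← h]
          exact (QuotientGroup.eq_one_iff _).2 hg)
      refine Group.isSolvable_of_isSolvable_injective (f := f) ((injective_iff_map_eq_one f).2 ?_)
      intro q hq
      obtain ⟨q, rfl⟩ := QuotientGroup.mk_surjective q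
      obtain ⟨x, rfl⟩ := E.σ_surjective q
      exact (QuotientGroup.eq_one_iff _).2 (E.σ_mem_star ((QuotientGroup.eq_one_iff _).1 hq))
    · have : Group.IsSolvable (G.map (QuotientGroup.mk' N)) :=
        Group.isSolvable_of_surjective (f := QuotientGroup.lift (N.subgroupOf G)
          ((QuotientGroup.mk' N).subgroupMap G) fun x hx =>
            Subtype.ext ((QuotientGroup.eq_one_iff _).2 hx))
          (QuotientGroup.lift_surjective_of_surjective _ _ (MonoidHom.subgroupMap_surjective _ _) _)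
      exact .inr E.isSolvable_star
  obtain ⟨β, h1, h2⟩ := exists_invBy_liesOver_of_le_center (E.star_mono hNG) E.star_self_le_center
    (by rwa [E.index_star hNG, E.relIndex_star le_rfl hNG]) hs' lam
  obtain ⟨χ, hχ⟩ := CentralExt.exists_rel_left hNG hlam h1
  exact ⟨χ, (hχ.liesOverLe_iff le_rfl hNG hlam).2 h1,
    (hχ.invBy_iff hNG (by rw [normalizer_eq_top])).2 (E.star_top ▸ h2)⟩

end CT
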