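import Cfsg.Agent.Lib.Char.Glauberman
import Cfsg.Agent.Lib.Char.CliffordDeg

/-!
# Invariant characters over invariant characters (Isaacs 13.28), counting characters
-/

set_option autoImplicit false

namespace CT

open Cfsg Subgroup
open scoped Pointwise commutatorElement

variable {Γ : Type*} [Group Γ] [Finite Γ] {G N S : Subgroup Γ}

theorem exists_invBy_liesOver_of_commutator_le (hNG : N ≤ G) (hab : ⁅G, G⁆ ≤ N)
    (hn : S ≤ normalizer (G : Set Γ)) (hN : S ≤ normalizer (N : Set Γ))
    (hcop : (N.relIndex G).Coprime (Nat.card S)) {θ : IrrCharacter N} (hθ : InvBy S θ.1) :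
    ∃ χ : IrrCharacter G, LiesOverLe hNG χ.1 θ.1 ∧ InvBy S χ.1 := by
  have hab' := commutator_le_subgroupOf hab
  have hNn : (N.subgroupOf G).Normal := Subgroup.Normal.of_commutator_le _ hab'
  let A : Subgroup (G →* ℂˣ) :=
    { carrier := {f | N.subgroupOf G ≤ f.ker}
      one_mem' := fun _ _ => rfl
      mul_mem' := fun {f g} hf hg x hx => by
        rw [MonoidHom.mem_ker, MonoidHom.mul_apply, hf hx, hg hx, mul_one]
      inv_mem' := fun {f} hf x hx => by rw [MonoidHom.mem_ker, MonoidHom.inv_apply, hf hx, inv_one] }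
  let φA := MulAction.toPermHom (G →* ℂˣ) (IrrCharacter G)
  let α : S →* MulAut G := G.normalizerMonoidHom.comp (inclusion hn)
  let φS := (MulAction.toPermHom (MulAut G) (IrrCharacter G)).comp α
  have H : GT.CoprimeAct φS.range (A.map φA) := by
    refine ⟨?_, ?_, .inl ?_⟩
    · rintro _ ⟨s, rfl⟩
      refine GT.mem_normalizer_of_conj_mem ?_
      rintro _ ⟨f, hf, rfl⟩
      refine ⟨f.comp (α s)⁻¹.toMonoidHom, fun x hx => hf ?_, ?_⟩
      · rw [← map_inv]
        exact mem_subgroupOf.2 (GT.conj_mem_of_mem_normalizer (hN s⁻¹.2) (mem_subgroupOf.1 hx))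
      · refine Equiv.ext fun χ => Subtype.ext (funext fun g => ?_)
        change _ = (α s • f • (α s)⁻¹ • χ).1 g
        rw [autSmul_apply, lin_smul_apply, autSmul_apply, inv_inv, MulAut.apply_inv_self]
        rfl
    · refine (hcop.of_dvd_left ?_).of_dvd_right (card_range_dvd φS)
      exact (card_map_dvd A φA).trans (card_units_hom_le_ker hab').dvd
    · exact GT.isSolvable_map A φA
  obtain ⟨χ, hχ⟩ := exists_irr_liesOverLe hNG θ
  obtain ⟨_, ⟨f, hf, rfl⟩, h1⟩ := H.exists_fixed_smul (x := χ) (by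
    rintro _ ⟨s, rfl⟩
    obtain ⟨f, hf, h1⟩ := exists_lin_smul_of_liesOver hab' ((liesOver_irrOf_iff hNG).2 hχ)
      ((liesOver_irrOf_iff hNG).2 (((isConjCharOf_nconj (hn s.2) χ).liesOverLe_iff hNG (hN s.2)
        (hθ.isConj s.2)).2 hχ))
    exact ⟨_, ⟨f, hf, rfl⟩, h1.symm⟩)
  refine ⟨f • χ, (liesOver_irrOf_iff hNG).1 ((liesOver_lin_smul_iff hf χ _).2
    ((liesOver_irrOf_iff hNG).2 hχ)), fun s hs => (nconj_eq_iff (hn hs)).1 (h1 _ ⟨⟨s, hs⟩, rfl⟩)⟩

omit [Finite Γ] in
theorem isSolvable_quotient_subgroupOf_of_le {M : Subgroup Γ} (hMG : M ≤ G)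
    [(N.subgroupOf G).Normal] [(N.subgroupOf M).Normal]
    [Group.IsSolvable (G ⧸ N.subgroupOf G)] : Group.IsSolvable (M ⧸ N.subgroupOf M) :=
  Group.isSolvable_of_isSolvable_injective
    (f := QuotientGroup.map (N.subgroupOf M) (N.subgroupOf G) (inclusion hMG) fun _ h => h)
    ((QuotientGroup.injective_lift_iff _ _ _).2 (by
      ext x; simp [QuotientGroup.eq_one_iff, mem_subgroupOf]))

/-- Isaacs 13.28. -/
theorem exists_invBy_liesOver_of_isSolvable_right (hNG : N ≤ G) [hNn : (N.subgroupOf G).Normal]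
    [hs : Group.IsSolvable (G ⧸ N.subgroupOf G)] (hn : S ≤ normalizer (G : Set Γ))
    (hN : S ≤ normalizer (N : Set Γ)) (hcop : (N.relIndex G).Coprime (Nat.card S))
    {θ : IrrCharacter N} (hθ : InvBy S θ.1) :
    ∃ χ : IrrCharacter G, LiesOverLe hNG χ.1 θ.1 ∧ InvBy S χ.1 := by
  induction hm : Nat.card G using Nat.strong_induction_on generalizing G with
  | _ m ih =>
  by_cases hne : N = G
  · subst hne
    exact ⟨θ, liesOverLe_of_resLe_eq rfl, hθ⟩
  have hGN := le_normalizer_of_normal_subgroupOf hNG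
  let M := N ⊔ ⁅G, G⁆
  have hMG : M ≤ G := sup_le hNG (commutator_le_self G)
  have hlt : M < G := by
    refine lt_of_le_of_ne hMG fun h => ?_
    obtain ⟨K, hK, h1, h2⟩ := GT.exists_normal_index_prime_ge (N.subgroupOf G)
      fun h => hne (le_antisymm hNG (subgroupOf_eq_top.1 h))
    have h3 : M ≤ K.map G.subtype := by
      refine sup_le ?_ ?_
      · rw [← map_subgroupOf_eq_of_le hNG]; exact map_mono h1
      · have := map_mono (f := G.subtype) (GT.commutator_le_of_index_prime h2)
        rwa [commutator_def, map_commutator, ← MonoidHom.range_eq_map, range_subtype] at this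
    have h4 : K = ⊤ := by
      rw [← map_subtype_inj, ← MonoidHom.range_eq_map, range_subtype]
      exact le_antisymm (map_subtype_le K) (h.ge.trans h3)
    rw [h4, index_top] at h2
    exact Nat.not_prime_one h2
  have := normal_subgroupOf_of_le_normalizer (hMG.trans hGN)
  have := isSolvable_quotient_subgroupOf_of_le (N := N) hMG
  have hM : S ≤ normalizer (M : Set Γ) :=
    GT.le_normalizer_sup hN (GT.le_normalizer_commutator hn hn)
  have h1 := relIndex_mul_relIndex N M G le_sup_left hMG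
  obtain ⟨ψ, h2, h3⟩ := ih _ (hm ▸ GT.card_lt_of_lt hlt) (G := M) le_sup_left hM
    (hcop.of_dvd_left (h1 ▸ dvd_mul_right _ _)) rfl
  obtain ⟨χ, h4, h5⟩ := exists_invBy_liesOver_of_commutator_le hMG le_sup_right hn hM
    (hcop.of_dvd_left (h1 ▸ dvd_mul_left _ _)) h3
  exact ⟨χ, h4.trans (irr_isCharacter χ) (irr_isCharacter θ) h2, h5⟩

/-- For a normal Hall subgroup `K`, the characters of degree prime to `|Γ : K|` are the extensions
of the invariant characters of `K`. -/
theorem card_degree_coprime_index (K : Subgroup Γ) [K.Normal]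
    (hcop : (Nat.card K).Coprime K.index) :
    Nat.card {χ : IrrCharacter Γ // (charDegree χ.1).Coprime K.index} =
      Nat.card {θ : IrrCharacter K // InvBy ⊤ θ.1} * (K ⊔ _root_.commutator Γ).index := by
  classical
  let f : {χ : IrrCharacter Γ // (charDegree χ.1).Coprime K.index} →
      {θ : IrrCharacter K // InvBy ⊤ θ.1} := fun χ =>
    ⟨⟨_, isIrr_res_of_coprime χ.2.symm⟩, invBy_res (irr_isClassFunction χ.1) _ _⟩
  have := Fintype.ofFinite {θ : IrrCharacter K // InvBy ⊤ θ.1}
  rw [← Nat.card_congr (Equiv.sigmaFiberEquiv f), Nat.card_sigma, Finset.sum_congr rfl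
    (g := fun _ => (K ⊔ _root_.commutator Γ).index), Finset.sum_const, smul_eq_mul,
    Finset.card_univ, Fintype.card_eq_nat_card]
  intro θ _
  obtain ⟨χ, hχ⟩ := exists_extension_of_coprime K θ.1 (fun x n => θ.2 x trivial n _ rfl) hcop
  rw [← card_extensions (irr_isCharacter χ) hχ]
  refine Nat.card_congr ⟨fun ψ => ⟨ψ.1.1, congrArg (fun t => t.1.1) ψ.2⟩, fun ψ => ⟨⟨ψ.1, ?_⟩,
    Subtype.ext (Subtype.ext ψ.2)⟩, fun _ => rfl, fun _ => rfl⟩
  rw [← charDegree_res K, ψ.2]
  exact hcop.of_dvd_left (irr_degree_dvd_card θ.1)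

theorem index_sup_commutator_of_isComplement' {K H : Subgroup Γ} [K.Normal]
    (h : K.IsComplement' H) : (K ⊔ _root_.commutator Γ).index = (_root_.commutator H).index := by
  let f : H →* Γ ⧸ K := (QuotientGroup.mk' K).comp H.subtype
  have hf : Function.Bijective f := h.symm.QuotientMulEquiv.symm.bijective
  rw [sup_comm, ← GT.index_map_mk', map_commutator_eq, QuotientGroup.range_mk',
    ← index_map_of_bijective hf (_root_.commutator H), map_commutator_eq,
    MonoidHom.range_eq_top.2 hf.2]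

theorem card_degree_coprime_of_sup_eq_top {K H : Subgroup Γ} [K.Normal] (hKH : K ⊔ H = ⊤)
    (hcop : (Nat.card K).Coprime (Nat.card H)) [Group.IsSolvable H] :
    Nat.card {χ : IrrCharacter Γ // (charDegree χ.1).Coprime (Nat.card H)} =
      Nat.card (IrrCharacter ↥(K ⊓ centralizer (H : Set Γ))) * (_root_.commutator H).index := by
  have hd := disjoint_of_coprime_natCard hcop
  have hn : ∀ A : Subgroup Γ, A ≤ normalizer (K : Set Γ) := fun A => by
    rw [normalizer_eq_top]; exact le_top
  rw [← GT.index_eq_card_of_disjoint_of_sup_eq_top hd hKH] at hcop ⊢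
  rw [card_degree_coprime_index K hcop,
    index_sup_commutator_of_isComplement' (GT.isComplement'_of_disjoint_of_sup_eq_top hd hKH),
    ← card_invBy_eq (hn H) (GT.index_eq_card_of_disjoint_of_sup_eq_top hd hKH ▸ hcop) rfl]
  congr 1
  exact Nat.card_congr (Equiv.subtypeEquivRight fun θ => ⟨fun h => h.mono le_top, fun h =>
    hKH ▸ (invBy_self (irr_isClassFunction θ)).sup h (hn K) (hn H)⟩)

end CT
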