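import Cfsg.Agent.Lib.Char.GlaubCyc
import Cfsg.Agent.Lib.Char.NConj
import Cfsg.Agent.Lib.Char.GroupAlg
import Cfsg.Agent.Lib.Char.Omega
import Cfsg.Agent.Lib.Grp.CyclicExt

/-!
# The Glauberman correspondence for `p`-groups and solvable operator groups (Isaacs, Ch. 13)
-/

set_option autoImplicit false

namespace CT

open Cfsg Subgroup
open scoped Pointwise

theorem exists_equiv_of_rel {α β : Type*} (R : α → β → Prop) (h1 : ∀ a, ∃ b, R a b)
    (h2 : ∀ b, ∃ a, R a b) (h3 : ∀ a b b', R a b → R a b' → b = b')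
    (h4 : ∀ a a' b, R a b → R a' b → a = a') : ∃ e : α ≃ β, ∀ a, R a (e a) := by
  choose f hf using h1
  refine ⟨Equiv.ofBijective f ⟨fun a a' h => h4 a a' _ (hf a) (h ▸ hf a'), fun b => ?_⟩, hf⟩
  obtain ⟨a, ha⟩ := h2 b
  exact ⟨a, h3 a _ _ (hf a) ha⟩

section ModCorr

variable {B C : Type*} [Group B] [Finite B] [Group C] [Finite C] {p : ℕ}

theorem mult_comp_eq_sum (f : C →* B) {θ : B → ℂ} (hθ : IsCharacter B θ) {η : C → ℂ}
    (hη : IsCharacter C η) : mult (fun c => θ (f c)) η =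
      ∑ ξ : IrrCharacter B, mult θ ξ.1 * mult (fun c => ξ.1 (f c)) η := by
  refine mult_eq_of_ip_eq ?_
  have h1 : (fun c => θ (f c)) = ∑ ξ : IrrCharacter B, (mult θ ξ.1 : ℂ) • fun c => ξ.1 (f c) := by
    funext c
    conv_lhs => rw [hθ.eq_sum_mult]
    rw [Finset.sum_apply, Finset.sum_apply]; rfl
  rw [h1, ip_sum_left]
  push_cast
  exact Finset.sum_congr rfl fun ξ _ => by
    rw [ip_smul_left, ((irr_isCharacter ξ).comp f).ip_eq_mult hη]

/-- `θ ≡ ± β` modulo `p`. -/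
def ModCorr (p : ℕ) (θ : C → ℂ) (β : IrrCharacter C) : Prop :=
  ∃ ε : ℤ, (ε = 1 ∨ ε = -1) ∧ (mult θ β.1 : ℤ) ≡ ε [ZMOD p] ∧ ∀ γ, γ ≠ β → p ∣ mult θ γ.1

namespace ModCorr

variable {θ : C → ℂ} {β γ : IrrCharacter C}

theorem not_dvd (h : ModCorr p θ β) (hp : p.Prime) : ¬ p ∣ mult θ β.1 := by
  obtain ⟨ε, hε, h1, -⟩ := h
  intro h2
  have h3 : (p : ℤ) ∣ ε := (Int.modEq_zero_iff_dvd.1
    (h1.symm.trans (Int.modEq_zero_iff_dvd.2 (Int.natCast_dvd_natCast.2 h2))))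
  refine (Nat.prime_iff_prime_int.1 hp).not_isUnit (isUnit_of_dvd_unit h3 ?_)
  rcases hε with rfl | rfl <;> simp

theorem eq_of_not_dvd (h : ModCorr p θ β) (h1 : ¬ p ∣ mult θ γ.1) : γ = β := by
  obtain ⟨ε, -, -, h2⟩ := h
  by_contra h3
  exact h1 (h2 γ h3)

theorem unique (h : ModCorr p θ β) (hp : p.Prime) (h' : ModCorr p θ γ) : γ = β :=
  h.eq_of_not_dvd (h'.not_dvd hp)

theorem ip_ne_zero (h : ModCorr p θ β) (hp : p.Prime) (hθ : IsCharacter C θ) : ip θ β.1 ≠ 0 :=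
  (hθ.mult_pos_iff (irr_isCharacter β)).1 (Nat.pos_of_ne_zero fun h0 =>
    h.not_dvd hp (h0 ▸ dvd_zero p))

theorem modEq_or (h : ModCorr p θ β) :
    (mult θ β.1 : ℤ) ≡ 1 [ZMOD p] ∨ (mult θ β.1 : ℤ) ≡ -1 [ZMOD p] := by
  obtain ⟨ε, rfl | rfl, h1, -⟩ := h
  exacts [.inl h1, .inr h1]

theorem mult_comp_modEq {θ : B → ℂ} {ξ : IrrCharacter B} (h : ModCorr p θ ξ)
    (hθ : IsCharacter B θ) : ∃ ε : ℤ, (ε = 1 ∨ ε = -1) ∧
      ∀ {C : Type*} [Group C] [Finite C] (f : C →* B) (η : C → ℂ), IsCharacter C η →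
      (mult (fun c => θ (f c)) η : ℤ) ≡ ε * mult (fun c => ξ.1 (f c)) η [ZMOD p] := by
  obtain ⟨ε, hε, h1, h2⟩ := h
  refine ⟨ε, hε, fun f η hη => ?_⟩
  classical
  rw [mult_comp_eq_sum f hθ hη, ← Finset.add_sum_erase _ _ (Finset.mem_univ ξ)]
  push_cast
  rw [← add_zero (ε * _)]
  refine (h1.mul_right _).add (Int.modEq_zero_iff_dvd.2 (Finset.dvd_sum fun γ hγ => ?_))
  exact (Int.natCast_dvd_natCast.2 (h2 γ (Finset.ne_of_mem_erase hγ))).mul_right _

theorem dvd_mult_comp_iff {θ : B → ℂ} {ξ : IrrCharacter B} (h : ModCorr p θ ξ)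
    (hθ : IsCharacter B θ) (f : C →* B) {η : C → ℂ} (hη : IsCharacter C η) :
    p ∣ mult (fun c => θ (f c)) η ↔ p ∣ mult (fun c => ξ.1 (f c)) η := by
  obtain ⟨ε, hε, h1⟩ := h.mult_comp_modEq hθ
  rw [← Int.natCast_dvd_natCast, (h1 f η hη).dvd_iff, ← Int.natCast_dvd_natCast]
  rcases hε with rfl | rfl <;> simp

theorem comp {θ : B → ℂ} {ξ : IrrCharacter B} (h : ModCorr p θ ξ) (hθ : IsCharacter B θ)
    (f : C →* B) (h' : ModCorr p (fun c => ξ.1 (f c)) β) : ModCorr p (fun c => θ (f c)) β := by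
  obtain ⟨ε, hε, h1⟩ := h.mult_comp_modEq hθ
  obtain ⟨ε', hε', h2, h3⟩ := h'
  refine ⟨ε * ε', ?_, (h1 f _ (irr_isCharacter β)).trans (h2.mul_left ε), fun γ hγ =>
    (h.dvd_mult_comp_iff hθ f (irr_isCharacter γ)).2 (h3 γ hγ)⟩
  rcases hε with rfl | rfl <;> rcases hε' with rfl | rfl <;> simp

theorem degree_modEq (h : ModCorr p θ β) (hθ : IsCharacter C θ) : ∃ ε : ℤ, (ε = 1 ∨ ε = -1) ∧
    (charDegree θ : ℤ) ≡ ε * charDegree β.1 [ZMOD p] := by
  classical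
  obtain ⟨ε, hε, h1, h2⟩ := h
  refine ⟨ε, hε, ?_⟩
  rw [hθ.degree_eq_sum_mult, ← Finset.add_sum_erase _ _ (Finset.mem_univ β)]
  push_cast
  rw [← add_zero (ε * _)]
  refine (h1.mul_right _).add (Int.modEq_zero_iff_dvd.2 (Finset.dvd_sum fun γ hγ => ?_))
  exact (Int.natCast_dvd_natCast.2 (h2 γ (Finset.ne_of_mem_erase hγ))).mul_right _

end ModCorr

theorem modCorr_self (p : ℕ) (β : IrrCharacter C) : ModCorr p β.1 β :=
  ⟨1, .inl rfl, by rw [mult_eq_of_ip_eq (n := 1) (by rw [ip_irr_self, Nat.cast_one])]; rfl,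
    fun γ hγ => by
      rw [mult_eq_of_ip_eq (n := 0) (by rw [ip_irr_ne hγ.symm, Nat.cast_zero])]; exact dvd_zero p⟩

theorem CycSetup.modCorr {Γ : Type*} [Group Γ] [Finite Γ] {N : Subgroup Γ} {s : Γ} {j : C →* Γ}
    (h : CycSetup N s j) {k : ℕ} (hp : p.Prime) (hs : s ^ p ^ k = 1) {ψ : Γ → ℂ}
    (hψ : IsCharacter Γ ψ) {β : IrrCharacter C} {ε : ℤ} (hε : ε = 1 ∨ ε = -1)
    (h1 : ∀ c, ψ (j c * s) = ε * β.1 c) : ModCorr p (fun c => ψ (j c)) β := by
  classical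
  refine ⟨ε, hε, by simpa using h.mult_modEq hp hs hψ h1 β, fun γ hγ => ?_⟩
  have h2 := h.mult_modEq hp hs hψ h1 γ
  rwa [if_neg hγ, Int.modEq_zero_iff_dvd, Int.natCast_dvd_natCast] at h2

/-- The Glauberman correspondence for a single `p`-automorphism of a `p'`-group. -/
theorem glauberman_aut (a : MulAut B) (hp : p.Prime) {k : ℕ} (ha : a ^ p ^ k = 1)
    (hB : ¬ p ∣ Nat.card B) (j : C →* B) (hj : Function.Injective j)
    (hC : ∀ g, g ∈ j.range ↔ a g = g) :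
    (∀ χ : IrrCharacter B, (∀ g, χ.1 (a g) = χ.1 g) → ∃ β, ModCorr p (fun c => χ.1 (j c)) β) ∧
    (∀ χ χ' : IrrCharacter B, (∀ g, χ.1 (a g) = χ.1 g) → (∀ g, χ'.1 (a g) = χ'.1 g) →
      ∀ β, ModCorr p (fun c => χ.1 (j c)) β → ModCorr p (fun c => χ'.1 (j c)) β → χ = χ') ∧
    ∀ β, ∃ χ : IrrCharacter B, (∀ g, χ.1 (a g) = χ.1 g) ∧ ModCorr p (fun c => χ.1 (j c)) β := by
  let Γ := B ⋊[(zpowers a).subtype] zpowers a
  have : Finite Γ := Finite.of_equiv _ SemidirectProduct.equivProd.symm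
  let i : B →* Γ := SemidirectProduct.inl
  have hi : Function.Injective i := SemidirectProduct.inl_injective
  let s : Γ := SemidirectProduct.inr ⟨a, mem_zpowers a⟩
  have hN : i.range.Normal := by
    rw [SemidirectProduct.range_inl_eq_ker_rightHom]; infer_instance
  have hs : s ^ p ^ k = 1 := by
    rw [← map_pow, show (⟨a, mem_zpowers a⟩ : zpowers a) ^ p ^ k = 1 from Subtype.ext ha, map_one]
  have hsi : ∀ g, i (a g) = s * i g * s⁻¹ := fun g => by
    rw [← map_inv]; exact SemidirectProduct.inl_aut (⟨a, mem_zpowers a⟩ : zpowers a) g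
  have hsup : i.range ⊔ zpowers s = ⊤ := by
    rw [eq_top_iff]
    intro x _
    rw [← SemidirectProduct.inl_left_mul_inr_right x]
    refine mul_mem (mem_sup_left ⟨_, rfl⟩) (mem_sup_right ?_)
    obtain ⟨n, hn⟩ := x.right.2
    exact ⟨n, by
      rw [show x.right = ⟨a, mem_zpowers a⟩ ^ n from Subtype.ext hn.symm, map_zpow]⟩
  let e : B ≃* i.range := MonoidHom.ofInjective hi
  have hcop : (Nat.card i.range).Coprime (orderOf s) := by
    rw [← Nat.card_congr e.toEquiv]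
    exact (((Nat.Prime.coprime_iff_not_dvd hp).2 hB).symm.pow_right k).of_dvd_right
      (orderOf_dvd_of_pow_eq_one hs)
  have h : CycSetup i.range s (i.comp j) :=
    ⟨hcop.of_dvd_right (index_dvd_orderOf_of_sup_eq_top hsup), hcop, hi.comp hj, fun g => by
      constructor
      · rintro ⟨c, rfl⟩
        refine ⟨⟨_, rfl⟩, ?_⟩
        rw [MonoidHom.comp_apply, eq_comm, ← mul_inv_eq_iff_eq_mul, ← hsi, (hC _).1 ⟨c, rfl⟩]
      · rintro ⟨⟨b, rfl⟩, hb⟩
        obtain ⟨c, rfl⟩ := (hC b).2 (hi (by rw [hsi, ← hb, mul_inv_cancel_right]))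
        exact ⟨c, rfl⟩⟩
  have hext : ∀ χ : IrrCharacter B, (∀ g, χ.1 (a g) = χ.1 g) → ∃ ψ : IrrCharacter Γ,
      res i.range ψ.1 = (irrCongr e χ).1 ∧ i.range.index.Coprime (detOrder ψ.1) ∧
      ∀ g, ψ.1 (i g) = χ.1 g := by
    intro χ hχ
    have h1 : ⊤ ≤ charStab (irrCongr e χ).1 := by
      rw [← hsup, sup_le_iff, zpowers_le]
      refine ⟨le_charStab (irr_isClassFunction _), by rw [normalizer_eq_top]; trivial, ?_⟩
      intro x y hy
      obtain ⟨x, rfl⟩ := e.surjective x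
      rw [show y = e (a x) from Subtype.ext (hy.trans (hsi x).symm), irrCongr_apply_map,
        irrCongr_apply_map, hχ]
    obtain ⟨ψ, ⟨h2, h3⟩, -⟩ := existsUnique_canonical_extension_of_coprime i.range (irrCongr e χ)
      (fun x n => (h1 (mem_top x)).2 n _ rfl) h.cop_index
    exact ⟨ψ, h2, h3, fun g => (congrFun h2 (e g)).trans (irrCongr_apply_map e χ g)⟩
  have hε0 : ∀ ε : ℤ, (ε = 1 ∨ ε = -1) → (ε : ℂ) ≠ 0 := by rintro _ (rfl | rfl) <;> simp
  refine ⟨fun χ hχ => ?_, fun χ χ' hχ hχ' β h1 h2 => ?_, fun β => ?_⟩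
  · obtain ⟨ψ, h1, h2, h3⟩ := hext χ hχ
    obtain ⟨β, ε, hε, h4⟩ := h.exists_corr h1 h2
    refine ⟨β, ?_⟩
    simpa only [MonoidHom.comp_apply, h3] using h.modCorr hp hs (irr_isCharacter ψ) hε h4
  · obtain ⟨ψ, h3, h4, h5⟩ := hext χ hχ
    obtain ⟨ψ', h3', h4', h5'⟩ := hext χ' hχ'
    obtain ⟨γ, ε, hε, h6⟩ := h.exists_corr h3 h4
    obtain ⟨γ', ε', hε', h6'⟩ := h.exists_corr h3' h4'
    obtain rfl : γ = β := h1.unique hp (by
      simpa only [MonoidHom.comp_apply, h5] using h.modCorr hp hs (irr_isCharacter ψ) hε h6)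
    obtain rfl : γ' = γ := h2.unique hp (by
      simpa only [MonoidHom.comp_apply, h5'] using h.modCorr hp hs (irr_isCharacter ψ') hε' h6')
    exact (irrCongr e).injective (h.eq_of_corr (irr_isCharacter ψ) (irr_isCharacter ψ') h3 h3'
      (hε0 _ hε) (hε0 _ hε') h6 h6')
  · obtain ⟨ψ, θ, ε, h1, -, hε, h2⟩ := h.exists_of_irr hsup β
    have h3 : ∀ g, ((irrCongr e).symm θ).1 g = ψ.1 (i g) := fun g => by
      rw [irrCongr_symm_apply, ← h1]; rfl
    refine ⟨(irrCongr e).symm θ, fun g => by rw [h3, h3, hsi, irr_isClassFunction ψ], ?_⟩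
    simpa only [MonoidHom.comp_apply, h3] using h.modCorr hp hs (irr_isCharacter ψ) hε h2

end ModCorr

variable {Γ : Type*} [Group Γ] [Finite Γ] {p : ℕ} {G C N S T P : Subgroup Γ} {x : Γ}

theorem ModCorr.of_isConjCharOf {θ θ' : C → ℂ} {β β' : IrrCharacter C} (h : ModCorr p θ β)
    (hx : x ∈ normalizer (C : Set Γ)) (h1 : IsConjCharOf C x θ θ')
    (h2 : IsConjCharOf C x β.1 β'.1) : ModCorr p θ' β' := by
  obtain ⟨ε, hε, h3, h4⟩ := h
  refine ⟨ε, hε, by rwa [h1.mult_eq hx h2], fun γ' hγ' => ?_⟩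
  obtain ⟨γ, hγ⟩ := exists_isConjCharOf (inv_mem hx) γ'
  have h5 := hγ.inv
  rw [inv_inv] at h5
  rw [h1.mult_eq hx h5]
  refine h4 γ ?_
  rintro rfl
  exact hγ' (Subtype.ext (h5.unique hx h2))

theorem ModCorr.isConjCharOf_self {θ : C → ℂ} {β : IrrCharacter C} (h : ModCorr p θ β)
    (hp : p.Prime) (hx : x ∈ normalizer (C : Set Γ)) (h1 : IsConjCharOf C x θ θ) :
    IsConjCharOf C x β.1 β.1 := by
  obtain ⟨β', h2⟩ := exists_isConjCharOf hx β
  rwa [h.unique hp (h.of_isConjCharOf hx h1 h2)] at h2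

theorem ModCorr.invBy {θ : C → ℂ} {β : IrrCharacter C} (h : ModCorr p θ β) (hp : p.Prime)
    (hS : S ≤ normalizer (C : Set Γ)) (h1 : InvBy S θ) : InvBy S β.1 :=
  fun _ hs => h.isConjCharOf_self hp (hS hs) (h1.isConj hs)

/-- `χ ↦ β`, where `χ_C ≡ ± β` modulo `p`, is a bijection from the `S`-invariant irreducible
characters of `G` to the irreducible characters of `C`. -/
structure GlaubP (p : ℕ) (S : Subgroup Γ) {G C : Subgroup Γ} (h : C ≤ G) : Prop where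
  ex : ∀ χ : IrrCharacter G, InvBy S χ.1 → ∃ β, ModCorr p (resLe h χ.1) β
  inj : ∀ χ χ' : IrrCharacter G, InvBy S χ.1 → InvBy S χ'.1 →
    ∀ β, ModCorr p (resLe h χ.1) β → ModCorr p (resLe h χ'.1) β → χ = χ'
  surj : ∀ β, ∃ χ : IrrCharacter G, InvBy S χ.1 ∧ ModCorr p (resLe h χ.1) β

namespace GlaubP

variable {h : C ≤ G}

theorem congr (H : GlaubP p S h) (e : ∀ χ : IrrCharacter G, InvBy T χ.1 ↔ InvBy S χ.1) :
    GlaubP p T h :=
  ⟨fun χ hχ => H.ex χ ((e χ).1 hχ), fun χ χ' h1 h2 => H.inj χ χ' ((e χ).1 h1) ((e χ').1 h2),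
    fun β => (H.surj β).imp fun χ hχ => ⟨(e χ).2 hχ.1, hχ.2⟩⟩

theorem modCorr_of_not_dvd (H : GlaubP p S h) {χ : IrrCharacter G} (hχ : InvBy S χ.1)
    {β : IrrCharacter C} (h1 : ¬ p ∣ mult (resLe h χ.1) β.1) : ModCorr p (resLe h χ.1) β := by
  obtain ⟨β', h2⟩ := H.ex χ hχ
  rwa [h2.eq_of_not_dvd h1]

theorem isConjCharOf (H : GlaubP p S h) (hS : S ≤ normalizer (G : Set Γ))
    (hxG : x ∈ normalizer (G : Set Γ)) (hxC : x ∈ normalizer (C : Set Γ))
    (hxS : x ∈ normalizer (S : Set Γ)) {χ χ' : IrrCharacter G} (hχ : InvBy S χ.1)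
    (hχ' : InvBy S χ'.1) {β β' : IrrCharacter C} (h1 : ModCorr p (resLe h χ.1) β)
    (h1' : ModCorr p (resLe h χ'.1) β') (h2 : IsConjCharOf C x β.1 β'.1) :
    IsConjCharOf G x χ.1 χ'.1 := by
  obtain ⟨χ'', h3⟩ := exists_isConjCharOf hxG χ
  rwa [H.inj χ'' χ' (hχ.of_isConjCharOf hS hxG hxS h3) hχ' β'
    (h1.of_isConjCharOf hxC (h3.resLe h) h2) h1'] at h3

theorem invBy (H : GlaubP p T h) (hT : T ≤ normalizer (G : Set Γ))
    (hG : S ≤ normalizer (G : Set Γ)) (hC : S ≤ normalizer (C : Set Γ))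
    (hS : S ≤ normalizer (T : Set Γ)) {χ : IrrCharacter G} (hχ : InvBy T χ.1)
    {β : IrrCharacter C} (h1 : ModCorr p (resLe h χ.1) β) (h2 : InvBy S β.1) : InvBy S χ.1 :=
  fun _ hs => H.isConjCharOf hT (hG hs) (hC hs) (hS hs) hχ hχ h1 h1 (h2.isConj hs)

/-- The correspondence restricts to the characters invariant under a larger group. -/
theorem exists_equiv (H : GlaubP p T h) (hp : p.Prime) (hTS : T ≤ S)
    (hG : S ≤ normalizer (G : Set Γ)) (hC : S ≤ normalizer (C : Set Γ))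
    (hS : S ≤ normalizer (T : Set Γ)) :
    ∃ e : {χ : IrrCharacter G // InvBy S χ.1} ≃ {β : IrrCharacter C // InvBy S β.1},
      ∀ χ, ModCorr p (resLe h χ.1.1) (e χ).1 := by
  refine exists_equiv_of_rel (fun (χ : {χ : IrrCharacter G // InvBy S χ.1})
    (β : {β : IrrCharacter C // InvBy S β.1}) => ModCorr p (resLe h χ.1.1) β.1)
    (fun χ => ?_) (fun β => ?_) (fun χ β β' h1 h2 => Subtype.ext (h2.unique hp h1))
    fun χ χ' β h1 h2 => Subtype.ext (H.inj _ _ (χ.2.mono hTS) (χ'.2.mono hTS) _ h1 h2)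
  · obtain ⟨β, hβ⟩ := H.ex χ.1 (χ.2.mono hTS)
    exact ⟨⟨β, hβ.invBy hp hC (χ.2.resLe h)⟩, hβ⟩
  · obtain ⟨χ, h1, h2⟩ := H.surj β.1
    exact ⟨⟨χ, H.invBy (hTS.trans hG) hG hC hS h1 h2 β.2⟩, h2⟩

theorem exists_equiv' (H : GlaubP p S h) (hp : p.Prime) :
    ∃ e : {χ : IrrCharacter G // InvBy S χ.1} ≃ IrrCharacter C,
      ∀ χ, ModCorr p (resLe h χ.1.1) (e χ) :=
  exists_equiv_of_rel (fun (χ : {χ : IrrCharacter G // InvBy S χ.1}) (β : IrrCharacter C) =>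
    ModCorr p (resLe h χ.1.1) β) (fun χ => H.ex χ.1 χ.2)
    (fun β => (H.surj β).elim fun χ hχ => ⟨⟨χ, hχ.1⟩, hχ.2⟩)
    (fun _ _ _ h1 h2 => h2.unique hp h1)
    fun χ χ' _ h1 h2 => Subtype.ext (H.inj _ _ χ.2 χ'.2 _ h1 h2)

end GlaubP

theorem glaubP_zpowers (hp : p.Prime) {s : Γ} {k : ℕ} (hs : s ^ p ^ k = 1)
    (hsG : s ∈ normalizer (G : Set Γ)) (hG : ¬ p ∣ Nat.card G)
    (hC : C = G ⊓ centralizer {s}) (h : C ≤ G) : GlaubP p (zpowers s) h := by
  obtain ⟨h1, h2, h3⟩ := glauberman_aut (G.normalizerMonoidHom ⟨s, hsG⟩) hp (k := k)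
    (by rw [← map_pow, show (⟨s, hsG⟩ : normalizer (G : Set Γ)) ^ p ^ k = 1 from Subtype.ext hs,
      map_one]) hG (inclusion h) (inclusion_injective h) fun g => by
      rw [inclusion_range, mem_subgroupOf, hC, mem_inf, and_iff_right g.2,
        mem_centralizer_singleton_iff, Subtype.ext_iff, eq_comm, ← mul_inv_eq_iff_eq_mul]
      rfl
  have e : ∀ χ : IrrCharacter G, InvBy (zpowers s) χ.1 ↔
      ∀ g, χ.1 (G.normalizerMonoidHom ⟨s, hsG⟩ g) = χ.1 g := fun χ => by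
    rw [invBy_zpowers_iff hsG, isConjCharOf_iff_aut hsG]
  exact ⟨fun χ hχ => h1 χ ((e χ).1 hχ), fun χ χ' hχ hχ' => h2 χ χ' ((e χ).1 hχ) ((e χ').1 hχ'),
    fun β => (h3 β).imp fun χ hχ => ⟨(e χ).2 hχ.1, hχ.2⟩⟩

theorem exists_lt_sup_zpowers_eq [Group.IsSolvable S] (hS : S ≠ ⊥) :
    ∃ (T : Subgroup Γ) (s : Γ), T < S ∧ S ≤ normalizer (T : Set Γ) ∧ s ∈ S ∧
      T ⊔ zpowers s = S := by
  have := (nontrivial_iff_ne_bot S).2 hS
  obtain ⟨M, hM, hp⟩ := GT.exists_normal_index_prime S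
  have hne : M ≠ ⊤ := fun h => by rw [h, index_top] at hp; exact Nat.not_prime_one hp
  obtain ⟨s, -, hs⟩ := SetLike.exists_of_lt (lt_top_iff_ne_top.2 hne)
  refine ⟨M.map S.subtype, s, ?_, ?_, s.2, ?_⟩
  · refine lt_of_le_of_ne (map_subtype_le M) fun h => hne ?_
    rw [← map_subtype_inj, h, ← MonoidHom.range_eq_map, range_subtype]
  · have := GT.map_le_normalizer_map (A := ⊤) (H := M) (by rw [normalizer_eq_top]) S.subtype
    rwa [← MonoidHom.range_eq_map, range_subtype] at this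
  · have := congrArg (map S.subtype) (GT.sup_zpowers_eq_top_of_index_prime hp hs)
    rwa [Subgroup.map_sup, MonoidHom.map_zpowers, ← MonoidHom.range_eq_map, range_subtype] at this

/-- Isaacs 13.14: the Glauberman correspondence for a `p`-group. -/
theorem glaubP_of_isPGroup (hp : p.Prime) (hS : IsPGroup p S) (hn : S ≤ normalizer (G : Set Γ))
    (hG : ¬ p ∣ Nat.card G) (hC : C = G ⊓ centralizer (S : Set Γ)) (h : C ≤ G) :
    GlaubP p S h := by
  have := Fact.mk hp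
  induction hm : Nat.card S using Nat.strong_induction_on generalizing S C with
  | _ m ih =>
  by_cases hb : S = ⊥
  · subst hb
    rw [← zpowers_one_eq_bot] at hC ⊢
    exact glaubP_zpowers hp (k := 0) (one_pow _) (one_mem _) hG
      (by rw [hC, GT.centralizer_zpowers]) h
  have := hS.isNilpotent
  obtain ⟨T, s, hT, hST, hs, hsup⟩ := exists_lt_sup_zpowers_eq hb
  obtain ⟨k, hk⟩ := hS ⟨s, hs⟩
  let B := G ⊓ centralizer (T : Set Γ)
  have hB : B ≤ G := inf_le_left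
  have hSB : S ≤ normalizer (B : Set Γ) := GT.le_normalizer_inf hn (GT.le_normalizer_centralizer hST)
  have hCB : C = B ⊓ centralizer {s} := by
    rw [hC, ← hsup, GT.centralizer_sup, GT.centralizer_zpowers, inf_assoc]
  have h' : C ≤ B := hCB.le.trans inf_le_left
  have H1 : GlaubP p T hB := ih _ (hm ▸ GT.card_lt_of_lt hT) (hS.to_le hT.le) (hT.le.trans hn) rfl
    hB rfl
  have H2 : GlaubP p (zpowers s) h' := glaubP_zpowers hp (congrArg Subtype.val hk) (hSB hs)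
    (fun hd => hG (hd.trans (card_dvd_of_le hB))) hCB h'
  have hz : zpowers s ≤ S := zpowers_le.2 hs
  have key : ∀ χ : IrrCharacter G, InvBy S χ.1 → ∃ ξ : IrrCharacter B, InvBy (zpowers s) ξ.1 ∧
      ModCorr p (resLe hB χ.1) ξ := fun χ hχ => by
    obtain ⟨ξ, hξ⟩ := H1.ex χ (hχ.mono hT.le)
    exact ⟨ξ, (hξ.invBy hp hSB (hχ.resLe hB)).mono hz, hξ⟩
  refine ⟨fun χ hχ => ?_, fun χ χ' hχ hχ' β h1 h2 => ?_, fun β => ?_⟩
  · obtain ⟨ξ, h1, h2⟩ := key χ hχ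
    obtain ⟨β, h3⟩ := H2.ex ξ h1
    exact ⟨β, h2.comp ((irr_isCharacter χ).resLe hB) (inclusion h') h3⟩
  · obtain ⟨ξ, h3, h4⟩ := key χ hχ
    obtain ⟨ξ', h3', h4'⟩ := key χ' hχ'
    obtain rfl : ξ = ξ' := H2.inj ξ ξ' h3 h3' β
      (H2.modCorr_of_not_dvd h3 fun hd => h1.not_dvd hp ((h4.dvd_mult_comp_iff
        ((irr_isCharacter χ).resLe hB) (inclusion h') (irr_isCharacter β)).2 hd))
      (H2.modCorr_of_not_dvd h3' fun hd => h2.not_dvd hp ((h4'.dvd_mult_comp_iff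
        ((irr_isCharacter χ').resLe hB) (inclusion h') (irr_isCharacter β)).2 hd))
    exact H1.inj χ χ' (hχ.mono hT.le) (hχ'.mono hT.le) ξ h4 h4'
  · obtain ⟨ξ, h1, h2⟩ := H2.surj β
    obtain ⟨χ, h3, h4⟩ := H1.surj ξ
    refine ⟨χ, ?_, h4.comp ((irr_isCharacter χ).resLe hB) (inclusion h') h2⟩
    rw [← hsup]
    exact h3.sup (H1.invBy (hT.le.trans hn) (hz.trans hn) (hz.trans hSB) (hz.trans hST) h3 h4 h1)
      (hT.le.trans hn) (hz.trans hn)

theorem LiesOverLe.mult_dvd_degree {h : N ≤ G} [(N.subgroupOf G).Normal] {χ : IrrCharacter G}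
    {θ : IrrCharacter N} (hχ : LiesOverLe h χ.1 θ.1) :
    mult (resLe h χ.1) θ.1 ∣ charDegree χ.1 := by
  rw [clifford_degree ((liesOver_irrOf_iff h).2 hχ), mult_res_subgroupOf_irrOf, mul_assoc]
  exact dvd_mul_right _ _

theorem liesOverLe_iff_not_dvd_mult (h : N ≤ G) [(N.subgroupOf G).Normal]
    (hG : ¬ p ∣ Nat.card G) (χ : IrrCharacter G) (θ : IrrCharacter N) :
    LiesOverLe h χ.1 θ.1 ↔ ¬ p ∣ mult (resLe h χ.1) θ.1 :=
  ⟨fun h1 h2 => hG (h2.trans (h1.mult_dvd_degree.trans (irr_degree_dvd_card χ))), fun h1 =>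
    (liesOverLe_iff_mult_pos h (irr_isCharacter χ) (irr_isCharacter θ)).2
      (Nat.pos_of_ne_zero fun h0 => h1 (h0 ▸ dvd_zero p))⟩

/-- Modulo `p`, only the `P`-invariant constituent over `φ` matters. -/
theorem GlaubP.dvd_mult_resLe_iff {D : Subgroup Γ} {hD : D ≤ N} (H : GlaubP p P hD) (hp : p.Prime)
    (hP : IsPGroup p P) (hPN : P ≤ normalizer (N : Set Γ)) (hPD : P ≤ centralizer (D : Set Γ))
    {η : N → ℂ} (hη : IsCharacter N η) (hη' : InvBy P η) {θ : IrrCharacter N} (hθ : InvBy P θ.1)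
    {φ : IrrCharacter D} (h2 : ModCorr p (resLe hD θ.1) φ) :
    p ∣ mult (resLe hD η) φ.1 ↔ p ∣ mult η θ.1 := by
  classical
  have := Fact.mk hp
  let _ := normAction hPN
  have h1 : ((mult (resLe hD η) φ.1 : ℕ) : ZMod p) =
      mult η θ.1 * mult (resLe hD θ.1) φ.1 := by
    rw [resLe_eq_comp, mult_comp_eq_sum (inclusion hD) hη (irr_isCharacter φ), Nat.cast_sum,
      sum_eq_sum_fixedPoints hP, Finset.sum_eq_single_of_mem θ]
    · push_cast; rfl
    · exact Finset.mem_filter.2 ⟨Finset.mem_univ _, (mem_fixedPoints_normAction hPN θ).2 hθ⟩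
    · intro θ' h3 h4
      have h5 := (mem_fixedPoints_normAction hPN θ').1 (Finset.mem_filter.1 h3).2
      rw [ZMod.natCast_eq_zero_iff]
      refine Dvd.dvd.mul_left ?_ _
      by_contra h6
      exact h4 (H.inj θ' θ h5 hθ φ (H.modCorr_of_not_dvd h5 h6) h2)
    · intro a θ'
      have h3 := isConjCharOf_nconj (hPN a.2) θ'
      rw [normAction_smul, (hη'.isConj a.2).mult_eq (hPN a.2) h3]
      congr 2
      exact (h3.resLe hD).mult_eq (centralizer_le_normalizer _ (hPD a.2))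
        (isConjCharOf_of_mem_centralizer _ (hPD a.2))
  rw [← ZMod.natCast_eq_zero_iff, h1, mul_eq_zero, ZMod.natCast_eq_zero_iff,
    ZMod.natCast_eq_zero_iff, or_iff_left (h2.not_dvd hp)]

/-- Isaacs 13.29 for a `p`-group. -/
theorem GlaubP.liesOverLe_iff {B D : Subgroup Γ} {hD : D ≤ N} (H : GlaubP p P hD) (hp : p.Prime)
    (hP : IsPGroup p P) (hPN : P ≤ normalizer (N : Set Γ)) (hPD : P ≤ centralizer (D : Set Γ))
    (hNG : N ≤ G) [(N.subgroupOf G).Normal] (hG : ¬ p ∣ Nat.card G) {hB : B ≤ G} (hDB : D ≤ B)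
    [(D.subgroupOf B).Normal] {χ : IrrCharacter G} (hχ : InvBy P χ.1) {θ : IrrCharacter N}
    (hθ : InvBy P θ.1) {ξ : IrrCharacter B} (h1 : ModCorr p (resLe hB χ.1) ξ) {φ : IrrCharacter D}
    (h2 : ModCorr p (resLe hD θ.1) φ) : LiesOverLe hNG χ.1 θ.1 ↔ LiesOverLe hDB ξ.1 φ.1 := by
  rw [liesOverLe_iff_not_dvd_mult hNG hG,
    liesOverLe_iff_not_dvd_mult hDB (fun hd => hG (hd.trans (card_dvd_of_le hB))),
    ← H.dvd_mult_resLe_iff hp hP hPN hPD ((irr_isCharacter χ).resLe hNG) (hχ.resLe hNG) hθ h2]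
  exact not_congr (h1.dvd_mult_comp_iff ((irr_isCharacter χ).resLe hB) (inclusion hDB)
    (irr_isCharacter φ))

/-- The inductive step for a solvable operator group. -/
theorem exists_glaub_step [Group.IsSolvable S] (hn : S ≤ normalizer (G : Set Γ))
    (hcop : (Nat.card G).Coprime (Nat.card S)) (hne : ¬ G ≤ centralizer (S : Set Γ)) :
    ∃ (p : ℕ) (P T : Subgroup Γ), p.Prime ∧ IsPGroup p P ∧ ¬ p ∣ Nat.card G ∧ P ≤ T ∧ T ≤ S ∧
      S ≤ normalizer (T : Set Γ) ∧ T ≤ P ⊔ centralizer (G : Set Γ) ∧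
      ¬ G ≤ centralizer (T : Set Γ) := by
  let K := (centralizer (G : Set Γ)).subgroupOf S
  have hK : K.Normal := normal_subgroupOf_of_le_normalizer (GT.le_normalizer_centralizer hn)
  have hK' : K ≠ ⊤ := fun h => hne (le_centralizer_iff.1 (subgroupOf_eq_top.1 h))
  obtain ⟨M, hM⟩ := GT.exists_isChief hK hK'
  obtain ⟨p, k, hp, hk, h1⟩ := hM.exists_relIndex_eq_pow
  have := Fact.mk hp
  obtain ⟨Q, hQ⟩ := GT.exists_isSylowIn (p := p) M
  have h2 := hQ.sup_eq_of_relIndex_eq_pow hM.le h1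
  have hMn := hM.normal_right
  refine ⟨p, Q.map S.subtype, M.map S.subtype, hp, hQ.isPGroup.map _, fun hd => ?_,
    map_mono hQ.le, map_subtype_le M, ?_, ?_, fun h => ?_⟩
  · refine (Nat.Prime.coprime_iff_not_dvd hp).1 (hcop.symm.of_dvd_right hd).symm ?_
    exact ((dvd_pow_self p hk.ne').trans (h1 ▸ relIndex_dvd_card K M)).trans (card_subgroup_dvd_card M)
  · have := GT.map_le_normalizer_map (A := ⊤) (H := M) (by rw [normalizer_eq_top]) S.subtype
    rwa [← MonoidHom.range_eq_map, range_subtype] at this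
  · rw [← h2, Subgroup.map_sup, sup_comm]
    exact sup_le_sup_left (map_le_iff_le_comap.2 le_rfl) _
  · have h3 : M ≤ K := map_le_iff_le_comap.1 (le_centralizer_iff.1 h)
    rw [relIndex_eq_one.2 h3] at h1
    exact (Nat.one_lt_pow hk.ne' hp.one_lt).ne h1

omit [Finite Γ] in
theorem inf_centralizer_eq_of_le_sup (hNG : N ≤ G) (hPT : P ≤ T)
    (hT : T ≤ P ⊔ centralizer (G : Set Γ)) :
    N ⊓ centralizer (T : Set Γ) = N ⊓ centralizer (P : Set Γ) := by
  refine le_antisymm (inf_le_inf_left _ (GT.centralizer_anti hPT)) (le_inf inf_le_left ?_)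
  refine le_centralizer_iff.1 (hT.trans (sup_le (le_centralizer_iff.1 inf_le_right) ?_))
  exact GT.centralizer_anti (inf_le_left.trans hNG)

omit [Finite Γ] in
theorem invBy_iff_of_le_sup (hNG : N ≤ G) (hPT : P ≤ T) (hT : T ≤ P ⊔ centralizer (G : Set Γ))
    (hP : P ≤ normalizer (N : Set Γ)) (θ : N → ℂ) : InvBy T θ ↔ InvBy P θ :=
  ⟨fun h => h.mono hPT, fun h => .of_le_charStab (hT.trans (sup_le (h.le_charStab hP)
    ((GT.centralizer_anti hNG).trans (centralizer_le_charStab θ))))⟩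

/-- The Glauberman correspondence (existence of a bijection) for solvable `S`. -/
theorem exists_glauberman_equiv [Group.IsSolvable S] (hn : S ≤ normalizer (G : Set Γ))
    (hcop : (Nat.card G).Coprime (Nat.card S)) (hC : C = G ⊓ centralizer (S : Set Γ))
    (h : C ≤ G) : ∃ e : {χ : IrrCharacter G // InvBy S χ.1} ≃ IrrCharacter C,
      ∀ χ, LiesOverLe h χ.1.1 (e χ).1 := by
  induction hm : Nat.card G using Nat.strong_induction_on generalizing G with
  | _ m ih =>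
  by_cases hne : G ≤ centralizer (S : Set Γ)
  · obtain rfl : C = G := hC.trans (inf_eq_left.2 hne)
    exact ⟨Equiv.subtypeUnivEquiv fun χ => invBy_of_le_centralizer _ (le_centralizer_iff.1 hne),
      fun χ => liesOverLe_of_resLe_eq rfl⟩
  obtain ⟨p, P, T, hp, hP, hG, hPT, hTS, hST, hT, hne'⟩ := exists_glaub_step hn hcop hne
  let B := G ⊓ centralizer (T : Set Γ)
  have hB : B ≤ G := inf_le_left
  have hSB : S ≤ normalizer (B : Set Γ) := GT.le_normalizer_inf hn (GT.le_normalizer_centralizer hST)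
  have hCB : C = B ⊓ centralizer (S : Set Γ) := by
    rw [hC, inf_assoc, inf_eq_right.2 (GT.centralizer_anti hTS)]
  have h' : C ≤ B := hCB.le.trans inf_le_left
  have hPG := (hPT.trans hTS).trans hn
  obtain ⟨e₁, he₁⟩ := ((glaubP_of_isPGroup hp hP hPG hG
    (inf_centralizer_eq_of_le_sup le_rfl hPT hT) hB).congr fun χ =>
      invBy_iff_of_le_sup le_rfl hPT hT hPG χ.1).exists_equiv hp hTS hn hSB hST
  obtain ⟨e₂, he₂⟩ := ih _ (hm ▸ GT.card_lt_of_lt (inf_lt_left.2 hne')) hSB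
    (hcop.of_dvd_left (card_dvd_of_le hB)) hCB h' rfl
  exact ⟨e₁.trans e₂, fun χ => LiesOverLe.trans (h := hB) (h' := h') (irr_isCharacter _)
    (irr_isCharacter _) ((he₁ χ).ip_ne_zero hp ((irr_isCharacter _).resLe hB)) (he₂ _)⟩

theorem card_invBy_eq [Group.IsSolvable S] (hn : S ≤ normalizer (G : Set Γ))
    (hcop : (Nat.card G).Coprime (Nat.card S)) (hC : C = G ⊓ centralizer (S : Set Γ)) :
    Nat.card {χ : IrrCharacter G // InvBy S χ.1} = Nat.card (IrrCharacter C) := by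
  obtain ⟨e, -⟩ := exists_glauberman_equiv hn hcop hC (hC.le.trans inf_le_left)
  exact Nat.card_congr e

/-- Isaacs 13.30. -/
theorem exists_invBy_liesOver_of_isSolvable_left [Group.IsSolvable S]
    (hn : S ≤ normalizer (G : Set Γ)) (hcop : (Nat.card G).Coprime (Nat.card S)) (hNG : N ≤ G)
    (hGN : G ≤ normalizer (N : Set Γ)) (hN : S ≤ normalizer (N : Set Γ)) {θ : IrrCharacter N}
    (hθ : InvBy S θ.1) : ∃ χ : IrrCharacter G, LiesOverLe hNG χ.1 θ.1 ∧ InvBy S χ.1 := by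
  induction hm : Nat.card G using Nat.strong_induction_on generalizing G N with
  | _ m ih =>
  by_cases hne : G ≤ centralizer (S : Set Γ)
  · obtain ⟨χ, hχ⟩ := exists_irr_liesOverLe hNG θ
    exact ⟨χ, hχ, invBy_of_le_centralizer _ (le_centralizer_iff.1 hne)⟩
  obtain ⟨p, P, T, hp, hP, hG, hPT, hTS, hST, hT, hne'⟩ := exists_glaub_step hn hcop hne
  let B := G ⊓ centralizer (T : Set Γ)
  let D := N ⊓ centralizer (T : Set Γ)
  have hB : B ≤ G := inf_le_left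
  have hD : D ≤ N := inf_le_left
  have hDB : D ≤ B := inf_le_inf_right _ hNG
  have hSB : S ≤ normalizer (B : Set Γ) := GT.le_normalizer_inf hn (GT.le_normalizer_centralizer hST)
  have hSD : S ≤ normalizer (D : Set Γ) := GT.le_normalizer_inf hN (GT.le_normalizer_centralizer hST)
  have hBD : B ≤ normalizer (D : Set Γ) :=
    GT.le_normalizer_inf (hB.trans hGN) (inf_le_right.trans le_normalizer)
  have hPG := (hPT.trans hTS).trans hn
  have hPN := (hPT.trans hTS).trans hN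
  have H1 := glaubP_of_isPGroup hp hP hPG hG (inf_centralizer_eq_of_le_sup le_rfl hPT hT) hB
  have H2 := glaubP_of_isPGroup hp hP hPN (fun hd => hG (hd.trans (card_dvd_of_le hNG)))
    (inf_centralizer_eq_of_le_sup hNG hPT hT) hD
  obtain ⟨φ, hφ⟩ := H2.ex θ (hθ.mono (hPT.trans hTS))
  obtain ⟨ξ, h1, h2⟩ := ih _ (hm ▸ GT.card_lt_of_lt (inf_lt_left.2 hne')) hSB
    (hcop.of_dvd_left (card_dvd_of_le hB)) hDB hBD hSD (hφ.invBy hp hSD (hθ.resLe hD)) rfl
  obtain ⟨χ, h3, h4⟩ := H1.surj ξ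
  have := normal_subgroupOf_of_le_normalizer hGN
  have := normal_subgroupOf_of_le_normalizer hBD
  refine ⟨χ, (H2.liesOverLe_iff hp hP hPN (le_centralizer_iff.1 (inf_le_right.trans
    (GT.centralizer_anti hPT))) hNG hG hDB h3 (hθ.mono (hPT.trans hTS)) h4 hφ).2 h1, ?_⟩
  exact (H1.congr fun χ => invBy_iff_of_le_sup le_rfl hPT hT hPG χ.1).invBy (hTS.trans hn) hn hSB
    hST ((invBy_iff_of_le_sup le_rfl hPT hT hPG χ.1).2 h3) h4 h2

/-- Isaacs 13.10: the invariant classes correspond to the classes of the fixed point subgroup. -/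
theorem card_invariant_conjClasses (H : GT.CoprimeAct S G) (hC : C = G ⊓ centralizer (S : Set Γ)) :
    Nat.card {K : ConjClasses G // ∀ s ∈ S, ∀ g g' : G, (g' : Γ) = s * g * s⁻¹ →
      ConjClasses.mk g = K → ConjClasses.mk g' = K} = Nat.card (ConjClasses C) := by
  have h : C ≤ G := hC.le.trans inf_le_left
  have hc : ∀ c : C, (c : Γ) ∈ centralizer (S : Set Γ) := fun c => (hC.le c.2).2
  have hmk : ∀ c : C, (ConjClasses.mk c).map (inclusion h) = ConjClasses.mk (inclusion h c) :=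
    fun _ => rfl
  symm
  refine Nat.card_congr (Equiv.ofBijective (fun K => ⟨K.map (inclusion h), ?_⟩) ⟨?_, ?_⟩)
  · obtain ⟨c, rfl⟩ := K.exists_rep
    intro s hs g g' hg hK
    rw [hmk, ConjClasses.mk_eq_mk_iff_isConj] at hK ⊢
    obtain ⟨y, hy⟩ := isConj_iff.1 hK
    refine isConj_iff.2 ⟨⟨_, GT.conj_mem_of_mem_normalizer (H.norm hs) y.2⟩, Subtype.ext ?_⟩
    have h1 : (y : Γ) * g * (y : Γ)⁻¹ = c := congrArg Subtype.val hy
    have h2 : s * c * s⁻¹ = c := by rw [hc c s hs, mul_inv_cancel_right]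
    change s * y * s⁻¹ * g' * (s * y * s⁻¹)⁻¹ = c
    rw [hg, ← h2, ← h1]; group
  · intro K L hKL
    obtain ⟨c, rfl⟩ := K.exists_rep
    obtain ⟨d, rfl⟩ := L.exists_rep
    have h1 := congrArg Subtype.val hKL
    simp only [hmk, ConjClasses.mk_eq_mk_iff_isConj] at h1 ⊢
    obtain ⟨y, hy⟩ := isConj_iff.1 h1
    have h2 : (y : Γ) * c * (y : Γ)⁻¹ = d := congrArg Subtype.val hy
    obtain ⟨z, hz, h3⟩ := H.exists_mem_centralizer_conj y.2 (hc c) (h2 ▸ hc d)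
    exact isConj_iff.2 ⟨⟨z, hC.ge hz⟩, Subtype.ext (h3.trans h2)⟩
  · rintro ⟨K, hK⟩
    obtain ⟨g, rfl⟩ := K.exists_rep
    obtain ⟨y, hy, h1⟩ := H.exists_conj_mem_centralizer (x := g) fun a ha => by
      obtain ⟨z, hz⟩ := isConj_iff.1 (ConjClasses.mk_eq_mk_iff_isConj.1
        (hK a ha g ⟨_, GT.conj_mem_of_mem_normalizer (H.norm ha) g.2⟩ rfl rfl)).symm
      exact ⟨z, z.2, (congrArg Subtype.val hz).symm⟩
    refine ⟨ConjClasses.mk ⟨_, hC.ge (mem_inf.2 ⟨mul_mem (mul_mem hy g.2) (inv_mem hy), h1⟩)⟩,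
      Subtype.ext ?_⟩
    simp only [hmk, ConjClasses.mk_eq_mk_iff_isConj]
    exact IsConj.symm (isConj_iff.2 ⟨⟨y, hy⟩, rfl⟩)

end CT
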