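import Cfsg.Agent.Lib.Char.GlaubRel
import Cfsg.Agent.Lib.Char.CliffordCorr
import Cfsg.Agent.Lib.Grp.InvAut
import Cfsg.Agent.Lib.Grp.Frob
import Cfsg.Agent.Lib.Char.Det

/-!
# The Isaacs correspondence step for groups of odd order
-/

set_option autoImplicit false

namespace CT

open Cfsg Subgroup
open scoped Pointwise commutatorElement

/-- A relation which is a bijection between the elements satisfying `P` and those satisfying `Q`. -/
structure RelBij {α β : Type*} (R : α → β → Prop) (P : α → Prop) (Q : β → Prop) : Prop where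
  ex : ∀ a, P a → ∃ b, Q b ∧ R a b
  surj : ∀ b, Q b → ∃ a, P a ∧ R a b
  uniq : ∀ a b b', P a → Q b → Q b' → R a b → R a b' → b = b'
  inj : ∀ a a' b, P a → P a' → Q b → R a b → R a' b → a = a'

theorem RelBij.transfer {α β α' β' : Type*} {R : α → β → Prop} {P : α → Prop} {Q : β → Prop}
    {R' : α' → β' → Prop} {P' : α' → Prop} {Q' : β' → Prop} (h : RelBij R' P' Q')
    {F : α → α' → Prop} {F' : β → β' → Prop} (hF : RelBij F P P') (hF' : RelBij F' Q Q')
    (e : ∀ a a' b b', P a → P' a' → Q b → Q' b' → F a a' → F' b b' → (R a b ↔ R' a' b')) :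
    RelBij R P Q where
  ex a ha := by
    obtain ⟨a', h1, h2⟩ := hF.ex a ha
    obtain ⟨b', h3, h4⟩ := h.ex a' h1
    obtain ⟨b, h5, h6⟩ := hF'.surj b' h3
    exact ⟨b, h5, (e a a' b b' ha h1 h5 h3 h2 h6).2 h4⟩
  surj b hb := by
    obtain ⟨b', h1, h2⟩ := hF'.ex b hb
    obtain ⟨a', h3, h4⟩ := h.surj b' h1
    obtain ⟨a, h5, h6⟩ := hF.surj a' h3
    exact ⟨a, h5, (e a a' b b' h5 h3 hb h1 h6 h2).2 h4⟩
  uniq a b c ha hb hc h1 h2 := by
    obtain ⟨a', h3, h4⟩ := hF.ex a ha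
    obtain ⟨b', h5, h6⟩ := hF'.ex b hb
    obtain ⟨c', h7, h8⟩ := hF'.ex c hc
    obtain rfl := h.uniq a' b' c' h3 h5 h7 ((e a a' b b' ha h3 hb h5 h4 h6).1 h1)
      ((e a a' c c' ha h3 hc h7 h4 h8).1 h2)
    exact hF'.inj b c b' hb hc h5 h6 h8
  inj a c b ha hc hb h1 h2 := by
    obtain ⟨a', h3, h4⟩ := hF.ex a ha
    obtain ⟨c', h7, h8⟩ := hF.ex c hc
    obtain ⟨b', h5, h6⟩ := hF'.ex b hb
    obtain rfl := h.inj a' c' b' h3 h7 h5 ((e a a' b b' ha h3 hb h5 h4 h6).1 h1)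
      ((e c c' b b' hc h7 hb h5 h8 h6).1 h2)
    exact hF.inj a c a' ha hc h3 h4 h8

theorem RelBij.of_equiv {α β : Type*} (e : α ≃ β) {P : α → Prop} {Q : β → Prop}
    (h : ∀ a, P a ↔ Q (e a)) : RelBij (fun a b => e a = b) P Q where
  ex a ha := ⟨_, (h a).1 ha, rfl⟩
  surj b hb := ⟨e.symm b, (h _).2 (by rwa [e.apply_symm_apply]), e.apply_symm_apply b⟩
  uniq _ _ _ _ _ _ h1 h2 := h1.symm.trans h2
  inj _ _ _ _ _ _ h1 h2 := e.injective (h1.trans h2.symm)

theorem RelBij.card_eq {α β : Type*} {R : α → β → Prop} {P : α → Prop} {Q : β → Prop}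
    (h : RelBij R P Q) : Nat.card {a // P a} = Nat.card {b // Q b} := by
  obtain ⟨e, -⟩ := exists_equiv_of_rel (fun (a : {a // P a}) (b : {b // Q b}) => R a.1 b.1)
    (fun a => let ⟨b, h1, h2⟩ := h.ex a.1 a.2; ⟨⟨b, h1⟩, h2⟩)
    (fun b => let ⟨a, h1, h2⟩ := h.surj b.1 b.2; ⟨⟨a, h1⟩, h2⟩)
    (fun a b b' h1 h2 => Subtype.ext (h.uniq _ _ _ a.2 b.2 b'.2 h1 h2))
    (fun a a' b h1 h2 => Subtype.ext (h.inj _ _ _ a.2 a'.2 b.2 h1 h2))
  exact Nat.card_congr e

theorem lin_smul_eq_of_pow {G : Type*} [Group G] [Finite G] {N : Subgroup G} [N.Normal]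
    {f : G →* ℂˣ} (hf : N ≤ f.ker) {n : ℕ} (hn : N.index.Coprime n) {χ : IrrCharacter G}
    (h : ∀ g, χ.1 g ≠ 0 → f g ^ n = 1) : f • χ = χ :=
  (lin_smul_eq_self_iff f χ).2 fun g hg => by_contra fun h1 => hg
    ((pow_eq_one_iff_of_coprime hn).1 ⟨by rw [← map_pow]; exact hf (pow_index_mem N g), h g h1⟩)

variable {Γ : Type*} [Group Γ] [Finite Γ] {G H K L C D S T U : Subgroup Γ}

/-- If `S` has no fixed points on the abelian group `K / D`, a character of `D` lies under at most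
one `S`-invariant character of `K`. -/
theorem eq_of_invBy_of_le_commutator_sup (hDK : D ≤ K) (hab : ⁅K, K⁆ ≤ D)
    (hn : S ≤ normalizer (K : Set Γ)) (hD : S ≤ normalizer (D : Set Γ))
    (hcop : (D.relIndex K).Coprime (Nat.card S)) (hK : K ≤ ⁅K, S⁆ ⊔ D) {η η' : IrrCharacter K}
    (hη : InvBy S η.1) (hη' : InvBy S η'.1) {μ : IrrCharacter D} (h1 : LiesOverLe hDK η.1 μ.1)
    (h2 : LiesOverLe hDK η'.1 μ.1) : η = η' := by
  have hab' := commutator_le_subgroupOf hab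
  have hNn : (D.subgroupOf K).Normal := Subgroup.Normal.of_commutator_le _ hab'
  obtain ⟨f, hf, rfl⟩ := exists_lin_smul_of_liesOver hab' ((liesOver_irrOf_iff hDK).2 h1)
    ((liesOver_irrOf_iff hDK).2 h2)
  have := Fintype.ofFinite S
  let α : S →* MulAut K := K.normalizerMonoidHom.comp (inclusion hn)
  let F : S → (K →* ℂˣ) := fun s => f.comp (α s).toMonoidHom
  have h4 : ∏ s, F s = 1 := by
    have h5 : ⁅K, S⁆ ⊔ D ≤ (∏ s, F s).ker.map K.subtype := by
      refine sup_le (commutator_le.2 fun k hk t ht => ⟨⟨k, hk⟩ * (α ⟨t, ht⟩ ⟨k, hk⟩)⁻¹, ?_, ?_⟩)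
        fun d hd => ⟨⟨d, hDK hd⟩, ?_, rfl⟩
      · rw [SetLike.mem_coe, MonoidHom.mem_ker, map_mul, map_inv, mul_inv_eq_one,
          MonoidHom.finsetProd_apply, MonoidHom.finsetProd_apply]
        refine (Fintype.prod_equiv (Equiv.mulRight ⟨t, ht⟩) _ _ fun s => ?_).symm
        simp [F]
      · change k * (t * k * t⁻¹)⁻¹ = _
        rw [commutatorElement_def]; group
      · rw [SetLike.mem_coe, MonoidHom.mem_ker, MonoidHom.finsetProd_apply]
        exact Finset.prod_eq_one fun s _ =>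
          hf (mem_subgroupOf.2 (GT.conj_mem_of_mem_normalizer (hD s.2) hd))
    refine MonoidHom.ext fun k => ?_
    obtain ⟨k', h6, h7⟩ := h5 (hK k.2)
    obtain rfl : k' = k := Subtype.ext h7
    exact h6
  refine (lin_smul_eq_of_pow hf hcop fun k hk => ?_).symm
  have h5 := DFunLike.congr_fun h4 k
  rw [MonoidHom.finsetProd_apply, Finset.prod_congr rfl (g := fun _ => f k), Finset.prod_const,
    Finset.card_univ, Fintype.card_eq_nat_card] at h5
  · exact h5
  · intro s _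
    have h6 := hη' s s.2 k (α s k) rfl
    rw [lin_smul_apply, lin_smul_apply, hη s s.2 k (α s k) rfl] at h6
    exact Units.ext (mul_right_cancel₀ hk h6)

/-- An involutory automorphism acting trivially on a quotient `G / K` of odd order and fixing an
invariant character `θ` of `K` fixes all characters over `θ`. -/
theorem apply_aut_eq_of_liesOver {G : Type*} [Group G] [Finite G] {K : Subgroup G} [K.Normal]
    (hodd : Odd K.index) (σ : MulAut G) (hσ : ∀ g, σ (σ g) = g) (hK : ∀ g, σ g * g⁻¹ ∈ K)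
    {θ : IrrCharacter K} (hinv : ∀ g : G, g • θ = θ)
    (hθ : ∀ k k' : K, (k' : G) = σ k → θ.1 k' = θ.1 k) {χ : IrrCharacter G}
    (hχ : LiesOver K χ.1 θ.1) (g : G) : χ.1 (σ g) = χ.1 g := by
  let B := K ⊔ zpowers g
  have hKB : K ≤ B := le_sup_left
  have hg : g ∈ B := mem_sup_right (mem_zpowers g)
  have hB : ∀ b ∈ B, σ b ∈ B := fun b hb => by simpa using mul_mem (hKB (hK b)) hb
  let τ : B →* B := (σ.toMonoidHom.comp B.subtype).codRestrict B fun b => hB b b.2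
  have hτ : ∀ b, τ (τ b) = b := fun b => Subtype.ext (hσ b)
  have hs : Function.Surjective τ := fun b => ⟨τ b, hτ b⟩
  have hab : _root_.commutator B ≤ K.subgroupOf B :=
    commutator_le_of_sup_zpowers_eq_top (g := ⟨g, hg⟩) (by
      rw [← map_subtype_inj, Subgroup.map_sup, map_subgroupOf_eq_of_le hKB,
        MonoidHom.map_zpowers, ← MonoidHom.range_eq_map, range_subtype]; rfl)
  have key : ∀ η : IrrCharacter B, LiesOver B χ.1 η.1 → ∀ b, η.1 (τ b) = η.1 b := fun η hη => by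
    obtain ⟨θ', h1⟩ := exists_irr_liesUnderLe hKB η
    obtain ⟨x, rfl⟩ := hχ.mem_orbit (hη.trans_le hKB (irr_isCharacter χ) (irr_isCharacter θ') h1)
    simp only [hinv x] at h1
    have h2 := clifford_invariant_le' (fun t _ => hinv t) h1
    have h3 : LiesOverLe hKB (irrComp τ hs η).1 θ.1 := by
      have : resLe hKB (irrComp τ hs η).1 = resLe hKB η.1 := funext fun k => by
        have hk : σ k ∈ K := by simpa using mul_mem (hK k) k.2
        rw [congrFun h2 k, Pi.smul_apply, ← hθ k ⟨_, hk⟩ rfl]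
        exact congrFun h2 ⟨_, hk⟩
      unfold LiesOverLe
      rwa [this]
    obtain ⟨f, hf, h4⟩ := exists_lin_smul_of_liesOver hab ((liesOver_irrOf_iff hKB).2 h1)
      ((liesOver_irrOf_iff hKB).2 h3)
    have h5 : ∀ b, η.1 (τ b) = f b * η.1 b := fun b => (congrFun (congrArg Subtype.val h4) b).symm
    have h7 := lin_smul_eq_of_pow hf (χ := η)
      ((Nat.coprime_two_right.2 hodd).of_dvd_left (relIndex_dvd_index_of_normal K B)) fun b hb => by
        have h7 : f (τ b) = f b := by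
          rw [← mul_inv_eq_one, ← map_inv, ← map_mul]; exact hf (mem_subgroupOf.2 (hK b))
        have h8 := h5 (τ b)
        rw [hτ, h7, h5 b] at h8
        refine Units.ext (mul_right_cancel₀ hb ?_)
        rw [Units.val_pow_eq_pow_val, Units.val_one, one_mul, sq, mul_assoc, ← h8]
    intro b
    rw [h5, ← lin_smul_apply, h7]
  have h1 := ((irr_isClassFunction χ).res B).apply_eq_sum_irr
  rw [show χ.1 (σ g) = _ from h1 (τ ⟨g, hg⟩), show χ.1 g = _ from h1 ⟨g, hg⟩]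
  refine Finset.sum_congr rfl fun η _ => ?_
  by_cases h : LiesOver B χ.1 η.1
  · rw [key η h]
  · rw [not_not.1 h, zero_mul, zero_mul]

theorem glaubP_two_of_commutator_le_center (H : GT.CoprimeAct S G) (hodd : Odd (Nat.card G))
    (hZ : ⁅⁅G, S⁆, ⁅G, S⁆⁆ ≤ Subgroup.center Γ) (hC : C = G ⊓ centralizer (S : Set Γ))
    (h : C ≤ G) : GlaubP 2 S h := by
  obtain ⟨σ, h1, h2, h3, h4⟩ := H.exists_inversion hZ
  set K := ⁅G, S⁆ with hK
  have HK : GT.CoprimeAct S K := H.commutator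
  have hKG : K ≤ G := H.commutator_le
  have hDK : ⁅K, K⁆ ≤ K := commutator_le_self K
  have hGK : G ≤ normalizer (K : Set Γ) := normalizer_commutator_ge_left G S
  have hZS : ⁅K, K⁆ ≤ centralizer (S : Set Γ) := hZ.trans (center_le_centralizer _)
  have hσK : ∀ k : G, (k : Γ) ∈ K → (σ k : Γ) ∈ K := fun k hk => by
    simpa using mul_mem (inv_mem hk) (hDK (h3 k hk))
  have hdec : ∀ g : G, ∃ k c : G, (k : Γ) ∈ K ∧ (c : Γ) ∈ centralizer (S : Set Γ) ∧ k * c = g :=
    fun g => by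
      obtain ⟨k, hk, c, hc, e⟩ := H.exists_commutator_mul_centralizer g.2
      exact ⟨⟨k, hKG hk⟩, ⟨c, hc.1⟩, hk, hc.2, Subtype.ext e⟩
  have hfix : ∀ g, g ∈ (inclusion h).range ↔ σ g = g := fun g => by
    refine ⟨?_, fun hg => ?_⟩
    · rintro ⟨c, rfl⟩
      exact h2 _ (hC.le c.2).2
    · obtain ⟨k, c, hk, hc, rfl⟩ := hdec g
      rw [map_mul, h2 c hc, mul_left_inj] at hg
      have h5 := h3 k hk
      rw [hg, ← sq] at h5
      obtain ⟨m, hm⟩ := exists_pow_eq_self_of_coprime (x := (k : Γ)) (n := 2)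
        ((Nat.coprime_two_left.2 hodd).of_dvd_right (G.orderOf_dvd_natCard k.2))
      exact ⟨⟨k * c, hC.ge ⟨(k * c).2, mul_mem (hm ▸ hZS (pow_mem h5 m)) hc⟩⟩, rfl⟩
  obtain ⟨e1, e2, e3⟩ := glauberman_aut σ Nat.prime_two (k := 1) (by ext g; simp [sq, h1])
    hodd.not_two_dvd_nat (inclusion h) (inclusion_injective h) hfix
  have key : ∀ χ : IrrCharacter G, InvBy S χ.1 → ∀ g, χ.1 (σ g) = χ.1 g := fun χ hχ => by
    have hKn := normal_subgroupOf_of_le_normalizer hGK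
    obtain ⟨θ, h5, h6⟩ := exists_invBy_liesUnder hKG H.norm HK.norm
      (H.cop.of_dvd_left (relIndex_dvd_card K G)) (H.solv.imp_left fun h => by have := h; infer_instance) hχ
    obtain ⟨μ, hμ⟩ := exists_irr_liesUnderLe hDK θ
    have U : ∀ θ' : IrrCharacter K, InvBy S θ'.1 → LiesOverLe hDK θ'.1 μ.1 → θ' = θ :=
      fun θ' h7 h8 => eq_of_invBy_of_le_commutator_sup hDK le_rfl HK.norm
        (GT.le_normalizer_commutator HK.norm HK.norm) (HK.cop.of_dvd_left (relIndex_dvd_card _ K))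
        (H.commutator_commutator_eq.ge.trans le_sup_left) h7 h6 h8 hμ
    have hCK : C ≤ normalizer (K : Set Γ) := h.trans hGK
    have h7 : InvBy C θ.1 := fun c hc => by
      obtain ⟨θ', h8⟩ := exists_isConjCharOf (hCK hc) θ
      have hc' : c ∈ centralizer ((⁅K, K⁆ : Subgroup Γ) : Set Γ) :=
        le_centralizer_iff.1 (hZ.trans (center_le_centralizer (C : Set Γ))) hc
      rwa [U θ' (h6.of_isConjCharOf HK.norm (hCK hc) (centralizer_le_normalizer _ (hC.le hc).2) h8)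
        ((h8.liesOverLe_iff hDK (centralizer_le_normalizer _ hc')
          (isConjCharOf_of_mem_centralizer _ hc')).2 hμ)] at h8
    have h8 : InvBy G θ.1 := ((invBy_self (irr_isClassFunction θ)).sup h7 le_normalizer hCK).mono
      (hC ▸ H.commutator_sup_inf_centralizer.ge)
    let τ : K →* K := ((G.subtype.comp σ.toMonoidHom).comp (inclusion hKG)).codRestrict K
      fun k => hσK _ k.2
    have hτ : Function.Surjective τ := fun k => ⟨τ k, Subtype.ext (congrArg Subtype.val (h1 (inclusion hKG k)) :)⟩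
    have h9 := U (irrComp τ hτ θ) (fun s hs k k' e =>
      h6 s hs (τ k) (τ k') (h4 s hs (inclusion hKG k) (inclusion hKG k') e)) (by
        have : resLe hDK (irrComp τ hτ θ).1 = resLe hDK θ.1 := funext fun d =>
          congrArg θ.1 (Subtype.ext (congrArg Subtype.val (h2 ⟨d, hKG (hDK d.2)⟩ (hZS d.2)) :))
        unfold LiesOverLe
        rwa [this])
    refine apply_aut_eq_of_liesOver (K := K.subgroupOf G) (hodd.of_dvd_nat (index_dvd_card _)) σ h1
      (fun g => ?_) (θ := irrOf hKG θ) (fun g => (smul_irrOf_eq_iff hKG).2 (h8 g g.2))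
      (fun k k' e => ?_) ((liesOver_irrOf_iff hKG).2 h5)
    · obtain ⟨k, c, hk, hc, rfl⟩ := hdec g
      rw [map_mul, h2 c hc, mul_inv_rev, mul_assoc, mul_inv_cancel_left]
      exact mul_mem (hσK k hk) (inv_mem hk)
    · rw [irrOf_apply, irrOf_apply, ← congrFun (congrArg Subtype.val h9) ⟨k, k.2⟩]
      exact congrArg θ.1 (Subtype.ext (congrArg Subtype.val e :))
  refine ⟨fun χ hχ => e1 χ (key χ hχ), fun χ χ' hχ hχ' => e2 χ χ' (key χ hχ) (key χ' hχ'),
    fun β => ?_⟩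
  · obtain ⟨χ, h5, h6⟩ := e3 β
    refine ⟨χ, fun s hs => ?_, h6⟩
    obtain ⟨χ', hc⟩ := exists_isConjCharOf (H.norm hs) χ
    have hs' : s ∈ centralizer (C : Set Γ) := le_centralizer_iff.1 (hC.le.trans inf_le_right) hs
    have h7 : resLe h χ'.1 = resLe h χ.1 := (hc.resLe h).unique (centralizer_le_normalizer _ hs')
      (isConjCharOf_of_mem_centralizer _ hs')
    obtain rfl := e2 χ χ' h5 (fun g' => by
      have h8 := GT.conj_mem_of_mem_normalizer (H.norm (inv_mem hs)) g'.2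
      have h9 : (g' : Γ) = s * (⟨_, h8⟩ : G) * s⁻¹ := by simp [mul_assoc]
      rw [hc _ _ h9, hc _ _ (h4 s hs _ _ h9), h5]) β h6 (h7 ▸ h6 : ModCorr 2 (resLe h χ'.1) β)
    exact hc

/-- `χ_H` contains `ψ` with odd multiplicity. -/
def OddRel (h : H ≤ G) (χ : IrrCharacter G) (ψ : IrrCharacter H) : Prop :=
  Odd (mult (resLe h χ.1) ψ.1)

/-- `χ` is `S`-invariant and lies over `φ`. -/
def InvOver (S : Subgroup Γ) (h : L ≤ G) (φ : IrrCharacter L) (χ : IrrCharacter G) : Prop :=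
  InvBy S χ.1 ∧ LiesOverLe h χ.1 φ.1

theorem OddRel.liesOverLe {h : H ≤ G} {χ : IrrCharacter G} {ψ : IrrCharacter H}
    (h1 : OddRel h χ ψ) : LiesOverLe h χ.1 ψ.1 :=
  (liesOverLe_iff_mult_pos h (irr_isCharacter χ) (irr_isCharacter ψ)).2 h1.pos

/-- The situation of the Isaacs correspondence step. -/
structure IsaacsHyp (S G L H : Subgroup Γ) : Prop where
  act : GT.CoprimeAct S G
  odd : Odd (Nat.card G)
  le : L ≤ G
  normG : G ≤ normalizer (L : Set Γ)
  normS : S ≤ normalizer (L : Set Γ)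
  ab : ⁅⁅G, S⁆, ⁅G, S⁆⁆ ≤ L
  mem : ∀ g, g ∈ H ↔ g ∈ G ∧ ∀ s ∈ S, ⁅g, s⁆ ∈ L

namespace IsaacsHyp

variable (I : IsaacsHyp S G L H)
include I

omit [Finite Γ] in
theorem hHG : H ≤ G := fun g hg => ((I.mem g).1 hg).1

omit [Finite Γ] in
theorem hLH : L ≤ H := fun g hg => (I.mem g).2 ⟨I.le hg, fun s hs => by
  rw [commutatorElement_def, mul_assoc, mul_assoc, ← mul_assoc s]
  exact mul_mem hg (GT.conj_mem_of_mem_normalizer (I.normS hs) (inv_mem hg))⟩

theorem normH : S ≤ normalizer (H : Set Γ) := fun s hs =>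
  GT.mem_normalizer_of_conj_mem fun g hg => by
    have := mul_mem (inv_mem (I.hLH (((I.mem g).1 hg).2 s hs))) hg
    convert this using 1
    rw [commutatorElement_def]; group

omit [Finite Γ] in
theorem inf_centralizer_le : G ⊓ centralizer (S : Set Γ) ≤ H := fun g hg =>
  (I.mem g).2 ⟨hg.1, fun s hs => by
    rw [commutatorElement_eq_one_iff_mul_comm.2 (hg.2 s hs).symm]; exact one_mem _⟩

theorem relBij_of_le_center (hL : L ≤ Subgroup.center Γ) (φ : IrrCharacter L) :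
    RelBij (OddRel I.hHG) (InvOver S I.le φ) (InvOver S I.hLH φ) := by
  have hC : H = G ⊓ centralizer (S : Set Γ) := le_antisymm (le_inf I.hHG
    ((I.act.of_le I.hHG I.normH).le_centralizer_of_commutator_le_of_le
      (commutator_le.2 fun g hg => ((I.mem g).1 hg).2) (hL.trans (center_le_centralizer _))))
    I.inf_centralizer_le
  have P := glaubP_two_of_commutator_le_center I.act I.odd (I.ab.trans hL) hC I.hHG
  have hS : S ≤ centralizer (H : Set Γ) := le_centralizer_iff.1 (hC.le.trans inf_le_right)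
  have := normal_of_le_center' hL
  have h2 : ∀ {χ : IrrCharacter G} {ψ : IrrCharacter H}, OddRel I.hHG χ ψ ↔
      ¬ 2 ∣ mult (resLe I.hHG χ.1) ψ.1 := by
    intro χ ψ; rw [OddRel, ← Nat.not_even_iff_odd, even_iff_two_dvd]
  refine ⟨fun χ hχ => ?_, fun ψ hψ => ?_, fun χ ψ ψ' hχ _ _ h3 h4 => ?_,
    fun χ χ' ψ hχ hχ' _ h3 h4 => ?_⟩
  · obtain ⟨β, h3⟩ := P.ex χ hχ.1
    have h4 := h2.2 (h3.not_dvd Nat.prime_two)
    obtain ⟨φ', h5⟩ := exists_irr_liesUnderLe I.hLH β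
    obtain ⟨t, -, rfl⟩ := hχ.2.exists_smul
      (h4.liesOverLe.trans (irr_isCharacter χ) (irr_isCharacter φ') h5)
    rw [conjSmul_of_le_center hL] at h5
    exact ⟨β, ⟨invBy_of_le_centralizer _ hS, h5⟩, h4⟩
  · obtain ⟨χ, h3, h4⟩ := P.surj ψ
    have h5 := h2.2 (h4.not_dvd Nat.prime_two)
    exact ⟨χ, ⟨h3, h5.liesOverLe.trans (irr_isCharacter χ) (irr_isCharacter φ) hψ.2⟩, h5⟩
  · exact ((P.modCorr_of_not_dvd hχ.1 (h2.1 h3)).eq_of_not_dvd (h2.1 h4)).symm
  · exact P.inj χ χ' hχ.1 hχ'.1 ψ (P.modCorr_of_not_dvd hχ.1 (h2.1 h3))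
      (P.modCorr_of_not_dvd hχ'.1 (h2.1 h4))

end IsaacsHyp

theorem CentralExt.relBij_rel [L.Normal] {φ : IrrCharacter L} (E : CentralExt L φ.1)
    {lam : IrrCharacter (E.star L)} (hlam : E.Rel φ.1 lam.1) (hLU : L ≤ U)
    (hS : S ≤ normalizer (U : Set Γ)) {S₁ : Subgroup E.Q} (h : E.star L ⊔ S₁ = E.star S) :
    RelBij (fun χ β => E.Rel χ.1 β.1) (InvOver S hLU φ) (InvOver S₁ (E.star_mono hLU) lam) := by
  have key : ∀ (χ : IrrCharacter U) (β : IrrCharacter (E.star U)), E.Rel χ.1 β.1 →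
      (InvOver S hLU φ χ ↔ InvOver S₁ (E.star_mono hLU) lam β) := fun χ β h1 => by
    refine and_congr ((h1.invBy_iff hLU hS).trans ⟨fun h2 => h2.mono (h ▸ le_sup_right),
      fun h2 => h ▸ ?_⟩) (h1.liesOverLe_iff le_rfl hLU hlam)
    have h3 := E.star_self_le_center.trans (center_le_centralizer (E.star U : Set E.Q))
    exact (invBy_of_le_centralizer _ h3).sup h2 (h3.trans (centralizer_le_normalizer _))
      ((le_sup_right.trans h.le).trans (E.star_le_normalizer hS))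
  refine ⟨fun χ hχ => ?_, fun β hβ => ?_, fun χ β β' _ _ _ h1 h2 => ?_,
    fun χ χ' β _ _ _ h1 h2 => ?_⟩
  · obtain ⟨β, h1⟩ := E.exists_rel_right hLU hχ.2
    exact ⟨β, (key χ β h1).1 hχ, h1⟩
  · obtain ⟨χ, h1⟩ := CentralExt.exists_rel_left hLU hlam hβ.2
    exact ⟨χ, (key χ β h1).2 hβ, h1⟩
  · exact Subtype.ext (h1.right_unique hLU h2)
  · exact Subtype.ext (h1.left_unique h2)

theorem IsaacsHyp.relBij_of_invariant [L.Normal] (I : IsaacsHyp S G L H) {φ : IrrCharacter L}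
    (hφ : InvBy ⊤ φ.1) : RelBij (OddRel I.hHG) (InvOver S I.le φ) (InvOver S I.hLH φ) := by
  obtain ⟨E⟩ := nonempty_centralExt L φ fun x n => hφ x trivial n _ rfl
  obtain ⟨lam, hlam⟩ := E.exists_rel_self
  have hZ : Nat.card (E.star L) ∣ Nat.card G * Nat.card G :=
    E.card_star_self_dvd.trans (mul_dvd_mul ((irr_degree_dvd_card φ).trans (card_dvd_of_le I.le))
      ((detOrder_dvd_card φ.1).trans (card_dvd_of_le I.le)))
  have hG : Nat.card (E.star G) ∣ Nat.card G * (Nat.card G * Nat.card G) :=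
    E.card_star G ▸ mul_dvd_mul (relIndex_dvd_card L G) hZ
  have h1 : (E.star L).relIndex (E.star S) ∣ Nat.card S := by
    rw [← E.star_sup_self S, E.relIndex_star le_rfl le_sup_right, relIndex_sup_right]
    exact relIndex_dvd_card L S
  obtain ⟨S₁, h2, h3, -, h4⟩ := GT.exists_complement_in (E.star_self_le S)
    (by rw [normalizer_eq_top]; exact le_top)
    (Nat.Coprime.of_dvd hZ h1 (I.act.cop.mul_left I.act.cop))
  have I' : IsaacsHyp S₁ (E.star G) (E.star L) (E.star H) := by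
    refine ⟨⟨h2.trans (E.star_le_normalizer I.act.norm), Nat.Coprime.of_dvd hG (h4 ▸ h1)
      (I.act.cop.mul_left (I.act.cop.mul_left I.act.cop)), ?_⟩,
      (I.odd.mul (I.odd.mul I.odd)).of_dvd_nat hG, E.star_mono I.le, E.star_le_normalizer I.normG,
      h2.trans (E.star_le_normalizer I.normS), ?_, fun q => ?_⟩
    · rcases I.act.solv with h | h
      · have := GT.isSolvable_map G (QuotientGroup.mk' L)
        exact .inl E.isSolvable_star
      · have := GT.isSolvable_map S (QuotientGroup.mk' L)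
        have : Group.IsSolvable (E.star S) := E.isSolvable_star
        exact .inr (GT.isSolvable_of_le h2)
    · have h5 : ⁅E.star G, S₁⁆ ≤ E.star ⁅G, S⁆ :=
        (commutator_mono le_rfl h2).trans (E.commutator_star_le le_rfl)
      exact (commutator_mono h5 h5).trans (E.commutator_star_le I.ab)
    · obtain ⟨x, rfl⟩ := E.σ_surjective q
      rw [E.σ_mem_star_iff I.hLH, E.σ_mem_star_iff I.le, I.mem]
      refine and_congr_right fun hx => ⟨fun h5 s hs => ?_, fun h5 s hs => ?_⟩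
      · obtain ⟨y, hy, z, hz, rfl⟩ := E.exists_of_mem_star (h2 hs)
        have h6 : ⁅E.σ x, z * E.σ y⁆ = E.σ ⁅x, y⁆ := by
          have h7 := mem_center_iff.1 (E.star_self_le_center hz)
          rw [map_commutatorElement, commutatorElement_def, commutatorElement_def, ← h7, mul_inv_rev,
            ← mul_assoc (E.σ x), mul_assoc _ z, ← h7]
          group
        rw [h6]
        exact E.σ_mem_star (by rw [map_commutatorElement]; exact h5 _ hy)
      · obtain ⟨y, rfl⟩ := E.surj s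
        obtain ⟨z, hz, t, ht, e⟩ := (GT.mem_sup_of_le_normalizer_left
          (by rw [normalizer_eq_top]; exact le_top)).1 (h3.ge (E.σ_mem_star hs))
        have h6 : ⁅E.σ x, t⁆ = E.σ ⁅x, y⁆ := by
          have h7 := mem_center_iff.1 (E.star_self_le_center hz)
          rw [map_commutatorElement, ← e, commutatorElement_def, commutatorElement_def, ← h7,
            mul_inv_rev, ← mul_assoc (E.σ x), mul_assoc _ z, ← h7]
          group
        rw [← map_commutatorElement, ← E.σ_mem_star_iff le_rfl, ← h6]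
        exact h5 t ht
  refine (I'.relBij_of_le_center E.star_self_le_center lam).transfer
    (E.relBij_rel hlam I.le I.act.norm h3) (E.relBij_rel hlam I.hLH I.normH h3)
    fun χ β ψ γ _ _ _ _ h5 h6 => ?_
  rw [OddRel, OddRel, (h5.resLe I.hHG).mult_eq I.hLH h6]

omit [Finite Γ] in
theorem invBy_irrOf_iff (hS : S ≤ T) (hU : U ≤ T) (χ : IrrCharacter U) :
    InvBy (S.subgroupOf T) (irrOf hU χ).1 ↔ InvBy S χ.1 :=
  ⟨fun h s hs g g' e => h ⟨s, hS hs⟩ hs ⟨⟨g, hU g.2⟩, g.2⟩ ⟨⟨g', hU g'.2⟩, g'.2⟩ (Subtype.ext e),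
    fun h s hs g g' e => h s hs ⟨g, g.2⟩ ⟨g', g'.2⟩ (congrArg Subtype.val e)⟩

omit [Finite Γ] in
theorem commutator_subgroupOf_le (h : ⁅G, S⁆ ≤ K) (T : Subgroup Γ) :
    ⁅G.subgroupOf T, S.subgroupOf T⁆ ≤ K.subgroupOf T :=
  commutator_le.2 fun _ hg _ hs => h (commutator_mem_commutator hg hs)

theorem IsaacsHyp.relBij_of_invBy (I : IsaacsHyp S G L H) {φ : IrrCharacter L}
    (hS : InvBy S φ.1) (hG : InvBy G φ.1) :
    RelBij (OddRel I.hHG) (InvOver S I.le φ) (InvOver S I.hLH φ) := by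
  let T := charStab φ.1
  have hST : S ≤ T := hS.le_charStab I.normS
  have hGT : G ≤ T := hG.le_charStab I.normG
  have hHT := I.hHG.trans hGT
  have := normal_subgroupOf_of_le_normalizer (charStab_le_normalizer φ.1)
  have I' : IsaacsHyp (S.subgroupOf T) (G.subgroupOf T) (L.subgroupOf T) (H.subgroupOf T) :=
    ⟨I.act.subgroupOf T, GT.card_subgroupOf_of_le hGT ▸ I.odd, subgroupOf_le_subgroupOf I.le T,
      GT.subgroupOf_le_normalizer_subgroupOf I.normG T,
      GT.subgroupOf_le_normalizer_subgroupOf I.normS T,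
      (commutator_mono (commutator_subgroupOf_le le_rfl T) (commutator_subgroupOf_le le_rfl T)).trans
        (commutator_subgroupOf_le I.ab T), fun g => (I.mem g).trans (and_congr_right fun _ =>
        ⟨fun h s hs => h s hs, fun h s hs => h ⟨s, hST hs⟩ hs⟩)⟩
  refine (I'.relBij_of_invariant (φ := irrOf (I.le.trans hGT) φ) ?_).transfer
    (RelBij.of_equiv (irrOf hGT) fun χ => and_congr (invBy_irrOf_iff hST hGT χ).symm
      (liesOverLe_irrOf_iff hGT).symm)
    (RelBij.of_equiv (irrOf hHT) fun χ => and_congr (invBy_irrOf_iff hST hHT χ).symm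
      (liesOverLe_irrOf_iff hHT).symm) ?_
  · exact fun t _ g g' e => t.2.2 ⟨g, g.2⟩ ⟨g', g'.2⟩ (congrArg Subtype.val e)
  · rintro χ _ ψ _ - - - - rfl rfl
    rw [OddRel, OddRel, mult, mult, ip_resLe_irrOf]

/-- The Clifford correspondence preserves invariance. -/
theorem relBij_clifford (hLT : L ≤ T) (hTG : T ≤ G) (hG : G ≤ normalizer (L : Set Γ))
    {φ : IrrCharacter L} (hT : ∀ u ∈ G, IsConjCharOf L u φ.1 φ.1 → u ∈ T)
    (hSG : S ≤ normalizer (G : Set Γ)) (hST : S ≤ normalizer (T : Set Γ))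
    (hSL : S ≤ normalizer (L : Set Γ)) (hφ : InvBy S φ.1) :
    RelBij (fun χ η => LiesOverLe hTG χ.1 η.1) (InvOver S (hLT.trans hTG) φ)
      (InvOver S hLT φ) := by
  have := normal_subgroupOf_of_le_normalizer hG
  have uniq : ∀ (χ : IrrCharacter G) (η η' : IrrCharacter T), LiesOverLe hLT η.1 φ.1 →
      LiesOverLe hLT η'.1 φ.1 → LiesOverLe hTG χ.1 η.1 → LiesOverLe hTG χ.1 η'.1 → η = η' :=
    fun χ η η' h1 h2 h3 h4 => cliffordCorr_injective_le hTG hT h1 h2
      ((cliffordCorr_ind_eq_of_liesOver_le hTG hT h1 h3).trans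
        (cliffordCorr_ind_eq_of_liesOver_le hTG hT h2 h4).symm)
  have inj : ∀ (χ χ' : IrrCharacter G) (η : IrrCharacter T), LiesOverLe hLT η.1 φ.1 →
      LiesOverLe hTG χ.1 η.1 → LiesOverLe hTG χ'.1 η.1 → χ = χ' :=
    fun χ χ' η h1 h3 h4 => Subtype.ext ((cliffordCorr_ind_eq_of_liesOver_le hTG hT h1 h3).symm.trans
      (cliffordCorr_ind_eq_of_liesOver_le hTG hT h1 h4))
  refine ⟨fun χ hχ => ?_, fun η hη => ?_, fun χ η η' _ h1 h2 => uniq χ η η' h1.2 h2.2,
    fun χ χ' η _ _ h1 => inj χ χ' η h1.2⟩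
  · obtain ⟨η, h1, h2⟩ := hχ.2.exists_between hLT hTG (irr_isClassFunction χ)
    refine ⟨η, ⟨fun s hs => ?_, h2⟩, h1⟩
    obtain ⟨η', h3⟩ := exists_isConjCharOf (hST hs) η
    rwa [uniq χ η' η ((h3.liesOverLe_iff hLT (hSL hs) (hφ s hs)).2 h2) h2
      (((hχ.1.isConj hs).liesOverLe_iff hTG (hST hs) h3).2 h1) h1] at h3
  · obtain ⟨χ, h1⟩ := exists_irr_liesOverLe hTG η
    refine ⟨χ, ⟨fun s hs => ?_, h1.trans (irr_isCharacter χ) (irr_isCharacter φ) hη.2⟩, h1⟩
    obtain ⟨χ', h3⟩ := exists_isConjCharOf (hSG hs) χ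
    rwa [inj χ' χ η hη.2 ((h3.liesOverLe_iff hTG (hST hs) (hη.1 s hs)).2 h1) h1] at h3

theorem mult_eq_of_clifford (hLU : L ≤ U) (hUT : U ≤ T) (hUH : U ≤ H) (hTG : T ≤ G) (hHG : H ≤ G)
    (hG : G ≤ normalizer (L : Set Γ)) {φ : IrrCharacter L}
    (hT : ∀ u ∈ G, IsConjCharOf L u φ.1 φ.1 → u ∈ T)
    (hU : ∀ u ∈ H, IsConjCharOf L u φ.1 φ.1 → u ∈ U) {χ : IrrCharacter G} {η : IrrCharacter T}
    {ψ : IrrCharacter H} {ξ : IrrCharacter U} (hη : LiesOverLe (hLU.trans hUT) η.1 φ.1)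
    (hξ : LiesOverLe hLU ξ.1 φ.1) (h1 : LiesOverLe hTG χ.1 η.1) (h2 : LiesOverLe hUH ψ.1 ξ.1) :
    mult (resLe hHG χ.1) ψ.1 = mult (resLe hUT η.1) ξ.1 := by
  have := normal_subgroupOf_of_le_normalizer hG
  have := normal_subgroupOf_of_le_normalizer (hHG.trans hG)
  have h3 := cliffordCorr_ind_eq_of_liesOver_le hTG hT hη h1
  have h4 : mult (resLe hTG χ.1) η.1 = 1 := by
    rw [mult, ← ip_indHom_inclusion_right hTG _ (irr_isClassFunction χ), h3, ip_irr_self]; simp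
  have h5 : mult (resLe hHG χ.1) ψ.1 = mult (fun u => resLe hTG χ.1 (inclusion hUT u)) ξ.1 := by
    rw [mult, ← cliffordCorr_ind_eq_of_liesOver_le hUH hU hξ h2,
      ip_indHom_inclusion_right hUH _ ((irr_isClassFunction χ).resLe hHG)]
    rfl
  rw [h5, mult_comp_eq_sum _ ((irr_isCharacter χ).resLe hTG) (irr_isCharacter ξ),
    Finset.sum_eq_single η, h4, one_mul]
  · rfl
  · intro η' _ hne
    by_contra h6
    have h7 := (liesOverLe_iff_mult_pos hTG (irr_isCharacter χ) (irr_isCharacter η')).2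
      (Nat.pos_of_ne_zero (left_ne_zero_of_mul h6))
    have h8 := (liesOverLe_iff_mult_pos hUT (irr_isCharacter η') (irr_isCharacter ξ)).2
      (Nat.pos_of_ne_zero (right_ne_zero_of_mul h6))
    have h9 := h8.trans (irr_isCharacter η') (irr_isCharacter φ) hξ
    exact hne (cliffordCorr_injective_le hTG hT h9 hη
      ((cliffordCorr_ind_eq_of_liesOver_le hTG hT h9 h7).trans h3.symm))
  · simp

theorem IsaacsHyp.relBij_invOver (I : IsaacsHyp S G L H) {φ : IrrCharacter L}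
    (hS : InvBy S φ.1) : RelBij (OddRel I.hHG) (InvOver S I.le φ) (InvOver S I.hLH φ) := by
  have hL : L ≤ charStab φ.1 := le_charStab (irr_isClassFunction φ)
  have hS' : S ≤ normalizer (charStab φ.1 : Set Γ) := (hS.le_charStab I.normS).trans le_normalizer
  have I' : IsaacsHyp S (G ⊓ charStab φ.1) L (H ⊓ charStab φ.1) :=
    ⟨I.act.inf_right hS', I.odd.of_dvd_nat (card_dvd_of_le inf_le_left), le_inf I.le hL,
      inf_le_left.trans I.normG, I.normS, (commutator_mono (commutator_mono inf_le_left le_rfl)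
      (commutator_mono inf_le_left le_rfl)).trans I.ab, fun g => by
        rw [mem_inf, mem_inf, I.mem]; tauto⟩
  have hT : ∀ u ∈ G, IsConjCharOf L u φ.1 φ.1 → u ∈ G ⊓ charStab φ.1 :=
    fun u hu h => ⟨hu, I.normG hu, h⟩
  have hU : ∀ u ∈ H, IsConjCharOf L u φ.1 φ.1 → u ∈ H ⊓ charStab φ.1 :=
    fun u hu h => ⟨hu, I.normG (I.hHG hu), h⟩
  refine (I'.relBij_of_invBy hS ((InvBy.of_le_charStab le_rfl).mono inf_le_right)).transfer
    (relBij_clifford I'.le inf_le_left I.normG hT I.act.norm I'.act.norm I.normS hS)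
    (relBij_clifford I'.hLH inf_le_left (I.hHG.trans I.normG) hU I.normH I'.normH I.normS hS)
    fun χ η ψ ξ _ h1 _ h2 h3 h4 => ?_
  rw [OddRel, OddRel, mult_eq_of_clifford I'.hLH I'.hHG inf_le_left inf_le_left I.hHG I.normG hT hU
    h1.2 h2.2 h3 h4]

/-- The step of the Isaacs correspondence. -/
theorem IsaacsHyp.relBij (I : IsaacsHyp S G L H) :
    RelBij (OddRel I.hHG) (fun χ => InvBy S χ.1) (fun ψ => InvBy S ψ.1) := by
  have := normal_subgroupOf_of_le_normalizer I.normG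
  have under : ∀ {U : Subgroup Γ} (hLU : L ≤ U), U ≤ G → S ≤ normalizer (U : Set Γ) →
      ∀ χ : IrrCharacter U, InvBy S χ.1 →
        ∃ φ : IrrCharacter L, LiesOverLe hLU χ.1 φ.1 ∧ InvBy S φ.1 := by
    intro U hLU hUG hS χ hχ
    have := normal_subgroupOf_of_le_normalizer (hUG.trans I.normG)
    have A := I.act.of_le hUG hS
    exact exists_invBy_liesUnder hLU hS I.normS (A.cop.of_dvd_left (relIndex_dvd_card L U))
      (A.solv.imp_left fun h => by have := h; infer_instance) hχ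
  have ov : ∀ {χ : IrrCharacter G} {ψ : IrrCharacter H} {φ : IrrCharacter L}, OddRel I.hHG χ ψ →
      LiesOverLe I.hLH ψ.1 φ.1 → LiesOverLe I.le χ.1 φ.1 := fun h1 h2 =>
    h1.liesOverLe.trans (irr_isCharacter _) (irr_isCharacter _) h2
  refine ⟨fun χ hχ => ?_, fun ψ hψ => ?_, fun χ ψ ψ' hχ hψ hψ' h1 h2 => ?_,
    fun χ χ' ψ hχ hχ' hψ h1 h2 => ?_⟩
  · obtain ⟨φ, h1, h2⟩ := under I.le le_rfl I.act.norm χ hχ
    obtain ⟨ψ, h3, h4⟩ := (I.relBij_invOver h2).ex χ ⟨hχ, h1⟩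
    exact ⟨ψ, h3.1, h4⟩
  · obtain ⟨φ, h1, h2⟩ := under I.hLH I.hHG I.normH ψ hψ
    obtain ⟨χ, h3, h4⟩ := (I.relBij_invOver h2).surj ψ ⟨hψ, h1⟩
    exact ⟨χ, h3.1, h4⟩
  · obtain ⟨φ, h3, h4⟩ := under I.hLH I.hHG I.normH ψ hψ
    obtain ⟨φ', h5, h6⟩ := under I.hLH I.hHG I.normH ψ' hψ'
    obtain ⟨g, hg, h7⟩ := (ov h2 h5).exists_conj (ov h1 h3)
    obtain ⟨c, hc, h8⟩ := exists_mem_centralizer_isConjCharOf I.act I.normG I.normS h6 h4 hg h7
    have := normal_subgroupOf_of_le_normalizer (I.hHG.trans I.normG)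
    exact (I.relBij_invOver h4).uniq χ ψ ψ' ⟨hχ, ov h1 h3⟩ ⟨hψ, h3⟩
      ⟨hψ', h5.of_conj (irr_isClassFunction ψ') (I.inf_centralizer_le hc) h8⟩ h1 h2
  · obtain ⟨φ, h3, h4⟩ := under I.hLH I.hHG I.normH ψ hψ
    exact (I.relBij_invOver h4).inj χ χ' ψ ⟨hχ, ov h1 h3⟩ ⟨hχ', ov h2 h3⟩ ⟨hψ, h3⟩ h1 h2

end CT
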