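import Cfsg.Agent.Lib.Char.RelDeg2

/-!
# The common divisor graph of relative character degrees
-/

set_option autoImplicit false

namespace CT

open Cfsg MulAction
open scoped ComplexConjugate commutatorElement Pointwise

variable {G : Type*} [Group G] [Finite G] {N : Subgroup G} [N.Normal]

theorem LiesOver.le_ker_iff_eq_irrOne {χ : IrrCharacter G} {θ : IrrCharacter N}
    (h : LiesOver N χ.1 θ.1) : N ≤ ker χ.1 ↔ θ = irrOne N := by
  rw [h.le_ker_iff le_rfl, Subgroup.subgroupOf_self, top_le_iff, ker_irr_eq_top_iff]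

omit [Finite G] in
theorem conjLin_pow (g : G) (f : N →* ℂˣ) (k : ℕ) : conjLin g (f ^ k) = conjLin g f ^ k := rfl

omit [Finite G] in
theorem mem_stabilizer_linChar {g : G} {f : N →* ℂˣ} :
    g ∈ stabilizer G (linChar f) ↔ conjLin g f = f := by
  rw [mem_stabilizer_iff, conjSmul_linChar, linChar_injective.eq_iff]

omit [Finite G] in
theorem index_stabilizer_linChar_eq_one {f : N →* ℂˣ} :
    (stabilizer G (linChar f)).index = 1 ↔ ∀ g : G, conjLin g f = f := by
  simp only [Subgroup.index_eq_one, Subgroup.eq_top_iff', mem_stabilizer_linChar]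

omit [N.Normal] in
theorem detChar_res_eq_one (hN : N ≤ commutator G) (χ : IrrCharacter G) (n : N) :
    detChar (res N χ.1) n = 1 := by
  rw [(irr_isCharacter χ).detChar_res]
  exact (mem_ker_detChar_iff _).1 (commutator_le_ker_detChar _ (hN n.2))

theorem LiesOver.pow_degree_eq_one (hN : N ≤ commutator G) {f : N →* ℂˣ} {k : ℕ}
    (hk : ∀ g : G, conjLin g (f ^ k) = f ^ k) {ψ : IrrCharacter G}
    (h : LiesOver N ψ.1 (linChar f).1) : f ^ (k * charDegree ψ.1) = 1 := by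
  ext n
  have h1 := detChar_res_eq_one hN ψ n
  rw [clifford h, (isCharacter_sum _ _ fun φ _ => irr_isCharacter φ).detChar_nsmul,
    detChar_sum _ _ fun φ _ => irr_isCharacter φ, Pi.pow_apply, Finset.prod_apply] at h1
  have h2 : ∀ φ ∈ conjOrbit G (linChar f), detChar φ.1 n ^ k = (f n : ℂ) ^ k := fun φ hφ => by
    obtain ⟨g, rfl⟩ := mem_conjOrbit.1 hφ
    dsimp only
    rw [conjSmul_linChar, (irr_isCharacter _).detChar_of_degree_one (charDegree_linChar _),
      linChar_apply, ← Units.val_pow_eq_pow_val, ← MonoidHom.pow_apply, ← conjLin_pow, hk]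
    rfl
  have h3 := congrArg (· ^ k) h1
  simp only [one_pow] at h3
  rw [← pow_mul, mul_comm, pow_mul, ← Finset.prod_pow, Finset.prod_congr rfl h2, Finset.prod_const,
    card_conjOrbit, ← pow_mul, ← pow_mul] at h3
  rw [clifford_degree h, charDegree_linChar, mul_one, mul_comm (mult _ _)]
  simpa using h3

theorem stabilizer_lin_smul_of_invariant {f : N →* ℂˣ} (hf : ∀ g : G, conjLin g f = f)
    (θ : IrrCharacter N) : stabilizer G (f • θ) = stabilizer G θ := by
  ext g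
  rw [mem_stabilizer_iff, mem_stabilizer_iff, conjSmul_lin_smul, hf, lin_smul_cancel]

theorem LiesOver.dvd_degree_of_invariant (hN : N ≤ commutator G) {f : N →* ℂˣ} {p : ℕ}
    (hp : p.Prime) (hfp : orderOf f = p) (hf : ∀ g : G, conjLin g f = f) {θ : IrrCharacter N}
    {χ ψ : IrrCharacter G} (hχ : LiesOver N χ.1 θ.1) (h : LiesOver N ψ.1 (f • θ).1)
    (hd : ¬ p ∣ charDegree χ.1) : p ∣ charDegree ψ.1 := by
  have hS := isCharacter_sum (conjOrbit G θ) _ fun φ _ => irr_isCharacter φ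
  have h1 : ∑ φ ∈ conjOrbit G (f • θ), φ.1 = (∑ φ ∈ conjOrbit G θ, φ.1) * (linChar f).1 := by
    rw [Finset.sum_mul]
    refine Finset.sum_nbij' (f⁻¹ • ·) (f • ·) (fun φ hφ => ?_) (fun φ hφ => ?_)
      (fun φ _ => lin_smul_inv_smul f φ) (fun φ _ => inv_lin_smul_smul f φ) fun φ _ => ?_
    · obtain ⟨g, rfl⟩ := mem_conjOrbit.1 hφ
      exact mem_conjOrbit.2 ⟨g, by simp only [conjSmul_lin_smul, hf, inv_lin_smul_smul]⟩
    · obtain ⟨g, rfl⟩ := mem_conjOrbit.1 hφ
      exact mem_conjOrbit.2 ⟨g, by simp only [conjSmul_lin_smul, hf]⟩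
    · rw [mul_comm, ← lin_smul_val, lin_smul_inv_smul]
  have h2 := clifford hχ
  have h3 := clifford h
  rw [h1] at h3
  have h4 := clifford_degree h
  set S := ∑ φ ∈ conjOrbit G θ, φ.1
  set e := mult (res N χ.1) θ.1
  set e' := mult (res N ψ.1) (f • θ).1
  have h5 : charDegree χ.1 = e * charDegree S := charDegree_eq_of_apply_one (by
    rw [Nat.cast_mul, ← hS.apply_one]; exact congrFun h2 1)
  have h6 : f ^ (charDegree χ.1 * e') = 1 := by
    ext n
    have h6 := detChar_res_eq_one hN χ n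
    have h7 := detChar_res_eq_one hN ψ n
    rw [h2, hS.detChar_nsmul, Pi.pow_apply] at h6
    rw [h3, (hS.mul (irr_isCharacter _)).detChar_nsmul, hS.detChar_mul_linear (irr_isCharacter _)
      (charDegree_linChar f), Pi.pow_apply, Pi.mul_apply, Pi.pow_apply, linChar_apply] at h7
    have h8 := congrArg (· ^ e) h7
    simp only [mul_pow, one_pow] at h8
    rw [← pow_mul, mul_comm e', pow_mul, h6, one_pow, one_mul, ← pow_mul, ← pow_mul] at h8
    rw [h5, mul_comm e, mul_assoc, mul_comm e]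
    simpa using h8
  rw [h4, mul_assoc]
  exact ((hp.dvd_mul.1 (hfp ▸ orderOf_dvd_of_pow_eq_one h6)).resolve_left hd).mul_right _

/-- The product lemma for orbits of coprime sizes. -/
theorem smul_mem_orbit_of_coprime {f : N →* ℂˣ} {θ : IrrCharacter N}
    (h1 : (stabilizer G (linChar f)).index.Coprime (stabilizer G θ).index)
    (h2 : (stabilizer G (linChar f)).index.Coprime (stabilizer G (f • θ)).index) (g : G)
    {φ : IrrCharacter N} (hφ : φ ∈ orbit G θ) : (f⁻¹ * conjLin g f) • φ ∈ orbit G θ := by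
  obtain ⟨x, rfl⟩ := hφ
  obtain ⟨a, ha, b, hb, e⟩ := GT.exists_mul_eq_of_coprime_index h1 (g⁻¹ * x)
  obtain ⟨c, hc, d, hd, e'⟩ := GT.exists_mul_eq_of_coprime_index h2 (g * a)
  refine ⟨c, ?_⟩
  have h3 : x = g * a * b := by rw [mul_assoc, e, mul_inv_cancel_left]
  have h4 : conjLin g f • x • θ = (g * a) • f • θ := by
    rw [conjSmul_lin_smul, ← conjLin_conjLin, mem_stabilizer_linChar.1 ha, h3, mul_smul _ b,
      mem_stabilizer_iff.1 hb]
  dsimp only
  rw [← lin_smul_smul, h4, ← e', mul_smul, mem_stabilizer_iff.1 hd, conjSmul_lin_smul,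
    mem_stabilizer_linChar.1 hc, inv_lin_smul_smul]

theorem dvd_of_smul_mem_orbit {μ : N →* ℂˣ} {θ : IrrCharacter N}
    (h : ∀ φ ∈ orbit G θ, μ • φ ∈ orbit G θ) {q : ℕ} (hq : q.Prime) (hd : q ∣ orderOf μ) :
    q ∣ (stabilizer G θ).index * charDegree θ.1 := by
  classical
  have : Fact q.Prime := ⟨hq⟩
  have h1 : ∀ k : ℕ, ∀ φ ∈ orbit G θ, (μ ^ k) • φ ∈ orbit G θ := fun k => by
    induction k with
    | zero => intro φ hφ; rwa [pow_zero μ, one_lin_smul]
    | succ k ih => intro φ hφ; rw [pow_succ μ k, ← lin_smul_smul]; exact ih _ (h φ hφ)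
  have h2 := orderOf_pow_orderOf_div (orderOf_pos μ).ne' hd
  generalize orderOf μ / q = k at h2
  by_contra h3
  let σ : Equiv.Perm (orbit G θ) := Equiv.ofBijective (fun φ => ⟨_, h1 k φ.1 φ.2⟩)
    (Finite.injective_iff_bijective.1 fun a b e =>
      Subtype.ext ((lin_smul_cancel _).1 (congrArg Subtype.val e)))
  have h4 : ∀ (j : ℕ) (φ : orbit G θ), ((σ ^ j) φ).1 = (μ ^ k) ^ j • φ.1 := fun j => by
    induction j with
    | zero => intro φ; rw [pow_zero, pow_zero (μ ^ k), one_lin_smul]; rfl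
    | succ j ih => intro φ; rw [pow_succ, pow_succ (μ ^ k) j, ← lin_smul_smul]; exact ih (σ φ)
  have := Fintype.ofFinite (orbit G θ)
  obtain ⟨⟨_, g, rfl⟩, h5⟩ := Equiv.Perm.exists_fixed_point_of_prime (p := q) (n := 1) (σ := σ)
    (fun h5 => h3 (Dvd.dvd.mul_right (by
      rwa [index_stabilizer, ← Nat.card_coe_set_eq, Nat.card_eq_fintype_card]) _))
    (Equiv.ext fun φ => Subtype.ext (by
      rw [h4, pow_one, ← h2, pow_orderOf_eq_one, one_lin_smul]; rfl))
  have h6 := index_dvd_degree_sq_of_vanish ((lin_smul_eq_self_iff _ _).1 (congrArg Subtype.val h5))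
  rw [← orderOf_units_hom, h2, charDegree_conjSmul] at h6
  exact h3 ((hq.dvd_of_dvd_pow h6).mul_left _)

theorem LiesOver.index_mul_degree_dvd {χ : IrrCharacter G} {θ : IrrCharacter N}
    (h : LiesOver N χ.1 θ.1) : (stabilizer G θ).index * charDegree θ.1 ∣ charDegree χ.1 := by
  rw [clifford_degree h, mul_assoc]; exact dvd_mul_left _ _

theorem exists_prime_dvd_of_coprime_order (hN : N ≤ commutator G) {f μ : N →* ℂˣ} (hf : f ≠ 1)
    (hc : (orderOf f).Coprime (orderOf μ)) : ∃ s : ℕ, s.Prime ∧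
      (∀ χ : IrrCharacter G, LiesOver N χ.1 (linChar f).1 → s ∣ charDegree χ.1) ∧
      ∀ χ : IrrCharacter G, LiesOver N χ.1 (linChar (f * μ)).1 → s ∣ charDegree χ.1 := by
  have h1 : (f * μ) ^ orderOf μ = f ^ orderOf μ := by
    rw [mul_pow f μ, pow_orderOf_eq_one μ, mul_one]
  by_cases h : (stabilizer G (linChar f)).index = 1
  · obtain ⟨s, hs, h2⟩ := Nat.exists_prime_and_dvd (mt (orderOf_eq_one_iff (x := f)).1 hf)
    replace h := index_stabilizer_linChar_eq_one.1 h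
    refine ⟨s, hs, fun χ hχ => h2.trans (orderOf_dvd_of_pow_eq_one ?_), fun χ hχ => ?_⟩
    · simpa using hχ.pow_degree_eq_one hN (k := 1) fun g => by rw [conjLin_pow, h]
    · have h3 := hχ.pow_degree_eq_one hN (k := orderOf μ) fun g => by rw [h1, conjLin_pow, h]
      rw [pow_mul (f * μ), h1, ← pow_mul f] at h3
      exact h2.trans (hc.dvd_of_dvd_mul_left (orderOf_dvd_of_pow_eq_one h3))
  · obtain ⟨s, hs, h2⟩ := Nat.exists_prime_and_dvd h
    refine ⟨s, hs, fun χ hχ => h2.trans hχ.index_inertia_dvd, fun χ hχ => (h2.trans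
      (Subgroup.index_dvd_of_le fun g hg => ?_)).trans hχ.index_inertia_dvd⟩
    obtain ⟨k, hk⟩ := exists_pow_eq_self_of_coprime hc.symm
    rw [mem_stabilizer_linChar] at hg ⊢
    rw [← hk, ← h1, conjLin_pow, conjLin_pow, hg]

omit [Finite G] [N.Normal] in
theorem relIndex_commutator_self : ⁅N, N⁆.relIndex N = (commutator N).index := by
  rw [Subgroup.relIndex, ← commutator_subgroupOf_eq le_rfl le_rfl, Subgroup.subgroupOf_self,
    commutator_def]

theorem exists_lin_orderOf_eq {p : ℕ} (hp : p.Prime) (hd : p ∣ ⁅N, N⁆.relIndex N) :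
    ∃ f : N →* ℂˣ, orderOf f = p ∧ ¬ p ∣ (stabilizer G (linChar f)).index := by
  classical
  have : Fact p.Prime := ⟨hp⟩
  by_contra h
  push Not at h
  let _ : MulAction G (N →* ℂˣ) :=
    { smul := conjLin
      one_smul := conjLin_one
      mul_smul := fun g h f => (conjLin_conjLin g h f).symm }
  have h1 := dvd_sum_of_forall_orbit (A := G) (p := p)
    (fun f : N →* ℂˣ => if orderOf f = p then 1 else 0) (fun g f => by
      have : orderOf (g • f) = orderOf f := orderOf_injective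
        (MonoidHom.mk' (conjLin g) (conjLin_mul g)) (MulAction.injective g) f
      simp only [this]) fun f => by
    split_ifs with h1
    · have h2 : stabilizer G f = stabilizer G (linChar f) :=
        Subgroup.ext fun g => mem_stabilizer_linChar.symm
      rw [h2, mul_one]
      exact h f h1
    · simp
  rw [relIndex_commutator_self, ← card_units_hom] at hd
  obtain ⟨f, hf⟩ := exists_prime_orderOf_dvd_card' p hd
  let K : Subgroup (N →* ℂˣ) :=
    { carrier := {x | orderOf x ∣ p}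
      one_mem' := by rw [Set.mem_ofPred_eq, orderOf_one (G := N →* ℂˣ)]; exact one_dvd _
      mul_mem' := fun {a b} ha hb => (Commute.all a b).orderOf_mul_dvd_lcm.trans (Nat.lcm_dvd ha hb)
      inv_mem' := fun {a} ha => by rwa [Set.mem_ofPred_eq, orderOf_inv a] }
  have h2 : p ∣ Nat.card K := by
    rw [← hf, ← Subgroup.orderOf_mk (H := K) f hf.dvd]
    exact orderOf_dvd_natCard _
  have h3 : Nat.card K = ∑ f : N →* ℂˣ, (if orderOf f = p then 1 else 0) + 1 := by
    have h0 : ∑ f : N →* ℂˣ, (if f = 1 then 1 else 0) = 1 :=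
      (Finset.sum_ite_eq' Finset.univ (1 : N →* ℂˣ) fun _ => 1).trans (if_pos (Finset.mem_univ _))
    rw [Nat.card_eq_fintype_card, Fintype.card_subtype, Finset.card_filter]
    refine Eq.trans ?_ (congrArg (_ + ·) h0)
    rw [← Finset.sum_add_distrib]
    refine Finset.sum_congr rfl fun x _ => ?_
    have h4 : x ∈ K ↔ orderOf x ∣ p := Iff.rfl
    by_cases hx : x = 1
    · rw [if_pos (h4.2 (by rw [hx, orderOf_one (G := N →* ℂˣ)]; exact one_dvd _)), if_pos hx,
        if_neg (by rw [hx, orderOf_one (G := N →* ℂˣ)]; exact hp.ne_one.symm)]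
    · rw [if_neg hx, add_zero]
      exact if_congr (by rw [h4, Nat.dvd_prime hp, or_iff_right
        (mt (orderOf_eq_one_iff (x := x)).1 hx)]) rfl rfl
  rw [h3] at h2
  exact hp.ne_one (Nat.dvd_one.1 ((Nat.dvd_add_right h1).1 h2))

theorem not_coprime_of_dvd_of_dvd {a b d : ℕ} (h1 : d ≠ 1) (ha : d ∣ a) (hb : d ∣ b) :
    ¬ a.Coprime b := fun h => h1 (Nat.eq_one_of_dvd_coprimes h ha hb)

omit [Finite G] in
theorem conjLin_pow_eq_one {f : N →* ℂˣ} {k : ℕ} (h : f ^ k = 1) (g : G) :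
    conjLin g f ^ k = 1 := by
  rw [← conjLin_pow, h]; rfl

theorem exists_prime_dvd_of_coprime_stabilizer {f : N →* ℂˣ} {θ : IrrCharacter N}
    (h0 : (stabilizer G (linChar f)).index ≠ 1)
    (h1 : (stabilizer G (linChar f)).index.Coprime (stabilizer G θ).index)
    (h2 : (stabilizer G (linChar f)).index.Coprime (stabilizer G (f • θ)).index) :
    ∃ q : ℕ, q.Prime ∧ q ∣ orderOf f ∧ q ∣ (stabilizer G θ).index * charDegree θ.1 ∧
      ∀ μ : N →* ℂˣ, linChar μ = θ → q ∣ orderOf μ := by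
  obtain ⟨g, hg⟩ := not_forall.1 (mt index_stabilizer_linChar_eq_one.2 h0)
  have h3 : f⁻¹ * conjLin g f ≠ 1 := fun e => hg (inv_mul_eq_one.1 e).symm
  obtain ⟨q, hq, h4⟩ := Nat.exists_prime_and_dvd 
    (mt (orderOf_eq_one_iff (x := f⁻¹ * conjLin g f)).1 h3)
  have h5 : ∀ (μ : N →* ℂˣ) (x : G), orderOf (μ⁻¹ * conjLin x μ) ∣ orderOf μ := fun μ x =>
    orderOf_dvd_of_pow_eq_one (by
      rw [mul_pow μ⁻¹, inv_pow μ, pow_orderOf_eq_one μ,
        conjLin_pow_eq_one (pow_orderOf_eq_one μ), mul_one (1 : N →* ℂˣ)⁻¹,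
        inv_one (G := N →* ℂˣ)])
  refine ⟨q, hq, h4.trans (h5 f g), dvd_of_smul_mem_orbit
    (fun φ hφ => smul_mem_orbit_of_coprime h1 h2 g hφ) hq h4, ?_⟩
  rintro μ rfl
  obtain ⟨x, hx⟩ := smul_mem_orbit_of_coprime h1 h2 g (mem_orbit_self (linChar μ))
  dsimp only at hx
  rw [conjSmul_linChar, lin_smul_linChar, linChar_injective.eq_iff] at hx
  have h6 : f⁻¹ * conjLin g f = μ⁻¹ * conjLin x μ := by
    rw [hx, mul_comm _ μ, inv_mul_cancel_left μ]
  exact h4.trans (h6 ▸ h5 μ x)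

omit [Finite G] in
theorem stabilizer_linChar_inv (f : N →* ℂˣ) :
    stabilizer G (linChar f⁻¹) = stabilizer G (linChar f) := by
  ext g
  rw [mem_stabilizer_linChar, mem_stabilizer_linChar, conjLin_inv, inv_inj (G := N →* ℂˣ)]

omit [N.Normal] in
theorem eq_linChar_inv_of_smul_eq {f : N →* ℂˣ} {θ : IrrCharacter N} (h : f • θ = irrOne N) :
    θ = linChar f⁻¹ := by
  rw [← inv_lin_smul_smul f θ, h, lin_smul_irrOne]

theorem LiesOver.orderOf_dvd_degree (hN : N ≤ commutator G) {f : N →* ℂˣ}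
    (hf : (stabilizer G (linChar f)).index = 1) {ψ : IrrCharacter G}
    (h : LiesOver N ψ.1 (linChar f).1) : orderOf f ∣ charDegree ψ.1 :=
  orderOf_dvd_of_pow_eq_one (by
    simpa using h.pow_degree_eq_one hN (k := 1) fun g => by
      rw [conjLin_pow, index_stabilizer_linChar_eq_one.1 hf])

theorem exists_common_of_not_dvd (hN : N ≤ commutator G) {f : N →* ℂˣ} {p : ℕ} (hp : p.Prime)
    (hf : orderOf f = p) (ht : ¬ p ∣ (stabilizer G (linChar f)).index) {χ : IrrCharacter G}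
    (hχ : ¬ N ≤ ker χ.1) (hd : ¬ p ∣ charDegree χ.1) :
    ∃ ψ : IrrCharacter G, ¬ N ≤ ker ψ.1 ∧ ¬ (charDegree χ.1).Coprime (charDegree ψ.1) ∧
      ∀ ξ : IrrCharacter G, LiesOver N ξ.1 (linChar f).1 →
        ¬ (charDegree ψ.1).Coprime (charDegree ξ.1) := by
  obtain ⟨θ, hθ⟩ := exists_irr_liesUnder N χ
  obtain ⟨ψ, hψ⟩ := exists_irr_liesOver (G := G) (f • θ)
  have hθ1 := mt hθ.le_ker_iff_eq_irrOne.2 hχ
  have h1 : ∀ μ, linChar μ = θ → (stabilizer G θ).index = 1 →
      ¬ (charDegree χ.1).Coprime (charDegree ψ.1) := by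
    rintro μ rfl h1
    obtain ⟨s, hs, h2, h3⟩ := exists_prime_dvd_of_coprime_order hN (f := μ) (μ := f)
      (mt linChar_eq_irrOne_iff.2 hθ1) (hf ▸ ((hp.coprime_iff_not_dvd.2 fun h =>
        hd (h.trans (hθ.orderOf_dvd_degree hN h1))).symm))
    rw [lin_smul_linChar, mul_comm f] at hψ
    exact not_coprime_of_dvd_of_dvd hs.ne_one (h2 _ hθ) (h3 _ hψ)
  have h2 : charDegree θ.1 ≠ 1 → ¬ (charDegree χ.1).Coprime (charDegree ψ.1) := fun h =>
    not_coprime_of_dvd_of_dvd h hθ.degree_dvd (charDegree_lin_smul f θ ▸ hψ.degree_dvd)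
  by_cases h : (stabilizer G (linChar f)).index = 1
  · have h3 := hθ.dvd_degree_of_invariant hN hp hf (index_stabilizer_linChar_eq_one.1 h) hψ hd
    refine ⟨ψ, fun h4 => hd ?_, ?_, fun ξ hξ =>
      not_coprime_of_dvd_of_dvd hp.ne_one h3 (hf ▸ hξ.orderOf_dvd_degree hN h)⟩
    · rw [eq_linChar_inv_of_smul_eq (hψ.le_ker_iff_eq_irrOne.1 h4)] at hθ
      rw [← hf, ← orderOf_inv f]
      exact hθ.orderOf_dvd_degree hN (by rwa [stabilizer_linChar_inv])
    · by_cases h5 : charDegree θ.1 = 1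
      · obtain ⟨μ, hμ⟩ := (exists_linChar_eq_iff θ).2 h5
        by_cases h6 : (stabilizer G θ).index = 1
        · exact h1 μ hμ h6
        · exact not_coprime_of_dvd_of_dvd h6 hθ.index_inertia_dvd
            (stabilizer_lin_smul_of_invariant (index_stabilizer_linChar_eq_one.1 h) θ ▸
              hψ.index_inertia_dvd)
      · exact h2 h5
  by_cases h' : (stabilizer G (linChar f)).index.Coprime (stabilizer G θ).index
  swap
  · refine ⟨χ, hχ, fun h3 => h' ?_, fun ξ hξ h3 => h' ?_⟩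
    · have h4 := hθ.index_inertia_dvd
      rw [Nat.coprime_self _ |>.1 h3, Nat.dvd_one] at h4
      rw [h4]; exact Nat.coprime_one_right _
    · exact (h3.symm.coprime_dvd_left hξ.index_inertia_dvd).coprime_dvd_right hθ.index_inertia_dvd
  refine ⟨ψ, fun h4 => h ?_, ?_, fun ξ hξ h3 => ?_⟩
  · rwa [eq_linChar_inv_of_smul_eq (hψ.le_ker_iff_eq_irrOne.1 h4), stabilizer_linChar_inv,
      Nat.coprime_self] at h'
  · by_cases h5 : charDegree θ.1 = 1
    swap
    · exact h2 h5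
    obtain ⟨μ, rfl⟩ := (exists_linChar_eq_iff θ).2 h5
    by_cases h6 : (stabilizer G (linChar μ)).index = 1
    · exact h1 μ rfl h6
    intro h7
    obtain ⟨q, hq, -, h8, h9⟩ := exists_prime_dvd_of_coprime_stabilizer h6 h'.symm (by
      rw [lin_smul_linChar, mul_comm μ, ← lin_smul_linChar]
      exact (h7.coprime_dvd_left hθ.index_inertia_dvd).coprime_dvd_right hψ.index_inertia_dvd)
    rw [charDegree_linChar, mul_one, (Nat.prime_dvd_prime_iff_eq hq hp).1 (hf ▸ h9 f rfl)] at h8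
    exact ht h8
  · obtain ⟨q, hq, h8, h9, -⟩ := exists_prime_dvd_of_coprime_stabilizer h h'
      ((h3.symm.coprime_dvd_left hξ.index_inertia_dvd).coprime_dvd_right hψ.index_inertia_dvd)
    rw [(Nat.prime_dvd_prime_iff_eq hq hp).1 (hf ▸ h8)] at h9
    exact hd (h9.trans hθ.index_mul_degree_dvd)

theorem reachable_of_not_coprime {S : Set ℕ} {a b : S} (h : ¬ a.1.Coprime b.1) (ha : a.1 ≠ 0) :
    (commonDivisorGraph.induce S).Reachable a b := by
  by_cases e : a = b
  · rw [e]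
  · exact SimpleGraph.Adj.reachable ⟨fun e' => e (Subtype.ext e'),
      lt_of_le_of_ne (Nat.gcd_pos_of_pos_left _ (Nat.pos_of_ne_zero ha)) (Ne.symm h)⟩

omit [Finite G] [N.Normal] in
theorem ne_zero_of_mem_relCharDegrees {d : ℕ} (h : d ∈ relCharDegrees N) : d ≠ 0 :=
  (pos_of_mem_charDegrees (relCharDegrees_subset N h)).ne'

omit [Finite G] [N.Normal] in
theorem reachable_rel_of_not_coprime {a b : relCharDegrees N} (h : ¬ a.1.Coprime b.1) :
    (commonDivisorGraph.induce (relCharDegrees N)).Reachable a b :=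
  reachable_of_not_coprime h (ne_zero_of_mem_relCharDegrees a.2)

theorem reachable_rel_of_not_dvd (hN : N ≤ commutator G) {p q : ℕ} (hp : p.Prime) (hq : q.Prime)
    (hpm : p ∣ ⁅N, N⁆.relIndex N) (hqm : q ∣ ⁅N, N⁆.relIndex N) {a b : relCharDegrees N}
    (ha : ¬ p ∣ a.1) (hb : ¬ q ∣ b.1) :
    (commonDivisorGraph.induce (relCharDegrees N)).Reachable a b := by
  have key : ∀ {p : ℕ}, p.Prime → ∀ f : N →* ℂˣ, orderOf f = p →
      ¬ p ∣ (stabilizer G (linChar f)).index → ∀ {a : relCharDegrees N}, ¬ p ∣ a.1 →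
      ∀ (ξ : IrrCharacter G) (h : ¬ N ≤ ker ξ.1), LiesOver N ξ.1 (linChar f).1 →
      (commonDivisorGraph.induce (relCharDegrees N)).Reachable a
        ⟨_, degree_mem_relCharDegrees h⟩ := by
    rintro p hp f hf ht ⟨a, ha⟩ hd ξ h hξ
    obtain ⟨χ, hχ, rfl⟩ := mem_relCharDegrees.1 ha
    obtain ⟨ψ, h1, h2, h3⟩ := exists_common_of_not_dvd hN hp hf ht hχ hd
    exact (reachable_rel_of_not_coprime (b := ⟨_, degree_mem_relCharDegrees h1⟩) h2).trans
      (reachable_rel_of_not_coprime (h3 ξ hξ))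
  have hne : ∀ {f : N →* ℂˣ}, f ≠ 1 → ∀ {ξ : IrrCharacter G}, LiesOver N ξ.1 (linChar f).1 →
      ¬ N ≤ ker ξ.1 := fun hf _ hξ h => hf (linChar_eq_irrOne_iff.1 (hξ.le_ker_iff_eq_irrOne.1 h))
  obtain ⟨f, hf, ht⟩ := exists_lin_orderOf_eq (G := G) hp hpm
  obtain ⟨ξ, hξ⟩ := exists_irr_liesOver (G := G) (linChar f)
  have hf1 : f ≠ 1 := fun e => hp.ne_one (by rw [← hf, e, orderOf_one (G := N →* ℂˣ)])
  by_cases e : p = q
  · subst e
    exact (key hp f hf ht ha ξ (hne hf1 hξ) hξ).trans (key hp f hf ht hb ξ (hne hf1 hξ) hξ).symm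
  obtain ⟨f', hf', ht'⟩ := exists_lin_orderOf_eq (G := G) hq hqm
  obtain ⟨ξ', hξ'⟩ := exists_irr_liesOver (G := G) (linChar f')
  have hf1' : f' ≠ 1 := fun e => hq.ne_one (by rw [← hf', e, orderOf_one (G := N →* ℂˣ)])
  have hc : (orderOf f).Coprime (orderOf f') := by
    rw [hf, hf']; exact (Nat.coprime_primes hp hq).2 e
  obtain ⟨ζ, hζ⟩ := exists_irr_liesOver (G := G) (linChar (f * f'))
  have h1 : f * f' ≠ 1 := fun h => by
    rw [eq_inv_of_mul_eq_one_left (a := f) (b := f') h, orderOf_inv f', Nat.coprime_self, hf'] at hc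
    exact hq.ne_one hc
  obtain ⟨s, hs, h2, h3⟩ := exists_prime_dvd_of_coprime_order hN hf1 hc
  obtain ⟨s', hs', h2', h3'⟩ := exists_prime_dvd_of_coprime_order hN hf1' hc.symm
  refine (key hp f hf ht ha ξ (hne hf1 hξ) hξ).trans (SimpleGraph.Reachable.trans
    (v := ⟨_, degree_mem_relCharDegrees (hne h1 hζ)⟩) (reachable_rel_of_not_coprime
      (not_coprime_of_dvd_of_dvd hs.ne_one (h2 _ hξ) (h3 _ hζ))) (SimpleGraph.Reachable.symm
    ((key hq f' hf' ht' hb ξ' (hne hf1' hξ') hξ').trans (reachable_rel_of_not_coprime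
      (not_coprime_of_dvd_of_dvd hs'.ne_one (h2' _ hξ') (h3' _ (by rwa [mul_comm f'])))))))

theorem coprime_or_of_not_reachable (hN : N ≤ commutator G) {a b : relCharDegrees N}
    (h : ¬ (commonDivisorGraph.induce (relCharDegrees N)).Reachable a b) :
    (a.1.Coprime (⁅N, N⁆.relIndex N) ∧ ∀ r : ℕ, r.Prime → r ∣ ⁅N, N⁆.relIndex N → r ∣ b.1) ∨
      (b.1.Coprime (⁅N, N⁆.relIndex N) ∧ ∀ r : ℕ, r.Prime → r ∣ ⁅N, N⁆.relIndex N → r ∣ a.1) := by
  have key : ∀ {a b : relCharDegrees N},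
      ¬ (commonDivisorGraph.induce (relCharDegrees N)).Reachable a b →
      (∀ r : ℕ, r.Prime → r ∣ ⁅N, N⁆.relIndex N → r ∣ b.1) → a.1.Coprime (⁅N, N⁆.relIndex N) :=
    fun h hb => Nat.Coprime.symm (Nat.coprime_of_dvd fun r hr h1 h2 => h
      (reachable_rel_of_not_coprime (not_coprime_of_dvd_of_dvd hr.ne_one h2 (hb r hr h1))))
  by_cases hb : ∀ r : ℕ, r.Prime → r ∣ ⁅N, N⁆.relIndex N → r ∣ b.1
  · exact Or.inl ⟨key h hb, hb⟩
  push Not at hb
  obtain ⟨q, hq, h1, h2⟩ := hb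
  have ha : ∀ r : ℕ, r.Prime → r ∣ ⁅N, N⁆.relIndex N → r ∣ a.1 := fun r hr h3 =>
    by_contra fun h4 => h (reachable_rel_of_not_dvd hN hr hq h3 h1 h4 h2)
  exact Or.inr ⟨key (fun h' => h h'.symm) ha, ha⟩

theorem exists_prime_forall_mul_degree [Group.IsSolvable G] (h : commutator G ≠ ⊥) :
    ∃ r e : ℕ, r.Prime ∧ e ≠ 1 ∧ e ∣ (commutator G).index ∧ ∀ θ : IrrCharacter G,
      (charDegree θ.1).Coprime (commutator G).index → ¬ r ∣ charDegree θ.1 →
      ∃ φ : IrrCharacter G, charDegree φ.1 = e * charDegree θ.1 := by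
  obtain ⟨J, hJ, -⟩ := GT.exists_isChief_ge (K := ⊥) (L := commutator G) inferInstance
    inferInstance (bot_lt_iff_ne_bot.2 h)
  obtain ⟨r, k, hr, -, hk⟩ := hJ.exists_relIndex_eq_pow
  have := hJ.normal_left
  obtain ⟨x, hx, hx'⟩ := SetLike.exists_of_lt hJ.lt
  obtain ⟨η, h1, h2⟩ := exists_irr_le_ker_not_mem J hx'
  refine ⟨r, charDegree η.1, hr, fun e => h2 ((irr_degree_eq_one_iff_commutator_le_ker η).1 e hx),
    irr_degree_dvd_index_of_commutator_le_ker η _ (hJ.commutator_le_of_isSolvable.trans h1),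
    fun θ h3 h4 => ?_⟩
  have h5 : J.index.Coprime (charDegree θ.1) := by
    rw [← Subgroup.relIndex_mul_index hJ.le, hk]
    exact Nat.Coprime.mul_left (Nat.Coprime.pow_left _ (hr.coprime_iff_not_dvd.2 h4)) h3.symm
  exact ⟨⟨_, gallagher_isIrr' (θ := ⟨_, isIrr_res_of_coprime h5⟩) (irr_isCharacter θ) rfl h1⟩,
    (irr_isCharacter η).charDegree_mul (irr_isCharacter θ)⟩

theorem exists_common_of_coprime (hN : N ≤ commutator G) {f : N →* ℂˣ} (hf : f ≠ 1)
    {θ : IrrCharacter N} (hθ : θ ≠ irrOne N) {χ χ' : IrrCharacter G} (h : LiesOver N χ.1 θ.1)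
    (h' : LiesOver N χ'.1 (linChar f).1) (hc : (charDegree χ.1).Coprime (charDegree χ'.1))
    (h1 : (charDegree χ.1).Coprime (commutator N).index)
    (h2 : (charDegree χ'.1).Coprime (commutator N).index) :
    ∃ ψ : IrrCharacter G, ¬ N ≤ ker ψ.1 ∧ ¬ (charDegree χ.1).Coprime (charDegree ψ.1) ∧
      ¬ (charDegree χ'.1).Coprime (charDegree ψ.1) := by
  have h3 : ∀ {f : N →* ℂˣ}, orderOf f ∣ (commutator N).index := fun {f} =>
    card_units_hom (G := N) ▸ orderOf_dvd_natCard f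
  have h4 : ∀ {f : N →* ℂˣ}, f ≠ 1 → ∀ {χ : IrrCharacter G}, LiesOver N χ.1 (linChar f).1 →
      (charDegree χ.1).Coprime (commutator N).index → (stabilizer G (linChar f)).index ≠ 1 :=
    fun {f} hf _ h hc e => hf ((orderOf_eq_one_iff (x := f)).1
      (Nat.eq_one_of_dvd_coprimes hc (h.orderOf_dvd_degree hN e) h3))
  have h5 : ∀ {f : N →* ℂˣ}, f ≠ 1 → ∀ {θ : IrrCharacter N} {χ χ' ψ : IrrCharacter G},
      LiesOver N χ.1 θ.1 → LiesOver N χ'.1 (linChar f).1 → LiesOver N ψ.1 (f • θ).1 →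
      (charDegree χ.1).Coprime (charDegree χ'.1) → (charDegree χ.1).Coprime (commutator N).index →
      (charDegree χ'.1).Coprime (commutator N).index →
      ¬ (charDegree χ'.1).Coprime (charDegree ψ.1) := fun hf _ _ _ _ h h' hψ hc h1 h2 h6 => by
    obtain ⟨q, hq, h7, h8, -⟩ := exists_prime_dvd_of_coprime_stabilizer (h4 hf h' h2)
      ((hc.symm.coprime_dvd_left h'.index_inertia_dvd).coprime_dvd_right h.index_inertia_dvd)
      ((h6.coprime_dvd_left h'.index_inertia_dvd).coprime_dvd_right hψ.index_inertia_dvd)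
    exact not_coprime_of_dvd_of_dvd hq.ne_one (h8.trans h.index_mul_degree_dvd) (h7.trans h3) h1
  obtain ⟨ψ, hψ⟩ := exists_irr_liesOver (G := G) (f • θ)
  refine ⟨ψ, fun h6 => h4 hf h' h2 ?_, ?_, h5 hf h h' hψ hc h1 h2⟩
  · rw [eq_linChar_inv_of_smul_eq (hψ.le_ker_iff_eq_irrOne.1 h6)] at h
    exact Nat.eq_one_of_dvd_coprimes hc (stabilizer_linChar_inv f ▸ h.index_inertia_dvd)
      h'.index_inertia_dvd
  · by_cases h6 : charDegree θ.1 = 1
    · obtain ⟨μ, rfl⟩ := (exists_linChar_eq_iff θ).2 h6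
      rw [lin_smul_linChar, mul_comm f, ← lin_smul_linChar] at hψ
      exact h5 (mt linChar_eq_irrOne_iff.2 hθ) h' h hψ hc.symm h2 h1
    · exact not_coprime_of_dvd_of_dvd h6 h.degree_dvd (charDegree_lin_smul f θ ▸ hψ.degree_dvd)

end CT
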