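import Cfsg.Agent.Lib.Char.NqMain
import Cfsg.Agent.Lib.Char.RelGraph
import Cfsg.Agent.Lib.Char.GlaubUp

/-!
# Stabilizers of extendible characters and of linear characters of a normal subgroup
-/

set_option autoImplicit false
set_option linter.unusedSectionVars false

namespace CT

open Cfsg GT Subgroup MulAction
open scoped commutatorElement Pointwise

variable {G : Type*} [Group G] [Finite G]

/-- The conjugation action on the linear characters of a normal subgroup. -/
@[reducible] def linAct (N : Subgroup G) [N.Normal] : MulDistribMulAction G (N →* ℂˣ) where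
  smul := conjLin
  one_smul := conjLin_one
  mul_smul g h f := (conjLin_conjLin g h f).symm
  smul_mul := conjLin_mul
  smul_one _ := rfl

attribute [local instance] linAct

theorem stabilizer_linAct {N : Subgroup G} [N.Normal] (H : Subgroup G) (f : N →* ℂˣ) :
    stabilizer H f = stabilizer H (linChar f) :=
  Subgroup.ext fun g => (mem_stabilizer_linChar (g := g.1)).symm

theorem nSyl_congr {H X Y : Type*} [Group H] [MulAction H X] [MulAction H Y] {x : X} {y : Y}
    (h : stabilizer H x = stabilizer H y) {q : ℕ} : NSyl q H x ↔ NSyl q H y := by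
  unfold NSyl
  rw [h]

theorem index_stabilizer_of_sup_eq_top {M H : Subgroup G} [M.Normal] (h : H ⊔ M = ⊤)
    (θ : IrrCharacter M) : (stabilizer H θ).index = (stabilizer G θ).index :=
  relIndex_eq_index_of_forall_exists_mul_eq (H := stabilizer G θ) fun g => by
    obtain ⟨k, hk, m, hm, e⟩ :=
      (mem_sup_of_le_normalizer_right le_normalizer_of_normal).1 (h.ge (mem_top g))
    exact ⟨k, hk, m, le_inertia θ hm, e⟩

theorem exists_hom_of_isComplement' {M H : Subgroup G} [M.Normal] (h : M.IsComplement' H) :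
    ∃ f : G →* H, (∀ g : H, f g = g) ∧ (∀ g, ((f g : G) : G ⧸ M) = g) ∧ M ≤ f.ker :=
  ⟨h.symm.QuotientMulEquiv.toMonoidHom.comp (QuotientGroup.mk' M),
    fun g => h.symm.QuotientMulEquiv.apply_symm_apply g,
    fun g => h.symm.QuotientMulEquiv.symm_apply_apply (g : G ⧸ M), fun m hm => by
      rw [MonoidHom.mem_ker, MonoidHom.comp_apply, QuotientGroup.mk'_apply,
        (QuotientGroup.eq_one_iff m).2 hm, map_one]⟩

theorem exists_degree_eq_of_isComplement' {M H : Subgroup G} [M.Normal] (h : M.IsComplement' H)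
    (ψ : IrrCharacter H) : ∃ χ : IrrCharacter G, M ≤ ker χ.1 ∧ charDegree χ.1 = charDegree ψ.1 := by
  obtain ⟨f, h1, -, h2⟩ := exists_hom_of_isComplement' h
  exact ⟨irrComp f (fun g => ⟨g, h1 g⟩) ψ, h2.trans (monoidHom_ker_le_ker_comp f _),
    charDegree_irrComp _ _ _⟩

theorem exists_liesOver_degree_eq_of_extends {M H : Subgroup G} [M.Normal]
    (hc : M.IsComplement' H) {θ : IrrCharacter M} {ψ : IrrCharacter (stabilizer G θ)}
    (hψ : resLe (le_inertia θ) ψ.1 = θ.1) (β : IrrCharacter (stabilizer H θ)) :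
    ∃ χ : IrrCharacter G, LiesOver M χ.1 θ.1 ∧
      charDegree χ.1 = (stabilizer H θ).index * (charDegree β.1 * charDegree θ.1) := by
  obtain ⟨f, h1, h2, h3⟩ := exists_hom_of_isComplement' hc
  let π : stabilizer G θ →* stabilizer H θ := (f.comp (stabilizer G θ).subtype).codRestrict _
    fun g => (conjSmul_eq_of_coe_eq (h2 g) θ).trans g.2
  have hπ : Function.Surjective π := fun g => ⟨⟨g.1.1, g.2⟩, Subtype.ext (h1 g.1)⟩
  have h4 : M.subgroupOf (stabilizer G θ) ≤ ker (irrComp π hπ β).1 := fun g hg =>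
    monoidHom_ker_le_ker_comp π _ (Subtype.ext (h3 hg))
  have h5 := gallagher_isIrr_le (irr_isCharacter ψ) hψ h4
  have h6 : LiesOverLe (le_inertia θ) (⟨_, h5⟩ : IrrCharacter _).1 θ.1 := by
    rw [← liesOver_irrOf_iff]
    refine liesOver_of_res_eq_smul (irr_apply_one_ne_zero (irrComp π hπ β)) ?_
    rw [res_mul_of_le_ker h4, (res_subgroupOf_eq_irrOf_iff _).2 hψ]
  refine ⟨⟨_, cliffordCorr_isIrr le_rfl h6⟩, cliffordCorr_liesOver le_rfl h6, ?_⟩
  rw [charDegree_ind h5.isCharacter, (irr_isCharacter _).charDegree_mul (irr_isCharacter ψ),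
    charDegree_irrComp, ← hψ, charDegree_resLe,
    index_stabilizer_of_sup_eq_top hc.symm.sup_eq_top]

theorem nSyl_of_extends [Group.IsSolvable G] {M H : Subgroup G} [M.Normal]
    (hc : M.IsComplement' H) {θ : IrrCharacter M} {ψ : IrrCharacter (stabilizer G θ)}
    (hψ : resLe (le_inertia θ) ψ.1 = θ.1) {r : ℕ} [Fact r.Prime]
    (h : ∀ χ : IrrCharacter G, LiesOver M χ.1 θ.1 → ¬ r ∣ charDegree χ.1) : NSyl r H θ := by
  have h1 : ∀ β : IrrCharacter (stabilizer H θ),
      ¬ r ∣ (stabilizer H θ).index ∧ ¬ r ∣ charDegree β.1 := fun β => by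
    obtain ⟨χ, h1, h2⟩ := exists_liesOver_degree_eq_of_extends hc hψ β
    have h3 := h χ h1
    rw [h2] at h3
    exact ⟨fun h4 => h3 (h4.mul_right _), fun h4 => h3 ((h4.mul_right _).mul_left _)⟩
  obtain ⟨R⟩ : Nonempty (Sylow r (stabilizer H θ)) := inferInstance
  have := ((ito_sylow_iff isPSolvable_of_isSolvable R).2 fun β => (h1 β).2).1
  exact ⟨_, (isSylowIn_map_subtype R).trans le_top (by rw [relIndex_top_right]; exact (h1 (irrOne _)).1),
    map_subtype_le _, by simpa [← MonoidHom.range_eq_map] using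
      map_le_normalizer_map (A := ⊤) (H := R) le_normalizer_of_normal (stabilizer H θ).subtype⟩

theorem exists_extension_linChar_of_isComplement' {M H : Subgroup G} [M.Normal]
    (hc : M.IsComplement' H) (f : M →* ℂˣ) : ∃ ψ : IrrCharacter (stabilizer G (linChar f)),
      resLe (le_inertia _) ψ.1 = (linChar f).1 := by
  set T := stabilizer G (linChar f)
  have hM : M ≤ T := le_inertia _
  obtain ⟨μ, hμ, -⟩ := exists_extension_linear_of_complement (M.subgroupOf T) (H.subgroupOf T)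
    (isComplement'_of_disjoint_of_sup_eq_top
      (disjoint_def.2 fun h1 h2 => Subtype.ext (disjoint_def.1 hc.disjoint h1 h2)) (by
        rw [← inf_subgroupOf_right H]
        exact subgroupOf_sup_eq_top (by
          rw [← sup_inf_assoc_of_le_normalizer hM (Or.inr le_normalizer_of_normal), hc.sup_eq_top,
            top_inf_eq])))
    ((Units.coeHom ℂ).comp (f.comp (subgroupOfEquivOfLe hM).toMonoidHom))
    fun x n => mem_inertia_iff.1 x.2 _ _ rfl
  exact ⟨linChar μ.toHomUnits, funext fun n => hμ ⟨⟨n, hM n.2⟩, n.2⟩⟩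

theorem commutator_le_of_le_stabilizer {N K : Subgroup G} [N.Normal] {f : N →* ℂˣ}
    (h : K ≤ stabilizer G (linChar f)) : ⁅N, K⁆ ≤ f.ker.map N.subtype := by
  refine commutator_le.2 fun n hn k hk => ⟨⟨n, hn⟩ * (MulAut.conjNormal k ⟨n, hn⟩)⁻¹, ?_, by
    simp [commutatorElement_def, mul_assoc]⟩
  rw [SetLike.mem_coe, MonoidHom.mem_ker, map_mul, map_inv, mul_inv_eq_one]
  exact Units.ext (mem_inertia_iff.1 (h hk) _ _ rfl).symm

theorem exists_mul_dvd_degree_of_isMinNormal [Group.IsSolvable G] {N M H : Subgroup G} [N.Normal]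
    (hN : IsMinNormal N) (hM : M ≤ centralizer (N : Set G)) (hs : M ⊔ H = ⊤) {q r : ℕ}
    [Fact q.Prime] [Fact r.Prime] (hqr : q ≠ r) (hq : q ∣ (centralizer (N : Set G)).relIndex H)
    (hr : r ∣ (centralizer (N : Set G)).relIndex H)
    (hNq : ∀ f : N →* ℂˣ, f ≠ 1 → NSyl q H (linChar f))
    (hNr : ∀ f : N →* ℂˣ, f ≠ 1 → NSyl r H (linChar f)) :
    ∃ χ : IrrCharacter H, q * r ∣ charDegree χ.1 := by
  have := hN.isMulCommutative_of_isSolvable
  have := hN.nontrivial
  obtain ⟨n, hn⟩ := exists_ne (1 : N)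
  obtain ⟨f₀, hf₀⟩ := exists_units_hom_ne_one_of_comm hn
  have : Nontrivial (N →* ℂˣ) := ⟨f₀, 1, fun e => hf₀ (by rw [e]; rfl)⟩
  have hk : (MulDistribMulAction.toMulAut H (N →* ℂˣ)).ker ≤
      (centralizer (N : Set G)).subgroupOf H := by
    intro g hg x hx
    by_contra h1
    obtain ⟨f, hf⟩ := exists_units_hom_ne_one_of_comm
      (g := (MulAut.conjNormal g.1⁻¹ ⟨x, hx⟩ : N) * (⟨x, hx⟩ : N)⁻¹) fun e => h1 (by
        have h2 : g.1⁻¹ * x * g.1⁻¹⁻¹ = x := congrArg Subtype.val (mul_inv_eq_one.1 e)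
        rw [inv_inv, mul_assoc, inv_mul_eq_iff_eq_mul] at h2
        exact h2)
    rw [map_mul, map_inv f, Ne, mul_inv_eq_one] at hf
    exact hf (DFunLike.congr_fun (MulEquiv.congr_fun (MonoidHom.mem_ker.1 hg) f) ⟨x, hx⟩)
  refine exists_mul_dvd_degree_of_nSyl (V := N →* ℂˣ) (fun W hW => ?_) hqr
    (hq.trans (index_dvd_of_le hk)) (hr.trans (index_dvd_of_le hk))
    (fun f hf => (nSyl_congr (stabilizer_linAct H f)).2 (hNq f hf))
    fun f hf => (nSyl_congr (stabilizer_linAct H f)).2 (hNr f hf)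
  let : CommGroup N := { (inferInstance : Group N) with mul_comm := mul_comm' }
  set U := (CommGroup.subgroupOrderIsoSubgroupMonoidHom N ℂ).symm (OrderDual.toDual W) with hUd
  have hU : ∀ {n}, n ∈ U ↔ ∀ φ ∈ W, φ n = 1 :=
    CommGroup.mem_subgroupOrderIsoSubgroupMonoidHom_symm_iff ℂ W _
  have h1 : (U.map N.subtype).Normal := normal_of_le_normalizer_of_sup_eq_top hs
    (le_normalizer_of_le_centralizer (hM.trans (centralizer_anti (map_subtype_le U))))
    fun g hg => mem_normalizer_of_conj_mem (by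
      rintro _ ⟨u, hu, rfl⟩
      refine ⟨MulAut.conjNormal g u, hU.2 fun φ hφ => ?_, rfl⟩
      have h1 := hU.1 hu _ (hW ⟨g, hg⟩⁻¹ (mem_top _) φ hφ)
      rwa [show ((⟨g, hg⟩ : H)⁻¹ • φ) u = φ (MulAut.conjNormal g⁻¹⁻¹ u) from rfl, inv_inv] at h1)
  rcases hN.eq_bot_or_eq h1 (map_subtype_le U) with h2 | h2
  · rw [map_eq_bot_iff_of_injective _ N.subtype_injective, hUd, OrderIso.symm_apply_eq,
      OrderIso.map_bot] at h2
    exact Or.inr h2
  · refine Or.inl (eq_bot_iff.2 fun φ hφ => MonoidHom.ext fun x => ?_)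
    obtain ⟨u, hu, e⟩ := h2.ge x.2
    exact hU.1 ((Subtype.ext e : u = x) ▸ hu) φ hφ

theorem exists_irr_not_le_ker_of_disjoint {N M : Subgroup G} (hN : N ≠ ⊥) (hM : M ≠ ⊥)
    (h : Disjoint N M) : ∃ χ : IrrCharacter G, ¬ N ≤ ker χ.1 ∧ ¬ M ≤ ker χ.1 := by
  classical
  by_contra! h1
  obtain ⟨⟨n, hn⟩, hn1⟩ := ne_bot_iff_exists_ne_one.1 hN
  obtain ⟨⟨m, hm⟩, hm1⟩ := ne_bot_iff_exists_ne_one.1 hM
  rw [Ne, mk_eq_one] at hn1 hm1
  have h2 : n * m ≠ 1 := fun e =>
    hn1 (disjoint_def.1 h hn (by rw [eq_inv_of_mul_eq_one_left e]; exact inv_mem hm))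
  have h3 : ∑ χ : IrrCharacter G, (χ.1 1 * χ.1 1 + χ.1 1 * χ.1 (n * m)) =
      ∑ χ : IrrCharacter G, (χ.1 1 * χ.1 n + χ.1 1 * χ.1 m) := by
    refine Finset.sum_congr rfl fun χ _ => ?_
    by_cases h3 : N ≤ ker χ.1
    · rw [ker_apply_eq (h3 hn), ker_apply_mul_left (h3 hn)]
    · rw [ker_apply_eq (h1 χ h3 hm), ker_apply_mul_right (irr_isClassFunction χ) (h1 χ h3 hm),
        add_comm]
  simp only [Finset.sum_add_distrib, sum_irr_degree_mul, if_neg h2, if_neg hn1, if_neg hm1,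
    if_true, add_zero, Nat.cast_eq_zero] at h3
  exact Nat.card_pos.ne' h3

end CT
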