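import Cfsg.Agent.Lib.Char.NqSp
import Cfsg.Agent.Lib.Char.Degrees2

/-!
# Solvable irreducible linear groups whose vector stabilizers have normal Sylow subgroups

If every vector stabilizer contains Sylow `q`- and `r`-subgroups as normal subgroups, then some
irreducible character of the group has degree divisible by `q r`.
-/

set_option autoImplicit false
set_option linter.unusedSectionVars false

namespace CT

open Cfsg GT Subgroup MulAction
open scoped commutatorElement Pointwise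

variable {H : Type*} [Group H] [Finite H] {V : Type*} [CommGroup V] [Finite V] [Nontrivial V]
  [MulDistribMulAction H V]

theorem faithIrr_exists_prime (h : FaithIrr H V) : ∃ s : ℕ, s.Prime ∧ IsPGroup s V ∧
    ∀ K : Subgroup H, K.Normal → IsPGroup s K → K = ⊥ := by
  obtain ⟨s, hs, hd⟩ := Nat.exists_prime_and_dvd (Finite.one_lt_card (α := V)).ne'
  have := Fact.mk hs
  refine ⟨s, hs, ?_, fun K _ hK => ?_⟩
  · obtain ⟨v, hv⟩ := exists_prime_orderOf_dvd_card' s hd
    rcases h.irr (powMonoidHom s : V →* V).ker (fun g _ u hu => by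
      rw [MonoidHom.mem_ker, powMonoidHom_apply] at hu ⊢
      rw [← smul_pow', hu, smul_one]) with h1 | h1
    · have h2 : v = 1 := h1.le (show v ^ s = 1 from hv ▸ pow_orderOf_eq_one v)
      rw [h2, orderOf_one] at hv
      exact absurd hv.symm hs.one_lt.ne'
    · exact fun w => ⟨1, by rw [pow_one]; exact h1.ge (mem_top w)⟩
  · have h1 := card_modEq_card_fixS hK (invS_top (V := V) K)
    rw [card_top, top_inf_eq] at h1
    obtain ⟨v, hv, hv1, -⟩ := exists_mem_pow_eq_one ((h1.dvd_iff dvd_rfl).1 hd)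
    exact h.eq_bot_of_normal hv1 hv

theorem nSyl_exists_fixed {q : ℕ} [Fact q.Prime] (hN : ∀ v : V, v ≠ 1 → NSyl q H v)
    {K : Subgroup H} (hK : IsPGroup q K) : ∃ v : V, v ≠ 1 ∧ K ≤ stabilizer H v := by
  obtain ⟨v, hv⟩ := exists_ne (1 : V)
  obtain ⟨Q, hQ, h1, -⟩ := hN v hv
  obtain ⟨g, -, hg⟩ := hQ.exists_le_conj hK le_top
  refine ⟨g • v, fun e => hv ((smul_eq_iff_eq_inv_smul g).1 e |>.trans (smul_one _)), ?_⟩
  rw [stabilizer_smul_eq_conj]
  exact hg.trans (conj_smul_mono g h1)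

omit [Nontrivial V] in
theorem not_dvd_card_of_forall_normal {l : ℕ} [Fact l.Prime]
    (h : ∀ K : Subgroup H, K.Normal → IsPGroup l K → K = ⊥) (A : Subgroup H) [A.Normal]
    [Group.IsNilpotent A] : ¬ l ∣ Nat.card A := by
  obtain ⟨P, hP⟩ := exists_isSylowIn l A
  exact hP.eq_bot_iff.1 (h P hP.normal_of_isNilpotent hP.2)

theorem faithIrr_not_dvd (h : FaithIrr H V) {q : ℕ} [Fact q.Prime]
    (hN : ∀ v : V, v ≠ 1 → NSyl q H v) (A : Subgroup H) [A.Normal] [Group.IsNilpotent A] :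
    ¬ q ∣ Nat.card A :=
  not_dvd_card_of_forall_normal (fun K _ hK => by
    obtain ⟨v, hv, h1⟩ := nSyl_exists_fixed hN hK
    exact h.eq_bot_of_normal hv h1) A

theorem faithIrr_isCyclic (h : FaithIrr H V) {A : Subgroup H} [A.Normal] [IsMulCommutative A]
    (hA : ∀ a ∈ A, ∀ v : V, v ≠ 1 → a • v = v → a = 1) : IsCyclic A := by
  obtain ⟨s, hs, hV, h1⟩ := faithIrr_exists_prime h
  have := Fact.mk hs
  have := isNilpotent_of_isMulCommutative (G := A)
  exact isCyclic_of_fpf ((MulDistribMulAction.toMulAut H V).comp A.subtype)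
    (hV.coprime_card (not_dvd_card_of_forall_normal h1 A))
    fun a ha v e => by_contra fun hv => ha (Subtype.ext (hA a a.2 v hv e))

theorem faithIrr_false_of_centralizes [Group.IsSolvable H] (h : FaithIrr H V) {q r : ℕ}
    [hq : Fact q.Prime] [hr : Fact r.Prime] (hqr : q ≠ r) (hqd : q ∣ Nat.card H)
    (hrd : r ∣ Nat.card H) (hNq : ∀ v : V, v ≠ 1 → NSyl q H v)
    (hNr : ∀ v : V, v ≠ 1 → NSyl r H v)
    (hsr : ∀ A : Subgroup H, A.Normal → IsMulCommutative A →
      ∀ a ∈ A, ∀ v : V, v ≠ 1 → a • v = v → a = 1) {Q : Subgroup H} (hQ : IsSylowIn q Q ⊤)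
    (hQc : ∀ A : Subgroup H, A.Normal → IsMulCommutative A → Q ≤ centralizer (A : Set H)) :
    False := by
  obtain ⟨s, hs, hV, hs1⟩ := faithIrr_exists_prime h
  have := Fact.mk hs
  have hQ1 : Q ≠ ⊥ := hQ.ne_bot (by rwa [card_top])
  obtain ⟨t, ht, ht1⟩ : ∃ t : ℕ, t.Prime ∧ ¬ pCore t H ≤ centralizer (Q : Set H) := by
    by_contra! h1
    exact faithIrr_not_dvd h hNq (fittingSubgroup H)
      ((dvd_card_of_isPGroup_of_ne_bot hQ.2 hQ1).trans (card_dvd_of_le ((le_centralizer_iff.1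
        (fitting_le_of_forall_pCore_le fun p hp => h1 p hp.out)).trans centralizer_fitting_le)))
  have := Fact.mk ht
  obtain ⟨E, ⟨hEn, hE, hEQ⟩, hm⟩ := exists_minimal_of_wellFoundedLT
    (fun E : Subgroup H => E.Normal ∧ IsPGroup t E ∧ ¬ E ≤ centralizer (Q : Set H))
    ⟨_, inferInstance, isPGroup_pCore t H, ht1⟩
  have hE1 : E ≠ ⊥ := fun e => hEQ (e ▸ bot_le)
  have := hE.isNilpotent
  have htE := dvd_card_of_isPGroup_of_ne_bot hE hE1
  have htq : q ≠ t := fun e => faithIrr_not_dvd h hNq E (e ▸ htE)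
  have htr : r ≠ t := fun e => faithIrr_not_dvd h hNr E (e ▸ htE)
  have hts : t ≠ s := fun e => not_dvd_card_of_forall_normal hs1 E (e ▸ htE)
  have hc : ⁅E, E⁆ ≤ centralizer (E : Set H) := le_centralizer_of_minimal
    (coprimeAct_of_isPGroup_left le_normalizer_of_normal hQ.2 (faithIrr_not_dvd h hNq E))
    (fun W hW h1 => by_contra fun h2 => h1.not_ge (hm ⟨hW, hE.to_le h1.le, h2⟩ h1.le)) hEQ
    (commutator_lt_of_isNilpotent hE1 le_rfl le_normalizer)
  have hna : ¬ E ≤ centralizer (E : Set H) := fun e =>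
    hEQ (le_centralizer_iff.1 (hQc E hEn (le_centralizer_iff_isMulCommutative.1 e)))
  set Z := E ⊓ centralizer (E : Set H) with hZd
  have hZc : IsMulCommutative Z :=
    le_centralizer_iff_isMulCommutative.1 (inf_le_right.trans (centralizer_anti inf_le_left))
  have hZs := hsr Z inferInstance hZc
  have hZ : IsCyclic Z := faithIrr_isCyclic h hZs
  have hZt : IsPGroup t Z := hE.to_le inf_le_left
  obtain ⟨k, hk⟩ := exists_relIndex_centralizer_eq_pow hE hc
  have hk0 : k ≠ 0 := by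
    rintro rfl
    exact hna (relIndex_eq_one.1 hk)
  obtain ⟨z, hz, hzo⟩ := exists_mem_orderOf_eq (p := t) (H := Z)
    (dvd_card_of_isPGroup_of_ne_bot hZt fun e => hna (commutator_eq_bot_iff_le_centralizer.1
      (eq_bot_iff.2 ((le_inf (commutator_le_left E E) hc).trans e.le))))
  have hz1 : z ≠ 1 := fun e => ht.one_lt.ne (by rw [← hzo, e, orderOf_one])
  have hzZ : zpowers z ≤ Z := zpowers_le.2 hz
  obtain ⟨b, hb3, hbt, hb⟩ := exists_base_pow hs ht hts
  have hpow : ∀ y : H, ∀ U : Subgroup V, ∀ l : ℕ, l.Prime → orderOf y = l → InvS (zpowers y) U →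
      (∀ v : V, v ≠ 1 → y • v ≠ v) → Nat.card U ≡ 1 [MOD l] := by
    intro y U l hl hy hU h1
    have := Fact.mk hl
    have h2 := card_modEq_card_fixS (IsPGroup.of_card (p := l) (n := 1)
      (by rw [Nat.card_zpowers, hy, pow_one])) hU
    rwa [show U ⊓ fixS V (zpowers y) = ⊥ from eq_bot_iff.2 fun v hv =>
      by_contra fun h3 => h1 v h3 (hv.2 (mem_zpowers y)), card_bot] at h2
  have hinv : ∀ U : Subgroup V, InvS (zpowers z) U → ∃ j, Nat.card U = b ^ j := fun U hU => by
    obtain ⟨i, hi⟩ := IsPGroup.iff_card.1 (hV.to_subgroup U)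
    rw [hi]
    exact hb i (hi ▸ hpow z U t ht hzo hU fun v hv e => hz1 (hZs z hz v hv e))
  obtain ⟨a, ha⟩ := hinv ⊤ (invS_top _)
  have hb1 : 1 < b := by omega
  have hlt : ∀ (U : Subgroup V) j, Nat.card U = b ^ j → U ≠ ⊤ → j < a := fun U j h1 h2 => by
    rw [← Nat.pow_lt_pow_iff_right hb1, ← h1, ← ha, card_top]
    exact card_lt_of_ne_top h2
  obtain ⟨hka, hirr⟩ : t ^ k ≤ a ∧
      (a ≤ t ^ k → ∀ U : Subgroup V, InvS E U → U = ⊥ ∨ U = ⊤) := by
    obtain ⟨W, κ, d, hW, h1, h2, h3, h4, h5⟩ := exists_invS_card_eq_pow (V := V) hc hZs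
    rw [hk, pow_mul'] at h4
    have h6 : t ^ k ≤ d := (Nat.pow_le_pow_iff_left two_ne_zero).1 h4
    have h7 : d ≠ 0 := (lt_of_lt_of_le (pow_pos ht.pos k) h6).ne'
    obtain ⟨i, hi⟩ := IsPGroup.iff_card.1 (hV.to_subgroup W)
    obtain ⟨i', -, rfl⟩ := (Nat.dvd_prime_pow hs).1
      ((dvd_pow_self κ h7).trans (h3.symm.trans hi).dvd)
    obtain ⟨j, hj⟩ := hb i' ((Nat.modEq_iff_dvd' h2.le).2
      (hzo ▸ orderOf_dvd_of_pow_eq_one (h5 z hz))).symm
    have h8 : b ^ d ≤ Nat.card W := by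
      rw [h3, hj]
      refine Nat.pow_le_pow_left (Nat.le_self_pow ?_ b) d
      rintro rfl
      rw [pow_zero] at hj
      omega
    have h9 := h8.trans ((card_le_of_le (le_top (a := W))).trans ha.le)
    refine ⟨h6.trans ((Nat.pow_le_pow_iff_right hb1).1 h9), fun h10 U hU => ?_⟩
    have h11 : W = ⊤ := eq_of_le_of_card_ge le_top
      (ha.le.trans ((Nat.pow_le_pow_right hb1.le (h10.trans h6)).trans h8))
    exact h11 ▸ h1 U hU (h11 ▸ le_top)
  set C := centralizer (Z : Set H)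
  have hQC : Q ≤ C := hQc Z inferInstance hZc
  have hdvd : ∀ u i : ℕ, u.Prime → b ^ a ≡ 1 [MOD u ^ i] →
      (∀ j, 0 < j → j < a → ¬ b ^ j ≡ 1 [MOD u]) → u ^ i ∣ Nat.card C := by
    intro u i hu h1 h2
    have h3 := card_add_eq_of_nSyl (invS_top (V := V) ⊤) (fun v _ => hNq v) hQ
    obtain ⟨c, hc'⟩ := hinv (fixS V Q) (invS_fixS (le_normalizer_of_le_centralizer
      (hzZ.trans (le_centralizer_iff.1 hQC))))
    have h4 := hlt _ c hc' fun e => hQ1 (eq_bot_iff.2 fun g hg =>
      h.faith g fun v => e.ge (mem_top v) hg)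
    rw [top_inf_eq, ha, hc'] at h3
    have h5 : 1 < b ^ a := Nat.one_lt_pow (by omega) hb1
    have h6 : c ≠ 0 := by
      rintro rfl
      rw [pow_zero] at h3
      omega
    have h7 := Nat.one_le_pow c b (by omega)
    have h8 : b ^ a - 1 = (normalizer (Q : Set H)).index * (b ^ c - 1) := by
      rw [Nat.mul_sub_one]
      have := Nat.le_mul_of_pos_right (normalizer (Q : Set H)).index h7
      omega
    have h9 : u ^ i ∣ (normalizer (Q : Set H)).index :=
      (((Nat.Prime.coprime_iff_not_dvd hu).2 fun h9 => h2 c (Nat.pos_of_ne_zero h6) h4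
        ((Nat.modEq_iff_dvd' h7).2 h9).symm).pow_left i).dvd_of_dvd_mul_right
        (h8 ▸ (Nat.modEq_iff_dvd' h5.le).1 h1.symm)
    rw [index_eq_relIndex_of_sup_eq_top' (N := C)
      ((sup_comm _ _).trans (hQ.of_le hQC le_top).frattini_top)] at h9
    exact h9.trans (relIndex_dvd_card _ _)
  have hsp : ∀ (l : ℕ) (y : H), l.Prime → l ≠ t → orderOf y = l → y ∈ C →
      y ∉ centralizer (E : Set H) → ∃ j, 0 < j ∧ j ≤ k ∧ t ^ (2 * j) ≡ 1 [MOD l] ∧
        (j = k → E ⊓ centralizer (zpowers y : Set H) ≤ Z) := by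
    intro l y hl h1 h2 h3 h4
    have := Fact.mk hl
    have h5 : Z ≤ centralizer (zpowers y : Set H) := le_centralizer_iff.1 (zpowers_le.2 h3)
    obtain ⟨j, h6, h7, h8⟩ := exists_relIndex_eq_pow_of_centralizes h1 hE hc h2 h5 h4
    rw [← inf_relIndex_left] at hk h7
    have h9 := relIndex_dvd_of_le_left E (le_inf inf_le_left h5 : Z ≤ _)
    rw [hk, h7, Nat.pow_dvd_pow_iff_le_right ht.one_lt] at h9
    refine ⟨j, h6, by omega, h8, fun e => (eq_of_le_of_card_ge (le_inf inf_le_left h5) ?_).ge⟩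
    have h10 := card_mul_relIndex (inf_le_left : Z ≤ E)
    rw [hk, ← card_mul_relIndex (inf_le_left : E ⊓ centralizer (zpowers y : Set H) ≤ E), h7,
      e] at h10
    exact (Nat.eq_of_mul_eq_mul_right (pow_pos ht.pos _) h10).ge
  have hzs : 3 ≤ a → ∀ u : ℕ, u.Prime → b ^ a ≡ 1 [MOD u] →
      (∀ j, 0 < j → j < a → ¬ b ^ j ≡ 1 [MOD u]) →
      q ≠ u ∧ r ≠ u ∧ t = 2 ∧ a = t ^ k ∧ u = a + 1 ∧ ¬ b ^ a ≡ 1 [MOD u ^ 2] := by
    intro ha3 u hu h1 h2
    have := Fact.mk hu
    have hub : u.Coprime b := (Nat.Prime.coprime_iff_not_dvd hu).2 fun h3 => hu.one_lt.ne'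
      (Nat.dvd_one.1 ((h1.dvd_iff dvd_rfl).1 (h3.trans (dvd_pow_self b (by omega)))))
    have hut : u ≠ t := fun e => h2 1 one_pos (by omega) (by rwa [pow_one, e])
    have hua : a + 1 ≤ u := by
      have h3 := h2 (u - 1) (Nat.sub_pos_of_lt hu.one_lt)
      have h4 := Nat.ModEq.pow_totient hub.symm
      rw [Nat.totient_prime hu] at h4
      have := hu.pos
      by_contra h5
      exact h3 (by omega) h4
    have h3 : ∀ y ∈ C, orderOf y = u → (∀ v : V, v ≠ 1 → y • v ≠ v) ∧ a = t ^ k ∧ u = a + 1 ∧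
        E ⊓ centralizer (zpowers y : Set H) ≤ Z := by
      intro y hy ho
      have hy1 : y ≠ 1 := fun e => hu.one_lt.ne (by rw [← ho, e, orderOf_one])
      have hY : IsPGroup u (zpowers y) :=
        IsPGroup.of_card (n := 1) (by rw [Nat.card_zpowers, ho, pow_one])
      obtain ⟨j, hj⟩ := hinv (fixS V (zpowers y)) (invS_fixS (le_normalizer_of_le_centralizer
        (hzZ.trans (le_centralizer_iff.1 (zpowers_le.2 hy)))))
      have h4 := hlt _ j hj fun e => hy1 (h.faith y fun v => e.ge (mem_top v) (mem_zpowers y))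
      have h5 := card_modEq_card_fixS hY (invS_top (V := V) _)
      obtain ⟨e, rfl⟩ := Nat.exists_eq_add_of_le h4.le
      rw [top_inf_eq, ha, hj, pow_add] at h5
      have h6 := Nat.ModEq.cancel_left_of_coprime (c := b ^ j) (a := b ^ e) (b := 1)
        (hub.pow_right _) (by rwa [mul_one])
      have h7 : j = 0 := by_contra fun h7 => h2 e (by omega) (by omega) h6
      have h8 : ∀ v : V, v ≠ 1 → y • v ≠ v := fun v hv h8 => hv
        ((eq_bot_of_card_eq _ (by rw [hj, h7, pow_zero])).le (mem_fixS.2 (zpowers_le.2 h8)))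
      have h9 : y ∉ centralizer (E : Set H) := fun h9 => by
        have := isMulCommutative_centralizer_of_irr (K := zpowers y ⊔ zpowers z) h.faith
          fun U hU => by
            obtain ⟨i, hi⟩ := hinv U (hU.mono le_sup_right)
            refine or_iff_not_imp_right.2 fun h10 => eq_bot_of_card_eq _ ?_
            rw [hi, show i = 0 from by_contra fun h11 => h2 i (by omega) (hlt U i hi h10)
              (hi ▸ hpow y U u hu ho (hU.mono le_sup_left) h8), pow_zero]
        exact hna (le_centralizer_iff_isMulCommutative.2 (isMulCommutative_of_le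
          (le_centralizer_iff.1 (sup_le (zpowers_le.2 h9) (hzZ.trans inf_le_right)))))
      obtain ⟨i, hi0, hik, h10, h11⟩ := hsp u y hu hut ho hy h9
      have h12 : u ≤ t ^ i + 1 := by
        have h13 := (Nat.modEq_iff_dvd' (Nat.one_le_pow _ _ ht.pos)).1 h10.symm
        rw [pow_mul', ← one_pow 2, Nat.sq_sub_sq] at h13
        have h14 := Nat.one_lt_pow hi0.ne' ht.one_lt
        rcases (Nat.Prime.dvd_mul hu).1 h13 with h15 | h15
        · exact Nat.le_of_dvd (by omega) h15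
        · have := Nat.le_of_dvd (by omega) h15
          omega
      have h13 := Nat.pow_le_pow_right ht.pos hik
      exact ⟨h8, by omega, by omega, h11 (Nat.pow_right_injective ht.two_le (by simp only; omega))⟩
    obtain ⟨y, hy, ho⟩ := exists_mem_orderOf_eq (p := u) (H := C)
      (by simpa using hdvd u 1 hu (by rwa [pow_one]) h2)
    obtain ⟨h4, h5, h6, -⟩ := h3 y hy ho
    have h7 : ∀ l : ℕ, (∀ v : V, v ≠ 1 → NSyl l H v) → l ≠ u := by
      rintro l hN rfl
      obtain ⟨v, hv, h7⟩ := nSyl_exists_fixed hN (K := zpowers y)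
        (IsPGroup.of_card (n := 1) (by rw [Nat.card_zpowers, ho, pow_one]))
      exact h4 v hv (h7 (mem_zpowers y))
    have h8 : t = 2 := by
      refine ht.eq_two_or_odd'.resolve_right fun h8 => ?_
      have h9 := hu.eq_two_or_odd'.resolve_left (by omega)
      rw [h6, h5] at h9
      exact Nat.not_odd_iff_even.2 h8.pow.add_one h9
    refine ⟨h7 q hNq, h7 r hNr, h8, h5, h6, fun h9 => ?_⟩
    obtain ⟨U, hU⟩ := Sylow.exists_subgroup_card_pow_prime u (hdvd u 2 hu h9 h2)
    let := MulAction.compHom H ((MulAut.conj.comp C.subtype).comp U.subtype)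
    have h10 := card_dvd_ncard_of_free (H := U) ((E : Set H) \ Z) (fun g x hx =>
      ⟨hEn.conj_mem x hx.1 g, fun h10 => hx.2 (by
        have h11 : g.1.1⁻¹ * (g.1.1 * x * g.1.1⁻¹) * g.1.1⁻¹⁻¹ ∈ Z :=
          Normal.conj_mem inferInstance _ h10 _
        simpa [mul_assoc] using h11)⟩) fun x hx g hg => by
      by_contra h10
      obtain ⟨g', hg', h11⟩ := exists_mem_orderOf_eq (p := u) (H := zpowers g)
        (dvd_card_of_isPGroup_of_ne_bot ((IsPGroup.of_card hU).to_subgroup _)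
          (zpowers_ne_bot.2 h10))
      obtain ⟨n, rfl⟩ := hg'
      refine hx.2 ((h3 (g ^ n).1.1 (g ^ n).1.2 (by rw [orderOf_coe, orderOf_coe, h11])).2.2.2
        ⟨hx.1, ?_⟩)
      have h12 : Commute g.1.1 x := mul_inv_eq_iff_eq_mul.1 hg
      rw [centralizer_zpowers]
      exact mem_centralizer_singleton_iff.2 (h12.zpow_left n).symm
    rw [hU, Set.ncard_sdiff (show (Z : Set H) ⊆ E from fun _ hx => hx.1), ← Nat.card_coe_set_eq,
      ← Nat.card_coe_set_eq, SetLike.coe_sort_coe, SetLike.coe_sort_coe,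
      ← card_mul_relIndex (inf_le_left : Z ≤ E), inf_relIndex_left, hk, pow_mul', ← h5,
      ← Nat.mul_sub_one, ← one_pow 2, Nat.sq_sub_sq, ← h6, mul_left_comm, sq,
      mul_dvd_mul_iff_left hu.ne_zero, Nat.Prime.dvd_mul hu] at h10
    rcases h10 with h10 | h10
    · exact hut (eq_of_prime_dvd_card_of_isPGroup hZt hu h10)
    · have := Nat.le_of_dvd (by omega) h10
      omega
  obtain ⟨rfl, hak, hk2⟩ : t = 2 ∧ a = t ^ k ∧ (k = 1 ∨ k = 2 ∧ q ≠ 5 ∧ r ≠ 5) := by
    by_cases ha3 : 3 ≤ a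
    · obtain ⟨u, hu, h1, h2⟩ := exists_zsigmondy hb3 ha3
      have h3 : ∀ j, b ^ j ≡ 1 [MOD u] ↔ (u : ℤ) ∣ (b : ℤ) ^ j - 1 := fun j => by
        rw [Nat.ModEq.comm, Nat.modEq_iff_dvd, Nat.cast_pow, Nat.cast_one]
      obtain ⟨h4, h5, rfl, h6, h7, -⟩ := hzs ha3 u hu ((h3 a).2 h1) fun j h4 h5 h6 =>
        h2 j h4 h5 ((h3 j).1 h6)
      have h8 : k = 2 := eq_four_of_forall_prime hb3 hbt (by
        by_contra h8
        rw [show k = 1 by omega] at h6
        omega) fun u' hu' => h6 ▸ fun h8 h9 => (hzs ha3 u' hu' h8 h9).2.2.2.2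
      subst h8
      exact ⟨rfl, h6, Or.inr ⟨rfl, by omega, by omega⟩⟩
    · have h1 := Nat.le_self_pow hk0 t
      have h2 := ht.two_le
      obtain rfl : t = 2 := by omega
      refine ⟨rfl, by omega, Or.inl (by_contra fun h3 => ?_)⟩
      have := Nat.pow_le_pow_right two_pos (show 2 ≤ k by omega)
      omega
  have hCE := isMulCommutative_centralizer_of_irr h.faith (hirr hak.le)
  have := isNilpotent_of_isMulCommutative (G := centralizer (E : Set H))
  have key : ∀ (l : ℕ) [Fact l.Prime], l ≠ 2 → l ∣ Nat.card H → (∀ v : V, v ≠ 1 → NSyl l H v) →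
      (k = 1 ∨ k = 2 ∧ l ≠ 5) → l = 3 := by
    intro l hl h1 h2 h3 h4
    obtain ⟨y, hy⟩ := exists_prime_orderOf_dvd_card' l h2
    have h5 : powKer Z 2 ≤ Subgroup.center H := by
      rcases (Nat.dvd_prime Nat.prime_two).1 (card_powKer_dvd_of_isCyclic Z 2) with h5 | h5
      · exact (eq_bot_of_card_eq _ h5).le.trans bot_le
      · exact le_center_of_card_eq_two h5
    obtain ⟨j, h6, h7, h8, -⟩ := hsp l y hl.out h1 hy (le_centralizer_iff.1
      (le_centralizer_of_powKer_le hZt le_normalizer_of_normal (by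
        rw [Nat.card_zpowers, hy, Nat.prime_dvd_prime_iff_eq Nat.prime_two hl.out]
        exact h1.symm) (h5.trans (center_le_centralizer _))) (mem_zpowers y))
      fun h6 => faithIrr_not_dvd h h3 _ (hy ▸ orderOf_dvd_natCard _ h6)
    have h9 := (Nat.modEq_iff_dvd' (Nat.one_le_pow _ _ two_pos)).1 h8.symm
    have h10 := Nat.prime_dvd_prime_iff_eq hl.out Nat.prime_three
    obtain rfl | rfl : j = 1 ∨ j = 2 := by omega
    · exact h10.1 h9
    · exact h10.1 (((Nat.Prime.dvd_mul hl.out).1 (show l ∣ 3 * 5 from h9)).resolve_right fun h11 =>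
        by have := (Nat.prime_dvd_prime_iff_eq hl.out Nat.prime_five).1 h11; omega)
  exact hqr ((key q htq hqd hNq (by omega)).trans (key r htr hrd hNr (by omega)).symm)

theorem faithIrr_exists_mul_dvd [Group.IsSolvable H] (h : FaithIrr H V) {q r : ℕ}
    [hq : Fact q.Prime] [hr : Fact r.Prime] (hqr : q ≠ r) (hqd : q ∣ Nat.card H)
    (hrd : r ∣ Nat.card H) (hNq : ∀ v : V, v ≠ 1 → NSyl q H v)
    (hNr : ∀ v : V, v ≠ 1 → NSyl r H v) : ∃ χ : IrrCharacter H, q * r ∣ charDegree χ.1 := by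
  have hsr : ∀ A : Subgroup H, A.Normal → IsMulCommutative A →
      ∀ a ∈ A, ∀ v : V, v ≠ 1 → a • v = v → a = 1 := fun A _ _ a ha v hv e => by
    by_cases h2 : r = 2
    · exact h.semiregular (h2 ▸ hqr) hqd hNq ha hv e
    · exact h.semiregular h2 hrd hNr ha hv e
  have key : ∀ (l : ℕ) [Fact l.Prime], (∀ v : V, v ≠ 1 → NSyl l H v) →
      (∀ Q : Subgroup H, IsSylowIn l Q ⊤ → ¬ ∀ A : Subgroup H, A.Normal → IsMulCommutative A →
        Q ≤ centralizer (A : Set H)) →
      ∃ M : Subgroup H, IsMinNormal M ∧ l ∣ (centralizer (M : Set H)).index := by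
    intro l _ h1 h2
    obtain ⟨Q, hQ⟩ := exists_isSylowIn l (⊤ : Subgroup H)
    have h3 := h2 Q hQ
    push Not at h3
    obtain ⟨A, _, _, h3⟩ := h3
    have := faithIrr_isCyclic h (hsr A ‹_› ‹_›)
    have := isNilpotent_of_isMulCommutative (G := A)
    have ha : CoprimeAct Q A :=
      coprimeAct_of_isPGroup_left le_normalizer_of_normal hQ.2 (faithIrr_not_dvd h h1 A)
    obtain ⟨M, hM, h4⟩ := exists_isMinNormal_le (normal_of_le_isCyclic ha.commutator_le)
      fun e => h3 (le_centralizer_iff.1 (commutator_eq_bot_iff_le_centralizer.1 e))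
    have := hM.normal
    refine ⟨M, hM, by_contra fun h5 => hM.ne_bot (eq_bot_iff.2 ?_)⟩
    exact (le_inf h4 (le_centralizer_iff.1 (le_of_isPGroup_of_not_dvd_index hQ.2 h5))).trans
      ha.disjoint_commutator_centralizer.le_bot
  obtain ⟨M, hM, h1⟩ := key q hNq fun Q hQ =>
    faithIrr_false_of_centralizes h hqr hqd hrd hNq hNr hsr hQ
  obtain ⟨M', hM', h2⟩ := key r hNr fun Q hQ =>
    faithIrr_false_of_centralizes h hqr.symm hrd hqd hNr hNq hsr hQ
  have := hM.normal
  have := hM'.normal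
  have h3 := le_centralizer_iff_isMulCommutative.2 hM.isMulCommutative_of_isSolvable
  have h4 := le_centralizer_iff_isMulCommutative.2 hM'.isMulCommutative_of_isSolvable
  have h5 : M ≤ centralizer (M' : Set H) := by
    by_cases e : M = M'
    · exact e ▸ h3
    · exact hM.le_centralizer_of_ne hM' e
  have : IsMulCommutative (M ⊔ M' : Subgroup H) := le_centralizer_iff_isMulCommutative.1
    ((sup_le (le_inf h3 h5) (le_inf (le_centralizer_iff.1 h5) h4)).trans (centralizer_sup _ _).ge)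
  have := faithIrr_isCyclic h (hsr (M ⊔ M') inferInstance ‹_›)
  obtain ⟨f, hf⟩ := exists_injective_units_hom (G := (M ⊔ M' : Subgroup H))
  obtain ⟨χ, hχ⟩ := exists_irr_liesOver (linChar f)
  have h6 : stabilizer H (linChar f) ≤ centralizer ((M ⊔ M' : Subgroup H) : Set H) := by
    intro g hg x hx
    have h6 := mem_inertia_iff.1 hg ⟨x, hx⟩ ⟨_, Normal.conj_mem inferInstance x hx g⟩ rfl
    exact (mul_inv_eq_iff_eq_mul.1 (congrArg Subtype.val (hf (Units.ext h6)))).symm
  refine ⟨χ, (((Nat.coprime_primes hq.out hr.out).2 hqr).mul_dvd_of_dvd_of_dvd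
    (h1.trans (index_dvd_of_le (h6.trans (centralizer_anti le_sup_left))))
    (h2.trans (index_dvd_of_le (h6.trans (centralizer_anti le_sup_right))))).trans
    hχ.index_inertia_dvd⟩

theorem exists_mul_dvd_degree_of_nSyl [Group.IsSolvable H]
    (h : ∀ U : Subgroup V, InvS (⊤ : Subgroup H) U → U = ⊥ ∨ U = ⊤) {q r : ℕ}
    [hq : Fact q.Prime] [hr : Fact r.Prime] (hqr : q ≠ r)
    (hqd : q ∣ (MulDistribMulAction.toMulAut H V).ker.index)
    (hrd : r ∣ (MulDistribMulAction.toMulAut H V).ker.index) (hNq : ∀ v : V, v ≠ 1 → NSyl q H v)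
    (hNr : ∀ v : V, v ≠ 1 → NSyl r H v) : ∃ χ : IrrCharacter H, q * r ∣ charDegree χ.1 := by
  set φ := MulDistribMulAction.toMulAut H V
  have hf := φ.rangeRestrict_surjective
  have := Group.isSolvable_of_surjective hf
  have key : ∀ (l : ℕ) [Fact l.Prime] (v : V), NSyl l H v → NSyl l φ.range v := by
    rintro l _ v ⟨Q, hQ, h1, h2⟩
    have h3 : stabilizer φ.range v = (stabilizer H v).map φ.rangeRestrict := by
      ext g
      obtain ⟨g, rfl⟩ := hf g
      refine ⟨fun e => ⟨g, e, rfl⟩, ?_⟩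
      rintro ⟨g', h3, e⟩
      exact e ▸ h3
    exact ⟨_, hQ.map_top_of_surjective hf, h3 ▸ map_mono h1, h3 ▸ map_le_normalizer_map h2 _⟩
  rw [index_ker] at hqd hrd
  obtain ⟨χ, hχ⟩ := faithIrr_exists_mul_dvd (H := φ.range) (V := V)
    ⟨fun g hg => Subtype.ext (MulEquiv.ext hg),
      fun U hU => h U fun g _ => hU (φ.rangeRestrict g) (mem_top _)⟩ hqr hqd hrd
    (fun v hv => key q v (hNq v hv)) fun v hv => key r v (hNr v hv)
  exact ⟨irrComp _ hf χ, by rwa [charDegree_irrComp]⟩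

end CT
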