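import Cfsg.Agent.Lib.Grp.NqDim
import Cfsg.Agent.Lib.Grp.Zsig
import Cfsg.Agent.Lib.Char.RelDeg
import Cfsg.Agent.Lib.Lin.Winter

/-!
# Groups of class two with cyclic centre, and automorphisms fixing the centre
-/

set_option autoImplicit false

namespace CT

open Cfsg GT Subgroup MulAction
open scoped commutatorElement

variable {H : Type*} [Group H] [Finite H]

theorem exists_index_center_eq_sq [IsCyclic (Subgroup.center H)]
    (hc : ∀ x y : H, ⁅x, y⁆ ∈ Subgroup.center H) : ∃ m, (Subgroup.center H).index = m ^ 2 := by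
  obtain ⟨f, hf⟩ := exists_injective_units_hom (G := Subgroup.center H)
  obtain ⟨χ, hχ⟩ := exists_irr_liesOver (linChar f)
  have h1 : center χ.1 = Subgroup.center H := by
    refine le_antisymm (fun g hg => mem_center_iff.2 fun y => ?_) (center_le_center_irr χ)
    have h2 := commutatorElement_mem_ker_of_mem_center (irr_isClassFunction χ) hg y
    have h3 := ker_le_ker_of_ip_ne_zero ((irr_isClassFunction χ).res _) hχ
      (show (⟨_, hc y g⟩ : Subgroup.center H) ∈ ker (res _ χ.1) from fun x => h2 x)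
    rw [ker_linChar, (MonoidHom.ker_eq_bot_iff f).2 hf, mem_bot] at h3
    exact commutatorElement_eq_one_iff_mul_comm.1 (congrArg Subtype.val h3)
  refine ⟨charDegree χ.1, ?_⟩
  rw [irr_degree_sq_eq_index_center_of_commutator_le χ
    (h1 ▸ commutator_le.2 fun a _ b _ => hc a b), h1]

theorem exists_relIndex_centralizer_eq_pow {t : ℕ} [ht : Fact t.Prime] {E : Subgroup H}
    (hE : IsPGroup t E) (hc : ⁅E, E⁆ ≤ centralizer (E : Set H))
    [hZ : IsCyclic ↥(E ⊓ centralizer (E : Set H))] :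
    ∃ k, (centralizer (E : Set H)).relIndex E = t ^ (2 * k) := by
  have hz : Subgroup.center E = (centralizer (E : Set H)).subgroupOf E := by
    ext z
    simp only [mem_center_iff, mem_centralizer_iff, Subtype.ext_iff, Subtype.forall, coe_mul,
      SetLike.mem_coe, mem_subgroupOf]
  have : IsCyclic (Subgroup.center E) := by
    rw [hz, ← inf_subgroupOf_left]
    exact isCyclic_of_surjective _ (subgroupOfEquivOfLe inf_le_left).symm.surjective
  obtain ⟨m, hm⟩ := exists_index_center_eq_sq (H := E) fun x y =>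
    hz ▸ hc (commutator_mem_commutator x.2 y.2)
  obtain ⟨n, hn⟩ := hE.exists_relIndex_eq_pow (centralizer (E : Set H))
  rw [hz] at hm
  obtain ⟨k, -, rfl⟩ := (Nat.dvd_prime_pow ht.out).1
    ((dvd_pow_self m two_ne_zero).trans (hm.symm.trans hn).dvd)
  exact ⟨k, by rw [pow_mul']; exact hm⟩

theorem exists_relIndex_eq_pow_of_centralizes {t l : ℕ} [ht : Fact t.Prime] [hl : Fact l.Prime]
    (hlt : l ≠ t) {E : Subgroup H} [E.Normal] (hE : IsPGroup t E)
    (hc : ⁅E, E⁆ ≤ centralizer (E : Set H)) [hZ : IsCyclic ↥(E ⊓ centralizer (E : Set H))] {y : H}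
    (ho : orderOf y = l) (hz : E ⊓ centralizer (E : Set H) ≤ centralizer (zpowers y : Set H))
    (hne : y ∉ centralizer (E : Set H)) :
    ∃ j, 0 < j ∧ (centralizer (zpowers y : Set H)).relIndex E = t ^ (2 * j) ∧
      t ^ (2 * j) ≡ 1 [MOD l] := by
  set Y := zpowers y
  set Z := E ⊓ centralizer (E : Set H) with hZd
  have hY : IsPGroup l Y := IsPGroup.of_card (n := 1) (by rw [Nat.card_zpowers, ho, pow_one])
  have hlE : ¬ l ∣ Nat.card E := fun h => hlt (eq_of_prime_dvd_card_of_isPGroup hE hl.out h)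
  have ha : CoprimeAct Y E := coprimeAct_of_isPGroup_left le_normalizer_of_normal hY hlE
  set C := E ⊓ centralizer (Y : Set H)
  have hEZ : ⁅E, E⁆ ≤ Z := le_inf (commutator_le_left E E) hc
  have h1 : ⁅E, Y⁆ ≤ centralizer (C : Set H) := commutator_le_centralizer_of_rotate
    (by rw [commutator_eq_bot_iff_le_centralizer.2 (le_centralizer_iff.1 inf_le_right)]
        exact bot_le)
    (((commutator_mono inf_le_left le_rfl).trans hEZ).trans hz)
  have hZC : Z ≤ C := le_inf inf_le_left hz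
  set D := ⁅E, Y⁆ ⊔ Z
  have hDE : D ≤ E := sup_le ha.commutator_le inf_le_left
  have hDC : D ≤ centralizer (C : Set H) :=
    sup_le h1 (inf_le_right.trans (centralizer_anti inf_le_left))
  have h2 : D ⊓ centralizer (D : Set H) = Z := by
    refine le_antisymm (le_inf (inf_le_left.trans hDE) ?_)
      (le_inf le_sup_right (inf_le_right.trans (centralizer_anti hDE)))
    refine le_trans ?_ (centralizer_anti ha.commutator_sup_inf_centralizer.ge)
    exact (le_inf (inf_le_right.trans (centralizer_anti le_sup_left))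
      (inf_le_left.trans hDC)).trans (centralizer_sup _ C).ge
  have : IsCyclic ↥(D ⊓ centralizer (D : Set H)) := h2 ▸ hZ
  obtain ⟨j, hj⟩ := exists_relIndex_centralizer_eq_pow (E := D) (hE.to_le hDE)
    (((commutator_mono hDE hDE).trans hc).trans (centralizer_anti hDE))
  have h3 : (centralizer (Y : Set H)).relIndex E = t ^ (2 * j) := by
    have h4 : D ⊔ C = E := le_antisymm (sup_le hDE inf_le_left)
      (ha.commutator_sup_inf_centralizer.ge.trans (sup_le_sup_right le_sup_left _))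
    have h5 : C ⊓ D = centralizer (D : Set H) ⊓ D := le_antisymm
      (inf_le_inf_right _ (le_centralizer_iff.1 hDC))
      (le_inf ((inf_comm _ _).le.trans (h2.le.trans hZC)) inf_le_right)
    rw [← inf_relIndex_left, ← hj, ← inf_relIndex_right _ D, ← h5, inf_relIndex_right,
      ← relIndex_sup_of_le_normalizer (le_normalizer_of_le_centralizer hDC), h4]
  refine ⟨j, Nat.pos_of_ne_zero ?_, h3, h3 ▸ LG.relIndex_centralizer_modEq_one hY hlE⟩
  rintro rfl
  exact hne (le_centralizer_iff.1 (relIndex_eq_one.1 h3) (mem_zpowers y))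

theorem exists_base_pow {s t : ℕ} (hs : s.Prime) (ht : t.Prime) (h : t ≠ s) :
    ∃ b, 3 ≤ b ∧ b ≡ 1 [MOD t] ∧ ∀ i, s ^ i ≡ 1 [MOD t] → ∃ j, s ^ i = b ^ j := by
  have := Fact.mk ht
  have h1 : ∀ i, s ^ i ≡ 1 [MOD t] ↔ orderOf (s : ZMod t) ∣ i := fun i => by
    rw [orderOf_dvd_iff_pow_eq_one, ← ZMod.natCast_eq_natCast_iff, Nat.cast_pow, Nat.cast_one]
  have h2 : orderOf (s : ZMod t) ≠ 0 := by
    refine (isOfFinOrder_iff_pow_eq_one.2 ⟨t - 1, Nat.sub_pos_of_lt ht.one_lt,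
      ZMod.pow_card_sub_one_eq_one fun e => h ?_⟩).orderOf_pos.ne'
    exact (Nat.prime_dvd_prime_iff_eq ht hs).1 ((ZMod.natCast_eq_zero_iff s t).1 e)
  have h3 := (h1 _).2 dvd_rfl
  have h4 := Nat.one_lt_pow h2 hs.one_lt
  refine ⟨_, ?_, h3, fun i hi => ?_⟩
  · have := Nat.le_of_dvd (by omega) ((Nat.modEq_iff_dvd' h4.le).1 h3.symm)
    have := ht.two_le
    omega
  · obtain ⟨j, rfl⟩ := (h1 i).1 hi
    exact ⟨j, pow_mul _ _ _⟩

omit [Finite H] in
theorem card_dvd_ncard_of_free {X : Type*} [MulAction H X] (S : Set X)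
    (hS : ∀ g : H, ∀ x ∈ S, g • x ∈ S) (hf : ∀ x ∈ S, ∀ g : H, g • x = x → g = 1) :
    Nat.card H ∣ S.ncard := by
  let T : SubMulAction H X := ⟨S, fun g x hx => hS g x hx⟩
  have e := MulAction.selfEquivOrbitsQuotientProd (G := H) (X := T)
    fun x => eq_bot_iff.2 fun g hg => hf x.1 x.2 g (congrArg Subtype.val hg)
  exact ⟨_, (Nat.card_congr e).trans (by rw [Nat.card_prod, mul_comm])⟩

omit [Finite H] in
theorem card_modEq_card_fixS {V : Type*} [CommGroup V] [Finite V] [MulDistribMulAction H V]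
    {l : ℕ} [Fact l.Prime] {Y : Subgroup H} (hY : IsPGroup l Y) {U : Subgroup V}
    (hU : InvS Y U) : Nat.card U ≡ Nat.card ↥(U ⊓ fixS V Y) [MOD l] := by
  let := hU.action
  have h := hY.card_modEq_card_fixedPoints U
  rwa [show Nat.card (fixedPoints Y U) = Nat.card ((fixS V Y).subgroupOf U) from
    Nat.card_congr (Equiv.subtypeEquivRight fun u =>
      ⟨fun h g hg => congrArg Subtype.val (h ⟨g, hg⟩), fun h g => Subtype.ext (h g.2)⟩),
    card_subgroupOf, inf_comm] at h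

theorem eq_four_of_forall_prime {b k : ℕ} (hb : 3 ≤ b) (hb2 : b ≡ 1 [MOD 2]) (hk : 2 ≤ k)
    (h : ∀ u : ℕ, u.Prime → b ^ 2 ^ k ≡ 1 [MOD u] →
      (∀ j, 0 < j → j < 2 ^ k → ¬ b ^ j ≡ 1 [MOD u]) → u = 2 ^ k + 1 ∧ ¬ b ^ 2 ^ k ≡ 1 [MOD u ^ 2]) :
    k = 2 := by
  obtain ⟨m, rfl⟩ := Nat.exists_eq_add_of_le' hk
  set c := 2 ^ (m + 1) with hc
  have hc2 : 2 ^ (m + 2) = c * 2 := pow_succ _ _
  have h1 : ∀ n, n ∣ b ^ c + 1 → b ^ 2 ^ (m + 2) ≡ 1 [MOD n] := fun n hn => by
    rw [hc2, pow_mul]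
    refine ((Nat.modEq_iff_dvd' (Nat.one_le_pow _ _ (by positivity))).2 (hn.trans ?_)).symm
    rw [← one_pow 2, Nat.sq_sub_sq, one_pow]
    exact dvd_mul_right _ _
  have h2 : ∀ u : ℕ, u.Prime → u ≠ 2 → u ∣ b ^ c + 1 →
      u = 2 ^ (m + 2) + 1 ∧ ¬ u ^ 2 ∣ b ^ c + 1 := by
    intro u hu hu2 hd
    refine (h u hu (h1 u hd) fun j hj hj' e => hu2 ?_).imp_right fun h3 h4 => h3 (h1 _ h4)
    have h3 : ∀ i, b ^ i ≡ 1 [MOD u] ↔ orderOf (b : ZMod u) ∣ i := fun i => by
      rw [orderOf_dvd_iff_pow_eq_one, ← ZMod.natCast_eq_natCast_iff, Nat.cast_pow, Nat.cast_one]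
    obtain ⟨i, hi, h4⟩ := (Nat.dvd_prime_pow Nat.prime_two).1 ((h3 _).1 (h1 u hd))
    have h5 : i ≤ m + 1 := by
      by_contra h6
      have h7 := Nat.le_of_dvd hj ((h3 j).1 e)
      rw [h4, show i = m + 2 by omega] at h7
      omega
    have h6 := ((h3 c).2 (h4 ▸ pow_dvd_pow 2 h5)).add_right 1
    exact (Nat.prime_dvd_prime_iff_eq hu Nat.prime_two).1
      ((Nat.modEq_zero_iff_dvd).1 (h6.symm.trans (Nat.modEq_zero_iff_dvd.2 hd)))
  have h3 : ¬ 2 ^ 2 ∣ b ^ c + 1 := by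
    have h4 : (b ^ 2 ^ m) % 2 = 1 := by simpa [Nat.ModEq] using hb2.pow (2 ^ m)
    rw [hc, pow_succ 2 m, pow_mul]
    obtain ⟨x, hx⟩ : ∃ x, b ^ 2 ^ m = 2 * x + 1 := ⟨b ^ 2 ^ m / 2, by omega⟩
    rw [hx, show (2 * x + 1) ^ 2 + 1 = 4 * (x ^ 2 + x) + 2 by ring]
    omega
  have h4 : b ^ c + 1 ∣ 2 * (2 ^ (m + 2) + 1) := by
    refine (Nat.dvd_iff_prime_pow_dvd_dvd _ _).2 fun u i hu hd => ?_
    rcases i with _ | _ | i
    · simp
    · rw [zero_add, pow_one] at hd ⊢
      by_cases hu2 : u = 2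
      · exact hu2 ▸ dvd_mul_right _ _
      · exact (h2 u hu hu2 hd).1 ▸ dvd_mul_left _ _
    · have h5 : u ^ 2 ∣ b ^ c + 1 := (pow_dvd_pow u (by omega)).trans hd
      by_cases hu2 : u = 2
      · exact absurd (hu2 ▸ h5) h3
      · exact absurd h5 (h2 u hu hu2 ((dvd_pow_self u two_ne_zero).trans h5)).2
  have h5 := Nat.le_of_dvd (by positivity) h4
  have h6 : 3 ^ c ≤ b ^ c := Nat.pow_le_pow_left hb c
  have h7 : ∀ n : ℕ, 4 * (n + 3) + 1 < 3 ^ (n + 3) := by
    intro n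
    induction n with
    | zero => norm_num
    | succ n ih => rw [show n + 1 + 3 = (n + 3) + 1 by ring, pow_succ]; omega
  by_contra h8
  have h9 : 2 ^ 2 ≤ c := Nat.pow_le_pow_right two_pos (by omega)
  have := h7 (c - 3)
  rw [show c - 3 + 3 = c by omega] at this
  omega

end CT
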