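import Cfsg.Agent.Lib.Char.GlaubNormP
import Cfsg.Agent.Lib.Char.GlaubUp
import Cfsg.Agent.Lib.Char.IsaacsCorr
import Cfsg.Agent.Lib.Grp.Frob

/-!
# The Okuyama–Wajima extension theorem
-/

set_option autoImplicit false
set_option linter.unusedSectionVars false
set_option linter.style.haveILetI false

namespace CT

open Cfsg GT Subgroup MulAction
open scoped ComplexConjugate Pointwise commutatorElement

variable {Γ : Type*} [Group Γ] [Finite Γ]

/-- `θ` extends to the overgroup `V`. -/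
def ExtTo {K : Subgroup Γ} (θ : K → ℂ) (V : Subgroup Γ) : Prop :=
  ∃ (h : K ≤ V) (η : V → ℂ), IsCharacter V η ∧ resLe h η = θ

variable {K V W : Subgroup Γ}

theorem isIrr_of_resLe_eq (h : K ≤ V) {η : V → ℂ} (hη : IsCharacter V η) {θ : IrrCharacter K}
    (e : resLe h η = θ.1) : IsIrrCharacter V η :=
  isIrr_of_isIrr_res hη ((isIrr_res_subgroupOf_iff h).2 (e ▸ θ.2))

theorem ExtTo.le {θ : K → ℂ} (h : ExtTo θ V) : K ≤ V := h.1

theorem ExtTo.exists_irr {θ : IrrCharacter K} (h : ExtTo θ.1 V) (hK : K ≤ V) :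
    ∃ η : IrrCharacter V, resLe hK η.1 = θ.1 := by
  obtain ⟨_, η, h1, h2⟩ := h
  exact ⟨⟨η, isIrr_of_resLe_eq _ h1 h2⟩, h2⟩

theorem extTo_of_irr {θ : K → ℂ} (hK : K ≤ V) {η : IrrCharacter V} (e : resLe hK η.1 = θ) :
    ExtTo θ V := ⟨hK, η.1, irr_isCharacter η, e⟩

theorem ExtTo.mono {θ : K → ℂ} (h : ExtTo θ V) (hK : K ≤ W) (hW : W ≤ V) : ExtTo θ W := by
  obtain ⟨_, η, h1, h2⟩ := h
  exact ⟨hK, resLe hW η, h1.resLe hW, by rw [resLe_resLe]; exact h2⟩

theorem ExtTo.trans {θ : K → ℂ} (hK : K ≤ W) {η : W → ℂ} (e : resLe hK η = θ)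
    (h : ExtTo η V) : ExtTo θ V := by
  obtain ⟨hW, ζ, h1, h2⟩ := h
  exact ⟨hK.trans hW, ζ, h1, by rw [← resLe_resLe hW hK, h2, e]⟩

theorem extTo_self {θ : K → ℂ} (hθ : IsCharacter K θ) : ExtTo θ K := ⟨le_rfl, θ, hθ, rfl⟩

theorem extTo_irrOf_iff {U : Subgroup Γ} (hK : K ≤ U) (hV : V ≤ U) (θ : IrrCharacter K) :
    ExtTo (irrOf hK θ).1 (V.subgroupOf U) ↔ ExtTo θ.1 V := by
  constructor
  · rintro ⟨h, η, h1, h2⟩
    have hKV : K ≤ V := fun k hk => h (show (⟨k, hK hk⟩ : U) ∈ K.subgroupOf U from hk)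
    refine ⟨hKV, fun v => η ((subgroupOfEquivOfLe hV).symm v),
      h1.comp (subgroupOfEquivOfLe hV).symm.toMonoidHom, funext fun k => ?_⟩
    exact congrFun h2 ⟨⟨k, hK k.2⟩, k.2⟩
  · rintro ⟨h, η, h1, h2⟩
    refine ⟨subgroupOf_le_subgroupOf h U, fun v => η (subgroupOfEquivOfLe hV v),
      h1.comp (subgroupOfEquivOfLe hV).toMonoidHom, funext fun k => ?_⟩
    exact congrFun h2 ⟨k.1.1, k.2⟩

theorem extTo_of_cyclic (hKV : K ≤ V) (hV : V ≤ normalizer (K : Set Γ)) {a : Γ} (ha : a ∈ V)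
    (hc : V ≤ K ⊔ zpowers a) {θ : IrrCharacter K} (hθ : InvBy V θ.1) : ExtTo θ.1 V := by
  haveI := normal_subgroupOf_of_le_normalizer hV
  haveI : IsCyclic (V ⧸ K.subgroupOf V) := by
    refine ⟨⟨((⟨a, ha⟩ : V) : V ⧸ K.subgroupOf V), fun q => ?_⟩⟩
    obtain ⟨v, rfl⟩ := QuotientGroup.mk_surjective q
    obtain ⟨k, hk, y, ⟨n, rfl⟩, e⟩ :=
      (mem_sup_of_le_normalizer_left (zpowers_le.2 (hV ha))).1 (hc v.2)
    refine ⟨n, ?_⟩
    change ((⟨a, ha⟩ : V) : V ⧸ K.subgroupOf V) ^ n = _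
    rw [← QuotientGroup.mk_zpow, eq_comm, QuotientGroup.eq_iff_div_mem, mem_subgroupOf]
    have : ((v / (⟨a, ha⟩ : V) ^ n : V) : Γ) = k := by
      rw [div_eq_mul_inv]; push_cast; rw [← e]; group
    rwa [this]
  obtain ⟨η, e⟩ := exists_extension_le_of_isCyclic hKV θ (invBy_iff.1 hθ)
  exact extTo_of_irr hKV e

/-- Ambient form of the irreducibility criterion for restrictions over an abelian quotient. -/
theorem isIrr_resLe_iff_forall_lin (h : K ≤ V) (hab : ⁅V, V⁆ ≤ K) (η : IrrCharacter V) :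
    IsIrrCharacter K (resLe h η.1) ↔
      ∀ f : V →* ℂˣ, (∀ v : V, (v : Γ) ∈ K → f v = 1) → f • η = η → f = 1 := by
  have hn : V ≤ normalizer (K : Set Γ) :=
    le_normalizer_iff_commutator_le_right.2 ((commutator_mono le_rfl h).trans hab)
  haveI := normal_subgroupOf_of_le_normalizer hn
  have hc : _root_.commutator V ≤ K.subgroupOf V :=
    map_le_iff_le_comap.1 ((map_subtype_commutator V).le.trans hab)
  rw [← isIrr_res_subgroupOf_iff h, isIrr_res_iff_forall_lin hc]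
  rfl

theorem exists_lin_smul_of_liesOverLe (h : K ≤ V) (hab : ⁅V, V⁆ ≤ K) {η η' : IrrCharacter V}
    {θ : IrrCharacter K} (h1 : LiesOverLe h η.1 θ.1) (h2 : LiesOverLe h η'.1 θ.1) :
    ∃ f : V →* ℂˣ, (∀ v : V, (v : Γ) ∈ K → f v = 1) ∧ f • η = η' := by
  have hn : V ≤ normalizer (K : Set Γ) :=
    le_normalizer_iff_commutator_le_right.2 ((commutator_mono le_rfl h).trans hab)
  haveI := normal_subgroupOf_of_le_normalizer hn
  have hc : _root_.commutator V ≤ K.subgroupOf V :=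
    map_le_iff_le_comap.1 ((map_subtype_commutator V).le.trans hab)
  obtain ⟨f, hf, e⟩ := exists_lin_smul_of_liesOver hc ((liesOver_irrOf_iff h).2 h1)
    ((liesOver_irrOf_iff h).2 h2)
  exact ⟨f, fun v hv => hf hv, e⟩

/-- A linear character of `D` trivial on `B ⊓ D` extends to `B ⊔ D`, trivially on `B`. -/
theorem exists_units_hom_sup {B D : Subgroup Γ} (hD : D ≤ normalizer (B : Set Γ)) (hW : W = B ⊔ D)
    (hDW : D ≤ W) (g : D →* ℂˣ) (hg : ∀ d : D, (d : Γ) ∈ B → g d = 1) :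
    ∃ f : W →* ℂˣ, (∀ v : W, (v : Γ) ∈ B → f v = 1) ∧ f.comp (inclusion hDW) = g := by
  have hn : W ≤ normalizer (B : Set Γ) := hW ▸ sup_le le_normalizer hD
  haveI := normal_subgroupOf_of_le_normalizer hn
  set π : D →* W ⧸ B.subgroupOf W := (QuotientGroup.mk' _).comp (inclusion hDW) with hπ
  have hs : Function.Surjective π := fun q => by
    obtain ⟨v, rfl⟩ := QuotientGroup.mk_surjective q
    obtain ⟨b, hb, d, hd, e⟩ := (mem_sup_of_le_normalizer_left hD).1 (hW.le v.2)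
    refine ⟨⟨d, hd⟩, ?_⟩
    change ((inclusion hDW ⟨d, hd⟩ : W) : W ⧸ B.subgroupOf W) = _
    rw [eq_comm, QuotientGroup.eq_iff_div_mem, mem_subgroupOf]
    have : ((v / inclusion hDW ⟨d, hd⟩ : W) : Γ) = b := by
      rw [div_eq_mul_inv]; push_cast; rw [← e]; simp
    rwa [this]
  have hk : π.ker ≤ g.ker := fun d hd => hg d (by
    have := (QuotientGroup.eq_one_iff _).1 (show ((inclusion hDW d : W) : W ⧸ B.subgroupOf W) = 1
      from hd)
    exact this)
  refine ⟨(π.liftOfSurjective hs ⟨g, hk⟩).comp (QuotientGroup.mk' _), fun v hv => ?_, ?_⟩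
  · rw [MonoidHom.comp_apply, show QuotientGroup.mk' (B.subgroupOf W) v = 1 from
      (QuotientGroup.eq_one_iff _).2 hv, map_one]
  · ext d
    exact congrArg Units.val (MonoidHom.liftOfRightInverse_comp_apply π _
      (Function.rightInverse_surjInv hs) ⟨g, hk⟩ d)

theorem resLe_lin_smul {D : Subgroup Γ} (h : D ≤ W) (f : W →* ℂˣ) (η : IrrCharacter W) :
    resLe h (f • η).1 = (linChar (f.comp (inclusion h))).1 * resLe h η.1 := rfl

section OW

variable {p : ℕ} {B C A S D : Subgroup Γ}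

/-- If `⁅W, S⁆ ≤ B`, linear characters of `W / B` are `S`-invariant. -/
theorem InvBy.lin_smul (hWS : ⁅W, S⁆ ≤ B) {f : W →* ℂˣ}
    (hf : ∀ v : W, (v : Γ) ∈ B → f v = 1) {η : IrrCharacter W} (hη : InvBy S η.1) :
    InvBy S (f • η).1 := by
  intro s hs g g' e
  rw [lin_smul_apply, lin_smul_apply, hη s hs g g' e]
  have h1 : f (g⁻¹ * g') = 1 := hf _ (by
    have := hWS (commutator_mem_commutator (inv_mem g.2) hs)
    rw [commutatorElement_def] at this
    push_cast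
    rw [e]
    simpa [mul_assoc] using this)
  rw [map_mul, map_inv, inv_mul_eq_one] at h1
  rw [h1]

theorem okuyama_wajima_base (hp : p.Prime) (hS : IsPGroup p S) (hSB : S ≤ normalizer (B : Set Γ))
    (hB : ¬ p ∣ Nat.card B) (hA : ¬ p ∣ Nat.card A) (hAB : A ≤ normalizer (B : Set Γ))
    (hAS : A ≤ normalizer (S : Set Γ)) (hC : C = B ⊓ centralizer (S : Set Γ)) (hCB : C ≤ B)
    (hCD : C ≤ D) (hDA : D ≤ A) (hDS : D ≤ centralizer (S : Set Γ)) (hab : ⁅A, A⁆ ≤ C) {a : Γ}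
    (ha : a ∈ A) (hcyc : A ≤ D ⊔ zpowers a) {θ : IrrCharacter B} (hθS : InvBy S θ.1)
    {φ : IrrCharacter C} (hφ : ModCorr p (resLe hCB θ.1) φ) :
    ExtTo θ.1 (B ⊔ A) ↔ ExtTo φ.1 A := by
  haveI := Fact.mk hp
  obtain ⟨W, hW⟩ : ∃ W, W = B ⊔ D := ⟨_, rfl⟩
  have hBW : B ≤ W := hW ▸ le_sup_left
  have hDW : D ≤ W := hW ▸ le_sup_right
  have hDB : D ≤ normalizer (B : Set Γ) := hDA.trans hAB
  have hWA : W ≤ B ⊔ A := hW ▸ sup_le_sup_left hDA _
  have hAD : A ≤ normalizer (D : Set Γ) :=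
    le_normalizer_iff_commutator_le_right.2 ((commutator_mono le_rfl hDA).trans (hab.trans hCD))
  have hAC : A ≤ normalizer (C : Set Γ) :=
    hC ▸ le_normalizer_inf hAB (le_normalizer_centralizer hAS)
  have hAW : A ≤ normalizer (W : Set Γ) := hW ▸ le_normalizer_sup hAB hAD
  have hSD : S ≤ centralizer (D : Set Γ) := le_centralizer_iff.1 hDS
  have hSC : S ≤ centralizer (C : Set Γ) := le_centralizer_iff.1 (hC ▸ inf_le_right)
  have hSW : S ≤ normalizer (W : Set Γ) :=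
    hW ▸ le_normalizer_sup hSB (le_normalizer_of_le_centralizer hSD)
  have hWp : ¬ p ∣ Nat.card W := fun h => by
    rw [hW, sup_comm] at h
    have := h.trans (card_sup_dvd_of_le_normalizer hDB)
    rcases hp.dvd_mul.1 this with h1 | h1
    · exact hA (h1.trans (card_dvd_of_le hDA))
    · exact hB h1
  have hDeq : D = W ⊓ centralizer (S : Set Γ) := by
    rw [hW, sup_comm, sup_inf_assoc_of_le_normalizer hDS (Or.inl hDB), ← hC, sup_eq_left.2 hCD]
  have hWn : W ≤ normalizer (B : Set Γ) := hW ▸ sup_le le_normalizer hDB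
  have hBA : B ⊔ A ≤ normalizer (B : Set Γ) := sup_le le_normalizer hAB
  have hWW : ⁅W, W⁆ ≤ B := by
    refine (commutator_mono hWA hWA).trans ?_
    haveI := normal_subgroupOf_of_le_normalizer hBA
    rw [← map_subtype_commutator, map_le_iff_le_comap]
    change _ ≤ B.subgroupOf _
    rw [← map_mk'_eq_bot_iff, _root_.commutator_def, map_commutator, commutator_self_eq_bot_iff,
      ← subgroupOf_sup_eq_top (rfl : B ⊔ A = B ⊔ A), Subgroup.map_sup,
      map_mk'_eq_bot_iff.2 le_rfl, bot_sup_eq, ← commutator_self_eq_bot_iff, ← map_commutator,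
      map_mk'_eq_bot_iff]
    exact commutator_subgroupOf_le (hab.trans hCB) _
  have hWS : ⁅W, S⁆ ≤ B := by
    refine commutator_le.2 fun w hw s hs => ?_
    obtain ⟨b, hb, d, hd, rfl⟩ := (mem_sup_of_le_normalizer_left hDB).1 (hW.le hw)
    have e : d * s = s * d := (hDS hd s hs).symm
    have : ⁅b * d, s⁆ = b * (s * b⁻¹ * s⁻¹) := by
      rw [commutatorElement_def]
      calc b * d * s * (b * d)⁻¹ * s⁻¹ = b * (d * s) * d⁻¹ * b⁻¹ * s⁻¹ := by group
        _ = _ := by rw [e]; group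
    rw [this]
    exact mul_mem hb (conj_mem_of_mem_normalizer (hSB hs) (inv_mem hb))
  have hDD : ⁅D, D⁆ ≤ C := (commutator_mono hDA hDA).trans hab
  have HW : GlaubP p S hDW := glaubP_of_isPGroup hp hS hSW hWp hDeq hDW
  have HB : GlaubP p S hCB := glaubP_of_isPGroup hp hS hSB hB hC hCB
  haveI := normal_subgroupOf_of_le_normalizer hWn
  haveI := normal_subgroupOf_of_le_normalizer (hDA.trans hAC)
  have key : ∀ {η : IrrCharacter W} {ξ : IrrCharacter D}, InvBy S η.1 →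
      ModCorr p (resLe hDW η.1) ξ → (LiesOverLe hBW η.1 θ.1 ↔ LiesOverLe hCD ξ.1 φ.1) :=
    fun h1 h2 => HB.liesOverLe_iff hp hS hSB hSC hBW hWp hCD h1 hθS h2 hφ
  have hBD : ∀ d ∈ D, d ∈ B → d ∈ C := fun d hd hb => hC ▸ ⟨hb, hDS hd⟩
  have keyI : ∀ {η : IrrCharacter W} {ξ : IrrCharacter D}, InvBy S η.1 →
      ModCorr p (resLe hDW η.1) ξ →
      (IsIrrCharacter B (resLe hBW η.1) ↔ IsIrrCharacter C (resLe hCD ξ.1)) := by
    intro η ξ h1 h2
    rw [isIrr_resLe_iff_forall_lin hBW hWW, isIrr_resLe_iff_forall_lin hCD hDD]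
    constructor
    · intro H g hg e
      obtain ⟨f, hf, rfl⟩ := exists_units_hom_sup hDB hW hDW g fun d hd => hg d (hBD d d.2 hd)
      have h3 := h2.lin_smul (f.comp (inclusion hDW))
      rw [e, ← resLe_lin_smul] at h3
      rw [H f hf (HW.inj _ _ (h1.lin_smul hWS hf) h1 _ h3 h2), MonoidHom.one_comp]
    · intro H f hf e
      have h3 := h2.lin_smul (f.comp (inclusion hDW))
      rw [← resLe_lin_smul, e] at h3
      have h4 := H _ (fun d hd => hf (inclusion hDW d) (hCB hd)) (h2.unique hp h3)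
      ext v
      obtain ⟨b, hb, d, hd, e'⟩ := (mem_sup_of_le_normalizer_left hDB).1 (hW.le v.2)
      have : v = ⟨b, hBW hb⟩ * inclusion hDW ⟨d, hd⟩ := Subtype.ext e'.symm
      rw [this, map_mul, hf _ hb, one_mul]
      exact congrArg Units.val (DFunLike.congr_fun h4 ⟨d, hd⟩)
  constructor
  · intro h
    obtain ⟨χ, hχ⟩ := h.exists_irr le_sup_left
    have hη0 : resLe hBW (resLe hWA χ.1) = θ.1 := hχ
    set η : IrrCharacter W := ⟨resLe hWA χ.1,
      isIrr_of_resLe_eq hBW ((irr_isCharacter χ).resLe hWA) hη0⟩ with hη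
    have hηθ : LiesOverLe hBW η.1 θ.1 := liesOverLe_of_resLe_eq hη0
    obtain ⟨η', h1, h2⟩ := exists_invBy_liesOver_of_commutator_le hBW hWW hSW hSB
      ((hS.coprime_card (fun h => hWp (h.trans (relIndex_dvd_card B W)))).symm) hθS
    obtain ⟨f, hf, e⟩ := exists_lin_smul_of_liesOverLe hBW hWW h1 hηθ
    have hηS : InvBy S η.1 := e ▸ h2.lin_smul hWS hf
    have hηA : InvBy A η.1 :=
      ((invBy_self (irr_isClassFunction χ)).mono le_sup_right).resLe hWA
    obtain ⟨ξ, hξ⟩ := HW.ex η hηS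
    have hξA : InvBy A ξ.1 := hξ.invBy hp hAD (hηA.resLe hDW)
    have h3 : IsIrrCharacter C (resLe hCD ξ.1) := (keyI hηS hξ).1 (by
      change IsIrrCharacter B (resLe hBW (resLe hWA χ.1)); rw [hη0]; exact θ.2)
    have h4 : resLe hCD ξ.1 = φ.1 :=
      congrArg Subtype.val (irr_eq_of_ip_ne_zero (χ := ⟨_, h3⟩) ((key hηS hξ).1 hηθ))
    exact (extTo_of_cyclic hDA hAD ha hcyc hξA).trans hCD h4
  · intro h
    obtain ⟨ψ, hψ⟩ := h.exists_irr (hCD.trans hDA)
    have hξ0 : resLe hCD (resLe hDA ψ.1) = φ.1 := hψ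
    set ξ : IrrCharacter D := ⟨resLe hDA ψ.1,
      isIrr_of_resLe_eq hCD ((irr_isCharacter ψ).resLe hDA) hξ0⟩ with hξ
    have hξA : InvBy A ξ.1 := (invBy_self (irr_isClassFunction ψ)).resLe hDA
    obtain ⟨η, hηS, hη⟩ := HW.surj ξ
    have hηA : InvBy A η.1 := HW.invBy hSW hAW hAD hAS hηS hη hξA
    have h3 : IsIrrCharacter B (resLe hBW η.1) := (keyI hηS hη).2 (by
      change IsIrrCharacter C (resLe hCD (resLe hDA ψ.1)); rw [hξ0]; exact φ.2)
    have h4 : resLe hBW η.1 = θ.1 :=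
      congrArg Subtype.val (irr_eq_of_ip_ne_zero (χ := ⟨_, h3⟩)
        ((key hηS hη).2 (liesOverLe_of_resLe_eq hξ0)))
    have hBnW : B ≤ normalizer (W : Set Γ) := hBW.trans le_normalizer
    refine (extTo_of_cyclic hWA (sup_le hBnW hAW) (mem_sup_right ha)
      (sup_le (hBW.trans le_sup_left) (hcyc.trans (sup_le_sup_right hDW _))) ?_).trans hBW h4
    exact ((invBy_self (irr_isClassFunction η)).mono hBW).sup hηA hBnW hAW

/-- `A` acts coprimely on `S` with `⁅A, A⁆` acting trivially: some cocyclic subgroup of `A` has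
fixed points outside the proper subgroup `R`. -/
theorem exists_cocyclic_not_le {R : Subgroup Γ} (hAS : A ≤ normalizer (S : Set Γ))
    (hc : (Nat.card S).Coprime (Nat.card A)) (hab : ⁅A, A⁆ ≤ centralizer (S : Set Γ))
    [Group.IsSolvable S] (hR : ¬ S ≤ R) :
    ∃ D : Subgroup Γ, A ⊓ centralizer (S : Set Γ) ≤ D ∧ D ≤ A ∧ (∃ a ∈ A, A ≤ D ⊔ zpowers a) ∧
      ¬ S ⊓ centralizer (D : Set Γ) ≤ R := by
  by_contra hn
  push Not at hn
  set X := A ⊓ centralizer (S : Set Γ) with hX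
  set L := normalizer (X : Set Γ) with hL
  have hAL : A ≤ L := le_normalizer_inf le_normalizer (le_normalizer_centralizer hAS)
  have hSL : S ≤ L := le_normalizer_of_le_centralizer (le_centralizer_iff.1 inf_le_right)
  set f := QuotientGroup.mk' (X.subgroupOf L) with hf
  have hca : CoprimeAct (A.subgroupOf L) (S.subgroupOf L) :=
    (⟨hAS, hc, Or.inl inferInstance⟩ : CoprimeAct A S).subgroupOf L
  haveI : IsMulCommutative ((A.subgroupOf L).map f) := by
    rw [← commutator_self_eq_bot_iff, ← map_commutator, map_mk'_eq_bot_iff]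
    exact commutator_subgroupOf_le (le_inf (le_normalizer_iff_commutator_le_right.1 le_normalizer) hab) _
  have h1 : (S.subgroupOf L).map f ≤ ((R ⊓ S).subgroupOf L).map f := by
    refine le_of_forall_centralizer_cocyclic_le (hca.map f).norm (hca.map f).cop ?_
    rintro B' hB' ⟨_, ⟨a, ha, rfl⟩, hcyc⟩
    have hker : f.ker ≤ A.subgroupOf L := by
      rw [QuotientGroup.ker_mk']; exact fun x hx => hx.1
    have hB1 : B'.comap f ≤ A.subgroupOf L := (comap_mono hB').trans (comap_map_eq_self hker).le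
    have hmc : (B'.comap f).map f = B' := map_comap_eq_self_of_surjective
      (QuotientGroup.mk'_surjective _) _
    have h2 := hn ((B'.comap f).map L.subtype)
      (fun x hx => ⟨⟨x, hAL hx.1⟩, by
        change f _ ∈ B'
        rw [show f ⟨x, hAL hx.1⟩ = 1 from (QuotientGroup.eq_one_iff _).2 hx]
        exact one_mem _, rfl⟩)
      (map_le_iff_le_comap.2 hB1) ⟨a, ha, fun x hx => by
        have h3 : (⟨x, hAL hx⟩ : L) ∈ (B' ⊔ zpowers (f a)).comap f :=
          hcyc ⟨⟨x, hAL hx⟩, hx, rfl⟩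
        rw [← hmc, ← MonoidHom.map_zpowers, ← Subgroup.map_sup, comap_map_eq_self
          (le_sup_of_le_left (ker_le_comap _ _))] at h3
        have h4 := mem_map_of_mem L.subtype h3
        rwa [Subgroup.map_sup, MonoidHom.map_zpowers] at h4⟩
    rw [← hmc, ← (hca.of_le_left hB1).map_inf_centralizer f]
    refine map_mono fun x hx => ⟨h2 ⟨hx.1, ?_⟩, hx.1⟩
    rintro _ ⟨y, hy, rfl⟩
    exact congrArg Subtype.val (hx.2 y hy)
  refine hR fun s hs => ?_
  obtain ⟨r, hr, e⟩ := h1 ⟨⟨s, hSL hs⟩, hs, rfl⟩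
  have h2 : ((r⁻¹ * ⟨s, hSL hs⟩ : L) : Γ) ∈ X :=
    (QuotientGroup.eq (s := X.subgroupOf L)).1 e
  have h3 : ((r⁻¹ * ⟨s, hSL hs⟩ : L) : Γ) = 1 :=
    disjoint_def.1 (⟨hAS, hc, Or.inl inferInstance⟩ : CoprimeAct A S).disjoint
      (mul_mem (inv_mem hr.2) hs) h2.1
  push_cast at h3
  rw [inv_mul_eq_one] at h3
  exact h3 ▸ hr.1

/-- The Okuyama–Wajima theorem. -/
theorem okuyama_wajima (hp : p.Prime) (S : Subgroup Γ) : ∀ {B C A : Subgroup Γ},
    IsPGroup p S → S ≤ normalizer (B : Set Γ) → ¬ p ∣ Nat.card B → ¬ p ∣ Nat.card A →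
    A ≤ normalizer (B : Set Γ) → A ≤ normalizer (S : Set Γ) →
    C = B ⊓ centralizer (S : Set Γ) → ∀ (hCB : C ≤ B), C ≤ A → ⁅A, A⁆ ≤ C →
    ∀ {θ : IrrCharacter B}, InvBy S θ.1 → InvBy A θ.1 → ∀ {φ : IrrCharacter C},
    ModCorr p (resLe hCB θ.1) φ → (ExtTo θ.1 (B ⊔ A) ↔ ExtTo φ.1 A) := by
  haveI := Fact.mk hp
  induction S using (wellFounded_lt (α := Subgroup Γ)).induction with
  | _ S ih =>
  intro B C A hS hSB hB hA hAB hAS hC hCB hCA hab θ hθS hθA φ hφ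
  by_cases hS1 : S = ⊥
  · have e : C = B := by
      rw [hC, hS1, (centralizer_eq_top_iff_subset.2 (by simp) :
        centralizer ((⊥ : Subgroup Γ) : Set Γ) = ⊤), inf_top_eq]
    subst e
    rw [sup_eq_right.2 hCA, (modCorr_self p θ).unique hp hφ]
  haveI := IsPGroup.isSolvable' hS
  have hSS : ⁅S, S⁆ < S := by
    rw [← map_subtype_commutator]
    haveI := (nontrivial_iff_ne_bot S).2 hS1
    refine lt_of_le_of_ne (map_subtype_le _) fun e => ?_
    have h1 := Group.IsSolvable.commutator_lt_top_of_nontrivial S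
    refine h1.ne (map_injective S.subtype_injective ?_)
    rw [e, ← MonoidHom.range_eq_map, range_subtype]
  obtain ⟨R, ⟨hR1, hR2, hR3⟩, hmax⟩ := (Set.toFinite {R : Subgroup Γ | ⁅S, S⁆ ≤ R ∧ R < S ∧
    A ≤ normalizer (R : Set Γ)}).exists_maximal ⟨_, le_rfl, hSS, le_normalizer_commutator hAS hAS⟩
  have hnorm : ∀ {R : Subgroup Γ}, ⁅S, S⁆ ≤ R → R ≤ S → S ≤ normalizer (R : Set Γ) :=
    fun h1 h2 => le_normalizer_iff_commutator_le_right.2 ((commutator_mono le_rfl h2).trans h1)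
  have hCS : C ≤ centralizer (S : Set Γ) := hC ▸ inf_le_right
  obtain ⟨D, hD1, hDA, ⟨a, ha, hcyc⟩, hD2⟩ := exists_cocyclic_not_le hAS (hS.coprime_card hA)
    (hab.trans hCS) hR2.not_ge
  have hCD : C ≤ D := (le_inf hCA hCS).trans hD1
  have hAD : A ≤ normalizer (D : Set Γ) :=
    le_normalizer_iff_commutator_le_right.2 ((commutator_mono le_rfl hDA).trans (hab.trans hCD))
  set S₁ := S ⊓ centralizer (D : Set Γ) with hS₁
  have hAS₁ : A ≤ normalizer (S₁ : Set Γ) := le_normalizer_inf hAS (le_normalizer_centralizer hAD)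
  have hRS : R ⊔ S₁ = S := by
    by_contra hne
    have h1 : R ⊔ S₁ < S := lt_of_le_of_ne (sup_le hR2.le inf_le_left) hne
    exact hD2 (le_sup_right.trans (hmax ⟨hR1.trans le_sup_left, h1,
      le_normalizer_sup hR3 hAS₁⟩ le_sup_left))
  obtain ⟨B₁, hB₁⟩ : ∃ B₁, B₁ = B ⊓ centralizer (R : Set Γ) := ⟨_, rfl⟩
  have hB₁B : B₁ ≤ B := hB₁ ▸ inf_le_left
  have hSR := hnorm hR1 hR2.le
  have hAB₁ : A ≤ normalizer (B₁ : Set Γ) :=
    hB₁ ▸ le_normalizer_inf hAB (le_normalizer_centralizer hR3)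
  have hSB₁ : S ≤ normalizer (B₁ : Set Γ) :=
    hB₁ ▸ le_normalizer_inf hSB (le_normalizer_centralizer hSR)
  have hB₁p : ¬ p ∣ Nat.card B₁ := fun h => hB (h.trans (card_dvd_of_le hB₁B))
  have hC₁ : C = B₁ ⊓ centralizer (S₁ : Set Γ) := by
    rw [hC, hB₁, inf_assoc, ← centralizer_sup, hRS]
  have hCB₁ : C ≤ B₁ := hC₁ ▸ inf_le_left
  have hRp : IsPGroup p R := hS.to_le hR2.le
  have hRB : R ≤ normalizer (B : Set Γ) := hR2.le.trans hSB
  have HR : GlaubP p R hB₁B := glaubP_of_isPGroup hp hRp hRB hB hB₁ hB₁B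
  obtain ⟨θ₁, hθ₁⟩ := HR.ex θ (hθS.mono hR2.le)
  have hθ₁S : InvBy S θ₁.1 := hθ₁.invBy hp hSB₁ (hθS.resLe hB₁B)
  have HS₁ : GlaubP p S₁ hCB₁ := glaubP_of_isPGroup hp (hS.to_le inf_le_left)
    (inf_le_left.trans hSB₁) hB₁p hC₁ hCB₁
  obtain ⟨φ₁, hφ₁⟩ := HS₁.ex θ₁ (hθ₁S.mono inf_le_left)
  have e : φ₁ = φ :=
    hφ.unique hp (hθ₁.comp ((irr_isCharacter θ).resLe hB₁B) (inclusion hCB₁) hφ₁)
  subst e
  have hA₁ : ¬ p ∣ Nat.card (B₁ ⊔ A : Subgroup Γ) := fun h => by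
    rw [sup_comm] at h
    rcases hp.dvd_mul.1 (h.trans (card_sup_dvd_of_le_normalizer hAB₁)) with h1 | h1
    · exact hA h1
    · exact hB₁p h1
  have hBA : B₁ ⊔ A ≤ normalizer (B₁ : Set Γ) := sup_le le_normalizer hAB₁
  have hab₁ : ⁅B₁ ⊔ A, B₁ ⊔ A⁆ ≤ B₁ := by
    haveI := normal_subgroupOf_of_le_normalizer hBA
    rw [← map_subtype_commutator, map_le_iff_le_comap]
    change _ ≤ B₁.subgroupOf _
    rw [← map_mk'_eq_bot_iff, _root_.commutator_def, map_commutator, commutator_self_eq_bot_iff,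
      ← subgroupOf_sup_eq_top (rfl : B₁ ⊔ A = B₁ ⊔ A), Subgroup.map_sup,
      map_mk'_eq_bot_iff.2 le_rfl, bot_sup_eq, ← commutator_self_eq_bot_iff, ← map_commutator,
      map_mk'_eq_bot_iff]
    exact commutator_subgroupOf_le (hab.trans hCB₁) _
  have hB₁n : B₁ ≤ normalizer (B : Set Γ) := hB₁B.trans le_normalizer
  have h1 := ih R hR2 hRp hRB hB hA₁ (sup_le hB₁n hAB)
    (sup_le (le_normalizer_of_le_centralizer (hB₁ ▸ inf_le_right)) hR3) hB₁ hB₁B le_sup_left hab₁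
    (hθS.mono hR2.le) (((invBy_self (irr_isClassFunction θ)).mono hB₁B).sup hθA hB₁n hAB) hθ₁
  rw [← sup_assoc, sup_eq_left.2 hB₁B] at h1
  rw [h1]
  exact okuyama_wajima_base hp (hS.to_le inf_le_left) (inf_le_left.trans hSB₁) hB₁p hA hAB₁ hAS₁
    hC₁ hCB₁ hCD hDA (le_centralizer_iff.1 inf_le_right) hab ha hcyc (hθ₁S.mono inf_le_left)
    hφ₁

end OW

end CT
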