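import Cfsg.Agent.Lib.Char.IsaacsCorr
import Cfsg.Agent.Lib.Char.OddIndex
import Cfsg.Agent.Lib.Char.Invol
import Cfsg.Agent.Lib.Grp.PGrp
import Cfsg.Agent.Lib.Grp.PSolv

/-!
# Real characters of odd degree of solvable groups (Isaacs–Malle–Navarro)
-/

set_option autoImplicit false

namespace GT

open Subgroup MulAction
open scoped Pointwise

variable {G G' : Type*} [Group G] [Group G'] [Finite G] {p : ℕ} [Fact p.Prime] {P : Subgroup G}

theorem IsSylowIn.exists_mem_normalizer_map_eq (h : IsSylowIn p P ⊤) {f : G →* G'}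
    (hf : Function.Surjective f) {y : G'} (hy : y ∈ normalizer ((P.map f : Subgroup G') : Set G')) :
    ∃ n ∈ normalizer (P : Set G), f n = y := by
  obtain ⟨g, rfl⟩ := hf y
  obtain ⟨n, hn, x, hx, rfl⟩ := (h.of_le (le_comap_map f P) le_top).frattini
    (le_normalizer_comap f hy)
  obtain ⟨a, ha, e⟩ := hn
  exact ⟨a * x, mul_mem (le_normalizer ha) hx, by rw [map_mul, map_mul, e]⟩

theorem IsSylowIn.exists_mem_normalizer_smul_eq (h : IsSylowIn p P ⊤) {Ω : Type*} [MulAction G Ω]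
    {x : Ω} {g : G} (h1 : P ≤ stabilizer G x) (h2 : P ≤ stabilizer G (g • x)) :
    ∃ n ∈ normalizer (P : Set G), n • x = g • x := by
  have h3 : MulAut.conj g • P ≤ stabilizer G (g • x) := by
    rw [stabilizer_smul_eq_stabilizer_map_conj]; exact map_mono h1
  obtain ⟨t, ht, e⟩ := ((h.conj_of_mem (mem_top g)).of_le h3 le_top).exists_conj_eq
    (h.of_le h2 le_top)
  refine ⟨t * g, ?_, by rw [mul_smul, ht]⟩
  rwa [← conj_smul_eq_iff_mem_normalizer, ← conj_smul_conj_smul]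

theorem IsSylowIn.exists_le_stabilizer (h : IsSylowIn p P ⊤) {Ω : Type*} [MulAction G Ω] {x : Ω}
    (hx : ¬ p ∣ (stabilizer G x).index) : ∃ g : G, P ≤ stabilizer G (g • x) := by
  obtain ⟨R, hR⟩ := exists_isSylowIn (p := p) (stabilizer G x)
  obtain ⟨g, -, rfl⟩ := (hR.trans le_top (by rwa [relIndex_top_right])).exists_conj_eq h
  exact ⟨g, by rw [stabilizer_smul_eq_stabilizer_map_conj]; exact map_mono hR.le⟩

end GT

namespace CT

open Cfsg Subgroup MulAction
open scoped Pointwise commutatorElement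

universe u

variable {G G' P P' : Type*} [Group G] [Finite G] [Group G'] [Finite G'] [Group P] [Finite P]
  [Group P'] [Finite P'] {b : Prop}

theorem LiesOver.isReal_of_odd_degree {N : Subgroup G} [N.Normal] {χ : IrrCharacter G}
    (hχ : IsReal χ.1) (hodd : Odd (charDegree χ.1)) {θ : IrrCharacter N} (h : LiesOver N χ.1 θ.1) :
    IsReal θ.1 := by
  obtain ⟨φ, h1, h2⟩ := exists_fixed_of_not_dvd_card (irrUnder N χ.1) irrBar (fun φ hφ => by
      rw [mem_irrUnder, ← isReal_iff_gal.1 hχ]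
      exact (liesOver_gal_iff _ (irr_isCharacter χ) (irr_isCharacter φ)).2 (mem_irrUnder.1 hφ))
    (e := 1) Nat.prime_two (fun φ _ => irrBar_irrBar φ) (by
      rw [h.irrUnder_eq, card_conjOrbit]
      exact (hodd.of_dvd_nat h.index_inertia_dvd).not_two_dvd_nat)
  obtain ⟨g, rfl⟩ := (mem_irrUnder.1 h1).mem_orbit h
  rw [irr_isReal_iff_irrBar, ← conjSmul_irrBar, h2]

/-- Odd degree and, unless `b` holds, real. -/
def OddAdm (b : Prop) (χ : IrrCharacter G) : Prop := Odd (charDegree χ.1) ∧ (b ∨ IsReal χ.1)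

/-- `μ` has odd multiplicity in the restriction of `χ` along `j`. -/
def OddRelH (j : P →* G) (χ : IrrCharacter G) (μ : IrrCharacter P) : Prop :=
  Odd (mult (fun x => χ.1 (j x)) μ.1)

/-- Conjugacy under the normalizer of the image of `j`. -/
def ConjH (j : P →* G) (μ μ' : IrrCharacter P) : Prop :=
  ∃ n ∈ normalizer (j.range : Set G), ∀ x y : P, j y = n * j x * n⁻¹ → μ'.1 y = μ.1 x

/-- The odd multiplicity relation is a bijection up to conjugacy. -/
structure OddCorr (b : Prop) (j : P →* G) (K : Subgroup G) : Prop where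
  ex : ∀ χ, OddAdm b χ → K ≤ ker χ.1 → ∃ μ, OddAdm b μ ∧ OddRelH j χ μ
  surj : ∀ μ, OddAdm b μ → K.comap j ≤ ker μ.1 → ∃ χ, OddAdm b χ ∧ OddRelH j χ μ
  uniq : ∀ χ μ μ', OddAdm b χ → K ≤ ker χ.1 → OddAdm b μ → OddAdm b μ' → OddRelH j χ μ →
    OddRelH j χ μ' → ConjH j μ μ'
  inj : ∀ χ χ' μ, OddAdm b χ → K ≤ ker χ.1 → OddAdm b χ' → K ≤ ker χ'.1 → OddAdm b μ →
    OddRelH j χ μ → OddRelH j χ' μ → χ = χ'

omit [Finite G] in
theorem OddRelH.ip_ne_zero {j : P →* G} {χ : IrrCharacter G} {μ : IrrCharacter P}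
    (h : OddRelH j χ μ) : ip (fun x => χ.1 (j x)) μ.1 ≠ 0 := by
  rw [((irr_isCharacter χ).comp j).ip_eq_mult (irr_isCharacter μ)]
  exact Nat.cast_ne_zero.2 h.pos.ne'

omit [Finite G] [Finite G'] in
theorem oddAdm_irrComp_iff {f : G →* G'} (hf : Function.Surjective f) (χ : IrrCharacter G') :
    OddAdm b (irrComp f hf χ) ↔ OddAdm b χ := by
  refine and_congr (by rw [charDegree_irrComp]) (or_congr_right ?_)
  rw [isReal_iff_im, isReal_iff_im]
  exact ⟨fun h g => by obtain ⟨x, rfl⟩ := hf g; exact h x, fun h g => h _⟩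

omit [Finite G'] in
theorem OddCorr.of_surjective {j : P →* G} {j' : P' →* G'} (hj' : Function.Injective j')
    {f : G →* G'} (hf : Function.Surjective f) {φ : P →* P'} (hφ : Function.Surjective φ)
    (e : ∀ x, j' (φ x) = f (j x))
    (hn : ∀ y ∈ normalizer (j'.range : Set G'), ∃ n ∈ normalizer (j.range : Set G), f n = y)
    (h : OddCorr b j' ⊥) : OddCorr b j f.ker := by
  have key : ∀ χ μ, OddRelH j (irrComp f hf χ) (irrComp φ hφ μ) ↔ OddRelH j' χ μ := fun χ μ => by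
    rw [OddRelH, OddRelH, ← mult_comp_of_surjective φ hφ (fun x => χ.1 (j' x))]
    simp only [irrComp_val, e]
  have hk : ∀ {μ : IrrCharacter P}, f.ker.comap j ≤ ker μ.1 → ∃ μ', irrComp φ hφ μ' = μ :=
    fun h1 => (exists_irrComp_eq_iff φ hφ _).2 (le_trans (fun x hx => by
      rw [mem_comap, MonoidHom.mem_ker, ← e, MonoidHom.mem_ker.1 hx, map_one]) h1)
  have hk' : ∀ {χ : IrrCharacter G} {μ : IrrCharacter P}, f.ker ≤ ker χ.1 → OddRelH j χ μ →
      ∃ μ', irrComp φ hφ μ' = μ := fun h1 h2 => hk (((comap_mono h1).trans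
    (comap_ker_le_ker_comp j _)).trans (ker_le_ker_of_ip_ne_zero
      ((irr_isCharacter _).comp j).isClassFunction h2.ip_ne_zero))
  refine ⟨fun χ h1 h2 => ?_, fun μ h1 h2 => ?_, fun χ μ μ' h1 h2 h3 h4 h5 h6 => ?_,
    fun χ χ' μ h1 h2 h3 h4 h5 h6 h7 => ?_⟩
  · obtain ⟨χ, rfl⟩ := (exists_irrComp_eq_iff f hf χ).2 h2
    obtain ⟨μ, h3, h4⟩ := h.ex χ ((oddAdm_irrComp_iff hf χ).1 h1) bot_le
    exact ⟨_, (oddAdm_irrComp_iff hφ μ).2 h3, (key χ μ).2 h4⟩
  · obtain ⟨μ, rfl⟩ := hk h2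
    obtain ⟨χ, h3, h4⟩ := h.surj μ ((oddAdm_irrComp_iff hφ μ).1 h1)
      (((MonoidHom.ker_eq_bot_iff j').2 hj').le.trans bot_le)
    exact ⟨_, (oddAdm_irrComp_iff hf χ).2 h3, (key χ μ).2 h4⟩
  · obtain ⟨μ, rfl⟩ := hk' h2 h5
    obtain ⟨μ', rfl⟩ := hk' h2 h6
    obtain ⟨χ, rfl⟩ := (exists_irrComp_eq_iff f hf χ).2 h2
    obtain ⟨y, hy, h7⟩ := h.uniq χ μ μ' ((oddAdm_irrComp_iff hf χ).1 h1) bot_le
      ((oddAdm_irrComp_iff hφ μ).1 h3) ((oddAdm_irrComp_iff hφ μ').1 h4) ((key χ μ).1 h5)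
      ((key χ μ').1 h6)
    obtain ⟨n, h8, rfl⟩ := hn y hy
    exact ⟨n, h8, fun x y h9 => h7 _ _ (by rw [e, e, h9, map_mul, map_mul, map_inv])⟩
  · obtain ⟨μ, rfl⟩ := hk' h2 h6
    obtain ⟨χ, rfl⟩ := (exists_irrComp_eq_iff f hf χ).2 h2
    obtain ⟨χ', rfl⟩ := (exists_irrComp_eq_iff f hf χ').2 h4
    rw [h.inj χ χ' μ ((oddAdm_irrComp_iff hf χ).1 h1) bot_le ((oddAdm_irrComp_iff hf χ').1 h3)
      bot_le ((oddAdm_irrComp_iff hφ μ).1 h5) ((key χ μ).1 h6) ((key χ' μ).1 h7)]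

omit [Finite G] in
theorem oddCorr_of_bijective {j : P →* G} (hj : Function.Bijective j) : OddCorr b j ⊥ := by
  have key : ∀ χ μ, OddRelH j χ μ ↔ irrComp j hj.2 χ = μ := fun χ μ => by
    refine ⟨fun h => by_contra fun h1 => h.ip_ne_zero (ip_irr_ne h1), ?_⟩
    rintro rfl
    exact (congrArg Odd (mult_eq_of_ip_eq (n := 1)
      ((ip_irr_self (irrComp j hj.2 χ)).trans Nat.cast_one.symm))).mpr odd_one
  refine ⟨fun χ h1 _ => ⟨_, (oddAdm_irrComp_iff hj.2 χ).2 h1, (key _ _).2 rfl⟩, fun μ h1 _ => ?_,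
    fun χ μ μ' _ _ _ _ h5 h6 => ?_, fun χ χ' μ _ _ _ _ _ h6 h7 =>
      irrComp_injective j hj.2 (((key _ _).1 h6).trans ((key _ _).1 h7).symm)⟩
  · obtain ⟨χ, rfl⟩ := (exists_irrComp_eq_iff j hj.2 μ).2
      (by rw [(MonoidHom.ker_eq_bot_iff j).2 hj.1]; exact bot_le)
    exact ⟨χ, (oddAdm_irrComp_iff hj.2 χ).1 h1, (key _ _).2 rfl⟩
  · obtain rfl := ((key _ _).1 h5).symm.trans ((key _ _).1 h6)
    exact ⟨1, one_mem _, fun x y h => by rw [hj.1 (h.trans (by simp) : j y = j x)]⟩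

theorem OddAdm.exists_under {χ : IrrCharacter G} (h : OddAdm b χ) {S : Subgroup G}
    (hS : GT.IsSylowIn 2 S ⊤) (N : Subgroup G) [N.Normal] :
    ∃ θ : IrrCharacter N, LiesOver N χ.1 θ.1 ∧ S ≤ stabilizer G θ ∧ OddAdm b θ := by
  obtain ⟨θ, h1⟩ := exists_irr_liesUnder N χ
  obtain ⟨g, h2⟩ := hS.exists_le_stabilizer
    (h.1.of_dvd_nat h1.index_inertia_dvd).not_two_dvd_nat
  have h3 := (liesOver_conjSmul_iff (irr_isClassFunction χ) g θ).2 h1
  exact ⟨_, h3, h2, h.1.of_dvd_nat h3.degree_dvd,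
    h.2.imp_right fun h4 => h3.isReal_of_odd_degree h4 h.1⟩

theorem OddAdm.le_ker {χ : IrrCharacter G} (h : OddAdm b χ) {S : Subgroup G}
    (hS : GT.IsSylowIn 2 S ⊤) (hb : b → normalizer (S : Set G) ≤ S) {M : Subgroup G} [M.Normal]
    (hM : ¬ 2 ∣ Nat.card M) : M ≤ ker χ.1 := by
  obtain ⟨θ, h1, h2, -, h3⟩ := h.exists_under hS M
  have hM' : Odd (Nat.card M) := by rwa [← Nat.not_even_iff_odd, even_iff_two_dvd]
  suffices θ = irrOne M by subst this; exact (liesOver_one_iff M χ).1 h1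
  rcases h3 with h3 | h3
  · have := GT.IsPGroup.isSolvable' hS.isPGroup
    have A := GT.coprimeAct_of_isPGroup_left (by rw [normalizer_eq_top]; exact le_top)
      hS.isPGroup hM
    have h4 := card_invBy_eq A.norm A.cop (C := ⊥) (le_antisymm bot_le
      ((inf_le_inf_left _ ((centralizer_le_normalizer _).trans (hb h3))).trans
        A.disjoint.le_bot))
    rw [card_irr_of_isMulCommutative, card_bot, Nat.card_eq_one_iff_unique] at h4
    exact congrArg Subtype.val (h4.1.elim (⟨θ, invBy_iff_smul.2 h2⟩ : {θ // InvBy S θ.1})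
      ⟨irrOne M, invBy_iff_smul.2 fun s _ => conjSmul_irrOne s⟩)
  · exact irr_eq_irrOne_of_isReal_of_odd hM' θ h3

theorem irr_degree_eq_one_of_odd (hG : IsPGroup 2 G) {χ : IrrCharacter G}
    (h : Odd (charDegree χ.1)) : charDegree χ.1 = 1 := by
  obtain ⟨k, hk⟩ := hG.exists_card_eq
  exact (Nat.coprime_self _).1 ((Nat.coprime_two_right.2 h).pow_right k |>.of_dvd_right
    (hk ▸ irr_degree_dvd_card χ))

section Step

variable {S Q : Subgroup G} [Q.Normal] {θ : IrrCharacter Q}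

theorem oddRelH_iff_of_clifford (hQ : Q ≤ S) (hθ : S ≤ stabilizer G θ) {χ : IrrCharacter G}
    {η : IrrCharacter (stabilizer G θ)} (h1 : LiesOverLe (le_inertia θ) η.1 θ.1)
    (h2 : ind _ η.1 = χ.1) {μ : IrrCharacter S} (h3 : LiesOverLe hQ μ.1 θ.1) :
    OddRelH S.subtype χ μ ↔ OddRelH (inclusion hθ) η μ := by
  have h4 : mult (res _ χ.1) η.1 = 1 :=
    mult_eq_of_ip_eq (n := 1) (by rw [← h2, cliffordCorr_ip_res le_rfl h1, Nat.cast_one])
  have h5 := mult_comp_eq_sum (inclusion hθ) ((irr_isCharacter χ).res _) (irr_isCharacter μ)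
  rw [Finset.sum_eq_single η, h4, one_mul] at h5
  · exact iff_of_eq (congrArg Odd h5)
  · intro η' _ hne
    by_contra h6
    have h7 := (liesOver_iff_mult_pos (irr_isCharacter χ) (irr_isCharacter η')).2
      (Nat.pos_of_ne_zero (left_ne_zero_of_mul h6))
    have h8 := (liesOverLe_iff_mult_pos hθ (irr_isCharacter η') (irr_isCharacter μ)).2
      (Nat.pos_of_ne_zero (right_ne_zero_of_mul h6))
    exact hne (cliffordCorr_unique le_rfl (h8.trans (irr_isCharacter η') (irr_isCharacter θ) h3) h1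
      h7 (liesOver_of_mult_eq_one h4))
  · simp

theorem OddAdm.exists_clifford {χ : IrrCharacter G} (h : OddAdm b χ) (hθ : OddAdm b θ)
    (h1 : LiesOver Q χ.1 θ.1) : ∃ η : IrrCharacter (stabilizer G θ),
      LiesOverLe (le_inertia θ) η.1 θ.1 ∧ ind _ η.1 = χ.1 ∧ OddAdm b η := by
  obtain ⟨η, h2, h3⟩ := cliffordCorr_surjective le_rfl (le_inertia θ) h1
  refine ⟨η, h2, h3, h.1.of_dvd_nat ?_, ?_⟩
  · rw [← h3, charDegree_ind (irr_isCharacter η)]; exact dvd_mul_left _ _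
  · by_cases hb : b
    · exact .inl hb
    refine .inr ((irr_isReal_iff_irrBar η).2 (cliffordCorr_injective le_rfl ?_ h2 ?_))
    · rw [← isReal_iff_gal.1 (hθ.2.resolve_left hb)]
      exact (liesOverLe_gal_iff _ _ (irr_isCharacter η) (irr_isCharacter θ)).2 h2
    · rw [irrBar_val, ← cbar_ind, h3, isReal_iff_cbar.1 (h.2.resolve_left hb)]

theorem OddAdm.exists_resLe (hS : IsPGroup 2 S) (hQ : Q ≤ S) {μ : IrrCharacter S}
    (h : OddAdm b μ) : ∃ θ : IrrCharacter Q, resLe hQ μ.1 = θ.1 ∧ S ≤ stabilizer G θ ∧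
      OddAdm b θ := by
  refine ⟨⟨_, ((irr_isCharacter μ).resLe hQ).isIrr_of_degree_one
    ((charDegree_resLe hQ _).trans (irr_degree_eq_one_of_odd hS h.1))⟩, rfl,
    invBy_iff_smul.1 ((invBy_self (irr_isClassFunction μ)).resLe hQ),
    (charDegree_resLe hQ μ.1).symm ▸ h.1, h.2.imp_right fun h1 => ?_⟩
  rw [isReal_iff_im] at h1 ⊢
  exact fun q => h1 _

theorem oddCorr_of_forall_stabilizer (hS : GT.IsSylowIn 2 S ⊤) (hQ : Q ≤ S)
    (h : ∀ (θ : IrrCharacter Q) (hθ : S ≤ stabilizer G θ), charDegree θ.1 = 1 →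
      ∃ K : Subgroup (stabilizer G θ), (∀ η : IrrCharacter (stabilizer G θ),
        LiesOverLe (le_inertia θ) η.1 θ.1 → K ≤ ker η.1) ∧ (∀ μ : IrrCharacter S,
        resLe hQ μ.1 = θ.1 → K.comap (inclusion hθ) ≤ ker μ.1) ∧ OddCorr b (inclusion hθ) K) :
    OddCorr b S.subtype ⊥ := by
  have hQ2 : IsPGroup 2 Q := hS.isPGroup.to_le hQ
  have ov : ∀ {χ : IrrCharacter G} {μ : IrrCharacter S} {θ : IrrCharacter Q},
      OddRelH S.subtype χ μ → resLe hQ μ.1 = θ.1 → LiesOver Q χ.1 θ.1 := fun h1 h2 =>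
    LiesOver.trans_le hQ (irr_isCharacter _) (irr_isCharacter _) h1.ip_ne_zero
      (liesOverLe_of_resLe_eq h2)
  refine ⟨fun χ h1 _ => ?_, fun μ h1 _ => ?_, fun χ μ μ' h1 _ h2 h3 h4 h5 => ?_,
    fun χ χ' μ h1 _ h2 _ h3 h4 h5 => ?_⟩
  · obtain ⟨θ, h2, hθ, h3⟩ := h1.exists_under hS Q
    obtain ⟨η, h4, h5, h6⟩ := h1.exists_clifford h3 h2
    obtain ⟨K, h7, -, h8⟩ := h θ hθ (irr_degree_eq_one_of_odd hQ2 h3.1)
    obtain ⟨μ, h9, h10⟩ := h8.ex η h6 (h7 η h4)
    obtain ⟨θ', h11⟩ := exists_irr_liesUnderLe hQ μ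
    obtain ⟨t, ht, rfl⟩ := h4.exists_smul (LiesOverLe.trans (h := hθ) (irr_isCharacter η)
      (irr_isCharacter θ') h10.ip_ne_zero h11)
    rw [show t • θ = θ from ht] at h11
    exact ⟨μ, h9, (oddRelH_iff_of_clifford hQ hθ h4 h5 h11).2 h10⟩
  · obtain ⟨θ, h2, hθ, h3⟩ := h1.exists_resLe hS.isPGroup hQ
    obtain ⟨K, -, h4, h5⟩ := h θ hθ (irr_degree_eq_one_of_odd hQ2 h3.1)
    obtain ⟨η, h6, h7⟩ := h5.surj μ h1 (h4 μ h2)
    have h8 := liesOverLe_of_resLe_eq h2
    have h9 : LiesOverLe (le_inertia θ) η.1 θ.1 :=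
      LiesOverLe.trans (h := hθ) (irr_isCharacter η) (irr_isCharacter θ) h7.ip_ne_zero h8
    refine ⟨⟨_, cliffordCorr_isIrr le_rfl h9⟩, ⟨?_, h6.2.imp_right fun h10 => ?_⟩,
      (oddRelH_iff_of_clifford hQ hθ h9 rfl h8).2 h7⟩
    · rw [charDegree_ind (irr_isCharacter η)]
      refine Odd.mul ?_ h6.1
      have := hS.not_dvd_relIndex_of_le hθ
      rwa [relIndex_top_right, ← even_iff_two_dvd, Nat.not_even_iff_odd] at this
    · rw [isReal_iff_cbar, cbar_ind, isReal_iff_cbar.1 h10]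
  · obtain ⟨θ, h6, hθ, -⟩ := h2.exists_resLe hS.isPGroup hQ
    obtain ⟨θ', h7, hθ', h8⟩ := h3.exists_resLe hS.isPGroup hQ
    obtain ⟨g, rfl⟩ := (ov h4 h6).mem_orbit (ov h5 h7)
    obtain ⟨n, hn, h9⟩ := hS.exists_mem_normalizer_smul_eq hθ hθ'
    obtain ⟨μ₁, h10⟩ := exists_isConjCharOf hn μ
    have h11 : OddRelH S.subtype χ μ₁ := by
      have := (isConjCharOf_res (irr_isClassFunction χ) S n).mult_eq hn h10
      exact (congrArg Odd this).mpr h4
    have h12 : LiesOverLe hQ μ₁.1 (g • θ).1 := (h10.liesOverLe_iff hQ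
      (by rw [normalizer_eq_top]; trivial) (conjSmul_eq_iff'.1 h9)).2 (liesOverLe_of_resLe_eq h6)
    have h13 : OddAdm b μ₁ := ⟨h10.charDegree_eq ▸ h2.1, h2.2.imp_right fun h => by
      rw [isReal_iff_cbar] at h ⊢
      exact h10.cbar.unique hn (h.symm ▸ h10)⟩
    obtain ⟨η, h14, h15, h16⟩ := h1.exists_clifford h8 (ov h5 h7)
    obtain ⟨K, h17, -, h18⟩ := h _ hθ' (irr_degree_eq_one_of_odd hQ2 h8.1)
    obtain ⟨m, hm, h19⟩ := h18.uniq η μ₁ μ' h16 (h17 η h14) h13 h3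
      ((oddRelH_iff_of_clifford hQ hθ' h14 h15 h12).1 h11)
      ((oddRelH_iff_of_clifford hQ hθ' h14 h15 (liesOverLe_of_resLe_eq h7)).1 h5)
    have hm' : (m : G) ∈ normalizer (S : Set G) := by
      rw [inclusion_range] at hm
      have := le_normalizer_map (stabilizer G (g • θ)).subtype ⟨m, hm, rfl⟩
      rwa [map_subgroupOf_eq_of_le hθ'] at this
    refine ⟨m * n, by rw [range_subtype]; exact mul_mem hm' hn, h10.mul hn fun x y e => ?_⟩
    exact h19 x y (Subtype.ext e)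
  · obtain ⟨θ, h6, hθ, h7⟩ := h3.exists_resLe hS.isPGroup hQ
    obtain ⟨η, h8, h9, h10⟩ := h1.exists_clifford h7 (ov h4 h6)
    obtain ⟨η', h11, h12, h13⟩ := h2.exists_clifford h7 (ov h5 h6)
    obtain ⟨K, h14, -, h15⟩ := h _ hθ (irr_degree_eq_one_of_odd hQ2 h7.1)
    have h16 := liesOverLe_of_resLe_eq h6
    obtain rfl := h15.inj η η' μ h10 (h14 η h8) h13 (h14 η' h11) h3
      ((oddRelH_iff_of_clifford hQ hθ h8 h9 h16).1 h4)
      ((oddRelH_iff_of_clifford hQ hθ h11 h12 h16).1 h5)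
    exact Subtype.ext (h9.symm.trans h12)

end Step

theorem OddCorr.of_map {j : P →* G} (hj : GT.IsSylowIn 2 j.range ⊤) {f : G →* G'}
    (hf : Function.Surjective f) (h : OddCorr b (j.range.map f).subtype ⊥) : OddCorr b j f.ker :=
  h.of_surjective (subtype_injective _) hf (φ := (f.subgroupMap _).comp j.rangeRestrict)
    ((f.subgroupMap_surjective _).comp j.rangeRestrict_surjective) (fun _ => rfl) fun y hy =>
    hj.exists_mem_normalizer_map_eq hf (by rwa [range_subtype] at hy)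

theorem oddCorr_subtype (G : Type u) [Group G] [Finite G] : Group.IsSolvable G →
    ∀ S : Subgroup G, GT.IsSylowIn 2 S ⊤ → (b → normalizer (S : Set G) ≤ S) →
    OddCorr b S.subtype ⊥ := by
  refine GT.induction_on_card (P := fun G _ _ => Group.IsSolvable G →
    ∀ S : Subgroup G, GT.IsSylowIn 2 S ⊤ → (b → normalizer (S : Set G) ≤ S) →
    OddCorr b S.subtype ⊥) (fun G _ _ ih hs S hS hb => ?_) G
  have step : ∀ {H : Type u} [Group H] [Finite H] [Group.IsSolvable H] (j : S →* H)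
      (K : Subgroup H) [K.Normal], K.index < Nat.card G → GT.IsSylowIn 2 j.range ⊤ →
      (b → normalizer (j.range : Set H) ≤ j.range) → OddCorr b j K := by
    intro H _ _ _ j K _ hK hj hb'
    have hf := QuotientGroup.mk'_surjective K
    have := OddCorr.of_map hj hf (ih (H ⧸ K) hK inferInstance _ (hj.map_top_of_surjective hf)
      fun h y hy => by
        obtain ⟨n, hn, rfl⟩ := hj.exists_mem_normalizer_map_eq hf hy
        exact ⟨n, hb' h hn, rfl⟩)
    rwa [QuotientGroup.ker_mk'] at this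
  by_cases hM : pPrimeCore 2 G = ⊥
  swap
  · have h1 := step S.subtype (pPrimeCore 2 G) (GT.card_quotient_lt hM) (by rwa [range_subtype])
      (by rwa [range_subtype])
    have h2 : ∀ χ : IrrCharacter G, OddAdm b χ → pPrimeCore 2 G ≤ ker χ.1 := fun χ h =>
      h.le_ker hS hb (GT.not_dvd_card_pPrimeCore 2 G)
    refine ⟨fun χ h _ => h1.ex χ h (h2 χ h), fun μ h _ => h1.surj μ h (le_trans ?_ bot_le),
      fun χ μ μ' h _ => h1.uniq χ μ μ' h (h2 χ h), fun χ χ' μ h _ h' _ =>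
      h1.inj χ χ' μ h (h2 χ h) h' (h2 χ' h')⟩
    exact (subgroupOf_eq_bot.2 (GT.coprimeAct_of_isPGroup_left
      (by rw [normalizer_eq_top]; exact le_top) hS.isPGroup
      (GT.not_dvd_card_pPrimeCore 2 G)).disjoint).le
  by_cases hT : S = ⊤
  · exact oddCorr_of_bijective ⟨subtype_injective _, fun g => ⟨⟨g, hT ▸ mem_top g⟩, rfl⟩⟩
  have hQ : pCore 2 G ≤ S := hS.le_of_normalizes (GT.isPGroup_pCore 2 G) le_top
    (by rw [normalizer_eq_top]; exact le_top)
  refine oddCorr_of_forall_stabilizer hS hQ fun θ hθ h1 => ?_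
  obtain ⟨f, rfl⟩ := (exists_linChar_eq_iff θ).2 h1
  let K := (f.ker.map (pCore 2 G).subtype).subgroupOf (stabilizer G (linChar f))
  have hK : K.Normal := ⟨by
    rintro k ⟨q, hq, e⟩ t
    exact ⟨MulAut.conjNormal (t : G) q, Units.ext ((conjSmul_eq_iff.1 t.2 q).trans
      (congrArg Units.val hq)), congrArg (fun x : G => t * x * (t : G)⁻¹) e⟩⟩
  refine ⟨K, fun η h2 => ?_, fun μ h2 => ?_, step _ K ?_ ?_ fun h y hy => ?_⟩
  · rintro k ⟨q, hq, e⟩
    have h3 := clifford_invariant_le' (fun t ht => ht) h2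
    rw [irr_mem_ker_iff, show k = ⟨q, le_inertia _ q.2⟩ from Subtype.ext e.symm,
      show η.1 ⟨q, _⟩ = _ from congrFun h3 q, show η.1 1 = _ from congrFun h3 1, Pi.smul_apply,
      Pi.smul_apply, linChar_apply, linChar_apply, MonoidHom.mem_ker.1 hq, map_one]
  · rintro k ⟨q, hq, e⟩
    rw [irr_mem_ker_iff, show k = ⟨q, hQ q.2⟩ from Subtype.ext e.symm,
      show μ.1 ⟨q, _⟩ = _ from congrFun h2 q, show μ.1 1 = _ from congrFun h2 1,
      linChar_apply, linChar_apply, MonoidHom.mem_ker.1 hq, map_one]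
  · by_contra h2
    have h3 : Nat.card (stabilizer G (linChar f)) ≤ Nat.card G := card_le_card_group _
    have h4 : K.index ≤ Nat.card (stabilizer G (linChar f)) :=
      Nat.le_of_dvd Nat.card_pos K.index_dvd_card
    have h5 : stabilizer G (linChar f) = ⊤ := eq_top_of_card_eq _ (by omega)
    have h6 : K = ⊥ := by
      by_contra h6
      have : K.index < _ := GT.card_quotient_lt h6
      omega
    refine hT (top_le_iff.1 fun g _ => hQ (GT.centralizer_pCore_le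
      GT.isPSolvable_of_isSolvable hM fun q hq => ?_))
    have h7 : f (MulAut.conjNormal g ⟨q, hq⟩) = f ⟨q, hq⟩ :=
      Units.ext (conjSmul_eq_iff.1 (h5.ge (mem_top g)) ⟨q, hq⟩)
    have h8 : (⟨g * q * g⁻¹ * q⁻¹, h5.ge (mem_top _)⟩ : stabilizer G (linChar f)) ∈ K :=
      ⟨MulAut.conjNormal g ⟨q, hq⟩ * (⟨q, hq⟩ : pCore 2 G)⁻¹, by
        rw [SetLike.mem_coe, MonoidHom.mem_ker, map_mul, map_inv, h7, mul_inv_cancel], rfl⟩
    rw [h6, mem_bot, Subtype.ext_iff] at h8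
    exact (commutatorElement_eq_one_iff_mul_comm.1 h8).symm
  · rw [inclusion_range, GT.isSylowIn_subgroupOf_top_iff hθ]
    exact hS.of_le hθ le_top
  · rw [inclusion_range] at hy ⊢
    have := le_normalizer_map (stabilizer G (linChar f)).subtype ⟨y, hy, rfl⟩
    rw [map_subgroupOf_eq_of_le hθ] at this
    exact hb h this

theorem card_real_odd_eq [Group.IsSolvable G] {S : Subgroup G} (hS : GT.IsSylowIn 2 S ⊤) :
    Nat.card {χ : IrrCharacter G // OddAdm False χ} =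
      Nat.card {ψ : IrrCharacter (normalizer (S : Set G)) // OddAdm False ψ} := by
  have hN : S ≤ normalizer (S : Set G) := le_normalizer
  have h1 : OddCorr False S.subtype ⊥ := oddCorr_subtype G inferInstance S hS False.elim
  have h0 : GT.IsSylowIn 2 (inclusion hN).range ⊤ := by
    rw [inclusion_range, GT.isSylowIn_subgroupOf_top_iff hN]
    exact hS.of_le hN le_top
  have h2 : OddCorr False (inclusion hN) ⊥ := OddCorr.of_map h0 (f := MonoidHom.id _)
    Function.surjective_id (oddCorr_subtype _ inferInstance _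
      (h0.map_top_of_surjective Function.surjective_id) False.elim)
  refine RelBij.card_eq (R := fun χ ψ => ∃ μ, OddAdm False μ ∧ OddRelH S.subtype χ μ ∧
    OddRelH (inclusion hN) ψ μ) ⟨fun χ h => ?_, fun ψ h => ?_, ?_, ?_⟩
  · obtain ⟨μ, h3, h4⟩ := h1.ex χ h bot_le
    obtain ⟨ψ, h5, h6⟩ := h2.surj μ h3
      (((MonoidHom.ker_eq_bot_iff _).2 (inclusion_injective hN)).le.trans bot_le)
    exact ⟨ψ, h5, μ, h3, h4, h6⟩
  · obtain ⟨μ, h3, h4⟩ := h2.ex ψ h bot_le
    obtain ⟨χ, h5, h6⟩ := h1.surj μ h3 ((ker_subtype S).le.trans bot_le)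
    exact ⟨χ, h5, μ, h3, h6, h4⟩
  · rintro χ ψ ψ' h3 h4 h5 ⟨μ, h6, h7, h8⟩ ⟨μ', h9, h10, h11⟩
    obtain ⟨n, hn, h12⟩ := h1.uniq χ μ μ' h3 bot_le h6 h9 h7 h10
    rw [range_subtype] at hn
    exact h2.inj ψ ψ' μ' h4 bot_le h5 bot_le h9 ((congrArg Odd ((isConjCharOf_resLe_of_mem
      (irr_isClassFunction ψ) hN hn).mult_eq hn h12)).mpr h8) h11
  · rintro χ χ' ψ h3 h4 h5 ⟨μ, h6, h7, h8⟩ ⟨μ', h9, h10, h11⟩
    obtain ⟨n, -, h12⟩ := h2.uniq ψ μ μ' h5 bot_le h6 h9 h8 h11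
    exact h1.inj χ χ' μ' h3 bot_le h4 bot_le h9 ((congrArg Odd ((isConjCharOf_res
      (irr_isClassFunction χ) S n).mult_eq n.2 fun x y e => h12 x y (Subtype.ext e))).mpr h7) h10

theorem OddRelH.irrBar {j : P →* G} {χ : IrrCharacter G} {μ : IrrCharacter P}
    (h : OddRelH j χ μ) : OddRelH j (irrBar χ) (irrBar μ) :=
  (congrArg Odd (mult_cbar_cbar ((irr_isCharacter χ).comp j) (irr_isCharacter μ))).mpr h

theorem oddAdm_irrBar {χ : IrrCharacter G} (h : Odd (charDegree χ.1)) : OddAdm True (irrBar χ) :=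
  ⟨(Nat.cast_injective (R := ℂ) (by
    rw [← irr_apply_one, irrBar_val, cbar_apply, irr_apply_one, Complex.conj_natCast]) :
      charDegree (irrBar χ).1 = charDegree χ.1) ▸ h, .inl trivial⟩

theorem commutator_eq_frattini_iff (hG : IsPGroup 2 G) : _root_.commutator G = frattini G ↔
    ∀ μ : IrrCharacter G, Odd (charDegree μ.1) → IsReal μ.1 := by
  refine ⟨fun h μ h1 => ?_, fun h => ?_⟩
  · obtain ⟨f, rfl⟩ := (exists_linChar_eq_iff μ).2 (irr_degree_eq_one_of_odd hG h1)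
    rw [irr_isReal_iff_irrBar, irrBar_linChar]
    refine congrArg linChar (MonoidHom.ext fun x => ?_)
    rw [MonoidHom.inv_apply, inv_eq_iff_mul_eq_one, ← map_mul, ← sq]
    exact mem_commutator_iff_forall_units_hom.1 (h.ge (GT.pow_mem_frattini hG x)) f
  · refine le_antisymm ((GT.frattini_le_iff hG).1 le_rfl).1 (GT.frattini_le_of_pow_mem (p := 2)
      le_rfl fun x => mem_commutator_iff_forall_units_hom.2 fun f => ?_)
    have h1 := h (linChar f) (by rw [charDegree_linChar]; exact odd_one)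
    rw [irr_isReal_iff_irrBar, irrBar_linChar] at h1
    have h2 := DFunLike.congr_fun (linChar_injective h1) x
    rwa [MonoidHom.inv_apply, inv_eq_iff_mul_eq_one, ← map_mul, ← sq] at h2

theorem normalizer_le_of_forall_isReal (G : Type u) [Group G] [Finite G] : Group.IsSolvable G →
    ∀ S : Subgroup G, GT.IsSylowIn 2 S ⊤ →
    (∀ χ : IrrCharacter G, Odd (charDegree χ.1) → IsReal χ.1) → normalizer (S : Set G) ≤ S := by
  refine GT.induction_on_card (P := fun G _ _ => Group.IsSolvable G →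
    ∀ S : Subgroup G, GT.IsSylowIn 2 S ⊤ →
    (∀ χ : IrrCharacter G, Odd (charDegree χ.1) → IsReal χ.1) → normalizer (S : Set G) ≤ S)
    (fun G _ _ ih hs S hS h => ?_) G
  rcases subsingleton_or_nontrivial G with _ | _
  · exact fun x _ => Subsingleton.elim 1 x ▸ one_mem S
  obtain ⟨M, hM⟩ := GT.exists_isMinNormal G
  have := hM.normal
  have hf := QuotientGroup.mk'_surjective M
  have hn : ∀ A : Subgroup G, A ≤ normalizer (M : Set G) := fun A => by
    rw [normalizer_eq_top]; exact le_top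
  have h1 : normalizer (S : Set G) ≤ S ⊔ M := by
    rw [← GT.comap_map_mk'_eq, ← map_le_iff_le_comap]
    refine (GT.map_normalizer_le S _).trans (ih (G ⧸ M) (GT.card_quotient_lt hM.ne_bot)
      inferInstance _ (hS.map_top_of_surjective hf) fun χ hχ => ?_)
    exact ((oddAdm_irrComp_iff (b := False) hf χ).1
      ⟨hχ, .inr (h _ (by rwa [charDegree_irrComp]))⟩).2.resolve_left id
  rcases hM.isPGroup_or_not_dvd 2 with h2 | h2
  · exact h1.trans (sup_le le_rfl (hS.le_of_normalizes h2 le_top (hn S)))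
  have A := GT.coprimeAct_of_isPGroup_left (hn S) hS.isPGroup h2
  have := GT.IsPGroup.isSolvable' hS.isPGroup
  have h3 : ∀ θ : IrrCharacter M, InvBy S θ.1 → θ = irrOne M := fun θ hθ => by
    have hodd : Odd (Nat.card M) := by rwa [← Nat.not_even_iff_odd, even_iff_two_dvd]
    have hMT : M ≤ S ⊔ M := le_sup_right
    obtain ⟨η, hη⟩ := exists_extension_of_coprime (M.subgroupOf (S ⊔ M))
      (irrOf hMT θ) (forall_smul_iff.1 (forall_smul_irrOf hMT fun t ht =>
        sup_le (invBy_iff_smul.1 hθ : S ≤ stabilizer G θ) (le_inertia θ) ht)) (by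
        rw [GT.card_subgroupOf_of_le hMT]
        exact A.cop.of_dvd_right ((relIndex_sup_right S M).dvd.trans (relIndex_dvd_card M S)))
    rw [res_subgroupOf_eq_irrOf_iff] at hη
    have h4 : Odd (charDegree (ind _ η.1)) := by
      rw [charDegree_ind (irr_isCharacter η), ← charDegree_resLe hMT, hη]
      refine Odd.mul ?_ (hodd.of_dvd_nat (irr_degree_dvd_card θ))
      have := hS.not_dvd_relIndex_of_le (le_sup_left : S ≤ S ⊔ M)
      rwa [relIndex_top_right, ← even_iff_two_dvd, Nat.not_even_iff_odd] at this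
    rw [(irr_isCharacter η).ind.degree_eq_sum_mult] at h4
    obtain ⟨χ, h5⟩ : ∃ χ : IrrCharacter G, Odd (mult (ind _ η.1) χ.1 * charDegree χ.1) := by
      by_contra h5
      exact Nat.not_even_iff_odd.2 h4 (Finset.even_sum _ fun χ _ =>
        Nat.not_odd_iff_even.1 fun h6 => h5 ⟨χ, h6⟩)
    have h6 : LiesOver _ χ.1 η.1 := (liesOver_iff_mult_pos (irr_isCharacter χ)
      (irr_isCharacter η)).2 (mult_ind _ (irr_isCharacter η) (irr_isCharacter χ) ▸
        (Nat.odd_mul.1 h5).1.pos)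
    exact irr_eq_irrOne_of_isReal_of_odd hodd θ ((h6.trans_le hMT (irr_isCharacter χ)
      (irr_isCharacter θ) (liesOverLe_of_resLe_eq hη)).isReal_of_odd_degree
      (h χ (Nat.odd_mul.1 h5).2) (Nat.odd_mul.1 h5).2)
  have h4 : Nat.card (IrrCharacter ↥(M ⊓ centralizer (S : Set G))) = 1 := by
    rw [← card_invBy_eq A.norm A.cop rfl, Nat.card_eq_one_iff_unique]
    exact ⟨⟨fun a c => Subtype.ext ((h3 _ a.2).trans (h3 _ c.2).symm)⟩,
      ⟨⟨irrOne M, invBy_iff_smul.2 fun s _ => conjSmul_irrOne s⟩⟩⟩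
  have h5 : M ⊓ centralizer (S : Set G) = ⊥ := by
    have := hM.isMulCommutative_of_isSolvable
    have : IsMulCommutative ↥(M ⊓ centralizer (S : Set G)) := GT.isMulCommutative_of_le inf_le_left
    rwa [card_irr_of_isMulCommutative, card_eq_one] at h4
  intro x hx
  obtain ⟨s, hs, m, hm, rfl⟩ := (GT.mem_sup_of_le_normalizer_right (hn S)).1 (h1 hx)
  have h6 : m ∈ M ⊓ centralizer (S : Set G) :=
    A.inf_normalizer_eq.le ⟨hm, (mul_mem_cancel_left (le_normalizer hs)).1 hx⟩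
  rwa [mem_bot.1 (h5.le h6), mul_one]

theorem forall_odd_isReal_iff [Group.IsSolvable G] {S : Subgroup G} (hS : GT.IsSylowIn 2 S ⊤) :
    (∀ χ : IrrCharacter G, Odd (charDegree χ.1) → IsReal χ.1) ↔
      _root_.commutator S = frattini S ∧ normalizer (S : Set G) = S := by
  rw [commutator_eq_frattini_iff hS.isPGroup]
  refine ⟨fun h => ?_, fun ⟨h1, h2⟩ χ hχ => ?_⟩
  · have h1 := normalizer_le_of_forall_isReal G inferInstance S hS h
    have h2 : OddCorr True S.subtype ⊥ := oddCorr_subtype G inferInstance S hS fun _ => h1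
    refine ⟨fun μ hμ => ?_, le_antisymm h1 le_normalizer⟩
    obtain ⟨χ, h3, h4⟩ := h2.surj μ ⟨hμ, .inl trivial⟩ ((ker_subtype S).le.trans bot_le)
    have h5 := h4.irrBar
    rw [(irr_isReal_iff_irrBar χ).1 (h χ h3.1)] at h5
    obtain ⟨n, hn, h6⟩ := h2.uniq χ μ _ h3 bot_le ⟨hμ, .inl trivial⟩ (oddAdm_irrBar hμ) h4 h5
    rw [range_subtype] at hn
    exact isReal_iff_cbar.2 (IsConjCharOf.unique hn h6
      (isConjCharOf_of_mem (irr_isClassFunction μ) (h1 hn)))
  · have h3 : OddCorr True S.subtype ⊥ := oddCorr_subtype G inferInstance S hS fun _ => h2.le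
    obtain ⟨μ, h4, h5⟩ := h3.ex χ ⟨hχ, .inl trivial⟩ bot_le
    have h6 := h5.irrBar
    rw [(irr_isReal_iff_irrBar μ).1 (h1 μ h4.1)] at h6
    exact (irr_isReal_iff_irrBar χ).2
      (h3.inj _ χ μ (oddAdm_irrBar hχ) bot_le ⟨hχ, .inl trivial⟩ bot_le h4 h6 h5)

end CT
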