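import Cfsg.Agent.Lib.Char.RelDeg

/-!
# Groups with few character degrees
-/

set_option autoImplicit false

namespace CT

open Cfsg MulAction
open scoped ComplexConjugate commutatorElement Pointwise

universe u
variable {G : Type*} [Group G] {G' : Type*} [Group G']

theorem dvd_sum_of_forall_orbit {A X : Type*} [Group A] [MulAction A X] [Fintype X] {p : ℕ}
    (F : X → ℕ) (hF : ∀ (a : A) (x : X), F (a • x) = F x)
    (h : ∀ x : X, p ∣ (stabilizer A x).index * F x) : p ∣ ∑ x, F x := by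
  classical
  rw [← Finset.sum_fiberwise_of_maps_to
    (g := fun x : X => (Quotient.mk'' x : orbitRel.Quotient A X))
    (t := Finset.univ) (fun _ _ => Finset.mem_univ _)]
  refine Finset.dvd_sum fun q _ => ?_
  obtain ⟨x, rfl⟩ := Quotient.mk''_surjective q
  have hs : Finset.univ.filter
      (fun y => (Quotient.mk'' y : orbitRel.Quotient A X) = Quotient.mk'' x) =
      (orbit A x).toFinset := by
    ext y
    simp only [Finset.mem_filter, Finset.mem_univ, true_and, Set.mem_toFinset]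
    exact ⟨fun hy => orbitRel_apply.1 (Quotient.exact' hy),
      fun hy => Quotient.sound' (orbitRel_apply.2 hy)⟩
  rw [hs, Finset.sum_congr rfl (g := fun _ => F x) (fun y hy => by
    obtain ⟨a, rfl⟩ := Set.mem_toFinset.1 hy
    exact hF a x), Finset.sum_const, smul_eq_mul, Set.toFinset_card, ← Nat.card_eq_fintype_card,
    Nat.card_coe_set_eq, ← index_stabilizer]
  exact h x

variable [Finite G]

theorem sum_nonlinear_degree_sq_add [DecidablePred fun χ : IrrCharacter G => charDegree χ.1 = 1] :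
    (∑ χ : IrrCharacter G, if charDegree χ.1 = 1 then 0 else charDegree χ.1 ^ 2) +
      (commutator G).index = Nat.card G := by
  rw [← sum_irr_degree_sq, ← card_linear_eq_index_commutator, Nat.card_eq_fintype_card,
    Fintype.card_subtype, Finset.card_filter, ← Finset.sum_add_distrib]
  refine Finset.sum_congr rfl fun χ _ => ?_
  split_ifs with h
  · rw [h]; rfl
  · rfl

theorem exists_not_dvd_of_not_dvd_relIndex_commutator {p : ℕ} [hp : Fact p.Prime]
    {D : Subgroup G} [D.Normal] (h1 : p ∣ Nat.card D) (h2 : ¬ p ∣ (commutator D).index) :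
    ∃ χ : IrrCharacter G, ¬ ⁅D, D⁆ ≤ ker χ.1 ∧ ¬ p ∣ charDegree χ.1 := by
  classical
  by_contra hc
  push Not at hc
  refine h2 ((Nat.dvd_add_right ?_).1 (sum_nonlinear_degree_sq_add (G := D) ▸ h1))
  refine dvd_sum_of_forall_orbit (A := G) _ (fun a θ => by rw [charDegree_conjSmul]) fun θ => ?_
  split_ifs with h3
  · exact dvd_zero _
  by_cases h4 : p ∣ charDegree θ.1
  · exact (h4.pow two_ne_zero).mul_left _
  refine Dvd.dvd.mul_right ?_ _
  by_contra h5
  obtain ⟨χ, h6, h7⟩ := exists_liesOver_not_pow_dvd (k := 1) h4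
    (fun e => h2 (e.trans (detOrder_dvd_index_commutator _))) (by rwa [pow_one])
  exact h7 (by rw [pow_one]; exact hc χ (mt h6.commutator_le_ker_iff.1 h3))

/-- Isaacs--Knutson, Theorem D. -/
theorem hasNormalPComplement_of_relDegrees {p : ℕ} [hp : Fact p.Prime] {N : Subgroup G}
    [N.Normal] (h : ∀ χ : IrrCharacter G, ¬ ⁅N, N⁆ ≤ ker χ.1 → p ∣ charDegree χ.1) :
    HasNormalPComplement p N := by
  rw [GT.hasNormalPComplement_iff_not_dvd_card_pResidual]
  intro h1
  have := GT.normal_map_subtype_of_characteristic N (pResidual p N)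
  have e := (pResidual p N).equivMapOfInjective N.subtype N.subtype_injective
  obtain ⟨χ, h2, h3⟩ := exists_not_dvd_of_not_dvd_relIndex_commutator (p := p)
    (D := (pResidual p N).map N.subtype) (by rwa [← Nat.card_congr e.toEquiv]) (by
      rw [← GT.pResidual_eq_top_iff_not_dvd, ← GT.map_pResidual_of_surjective
        (f := e.toMonoidHom) e.surjective, GT.pResidual_pResidual,
        Subgroup.map_top_of_surjective _ e.surjective])
  exact h3 (h χ fun e => h2 ((Subgroup.commutator_mono (Subgroup.map_subtype_le _)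
    (Subgroup.map_subtype_le _)).trans e))

theorem LiesOver.degree_eq_ordCompl {p : ℕ} (hp : p.Prime) {N : Subgroup G} [N.Normal] {k : ℕ}
    (hk : N.index = p ^ k) {χ : IrrCharacter G} {θ : IrrCharacter N} (h : LiesOver N χ.1 θ.1)
    (hθ : ¬ p ∣ charDegree θ.1) : charDegree θ.1 = ordCompl[p] (charDegree χ.1) := by
  obtain ⟨m, h1, h2⟩ := h.exists_degree_eq_mul
  obtain ⟨j, -, rfl⟩ := (Nat.dvd_prime_pow hp).1 (hk ▸ h1)
  rw [h2, Nat.ordCompl_mul, Nat.ordCompl_self_pow hp, one_mul,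
    (Nat.ordCompl_eq_self_iff_zero_or_not_dvd _ hp).2 (Or.inr hθ)]

theorem ncard_charDegrees_le_of_index_eq_pow {p : ℕ} (hp : p.Prime) {N : Subgroup G} [N.Normal]
    {k : ℕ} (hk : N.index = p ^ k) (hN : ¬ p ∣ Nat.card N) :
    (charDegrees N).ncard ≤ (charDegrees G).ncard := by
  refine le_trans (Set.ncard_le_ncard (t := (fun d => ordCompl[p] d) '' charDegrees G) ?_
    (finite_charDegrees.image _)) (Set.ncard_image_le finite_charDegrees)
  rintro _ ⟨θ, rfl⟩
  obtain ⟨χ, hχ⟩ := exists_irr_liesOver θ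
  exact ⟨_, ⟨χ, rfl⟩, (hχ.degree_eq_ordCompl hp hk fun e =>
    hN (e.trans (irr_degree_dvd_card θ))).symm⟩

section Theta
variable {m : ℕ}

open Classical in
/-- The characters of degree `m` whose product with `η` only has constituents of degree `m`. -/
noncomputable def degClosed (m : ℕ) (η : IrrCharacter G) : Finset (IrrCharacter G) :=
  Finset.univ.filter fun χ => charDegree χ.1 = m ∧
    ∀ φ : IrrCharacter G, ip (η.1 * χ.1) φ.1 ≠ 0 → charDegree φ.1 = m

theorem ip_mul_irr_ne_zero_iff (η χ φ : IrrCharacter G) :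
    ip (η.1 * χ.1) φ.1 = ip ((irrBar η).1 * φ.1) χ.1 := by
  rw [mul_comm, ip_mul_left, irrBar_val, (irr_isCharacter χ).ip_comm
    ((irr_isCharacter η).cbar.mul (irr_isCharacter φ))]

theorem degree_irrBar (η : IrrCharacter G) : charDegree (irrBar η).1 = charDegree η.1 :=
  charDegree_eq_of_apply_one (by rw [irrBar_val, cbar_apply, irr_apply_one, map_natCast])

theorem degree_eq_of_ip_mul_linear_ne_zero {ξ χ φ : IrrCharacter G} (e : charDegree φ.1 = 1)
    (h : ip (ξ.1 * χ.1) φ.1 ≠ 0) : charDegree ξ.1 = charDegree χ.1 := by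
  rw [ip_mul_irr_ne_zero_iff] at h
  have e2 := congrArg (fun x : IrrCharacter G => charDegree x.1) (irr_eq_of_ip_ne_zero
    (χ := ⟨_, (irrBar ξ).2.mul_linear (irr_isCharacter φ) e⟩) h)
  simpa only [(irr_isCharacter _).charDegree_mul (irr_isCharacter φ), e, mul_one,
    degree_irrBar] using e2

theorem mul_sum_degClosed (η : IrrCharacter G)
    (h : ∀ χ φ : IrrCharacter G, charDegree χ.1 = m → charDegree φ.1 = m →
      ip (η.1 * χ.1) φ.1 ≠ 0 → χ ∈ degClosed m η)
    (h' : ∀ χ φ : IrrCharacter G, charDegree χ.1 = m → charDegree φ.1 = m →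
      ip ((irrBar η).1 * χ.1) φ.1 ≠ 0 → χ ∈ degClosed m (irrBar η)) :
    η.1 * ∑ χ ∈ degClosed m η, χ.1 =
      (charDegree η.1 : ℂ) • ∑ χ ∈ degClosed m (irrBar η), χ.1 := by
  classical
  have hc : ∀ s : Finset (IrrCharacter G), IsClassFunction G (∑ χ ∈ s, χ.1) := fun s =>
    isClassFunction_sum _ _ fun χ _ => irr_isClassFunction χ
  refine ((irr_isClassFunction η).mul (hc _)).ext_ip ((hc _).smul _) fun φ => ?_
  rw [ip_smul_left, ip_sum_irr_finset, Finset.mul_sum, ip_sum_left]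
  split_ifs with hφ
  · have h1 := (Finset.mem_filter.1 hφ).2
    have h2 := (irr_isCharacter (irrBar η)).mul (irr_isCharacter φ)
    have h3 := h2.degree_eq_sum_mult
    have h0 : 0 < m := h1.1 ▸ irr_degree_pos φ
    rw [(irr_isCharacter _).charDegree_mul (irr_isCharacter φ), h1.1,
      ← Finset.sum_subset (Finset.subset_univ (degClosed m η)) (fun χ _ hχ => by
        rw [mul_eq_zero]
        left
        by_contra h4
        have h5 := (h2.mult_pos_iff (irr_isCharacter χ)).1 (Nat.pos_of_ne_zero h4)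
        exact hχ (h χ φ (h1.2 χ h5) h1.1 (by rwa [ip_mul_irr_ne_zero_iff]))),
      Finset.sum_congr rfl (g := fun χ => mult ((irrBar η).1 * φ.1) χ.1 * m)
        (fun χ hχ => by rw [(Finset.mem_filter.1 hχ).2.1]), ← Finset.sum_mul] at h3
    have h4 := degree_irrBar η
    rw [← h4, Nat.eq_of_mul_eq_mul_right h0 h3, mul_one, Nat.cast_sum]
    exact Finset.sum_congr rfl fun χ _ => by
      rw [ip_mul_irr_ne_zero_iff, h2.ip_eq_mult (irr_isCharacter χ)]
  · rw [mul_zero]
    refine Finset.sum_eq_zero fun χ hχ => ?_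
    by_contra h1
    have h2 := (Finset.mem_filter.1 hχ).2
    exact hφ (h' φ χ (h2.2 φ h1) h2.1 (by rwa [← ip_mul_irr_ne_zero_iff]))

theorem degClosed_eq_empty (hm : m ≠ 1) (η : IrrCharacter G) (hZ : center η.1 = ⊥)
    (h : ∀ ξ χ φ : IrrCharacter G, charDegree ξ.1 = charDegree η.1 → charDegree χ.1 = m →
      charDegree φ.1 = m → ip (ξ.1 * χ.1) φ.1 ≠ 0 → χ ∈ degClosed m ξ) :
    degClosed m η = ∅ := by
  classical
  have := Fintype.ofFinite G
  have h4 := degree_irrBar η
  have hbb : irrBar (irrBar η) = η := Subtype.ext (funext fun g => by simp)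
  have h1 := mul_sum_degClosed η (fun χ φ => h η χ φ rfl) (fun χ φ => h _ χ φ h4)
  have h2 := mul_sum_degClosed (irrBar η) (fun χ φ => h _ χ φ h4)
    (fun χ φ => h _ χ φ (by rw [hbb]))
  rw [hbb, h4] at h2
  set Θ := ∑ χ ∈ degClosed m η, χ.1 with hΘ
  have h3 : ∀ g, g ≠ 1 → Θ g = 0 := by
    intro g hg
    by_contra h0
    refine hg (Subgroup.mem_bot.1 (hZ ▸ (irr_mem_center_iff η).2 ?_))
    have e1 := congrFun h1 g
    have e2 := congrFun h2 g
    simp only [Pi.mul_apply, Pi.smul_apply, smul_eq_mul, irrBar_val, cbar_apply] at e1 e2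
    have e3 : conj (η.1 g) * η.1 g = (charDegree η.1 : ℂ) ^ 2 := by
      apply mul_right_cancel₀ h0
      rw [mul_assoc, e1, mul_left_comm, e2]; ring
    rw [Complex.conj_mul'] at e3
    have e4 : ‖η.1 g‖ ^ 2 = (charDegree η.1 : ℝ) ^ 2 := by exact_mod_cast e3
    exact (pow_left_inj₀ (norm_nonneg _) (Nat.cast_nonneg _) two_ne_zero).1 e4
  have h5 : ip Θ (irrOne G).1 = 0 := by
    rw [hΘ, ip_sum_irr_finset, if_neg]
    exact fun e => hm ((Finset.mem_filter.1 e).2.1.symm.trans charDegree_irrOne)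
  rw [ip_def, Finset.sum_eq_single 1 (fun g _ hg => by rw [h3 g hg, zero_mul]) (by simp)] at h5
  simp only [irrOne_apply, map_one, mul_one, mul_eq_zero, inv_eq_zero, card_cast_ne_zero,
    false_or] at h5
  rw [hΘ, Finset.sum_apply] at h5
  simp only [irr_apply_one] at h5
  rw [← Nat.cast_sum, Nat.cast_eq_zero, Finset.sum_eq_zero_iff] at h5
  exact Finset.eq_empty_of_forall_notMem fun χ hχ => (irr_degree_pos χ).ne' (h5 χ hχ)

theorem mem_degClosed_of_coprime {n : ℕ} (hmn : m.Coprime n) (hne : m ≠ n)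
    (hcd : ∀ χ : IrrCharacter G, charDegree χ.1 = 1 ∨ charDegree χ.1 = m ∨ charDegree χ.1 = n)
    {ξ χ φ : IrrCharacter G} (h1 : charDegree ξ.1 = n) (h2 : charDegree χ.1 = m)
    (h3 : charDegree φ.1 = m) (h4 : ip (ξ.1 * χ.1) φ.1 ≠ 0) : χ ∈ degClosed m ξ := by
  classical
  refine Finset.mem_filter.2 ⟨Finset.mem_univ _, h2, fun ψ hψ => ?_⟩
  have hc := (irr_isCharacter ξ).mul (irr_isCharacter χ)
  have hlin : ∀ ψ : IrrCharacter G, charDegree ψ.1 = 1 → mult (ξ.1 * χ.1) ψ.1 = 0 := by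
    intro ψ e
    by_contra h0
    have e1 := (hc.mult_pos_iff (irr_isCharacter ψ)).1 (Nat.pos_of_ne_zero h0)
    exact hne (h2.symm.trans ((degree_eq_of_ip_mul_linear_ne_zero e e1).symm.trans h1))
  by_contra h5
  have h6 := hc.degree_eq_sum_mult
  rw [(irr_isCharacter ξ).charDegree_mul (irr_isCharacter χ), h1, h2,
    ← Finset.sum_filter_add_sum_filter_not _ (fun ψ : IrrCharacter G => charDegree ψ.1 = m),
    Finset.sum_congr rfl (g := fun ψ => mult (ξ.1 * χ.1) ψ.1 * m)
      (fun ψ h => by rw [(Finset.mem_filter.1 h).2]),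
    Finset.sum_congr (s₁ := Finset.univ.filter fun ψ : IrrCharacter G => ¬ charDegree ψ.1 = m)
      rfl (g := fun ψ => mult (ξ.1 * χ.1) ψ.1 * n) (fun ψ h => by
        rcases hcd ψ with e | e | e
        · rw [hlin ψ e, zero_mul, zero_mul]
        · exact absurd e (Finset.mem_filter.1 h).2
        · rw [e]), ← Finset.sum_mul, ← Finset.sum_mul] at h6
  have h7 : 0 < ∑ ψ : IrrCharacter G with charDegree ψ.1 = m, mult (ξ.1 * χ.1) ψ.1 :=
    Finset.sum_pos' (fun _ _ => Nat.zero_le _) ⟨φ, by simpa using h3,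
      (hc.mult_pos_iff (irr_isCharacter φ)).2 h4⟩
  have h8 : 0 < ∑ ψ : IrrCharacter G with ¬ charDegree ψ.1 = m, mult (ξ.1 * χ.1) ψ.1 :=
    Finset.sum_pos' (fun _ _ => Nat.zero_le _) ⟨ψ, by simpa using h5,
      (hc.mult_pos_iff (irr_isCharacter ψ)).2 hψ⟩
  generalize ∑ ψ : IrrCharacter G with charDegree ψ.1 = m, mult (ξ.1 * χ.1) ψ.1 = x at h6 h7
  generalize ∑ ψ : IrrCharacter G with ¬ charDegree ψ.1 = m, mult (ξ.1 * χ.1) ψ.1 = y at h6 h8
  have h9 : n ∣ x := hmn.symm.dvd_of_dvd_mul_right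
    ((Nat.dvd_add_left (dvd_mul_left n y)).1 (h6 ▸ dvd_mul_right n m))
  have h10 := Nat.le_of_dvd h7 h9
  have h11 : 0 < n := h1 ▸ irr_degree_pos ξ
  nlinarith [Nat.mul_le_mul_right m h10, Nat.mul_pos h8 h11]

end Theta

theorem isSolvable_of_normal_of_quotient {G : Type*} [Group G] (N : Subgroup G) [N.Normal]
    [Group.IsSolvable N] [Group.IsSolvable (G ⧸ N)] : Group.IsSolvable G :=
  Group.isSolvable_of_ker_le_range N.subtype (QuotientGroup.mk' N) (by simp)

/-- A minimal nonsolvable quotient: a perfect normal subgroup contained in every nontrivial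
normal subgroup. -/
theorem exists_perfect_of_forall_quotient (h : ¬ Group.IsSolvable G)
    (hq : ∀ (M : Subgroup G) [M.Normal], M ≠ ⊥ → Group.IsSolvable (G ⧸ M)) :
    ∃ D : Subgroup G, D.Normal ∧ D ≠ ⊥ ∧ ⁅D, D⁆ = D ∧
      ∀ M : Subgroup G, M.Normal → M ≠ ⊥ → D ≤ M := by
  have : Nontrivial G := by
    by_contra h1
    have := not_nontrivial_iff_subsingleton.1 h1
    exact h inferInstance
  obtain ⟨D, hD⟩ := GT.exists_isMinNormal G
  have := hD.normal
  have hns : ¬ Group.IsSolvable D := fun _ => by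
    have := hq D hD.ne_bot
    exact h (isSolvable_of_normal_of_quotient D)
  refine ⟨D, hD.normal, hD.ne_bot, (hD.commutator_eq_bot_or_eq D).resolve_left fun e => ?_,
    fun M hM h1 => (hD.le_or_disjoint M).resolve_right fun e => hns ?_⟩
  · have := Subgroup.commutator_self_eq_bot_iff.1 e
    exact hns GT.isSolvable_of_isMulCommutative
  · have := hq M h1
    refine Group.isSolvable_of_isSolvable_injective (f := (QuotientGroup.mk' M).comp D.subtype) ?_
    rw [← MonoidHom.ker_eq_bot_iff, eq_bot_iff]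
    intro x hx
    exact Subtype.ext (Subgroup.disjoint_def.1 e x.2 ((QuotientGroup.eq_one_iff _).1 hx))

omit [Finite G] in
theorem center_eq_bot_of_perfect {D : Subgroup G} (h1 : ⁅D, D⁆ = D)
    (h2 : ∀ M : Subgroup G, M.Normal → M ≠ ⊥ → D ≤ M) {χ : IrrCharacter G}
    (hχ : ¬ D ≤ ker χ.1) : center χ.1 = ⊥ := by
  by_contra h
  refine hχ (h1 ▸ Subgroup.commutator_le.2 fun a ha b _ => ?_)
  exact (irr_isCharacter χ).commutator_mem_ker_of_mem_center (h2 _ inferInstance h ha) b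

theorem isSolvable_of_ncard_charDegrees_le_three (G : Type u) [Group G] [Finite G] :
    (charDegrees G).ncard ≤ 3 → Group.IsSolvable G := by
  refine GT.induction_on_card (P := fun G _ _ => (charDegrees G).ncard ≤ 3 →
    Group.IsSolvable G) ?_ G
  intro G _ _ ih h
  by_contra hG
  obtain ⟨D, hD, hD1, hD2, hD3⟩ := exists_perfect_of_forall_quotient hG fun M _ hM =>
    ih _ (GT.card_quotient_lt hM)
      ((Set.ncard_le_ncard (charDegrees_quotient_subset M) finite_charDegrees).trans h)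
  have hDG : D ≤ commutator G := hD2 ▸ Subgroup.commutator_mono le_top le_top
  have hne : ∀ χ : IrrCharacter G, ¬ D ≤ ker χ.1 → charDegree χ.1 ≠ 1 := fun χ hχ e =>
    hχ (hDG.trans ((irr_degree_eq_one_iff_commutator_le_ker χ).1 e))
  obtain ⟨χ, hχ⟩ := exists_irr_not_le_ker hD1
  obtain ⟨θ, hθ⟩ := exists_irr_liesUnder D χ
  obtain ⟨p, hp, hpθ⟩ := Nat.exists_prime_and_dvd
    (mt hθ.commutator_le_ker_iff.2 (by rwa [hD2]))
  have := Fact.mk hp
  obtain ⟨ξ, hξ, hpξ⟩ := exists_not_dvd_of_not_dvd_relIndex_commutator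
    (hpθ.trans (irr_degree_dvd_card θ)) (by
      have : commutator D = ⊤ := by
        rw [commutator_def, ← Subgroup.subgroupOf_self, commutator_subgroupOf_eq le_rfl le_rfl,
          hD2]
      rw [this, Subgroup.index_top]
      exact hp.one_lt.not_ge ∘ Nat.le_of_dvd one_pos)
  rw [hD2] at hξ
  set m := charDegree χ.1 with hm
  set n := charDegree ξ.1 with hn
  have hmn : m ≠ n := fun e => hpξ (e ▸ hpθ.trans hθ.degree_dvd)
  have hcd : ∀ ψ : IrrCharacter G,
      charDegree ψ.1 = 1 ∨ charDegree ψ.1 = m ∨ charDegree ψ.1 = n := fun ψ => by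
    have h1 : ({1, m, n} : Set ℕ) = charDegrees G := by
      refine Set.eq_of_subset_of_ncard_le ?_ ?_ finite_charDegrees
      · rintro d (rfl | rfl | rfl)
        exacts [one_mem_charDegrees, ⟨χ, rfl⟩, ⟨ξ, rfl⟩]
      · rwa [Set.ncard_eq_three.2 ⟨1, m, n, (hne χ hχ).symm, (hne ξ hξ).symm, hmn, rfl⟩]
    exact (h1 ▸ mem_charDegrees ψ : _ ∈ ({1, m, n} : Set ℕ))
  by_cases hc : m.Coprime n
  · have h1 := degClosed_eq_empty (hne χ hχ) ξ (center_eq_bot_of_perfect hD2 hD3 hξ)
      fun _ _ _ e1 e2 e3 e4 => mem_degClosed_of_coprime hc hmn hcd e1 e2 e3 e4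
    have h2 := degClosed_eq_empty (hne ξ hξ) χ (center_eq_bot_of_perfect hD2 hD3 hχ)
      fun _ _ _ e1 e2 e3 e4 => mem_degClosed_of_coprime hc.symm hmn.symm
        (fun ψ => (hcd ψ).imp_right Or.symm) e1 e2 e3 e4
    have h3 := (irr_isCharacter ξ).mul (irr_isCharacter χ)
    by_cases h4 : ∃ φ : IrrCharacter G, charDegree φ.1 = m ∧ ip (ξ.1 * χ.1) φ.1 ≠ 0
    · obtain ⟨φ, e1, e2⟩ := h4
      exact Finset.notMem_empty _ (h1 ▸ mem_degClosed_of_coprime hc hmn hcd rfl rfl e1 e2)
    by_cases h5 : ∃ φ : IrrCharacter G, charDegree φ.1 = n ∧ ip (χ.1 * ξ.1) φ.1 ≠ 0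
    · obtain ⟨φ, e1, e2⟩ := h5
      exact Finset.notMem_empty _ (h2 ▸ mem_degClosed_of_coprime hc.symm hmn.symm
        (fun ψ => (hcd ψ).imp_right Or.symm) rfl rfl e1 e2)
    obtain ⟨φ, hφ⟩ := h3.exists_irr_ip_ne_zero fun e =>
      mul_ne_zero (irr_apply_one_ne_zero ξ) (irr_apply_one_ne_zero χ) (congrFun e 1)
    rcases hcd φ with e | e | e
    · exact hmn (degree_eq_of_ip_mul_linear_ne_zero e hφ).symm
    · exact h4 ⟨φ, e, hφ⟩
    · exact h5 ⟨φ, e, by rwa [mul_comm]⟩
  · obtain ⟨r, hr, h1, h2⟩ := Nat.Prime.not_coprime_iff_dvd.1 hc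
    have := Fact.mk hr
    obtain ⟨A, hA, h3, k, hk⟩ := GT.hasNormalPComplement_iff_exists.1
      (hasNormalPComplement_of_degrees (p := r) fun ψ hψ => by
        rcases hcd ψ with e | e | e
        exacts [absurd e hψ, e ▸ h1, e ▸ h2])
    have h4 : A ≠ ⊤ := by
      rintro rfl
      exact h3 (Subgroup.card_top (G := G) ▸ h1.trans (irr_degree_dvd_card χ))
    have := ih A (GT.card_lt_of_ne_top h4) ((ncard_charDegrees_le_of_index_eq_pow hr hk h3).trans h)
    have := GT.IsPGroup.isSolvable' (GT.isPGroup_quotient_iff.2 ⟨k, hk⟩)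
    exact hG (isSolvable_of_normal_of_quotient A)

theorem derivedSeries_eq_bot_of_ncard_le_three {k : ℕ} (hk : k ≤ 3)
    (h : (charDegrees G).ncard ≤ k) : derivedSeries G k = ⊥ := by
  have := isSolvable_of_ncard_charDegrees_le_three G (h.trans hk)
  exact derivedSeries_eq_bot_of_ncard_le hk h

omit [Finite G] in
theorem ncard_charDegrees_le_two {m : ℕ}
    (h : ∀ χ : IrrCharacter G, charDegree χ.1 = 1 ∨ charDegree χ.1 = m) :
    (charDegrees G).ncard ≤ 2 :=
  (Set.ncard_le_ncard (t := {1, m}) (by rintro _ ⟨χ, rfl⟩; exact h χ) (Set.toFinite _)).trans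
    ((Set.ncard_insert_le _ _).trans (by simp))

omit [Finite G] in
theorem ncard_charDegrees_le_three {m n : ℕ}
    (h : ∀ χ : IrrCharacter G, charDegree χ.1 = 1 ∨ charDegree χ.1 = m ∨ charDegree χ.1 = n) :
    (charDegrees G).ncard ≤ 3 :=
  (Set.ncard_le_ncard (t := {1, m, n}) (by rintro _ ⟨χ, rfl⟩; exact h χ) (Set.toFinite _)).trans
    ((Set.ncard_insert_le _ _).trans (Nat.succ_le_succ ((Set.ncard_insert_le _ _).trans (by simp))))

end CT
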