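import Cfsg.Agent.Lib.Char.Gelfand
import Cfsg.Agent.Lib.Char.Mackey
import Cfsg.Agent.Lib.Char.Linear
import Cfsg.Agent.Lib.Lin.SLPattern

/-!
# Degrees of the irreducible characters of `SL₂(q)`
-/

set_option autoImplicit false
set_option linter.unusedSectionVars false

namespace CT.SL2

open Cfsg CT LG Matrix
open scoped MonoidAlgebra ComplexConjugate

variable {F : Type*} [Field F]

/-- `SL₂(F)`. -/
abbrev G2 (F : Type*) [Field F] := SpecialLinearGroup (Fin 2) F

/-- The element of `SL₂` with given entries. -/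
def m2 (a b c d : F) (h : a * d - b * c = 1) : G2 F :=
  mkSL !![a, b; c, d] (by rw [det_fin_two_of]; exact h)

@[simp] theorem m2_00 (a b c d : F) (h) : slm (m2 a b c d h) 0 0 = a := rfl
@[simp] theorem m2_01 (a b c d : F) (h) : slm (m2 a b c d h) 0 1 = b := rfl
@[simp] theorem m2_10 (a b c d : F) (h) : slm (m2 a b c d h) 1 0 = c := rfl
@[simp] theorem m2_11 (a b c d : F) (h) : slm (m2 a b c d h) 1 1 = d := rfl

theorem mul_ent (g h : G2 F) (i j : Fin 2) :
    slm (g * h) i j = slm g i 0 * slm h 0 j + slm g i 1 * slm h 1 j := by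
  rw [slm_mul, Matrix.mul_apply, Fin.sum_univ_two]

theorem det_ent (g : G2 F) : slm g 0 0 * slm g 1 1 - slm g 0 1 * slm g 1 0 = 1 := by
  rw [← det_fin_two, det_slm]

theorem ext_ent {g h : G2 F} (h00 : slm g 0 0 = slm h 0 0) (h01 : slm g 0 1 = slm h 0 1)
    (h10 : slm g 1 0 = slm h 1 0) (h11 : slm g 1 1 = slm h 1 1) : g = h := by
  refine slm_ext (Matrix.ext fun i j => ?_)
  fin_cases i <;> fin_cases j
  exacts [h00, h01, h10, h11]

@[simp] theorem one_00 : slm (1 : G2 F) 0 0 = 1 := rfl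
@[simp] theorem one_01 : slm (1 : G2 F) 0 1 = 0 := rfl
@[simp] theorem one_10 : slm (1 : G2 F) 1 0 = 0 := rfl
@[simp] theorem one_11 : slm (1 : G2 F) 1 1 = 1 := rfl

theorem inv_eq (g : G2 F) : g⁻¹ = m2 (slm g 1 1) (-slm g 0 1) (-slm g 1 0) (slm g 0 0)
    (by linear_combination det_ent g) := by
  rw [inv_eq_iff_mul_eq_one]
  have := det_ent g
  refine ext_ent ?_ ?_ ?_ ?_ <;> simp only [mul_ent, m2_00, m2_01, m2_10, m2_11, one_00, one_01,
    one_10, one_11]
  · linear_combination this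
  · ring
  · ring
  · linear_combination this

@[simp] theorem inv_00 (g : G2 F) : slm g⁻¹ 0 0 = slm g 1 1 := by rw [inv_eq]; rfl
@[simp] theorem inv_01 (g : G2 F) : slm g⁻¹ 0 1 = -slm g 0 1 := by rw [inv_eq]; rfl
@[simp] theorem inv_10 (g : G2 F) : slm g⁻¹ 1 0 = -slm g 1 0 := by rw [inv_eq]; rfl
@[simp] theorem inv_11 (g : G2 F) : slm g⁻¹ 1 1 = slm g 0 0 := by rw [inv_eq]; rfl

/-- The unipotent element `u(x)`. -/
def uu (x : F) : G2 F := m2 1 x 0 1 (by ring)

@[simp] theorem uu_00 (x : F) : slm (uu x) 0 0 = 1 := rfl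
@[simp] theorem uu_01 (x : F) : slm (uu x) 0 1 = x := rfl
@[simp] theorem uu_10 (x : F) : slm (uu x) 1 0 = 0 := rfl
@[simp] theorem uu_11 (x : F) : slm (uu x) 1 1 = 1 := rfl

theorem uu_add (x y : F) : uu (x + y) = uu x * uu y := by
  refine ext_ent ?_ ?_ ?_ ?_ <;> simp [mul_ent, add_comm]

theorem uu_zero : uu (0 : F) = 1 := ext_ent rfl rfl rfl rfl

/-- `u` as a homomorphism. -/
def uHom (F : Type*) [Field F] : Multiplicative F →* G2 F where
  toFun x := uu x.toAdd
  map_one' := uu_zero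
  map_mul' _ _ := uu_add _ _

/-- The element `-1`. -/
def negOne (F : Type*) [Field F] : G2 F := m2 (-1) 0 0 (-1) (by ring)

theorem negOne_mem_center : negOne F ∈ Subgroup.center (G2 F) := by
  rw [Subgroup.mem_center_iff]
  intro g
  refine ext_ent ?_ ?_ ?_ ?_ <;> simp [mul_ent, negOne]

theorem negOne_mul_self : negOne F * negOne F = 1 := by
  refine ext_ent ?_ ?_ ?_ ?_ <;> simp [mul_ent, negOne]

theorem eq_of_mem_center {z : G2 F} (hz : z ∈ Subgroup.center (G2 F)) : z = 1 ∨ z = negOne F := by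
  rw [Subgroup.mem_center_iff] at hz
  have h1 := hz (uu 1)
  have h2 := hz (m2 1 0 1 1 (by ring))
  have h3 := congrArg (fun g => slm g 0 0) h1
  have h4 := congrArg (fun g => slm g 0 1) h1
  have h5 := congrArg (fun g => slm g 0 0) h2
  have h6 := det_ent z
  simp only [mul_ent, uu_00, uu_01, uu_10, uu_11, m2_00, m2_01, m2_10] at h3 h4 h5
  have h7 : slm z 1 0 = 0 := by linear_combination h3
  have h8 : slm z 0 1 = 0 := by linear_combination -h5
  have h9 : slm z 1 1 = slm z 0 0 := by linear_combination h4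
  rw [h7, h9, mul_zero, sub_zero, mul_self_eq_one_iff] at h6
  rcases h6 with h6 | h6
  · exact Or.inl (ext_ent h6 h8 h7 (h9.trans h6))
  · exact Or.inr (ext_ent h6 h8 h7 (h9.trans h6))

/-- The Borel subgroup of upper triangular matrices. -/
def borel (F : Type*) [Field F] : Subgroup (G2 F) where
  carrier := {g | slm g 1 0 = 0}
  one_mem' := rfl
  mul_mem' := fun {a b} ha hb => by
    change slm (a * b) 1 0 = 0
    rw [mul_ent, ha, hb]; simp
  inv_mem' := fun {a} ha => by
    change slm a⁻¹ 1 0 = 0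
    rw [inv_10, ha, neg_zero]

theorem mem_borel {g : G2 F} : g ∈ borel F ↔ slm g 1 0 = 0 := Iff.rfl

theorem borel_det (b : borel F) : slm b.1 0 0 * slm b.1 1 1 = 1 := by
  have := det_ent b.1
  rwa [mem_borel.1 b.2, mul_zero, sub_zero] at this

/-- The upper left entry on the Borel subgroup. -/
def dHom (F : Type*) [Field F] : borel F →* Fˣ where
  toFun b := Units.mk0 (slm b.1 0 0) (left_ne_zero_of_mul_eq_one (borel_det b))
  map_one' := Units.ext rfl
  map_mul' a b := Units.ext (by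
    change slm (a.1 * b.1) 0 0 = slm a.1 0 0 * slm b.1 0 0
    rw [mul_ent, mem_borel.1 b.2]; simp)

@[simp] theorem coe_dHom (b : borel F) : (dHom F b : F) = slm b.1 0 0 := rfl

/-- `u` as a homomorphism to the Borel subgroup. -/
def uB (F : Type*) [Field F] : Multiplicative F →* borel F :=
  (uHom F).codRestrict _ fun _ => rfl

/-- Representatives of the cosets of the Borel subgroup. -/
def tr : Option F → G2 F
  | none => 1
  | some x => m2 x (-1) 1 0 (by ring)

theorem tr_bijective : Function.Bijective fun i : Option F => (tr i : G2 F ⧸ borel F) := by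
  constructor
  · intro i j h
    have h1 := QuotientGroup.eq.1 h
    rw [mem_borel, mul_ent] at h1
    rcases i with _ | x <;> rcases j with _ | y <;> simp [tr] at h1 ⊢
    linear_combination h1
  · intro q
    obtain ⟨g, rfl⟩ := QuotientGroup.mk_surjective q
    by_cases h : slm g 1 0 = 0
    · exact ⟨none, QuotientGroup.eq.2 (by simpa [tr, mem_borel] using h)⟩
    · refine ⟨some (slm g 0 0 / slm g 1 0), QuotientGroup.eq.2 ?_⟩
      rw [mem_borel, mul_ent]
      simp [tr, h]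

variable [Fintype F]

theorem index_borel : (borel F).index = Fintype.card F + 1 := by
  rw [Subgroup.index_eq_card, ← Nat.card_congr (Equiv.ofBijective _ tr_bijective),
    Nat.card_eq_fintype_card, Fintype.card_option]

/-- A primitive additive character. -/
noncomputable def psi (F : Type*) [Field F] [Finite F] : AddChar F ℂ :=
  AddChar.FiniteField.primitiveChar_to_Complex F

theorem psi_prim : (psi F).IsPrimitive := AddChar.FiniteField.primitiveChar_to_Complex_isPrimitive F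

theorem conj_psi (x : F) : conj (psi F x) = psi F (-x) := by
  rw [AddChar.starComp_apply (Nat.pos_of_ne_zero (CharP.ringChar_ne_zero_of_finite F)),
    AddChar.inv_apply]

theorem sum_psi (b : F) [Decidable (b = 0)] :
    ∑ x : F, psi F (x * b) = if b = 0 then (Fintype.card F : ℂ) else 0 := by
  classical
  rw [AddChar.sum_mulShift b psi_prim]
  split_ifs <;> simp

theorem card_ne_zero : (Fintype.card F : ℂ) ≠ 0 := by exact_mod_cast Fintype.card_ne_zero

/-- Fourier coefficient of a function on `F`. -/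
noncomputable def fc (φ : F → ℂ) (c : F) : ℂ :=
  (Fintype.card F : ℂ)⁻¹ * ∑ x : F, φ x * psi F (-(c * x))

theorem fc_add (φ φ' : F → ℂ) (c : F) : fc (fun x => φ x + φ' x) c = fc φ c + fc φ' c := by
  simp only [fc, add_mul, Finset.sum_add_distrib, mul_add]

theorem fc_one (c : F) [Decidable (c = 0)] : fc (fun _ => 1) c = if c = 0 then 1 else 0 := by
  classical
  have h := sum_psi (F := F) (-c)
  simp only [mul_neg, neg_eq_zero, mul_comm _ c] at h
  simp only [fc, one_mul, h]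
  split_ifs
  · exact inv_mul_cancel₀ card_ne_zero
  · exact mul_zero _

theorem sum_fc (φ : F → ℂ) : ∑ c, fc φ c = φ 0 := by
  classical
  simp only [fc, ← Finset.mul_sum]
  rw [Finset.sum_comm]
  simp only [← Finset.mul_sum, ← mul_neg, sum_psi, neg_eq_zero, mul_ite, mul_zero,
    Finset.sum_ite_eq', Finset.mem_univ, if_true]
  field_simp [card_ne_zero (F := F)]

theorem fc_mul_sq {φ : F → ℂ} {a : F} (ha : a ≠ 0) (h : ∀ x, φ (a * x) = φ x) (c : F) :
    fc φ (c * a) = fc φ c := by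
  simp only [fc]
  congr 1
  rw [← Equiv.sum_comp (Equiv.mulLeft₀ a ha) (fun x => φ x * psi F (-(c * x)))]
  simp only [Equiv.mulLeft₀_apply, h, mul_assoc]

theorem exists_nat_fc {H : Type*} [Group H] (v : Multiplicative F →* H) {θ : H → ℂ}
    (hθ : IsCharacter H θ) (c : F) :
    ∃ n : ℕ, fc (fun x => θ (v (Multiplicative.ofAdd x))) c = n := by
  let f : Multiplicative F →* ℂ := ((psi F).mulShift c).toMonoidHom
  obtain ⟨n, hn⟩ := (hθ.comp v).exists_nat_ip (isIrrCharacter_of_monoidHom f).isCharacter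
  refine ⟨n, ?_⟩
  rw [← hn, ip_def, fc, Nat.card_eq_fintype_card, Fintype.card_multiplicative]
  congr 1
  refine Fintype.sum_equiv Multiplicative.ofAdd _ _ fun x => ?_
  rw [← conj_psi]; rfl

/-- The multiplicity of `ψ_c` in the restriction to `U`. -/
noncomputable def mc (θ : G2 F → ℂ) (c : F) : ℂ := fc (fun x => θ (uu x)) c

theorem exists_nat_mc {θ : G2 F → ℂ} (hθ : IsCharacter _ θ) (c : F) : ∃ n : ℕ, mc θ c = n :=
  exists_nat_fc (uHom F) hθ c

theorem mc_add (θ η : G2 F → ℂ) (c : F) : mc (θ + η) c = mc θ c + mc η c := fc_add _ _ c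

theorem sum_mc (θ : G2 F → ℂ) : ∑ c, mc θ c = θ 1 := by
  simp only [mc]; rw [sum_fc, uu_zero]

theorem mc_mul_sq {θ : G2 F → ℂ} (hθ : IsClassFunction _ θ) {a : F} (ha : a ≠ 0) (c : F) :
    mc θ (c * a ^ 2) = mc θ c := by
  refine fc_mul_sq (pow_ne_zero 2 ha) (fun x => ?_) c
  rw [← hθ (uu x) (m2 a 0 0 a⁻¹ (by field_simp; ring))]
  congr 1
  refine ext_ent ?_ ?_ ?_ ?_ <;> simp [mul_ent, ha]
  ring

/-- The idempotent of `ψ_c` on `U`. -/
noncomputable def ec (c : F) : ℂ[G2 F] :=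
  (Fintype.card F : ℂ)⁻¹ • ∑ x : F, psi F (-(c * x)) • gel ℂ (uu x)

theorem ev_ec (θ : G2 F → ℂ) (c : F) : ev θ (ec c) = mc θ c := by
  simp only [ec, map_smul, map_sum, mc, fc, smul_eq_mul, gel, ev_single, one_mul, mul_comm]

theorem gel_uu_mul_ec (c y : F) : gel ℂ (uu y) * ec c = psi F (c * y) • ec c := by
  simp only [ec, mul_smul_comm, Finset.mul_sum, gel_mul, ← uu_add]
  rw [smul_comm]
  congr 1
  rw [Finset.smul_sum, ← Equiv.sum_comp (Equiv.addLeft y)
    (fun x => psi F (c * y) • psi F (-(c * x)) • gel ℂ (uu x))]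
  refine Finset.sum_congr rfl fun x _ => ?_
  rw [Equiv.coe_addLeft, smul_smul, ← AddChar.map_add_eq_mul]
  congr 2; ring

theorem ec_mul_gel_uu (c y : F) : ec c * gel ℂ (uu y) = psi F (c * y) • ec c := by
  rw [← gel_uu_mul_ec]
  simp only [ec, mul_smul_comm, smul_mul_assoc, Finset.mul_sum, Finset.sum_mul, gel_mul,
    ← uu_add, add_comm]

theorem ec_mul_self (c : F) : ec c * ec c = ec c := by
  conv_lhs => enter [1]; rw [ec]
  simp only [smul_mul_assoc, Finset.sum_mul, gel_uu_mul_ec, smul_smul, ← AddChar.map_add_eq_mul,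
    neg_add_cancel, AddChar.map_zero_eq_one, one_smul, Finset.sum_const, Finset.card_univ]
  rw [← Nat.cast_smul_eq_nsmul ℂ, smul_smul, inv_mul_cancel₀ card_ne_zero, one_smul]

theorem ec_mul_mul_eq_zero {c : F} (hc : c ≠ 0) {g : G2 F} (h : slm g 1 0 = 0)
    (h' : slm g 0 0 ≠ slm g 1 1) : ec c * gel ℂ g * ec c = 0 := by
  have hd := borel_det ⟨g, h⟩
  simp only at hd
  have h1 : c * (slm g 0 0 ^ 2 - 1) ≠ 0 := by
    refine mul_ne_zero hc fun h2 => h' ?_
    linear_combination (-slm g 0 0) * hd + slm g 1 1 * h2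
  obtain ⟨y, hy⟩ := AddChar.ne_one_iff.1 (psi_prim h1)
  rw [AddChar.mulShift_apply] at hy
  have h2 : g * uu y = uu (slm g 0 0 ^ 2 * y) * g := by
    refine ext_ent ?_ ?_ ?_ ?_ <;> simp [mul_ent, h]
    linear_combination (-slm g 0 0 * y) * hd
  have h3 : psi F (c * y) • (ec c * gel ℂ g * ec c) =
      psi F (c * (slm g 0 0 ^ 2 * y)) • (ec c * gel ℂ g * ec c) := by
    rw [← mul_smul_comm, ← gel_uu_mul_ec, ← smul_mul_assoc, ← smul_mul_assoc, ← ec_mul_gel_uu,
      mul_assoc (ec c) _ (gel ℂ g), gel_mul, ← h2, ← gel_mul]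
    simp only [mul_assoc]
  rw [← sub_eq_zero, ← sub_smul, smul_eq_zero] at h3
  refine h3.resolve_left fun h4 => hy ?_
  have h5 : psi F (c * (slm g 0 0 ^ 2 * y)) =
      psi F (c * y) * psi F (c * (slm g 0 0 ^ 2 - 1) * y) := by
    rw [← AddChar.map_add_eq_mul]; congr 1; ring
  have h6 : psi F (c * y) ≠ 0 := by
    intro h0
    have := (psi F).map_add_eq_mul (c * y) (-(c * y))
    rw [add_neg_cancel, AddChar.map_zero_eq_one, h0, zero_mul] at this
    exact one_ne_zero this
  rw [h5, sub_eq_zero] at h4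
  exact (mul_eq_left₀ h6).1 h4.symm

/-- The anti-automorphism exchanging the diagonal entries. -/
def flip (g : G2 F) : G2 F :=
  m2 (slm g 1 1) (slm g 0 1) (slm g 1 0) (slm g 0 0) (by linear_combination det_ent g)

theorem mc_eq_zero_or_one (χ : IrrCharacter (G2 F)) {c : F} (hc : c ≠ 0) :
    mc χ.1 c = 0 ∨ mc χ.1 c = 1 := by
  classical
  have h1 := ev_pow_three_of_comm χ (ec_mul_self c) (comm_of_antiAut flip (fun g h => ?_) ?_
    fun g => ?_)
  · obtain ⟨n, hn⟩ := exists_nat_mc (irr_isCharacter χ) c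
    rw [ev_ec, hn] at h1
    rw [hn]
    have h2 : n ^ 3 = n := by exact_mod_cast h1
    rcases n with _ | _ | n
    · simp
    · simp
    · exfalso; nlinarith [Nat.zero_le n, Nat.zero_le (n ^ 2), Nat.zero_le (n ^ 3)]
  · refine ext_ent ?_ ?_ ?_ ?_ <;> simp [mul_ent, flip] <;> ring
  · conv_rhs => rw [eq_sum_smul_single (ec c)]
    refine Finset.sum_congr rfl fun g _ => ?_
    by_cases hg : ∃ x, uu x = g
    · obtain ⟨x, rfl⟩ := hg
      rw [show flip (uu x) = uu x from ext_ent rfl rfl rfl rfl]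
    · have : (ec c).coeff g = 0 := by
        push Not at hg
        simp [ec, hg]
      rw [this, zero_smul, zero_smul]
  · by_cases h : slm g 1 0 = 0
    · by_cases h' : slm g 0 0 = slm g 1 1
      · rw [show flip g = g from ext_ent h'.symm rfl rfl h']
      · rw [ec_mul_mul_eq_zero hc h h', ec_mul_mul_eq_zero hc (g := flip g) h (Ne.symm h')]
    · have h2 : flip g = uu ((slm g 1 1 - slm g 0 0) / slm g 1 0) * g *
          uu (-((slm g 1 1 - slm g 0 0) / slm g 1 0)) := by
        refine ext_ent ?_ ?_ ?_ ?_ <;> simp [mul_ent, flip] <;> field_simp <;> ring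
      rw [h2, ← gel_mul, ← gel_mul, ← mul_assoc, ← mul_assoc, ec_mul_gel_uu, mul_assoc,
        gel_uu_mul_ec]
      simp only [smul_mul_assoc, mul_smul_comm, smul_smul, ← AddChar.map_add_eq_mul, mul_neg,
        neg_add_cancel, AddChar.map_zero_eq_one, one_smul]

theorem ind_borel_uu {θ : borel F → ℂ} (hθ : IsClassFunction _ θ)
    (h1 : ∀ x, θ (uB F (Multiplicative.ofAdd x)) = 1) (x : F) [Decidable (x = 0)] :
    ind (borel F) θ (uu x) = 1 + if x = 0 then (Fintype.card F : ℂ) else 0 := by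
  split_ifs with hx
  · have h2 := h1 0
    rw [ofAdd_zero, map_one] at h2
    rw [hx, uu_zero, ind_apply_one, index_borel, h2]
    push_cast; ring
  · rw [add_zero, ← h1 x]
    refine ind_apply_of_TI_aux hθ (uB F (Multiplicative.ofAdd x)) fun g hg => ?_
    refine extendByZero_of_notMem _ _ fun h => hg ?_
    change slm (g⁻¹ * uu x * g) 1 0 = 0 at h
    simp only [mul_ent, inv_10, inv_11, uu_00, uu_01, uu_10, uu_11] at h
    have h3 : x * slm g 1 0 ^ 2 = 0 := by linear_combination -h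
    exact pow_eq_zero_iff two_ne_zero |>.1 ((mul_eq_zero.1 h3).resolve_left hx)

theorem mc_ind_borel {θ : borel F → ℂ} (hθ : IsClassFunction _ θ)
    (h1 : ∀ x, θ (uB F (Multiplicative.ofAdd x)) = 1) (c : F) [Decidable (c = 0)] :
    mc (ind (borel F) θ) c = 1 + if c = 0 then 1 else 0 := by
  classical
  simp only [mc, ind_borel_uu hθ h1]
  rw [fc_add, fc_one, add_comm]
  congr 1
  simp [fc]

theorem exists_borel_linear (χ : IrrCharacter (G2 F)) (h : mc χ.1 0 ≠ 0) :
    ∃ θ : IrrCharacter (borel F), ip (res (borel F) χ.1) θ.1 ≠ 0 ∧ charDegree θ.1 = 1 ∧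
      ∀ x, θ.1 (uB F (Multiplicative.ofAdd x)) = 1 := by
  classical
  have h1 : ∑ x, χ.1 (uu x) ≠ 0 := by
    intro h0; apply h; simp [mc, fc, h0]
  have h2 : ∀ x, χ.1 (uu x) = ∑ θ : IrrCharacter (borel F),
      ip (res (borel F) χ.1) θ.1 * θ.1 (uB F (Multiplicative.ofAdd x)) := fun x =>
    ((irr_isClassFunction χ).res (borel F)).apply_eq_sum_irr (uB F (Multiplicative.ofAdd x))
  simp only [h2] at h1
  rw [Finset.sum_comm] at h1
  obtain ⟨θ, -, hθ⟩ := Finset.exists_ne_zero_of_sum_ne_zero h1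
  rw [← Finset.mul_sum] at hθ
  have h3 : (dHom F).ker ≤ ker θ.1 := by
    by_contra h4
    apply right_ne_zero_of_mul hθ
    have h5 := sum_normal_irr_eq_zero _ h4 1
    rw [← h5]
    refine Fintype.sum_bijective (fun x : F => (⟨uB F (Multiplicative.ofAdd x),
      Units.ext rfl⟩ : (dHom F).ker)) ⟨fun x y hxy => ?_, fun b => ⟨slm b.1.1 0 1, ?_⟩⟩ _ _
      fun x => by rw [one_mul]
    · exact congrArg (fun b : (dHom F).ker => slm b.1.1 0 1) hxy
    · have h6 : slm b.1.1 0 0 = 1 := congrArg Units.val (MonoidHom.mem_ker.1 b.2)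
      have h7 := borel_det b.1
      rw [h6, one_mul] at h7
      exact Subtype.ext (Subtype.ext (ext_ent h6.symm rfl (mem_borel.1 b.1.2).symm h7.symm))
  have h4 : charDegree θ.1 = 1 :=
    irr_degree_eq_one_of_le_ker (Abelianization.commutator_subset_ker _) h3
  refine ⟨θ, left_ne_zero_of_mul hθ, h4, fun x => ?_⟩
  rw [ker_apply_eq (h3 (Units.ext rfl)), irr_apply_one, h4, Nat.cast_one]

theorem exists_mc_zero_eq_succ {η : G2 F → ℂ} (hη : IsCharacter _ η) {θ : IrrCharacter (borel F)}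
    (h1 : ∀ x, θ.1 (uB F (Multiplicative.ofAdd x)) = 1) (h : ip (res (borel F) η) θ.1 ≠ 0) :
    ∃ n : ℕ, mc η 0 = n + 1 := by
  classical
  obtain ⟨n, hn⟩ := exists_nat_fc (uB F) ((hη.res _).sub_irr θ h) 0
  refine ⟨n, ?_⟩
  have h2 := fc_one (F := F) 0
  rw [if_pos rfl] at h2
  rw [← hn, ← h2, ← fc_add, mc]
  congr 1
  funext x
  rw [Pi.sub_apply, h1, sub_add_cancel]; rfl

theorem exists_rest (χ : IrrCharacter (G2 F)) (h : mc χ.1 0 ≠ 0) :
    ∃ θ : IrrCharacter (borel F), charDegree θ.1 = 1 ∧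
      (∀ x, θ.1 (uB F (Multiplicative.ofAdd x)) = 1) ∧
      IsCharacter _ (ind (borel F) θ.1 - χ.1) ∧
      (ind (borel F) θ.1 - χ.1 = 0 ∨ mc χ.1 0 = 1) := by
  classical
  obtain ⟨θ, h1, h2, h3⟩ := exists_borel_linear χ h
  have hπ := (irr_isCharacter θ).ind
  have h4 : ip (ind (borel F) θ.1) χ.1 ≠ 0 := by
    rwa [hπ.ip_comm (irr_isCharacter χ), ip_ind_right _ _ (irr_isClassFunction χ)]
  have hρ := hπ.sub_irr χ h4
  refine ⟨θ, h2, h3, hρ, ?_⟩
  by_cases h0 : ind (borel F) θ.1 - χ.1 = 0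
  · exact Or.inl h0
  right
  obtain ⟨χ', hχ'⟩ := hρ.exists_irr_ip_ne_zero h0
  have h5 : ip (res (borel F) χ'.1) θ.1 ≠ 0 := by
    rw [← ip_ind_right _ _ (irr_isClassFunction χ'), ← hπ.ip_comm (irr_isCharacter χ'),
      ← sub_add_cancel (ind (borel F) θ.1) χ.1, ip_add_left]
    obtain ⟨a, ha⟩ := hρ.exists_nat_ip (irr_isCharacter χ')
    obtain ⟨b, hb⟩ := (irr_isCharacter χ).exists_nat_ip (irr_isCharacter χ')
    rw [ha] at hχ' ⊢
    rw [hb]
    have : a ≠ 0 := by exact_mod_cast hχ'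
    exact_mod_cast (by omega : a + b ≠ 0)
  obtain ⟨a, ha⟩ := exists_mc_zero_eq_succ (irr_isCharacter χ') h3 h5
  obtain ⟨b, hb⟩ := exists_nat_mc (hρ.sub_irr χ' hχ') 0
  obtain ⟨n, hn⟩ := exists_nat_mc (irr_isCharacter χ) 0
  have h6 := mc_ind_borel (irr_isClassFunction θ) h3 0
  rw [if_pos rfl, show ind (borel F) θ.1 = (ind (borel F) θ.1 - χ.1 - χ'.1) + χ'.1 + χ.1 by abel,
    mc_add, mc_add, ha, hb, hn] at h6
  rw [hn] at h ⊢
  have h7 : b + (a + 1) + n = 1 + 1 := by exact_mod_cast h6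
  have h8 : n ≠ 0 := by exact_mod_cast h
  exact_mod_cast (by omega : n = 1)

theorem card_le_two_mul_of_closed [DecidableEq F] {S : Finset F} {c : F} (hc : c ≠ 0)
    (h : ∀ a : F, a ≠ 0 → c * a ^ 2 ∈ S) : Fintype.card F - 1 ≤ 2 * S.card := by
  rw [← Finset.card_univ, ← Finset.card_erase_of_mem (Finset.mem_univ (0 : F))]
  refine Finset.card_le_mul_card_image_of_maps_to (f := fun a => c * a ^ 2)
    (fun a ha => h a (Finset.ne_of_mem_erase ha)) 2 fun b _ => ?_
  rcases Finset.eq_empty_or_nonempty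
    ((Finset.univ.erase (0 : F)).filter fun a => c * a ^ 2 = b) with h0 | ⟨a, ha⟩
  · rw [h0]; simp
  · refine le_trans (Finset.card_le_card (t := {a, -a}) fun x hx => ?_) Finset.card_le_two
    have h1 := (Finset.mem_filter.1 hx).2.trans (Finset.mem_filter.1 ha).2.symm
    have h2 := sq_eq_sq_iff_eq_or_eq_neg.1 (mul_left_cancel₀ hc h1)
    simpa using h2

theorem exists_degree_eq (χ : IrrCharacter (G2 F)) :
    ∃ s : ℕ, χ.1 1 = mc χ.1 0 + s ∧ (s = 0 ∨ 2 * s + 1 = Fintype.card F ∨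
      s + 1 = Fintype.card F) ∧ (s + 1 = Fintype.card F ↔ ∀ c ≠ 0, mc χ.1 c = 1) := by
  classical
  let S := (Finset.univ.erase (0 : F)).filter fun c => mc χ.1 c = 1
  let S' := (Finset.univ.erase (0 : F)).filter fun c => ¬ mc χ.1 c = 1
  have hSS : S.card + S'.card + 1 = Fintype.card F := by
    rw [Finset.card_filter_add_card_filter_not, Finset.card_erase_add_one (Finset.mem_univ _),
      Finset.card_univ]
  refine ⟨S.card, ?_, ?_, ?_⟩
  · rw [← sum_mc χ.1, ← Finset.add_sum_erase _ _ (Finset.mem_univ 0),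
      ← Finset.sum_filter_add_sum_filter_not _ (fun c => mc χ.1 c = 1),
      Finset.sum_congr rfl (s₁ := S) (g := fun _ => 1) fun c hc => (Finset.mem_filter.1 hc).2,
      Finset.sum_eq_zero (s := S') fun c hc => (mc_eq_zero_or_one χ
        (Finset.ne_of_mem_erase (Finset.mem_filter.1 hc).1)).resolve_right
        (Finset.mem_filter.1 hc).2]
    simp
  · rcases S.eq_empty_or_nonempty with h | ⟨c, hc⟩
    · exact Or.inl (by rw [h, Finset.card_empty])
    rcases S'.eq_empty_or_nonempty with h' | ⟨c', hc'⟩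
    · rw [h', Finset.card_empty] at hSS
      exact Or.inr (Or.inr hSS)
    have hc0 := Finset.ne_of_mem_erase (Finset.mem_filter.1 hc).1
    have hc0' := Finset.ne_of_mem_erase (Finset.mem_filter.1 hc').1
    have h1 := card_le_two_mul_of_closed (S := S) hc0 fun a ha => Finset.mem_filter.2
      ⟨Finset.mem_erase.2 ⟨mul_ne_zero hc0 (pow_ne_zero 2 ha), Finset.mem_univ _⟩, by
        rw [mc_mul_sq (irr_isClassFunction χ) ha]; exact (Finset.mem_filter.1 hc).2⟩
    have h2 := card_le_two_mul_of_closed (S := S') hc0' fun a ha => Finset.mem_filter.2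
      ⟨Finset.mem_erase.2 ⟨mul_ne_zero hc0' (pow_ne_zero 2 ha), Finset.mem_univ _⟩, by
        rw [mc_mul_sq (irr_isClassFunction χ) ha]; exact (Finset.mem_filter.1 hc').2⟩
    omega
  · constructor
    · intro h c hc
      by_contra h1
      have : S'.card ≠ 0 := Finset.card_ne_zero.2
        ⟨c, Finset.mem_filter.2 ⟨Finset.mem_erase.2 ⟨hc, Finset.mem_univ _⟩, h1⟩⟩
      omega
    · intro h
      have : S' = ∅ := Finset.filter_eq_empty_iff.2 fun c hc =>
        not_not.2 (h c (Finset.ne_of_mem_erase hc))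
      rw [this, Finset.card_empty] at hSS
      exact hSS

theorem mc_zero_cases (χ : IrrCharacter (G2 F)) :
    mc χ.1 0 = 0 ∨ mc χ.1 0 = 1 ∨ (mc χ.1 0 = 2 ∧ ∀ c ≠ 0, mc χ.1 c = 1) := by
  classical
  by_cases h : mc χ.1 0 = 0
  · exact Or.inl h
  obtain ⟨θ, -, h1, -, h2 | h2⟩ := exists_rest χ h
  · rw [sub_eq_zero] at h2
    refine Or.inr (Or.inr ⟨?_, fun c hc => ?_⟩)
    · rw [← h2, mc_ind_borel (irr_isClassFunction θ) h1, if_pos rfl]; norm_num
    · rw [← h2, mc_ind_borel (irr_isClassFunction θ) h1, if_neg hc, add_zero]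
  · exact Or.inr (Or.inl h2)

/-- The possible degrees of the irreducible characters of `SL₂(q)`. -/
theorem degree_cases (χ : IrrCharacter (G2 F)) :
    charDegree χ.1 = 1 ∨ charDegree χ.1 = Fintype.card F ∨ charDegree χ.1 = Fintype.card F + 1 ∨
      charDegree χ.1 + 1 = Fintype.card F ∨ 2 * charDegree χ.1 = Fintype.card F + 1 ∨
      2 * charDegree χ.1 + 1 = Fintype.card F := by
  obtain ⟨s, h1, h2, h3⟩ := exists_degree_eq χ
  have h0 := irr_degree_pos χ
  rw [irr_apply_one] at h1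
  rcases mc_zero_cases χ with h | h | ⟨h, h'⟩ <;> rw [h] at h1
  · have : charDegree χ.1 = s := by exact_mod_cast h1.trans (zero_add _)
    omega
  · have : charDegree χ.1 = 1 + s := by exact_mod_cast h1
    omega
  · have : charDegree χ.1 = 2 + s := by exact_mod_cast h1
    have := h3.2 h'
    omega

theorem degree_eq_or_dvd (χ : IrrCharacter (G2 F)) :
    charDegree χ.1 = Fintype.card F ∨ charDegree χ.1 ∣ Fintype.card F + 1 ∨
      charDegree χ.1 ∣ Fintype.card F - 1 := by
  rcases degree_cases χ with h | h | h | h | h | h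
  · exact Or.inr (Or.inl (by rw [h]; exact one_dvd _))
  · exact Or.inl h
  · exact Or.inr (Or.inl (by rw [h]))
  · exact Or.inr (Or.inr ⟨1, by omega⟩)
  · exact Or.inr (Or.inl ⟨2, by omega⟩)
  · exact Or.inr (Or.inr ⟨2, by omega⟩)

theorem exists_sq_ne_one (hF : 4 ≤ Fintype.card F) : ∃ a : F, a ≠ 0 ∧ a ^ 2 ≠ 1 := by
  classical
  by_contra h
  push Not at h
  have h1 : (Finset.univ : Finset F) ⊆ {0, 1, -1} := fun a _ => by
    by_cases ha : a = 0
    · simp [ha]
    · rcases mul_self_eq_one_iff.1 ((sq a).symm.trans (h a ha)) with h2 | h2 <;> simp [h2]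
  have h2 := (Finset.card_le_card h1).trans Finset.card_le_three
  rw [Finset.card_univ] at h2
  omega

theorem eq_of_degree_eq_card (hF : 4 ≤ Fintype.card F) (χ : IrrCharacter (G2 F))
    (h : charDegree χ.1 = Fintype.card F) :
    χ.1 = ind (borel F) (fun _ => 1) - fun _ => 1 := by
  classical
  obtain ⟨s, h1, h2, h3⟩ := exists_degree_eq χ
  rw [irr_apply_one, h] at h1
  have h0 : mc χ.1 0 ≠ 0 := fun h0 => by
    rw [h0, zero_add] at h1
    have : Fintype.card F = s := by exact_mod_cast h1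
    omega
  obtain ⟨θ, hθ1, hθ, hρ, -⟩ := exists_rest χ h0
  have h4 : charDegree (ind (borel F) θ.1 - χ.1) = 1 := by
    apply charDegree_eq_of_apply_one
    rw [Pi.sub_apply, ind_apply_one, irr_apply_one, irr_apply_one, hθ1, h, index_borel]
    push_cast; ring
  obtain ⟨a, ha, ha2⟩ := exists_sq_ne_one hF
  have h5 := commutator_eq_top_iff_forall_linear.1 (Matrix.SL2.commutator_eq_top ha ha2)
    ⟨_, hρ.isIrr_of_degree_one h4⟩ h4
  have h6 : ind (borel F) θ.1 - χ.1 = fun _ => 1 := congrArg Subtype.val h5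
  have h7 : θ = irrOne _ := by
    by_contra h7
    have h8 := ip_ind_left (borel F) θ.1 (χ := fun _ => 1) isCharacter_one.isClassFunction
    have h9 := ip_irr_ne h7
    rw [irrOne_val] at h9
    rw [res_one, h9, ← sub_add_cancel (ind (borel F) θ.1) χ.1, h6, ip_add_left] at h8
    have h10 : ip (fun _ : G2 F => (1 : ℂ)) (fun _ => 1) = 1 := ip_irr_self (irrOne _)
    obtain ⟨b, hb⟩ := (irr_isCharacter χ).exists_nat_ip isCharacter_one
    rw [h10, hb] at h8
    exact absurd (by exact_mod_cast h8 : 1 + b = 0) (by omega)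
  rw [h7] at h6
  rw [← h6, irrOne_val, sub_sub_cancel]

theorem center_le_ker_of_negOne (χ : IrrCharacter (G2 F)) (h : χ.1 (negOne F) = χ.1 1) :
    Subgroup.center (G2 F) ≤ ker χ.1 := by
  refine le_ker_irr_of_forall_apply_eq _ χ fun z hz => ?_
  rcases eq_of_mem_center hz with rfl | rfl
  · rfl
  · exact h

open scoped LinearAlgebra.Projectivization in
theorem exists_degree_card : ∃ χ : IrrCharacter (G2 F),
    Subgroup.center (G2 F) ≤ ker χ.1 ∧ charDegree χ.1 = Fintype.card F := by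
  have hc : Nat.card (ℙ F (Fin 2 → F)) = Fintype.card F + 1 := by
    rw [Projectivization.card_of_finrank_two F (Fin 2 → F) (by simp), Nat.card_eq_fintype_card]
  have : Nontrivial (ℙ F (Fin 2 → F)) := by
    rw [← Finite.one_lt_card_iff_nontrivial, hc]
    exact Nat.lt_succ_of_le Fintype.card_pos
  refine ⟨⟨_, isIrr_permChar_sub_one (G := G2 F) (X := ℙ F (Fin 2 → F)) inferInstance⟩,
    le_ker_irr_of_forall_apply_eq _ _ fun z hz => ?_, charDegree_eq_of_apply_one ?_⟩
  · rw [← Projectivization.SL_mulAction_ker, MonoidHom.mem_ker] at hz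
    simp only [Pi.sub_apply, permChar_apply']
    have : ∀ x : ℙ F (Fin 2 → F), z • x = x := fun x =>
      congrArg (fun σ : Equiv.Perm _ => σ x) hz
    simp only [this, one_smul]
  · simp only [Pi.sub_apply, permChar_apply_one, hc]
    push_cast; ring

theorem exists_degree_card_add_one (hF : ¬ Fintype.card F - 1 ∣ 4) : ∃ χ : IrrCharacter (G2 F),
    Subgroup.center (G2 F) ≤ ker χ.1 ∧ charDegree χ.1 = Fintype.card F + 1 ∧ mc χ.1 0 = 2 ∧
      ∀ c ≠ 0, mc χ.1 c = 1 := by
  classical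
  obtain ⟨μ, hμ⟩ := exists_injective_units_hom (G := Fˣ)
  obtain ⟨s, hs⟩ : ∃ s : Fˣ, s ^ 4 ≠ 1 := by
    by_contra h
    push Not at h
    apply hF
    rw [← Fintype.card_units, ← Nat.card_eq_fintype_card, ← IsCyclic.exponent_eq_card]
    exact Monoid.exponent_dvd_of_forall_pow_eq_one h
  let l : borel F →* ℂˣ := (μ ^ 2).comp (dHom F)
  have hl : ∀ b, l b = μ (dHom F b) ^ 2 := fun b => rfl
  have hθ := irr_isCharacter (linChar l)
  have hirr : IsIrrCharacter _ (ind (borel F) (linChar l).1) := by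
    rw [isIrr_ind_iff hθ]
    refine ⟨(linChar l).2, fun x hx => ?_⟩
    have hx' : slm x 1 0 ≠ 0 := hx
    have h1 : linChar (l.comp (mackeySub (borel F) (borel F) x).subtype) ≠
        linChar (l.comp (mackeyHom (borel F) (borel F) x)) := by
      intro h
      have h2 := linChar_injective h
      let m : borel F := ⟨m2 s (slm x 0 0 / slm x 1 0 * ((s : F)⁻¹ - s)) 0 (s : F)⁻¹
        (by simp), rfl⟩
      have hm : m ∈ mackeySub (borel F) (borel F) x := by
        rw [mem_mackeySub, mem_borel]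
        simp [m, mul_ent]
        field_simp
        ring
      have h3 := DFunLike.congr_fun h2 ⟨m, hm⟩
      have h4 : dHom F (mackeyHom (borel F) (borel F) x ⟨m, hm⟩) = s⁻¹ := by
        apply Units.ext
        rw [coe_dHom, mackeyHom_coe]
        have := det_ent x
        simp [m, mul_ent]
        field_simp
        linear_combination this
      have h5 : dHom F m = s := Units.ext rfl
      simp only [MonoidHom.comp_apply, Subgroup.coe_subtype, hl, h4, h5, ← map_pow] at h3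
      apply hs
      have h6 := hμ h3
      rw [inv_pow, eq_inv_iff_mul_eq_one, ← pow_add] at h6
      exact h6
    have h7 := ip_irr_ne h1
    rw [res_linChar]
    simpa only [linChar_val, MonoidHom.comp_apply] using h7
  have hu : ∀ x, (linChar l).1 (uB F (Multiplicative.ofAdd x)) = 1 := fun x => by
    rw [linChar_apply, hl, show dHom F (uB F (Multiplicative.ofAdd x)) = 1 from Units.ext rfl]
    simp
  refine ⟨⟨_, hirr⟩, center_le_ker_of_negOne _ ?_, ?_, ?_, fun c hc => ?_⟩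
  · simp only [ind_def]
    congr 1
    refine Finset.sum_congr rfl fun g _ => ?_
    rw [(Subgroup.mem_center_iff.1 negOne_mem_center g⁻¹), mul_assoc, inv_mul_cancel, mul_one,
      mul_one, inv_mul_cancel, extendByZero_of_mem _ _ (show negOne F ∈ borel F from rfl),
      extendByZero_of_mem _ _ (borel F).one_mem, linChar_apply, linChar_apply, hl, hl,
      ← map_pow μ, ← map_pow μ]
    refine congrArg (fun u : Fˣ => (μ u : ℂ)) (Units.ext ?_)
    simp [negOne]
  · simp only
    rw [charDegree_ind hθ, index_borel, charDegree_linChar, mul_one]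
  · simp only
    rw [mc_ind_borel hθ.isClassFunction hu, if_pos rfl]; norm_num
  · simp only
    rw [mc_ind_borel hθ.isClassFunction hu, if_neg hc, add_zero]

theorem card_conj_uu [DecidableEq F] {x : F} (hx : x ≠ 0) (y : F) :
    (Finset.univ.filter fun k : G2 F => k⁻¹ * uu x * k = uu y).card =
      Fintype.card F * (Finset.univ.filter fun d : F => d ≠ 0 ∧ y = x * d ^ 2).card := by
  rw [← Finset.card_univ, ← Finset.card_product]
  refine Finset.card_bij (fun k _ => (slm k 0 1, slm k 1 1)) (fun k hk => ?_)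
    (fun k hk k' hk' h => ?_) (fun ⟨b, d⟩ hd => ?_)
  · have h := (Finset.mem_filter.1 hk).2
    have h1 := congrArg (fun g => slm g 1 0) h
    have h2 := congrArg (fun g => slm g 0 1) h
    have h3 := det_ent k
    simp only [mul_ent, inv_00, inv_01, inv_10, inv_11, uu_00, uu_01, uu_10, uu_11] at h1 h2
    have h4 : x * slm k 1 0 ^ 2 = 0 := by linear_combination -h1
    have h5 := pow_eq_zero_iff two_ne_zero |>.1 ((mul_eq_zero.1 h4).resolve_left hx)
    rw [h5, mul_zero, sub_zero] at h3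
    simp only [Finset.mem_product, Finset.mem_univ, Finset.mem_filter, true_and]
    exact ⟨right_ne_zero_of_mul_eq_one h3, by linear_combination -h2⟩
  · have key : ∀ k : G2 F, k⁻¹ * uu x * k = uu y → slm k 1 0 = 0 := fun k h => by
      have h1 := congrArg (fun g => slm g 1 0) h
      simp only [mul_ent, inv_10, inv_11, uu_00, uu_01, uu_10, uu_11] at h1
      have h4 : x * slm k 1 0 ^ 2 = 0 := by linear_combination -h1
      exact pow_eq_zero_iff two_ne_zero |>.1 ((mul_eq_zero.1 h4).resolve_left hx)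
    have h1 := key k (Finset.mem_filter.1 hk).2
    have h2 := key k' (Finset.mem_filter.1 hk').2
    obtain ⟨h3, h4⟩ := Prod.mk.inj h
    have h5 := borel_det ⟨k, h1⟩
    have h6 := borel_det ⟨k', h2⟩
    simp only at h5 h6
    refine ext_ent ?_ h3 (h1.trans h2.symm) h4
    rw [← h4, ← h5] at h6
    exact (mul_right_cancel₀ (right_ne_zero_of_mul_eq_one h5) h6).symm
  · simp only [Finset.mem_product, Finset.mem_univ, Finset.mem_filter, true_and] at hd
    refine ⟨m2 d⁻¹ b 0 d (by simp [hd.1]), Finset.mem_filter.2 ⟨Finset.mem_univ _, ?_⟩, rfl⟩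
    refine ext_ent ?_ ?_ ?_ ?_ <;> simp [mul_ent, hd.1, hd.2]
    ring

theorem negOne_mul_uu_conj {x y : F} {k : G2 F} (h : k⁻¹ * (negOne F * uu x) * k = uu y) :
    negOne F = 1 := by
  have h1 := congrArg (fun g => slm g 0 0 + slm g 1 1) h
  have h2 := congrArg (fun g => slm g 0 0) h
  have h3 := congrArg (fun g => slm g 1 0) h
  have h4 := det_ent k
  simp only [mul_ent, inv_00, inv_01, inv_10, inv_11, uu_00, uu_01, uu_10, uu_11, negOne, m2_00,
    m2_01, m2_10, m2_11] at h1 h2 h3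
  have h5 : (2 : F) ^ 2 = 0 := by linear_combination -h1 - 2 * h4
  have h6 : (2 : F) = 0 := pow_eq_zero_iff two_ne_zero |>.1 h5
  have h7 : (-1 : F) = 1 := by linear_combination -h6
  exact ext_ent h7 rfl rfl h7

theorem sum_fc_mul_mc [DecidableEq F] (z : G2 F) (c c' : F) :
    ∑ χ : IrrCharacter (G2 F), (fc (fun x => χ.1 (z * uu x)) c - fc (fun x => χ.1 (z * uu x)) 0) *
      mc χ.1 c' = (Fintype.card F : ℂ)⁻¹ ^ 2 * ∑ x : F, ∑ y : F, (psi F (-(c * x)) - 1) *
        psi F (c' * y) * ((Finset.univ.filter fun k : G2 F => k⁻¹ * (z * uu x) * k = uu y).card :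
          ℂ) := by
  classical
  have h1 : ∀ χ : IrrCharacter (G2 F), mc χ.1 c' =
      (Fintype.card F : ℂ)⁻¹ * ∑ y : F, conj (χ.1 (uu y)) * psi F (c' * y) := fun χ => by
    obtain ⟨n, hn⟩ := exists_nat_mc (irr_isCharacter χ) c'
    have h2 : conj (mc χ.1 c') = mc χ.1 c' := by rw [hn, map_natCast]
    rw [← h2]
    simp only [mc, fc, map_mul, map_sum, map_inv₀, map_natCast, conj_psi, neg_neg]
  have h3 : ∀ g h : G2 F, ((Finset.univ.filter fun k : G2 F => k⁻¹ * g * k = h).card : ℂ) =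
      ∑ χ : IrrCharacter (G2 F), χ.1 g * conj (χ.1 h) := fun g h => by
    rw [sum_irr_mul_conj]
    convert card_filter_conj_eq g h
  simp only [h1, h3, fc, zero_mul, neg_zero,
    AddChar.map_zero_eq_one, ← mul_sub, ← Finset.sum_sub_distrib, Finset.mul_sum, Finset.sum_mul]
  rw [Finset.sum_comm]
  conv_rhs => rw [Finset.sum_comm]
  refine Finset.sum_congr rfl fun y _ => ?_
  rw [Finset.sum_comm]
  refine Finset.sum_congr rfl fun x _ => Finset.sum_congr rfl fun χ _ => ?_
  ring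

theorem sum_mc_mul (c : F) {c' : F} (hc' : c' ≠ 0) :
    ∃ n : ℕ, ∑ χ : IrrCharacter (G2 F), (mc χ.1 c - mc χ.1 0) * mc χ.1 c' = n := by
  classical
  refine ⟨(Finset.univ.filter fun d : F => d ≠ 0 ∧ c' * d ^ 2 - c = 0).card, ?_⟩
  have h1 := sum_fc_mul_mc (1 : G2 F) c c'
  simp only [one_mul] at h1
  rw [show (fun χ : IrrCharacter (G2 F) => (mc χ.1 c - mc χ.1 0) * mc χ.1 c') = fun χ =>
    (fc (fun x => χ.1 (uu x)) c - fc (fun x => χ.1 (uu x)) 0) * mc χ.1 c' from rfl, h1]
  have h2 : ∀ x : F, ∑ y : F, (psi F (-(c * x)) - 1) * psi F (c' * y) *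
      ((Finset.univ.filter fun k : G2 F => k⁻¹ * uu x * k = uu y).card : ℂ) =
      (Fintype.card F : ℂ) * ∑ d ∈ Finset.univ.filter (fun d : F => d ≠ 0),
        (psi F (x * (c' * d ^ 2 - c)) - psi F (x * (c' * d ^ 2))) := fun x => by
    by_cases hx : x = 0
    · simp [hx]
    simp only [card_conj_uu hx, Nat.cast_mul, Finset.card_filter, Nat.cast_sum, Finset.mul_sum,
      Finset.sum_filter]
    rw [Finset.sum_comm]
    refine Finset.sum_congr rfl fun d _ => ?_
    by_cases hd : d = 0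
    · simp [hd]
    · simp only [ne_eq, hd, not_false_eq_true, true_and, if_true, Nat.cast_ite, Nat.cast_one,
        Nat.cast_zero, mul_ite, mul_one, mul_zero, Finset.sum_ite_eq', Finset.mem_univ]
      rw [show x * (c' * d ^ 2 - c) = -(c * x) + c' * (x * d ^ 2) by ring, AddChar.map_add_eq_mul,
        show x * (c' * d ^ 2) = c' * (x * d ^ 2) by ring]
      ring
  simp only [h2, ← Finset.mul_sum]
  rw [Finset.sum_comm]
  simp only [Finset.sum_sub_distrib, sum_psi]
  rw [Finset.sum_eq_zero (f := fun d : F => if c' * d ^ 2 = 0 then (Fintype.card F : ℂ) else 0)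
    fun d hd => if_neg (mul_ne_zero hc' (pow_ne_zero 2 (Finset.mem_filter.1 hd).2)),
    ← Finset.sum_filter, Finset.filter_filter, Finset.sum_const, nsmul_eq_mul]
  field_simp [card_ne_zero (F := F)]
  ring

theorem sum_eps_mc_mul (c : F) {c' : F} (hc' : c' ≠ 0) :
    ∃ n : ℕ, ∑ χ : IrrCharacter (G2 F),
      (1 + χ.1 (negOne F) / χ.1 1) * ((mc χ.1 c - mc χ.1 0) * mc χ.1 c') = n := by
  classical
  obtain ⟨n, hn⟩ := sum_mc_mul c hc'
  simp only [add_mul, one_mul, Finset.sum_add_distrib, hn]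
  by_cases h : negOne F = 1
  · refine ⟨n + n, ?_⟩
    simp only [h, div_self (irr_apply_one_ne_zero _), one_mul, hn, Nat.cast_add]
  · refine ⟨n, ?_⟩
    have h1 := sum_fc_mul_mc (negOne F) c c'
    rw [Finset.sum_eq_zero (s := Finset.univ (α := F)), mul_zero] at h1
    · rw [add_eq_left, ← h1]
      refine Finset.sum_congr rfl fun χ _ => ?_
      simp only [irr_apply_central_mul χ negOne_mem_center, mc, fc, mul_assoc, ← Finset.mul_sum]
      ring
    · intro x _
      refine Finset.sum_eq_zero fun y _ => ?_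
      rw [Finset.filter_eq_empty_iff.2 fun k _ hk => h (negOne_mul_uu_conj hk)]
      simp

theorem exists_two_classes : ∃ c' : F, c' ≠ 0 ∧
    ∀ x : F, x ≠ 0 → ∃ a : F, a ≠ 0 ∧ (x = 1 * a ^ 2 ∨ x = c' * a ^ 2) := by
  classical
  obtain ⟨g, hg⟩ := IsCyclic.exists_generator (α := Fˣ)
  refine ⟨g, g.ne_zero, fun x hx => ?_⟩
  obtain ⟨k, hk⟩ := (mem_powers_iff_mem_zpowers.2 (hg (Units.mk0 x hx)))
  have hk' : (g : F) ^ k = x := by simpa using congrArg Units.val hk
  refine ⟨(g : F) ^ (k / 2), pow_ne_zero _ g.ne_zero, ?_⟩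
  rcases Nat.even_or_odd' k with ⟨m, rfl | rfl⟩
  · left; rw [← hk', Nat.mul_div_cancel_left _ two_pos]; ring
  · right; rw [← hk', show (2 * m + 1) / 2 = m by omega]; ring

theorem exists_degree_card_sub_one (hF : ¬ Fintype.card F - 1 ∣ 4) : ∃ χ : IrrCharacter (G2 F),
    Subgroup.center (G2 F) ≤ ker χ.1 ∧ charDegree χ.1 = Fintype.card F - 1 := by
  obtain ⟨c', hc', hcl⟩ := exists_two_classes (F := F)
  obtain ⟨n, hn⟩ := sum_eps_mc_mul 1 hc'
  obtain ⟨χ₀, h1, -, h2, h3⟩ := exists_degree_card_add_one hF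
  by_contra h
  push Not at h
  have key : ∀ χ : IrrCharacter (G2 F), ∃ t : ℤ, t ≤ 0 ∧ (χ = χ₀ → t < 0) ∧
      (1 + χ.1 (negOne F) / χ.1 1) * ((mc χ.1 1 - mc χ.1 0) * mc χ.1 c') = t := fun χ => by
    by_cases h0 : χ = χ₀
    · refine ⟨-2, by norm_num, fun _ => by norm_num, ?_⟩
      rw [h0, ker_apply_eq (h1 negOne_mem_center), div_self (irr_apply_one_ne_zero _), h2,
        h3 1 one_ne_zero, h3 c' hc']
      norm_num
    have h4 := irr_apply_central_mul χ negOne_mem_center (negOne F)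
    have h5 := irr_apply_one_ne_zero χ
    rw [negOne_mul_self] at h4
    have h6 : χ.1 (negOne F) / χ.1 1 * (χ.1 (negOne F) / χ.1 1) = 1 := by
      rw [mul_div_assoc', ← h4, div_self h5]
    rcases mul_self_eq_one_iff.1 h6 with h7 | h7
    swap
    · exact ⟨0, le_rfl, fun h => absurd h h0, by rw [h7]; simp⟩
    rcases mc_eq_zero_or_one χ hc' with h8 | h8
    · exact ⟨0, le_rfl, fun h => absurd h h0, by rw [h8]; simp⟩
    obtain ⟨m, hm⟩ := exists_nat_mc (irr_isCharacter χ) 0
    rcases mc_eq_zero_or_one χ one_ne_zero with h9 | h9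
    · exact ⟨-2 * m, by omega, fun h => absurd h h0, by rw [h7, h8, h9, hm]; push_cast; ring⟩
    rcases Nat.eq_zero_or_pos m with rfl | hm0
    · exfalso
      apply h χ (center_le_ker_of_negOne χ ((div_eq_one_iff_eq h5).1 h7))
      obtain ⟨s, h10, -, h11⟩ := exists_degree_eq χ
      have h12 := h11.2 fun x hx => by
        obtain ⟨a, ha, rfl | rfl⟩ := hcl x hx
        · rw [mc_mul_sq (irr_isClassFunction χ) ha, h9]
        · rw [mc_mul_sq (irr_isClassFunction χ) ha, h8]
      rw [hm, irr_apply_one] at h10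
      have : charDegree χ.1 = 0 + s := by exact_mod_cast h10
      omega
    · exact ⟨2 * (1 - m), by omega, fun h => absurd h h0,
        by rw [h7, h8, h9, hm]; push_cast; ring⟩
  choose t ht ht' ht'' using key
  simp only [ht''] at hn
  have h4 : ∑ χ, t χ = n := by exact_mod_cast hn
  have h5 : ∑ χ, t χ < 0 :=
    Finset.sum_neg' (fun χ _ => ht χ) ⟨χ₀, Finset.mem_univ _, ht' χ₀ rfl⟩
  omega

theorem mem_charDegrees_psl {d : ℕ} (h : ∃ χ : IrrCharacter (G2 F),
    Subgroup.center (G2 F) ≤ ker χ.1 ∧ charDegree χ.1 = d) :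
    d ∈ charDegrees (ProjectiveSpecialLinearGroup (Fin 2) F) := by
  obtain ⟨χ, h1, h2⟩ := h
  obtain ⟨ψ, rfl⟩ := (exists_inflate_eq_iff _ χ).2 h1
  exact ⟨ψ, by rwa [charDegree_inflate] at h2⟩

theorem charDegrees_facts (hF : ¬ Fintype.card F - 1 ∣ 4) {S : Type*} [Group S] [Finite S]
    (hS : Nonempty (S ≃* ProjectiveSpecialLinearGroup (Fin 2) F) ∨ Nonempty (S ≃* G2 F)) :
    (∀ d ∈ charDegrees S, d = Fintype.card F ∨ d ∣ Fintype.card F + 1 ∨ d ∣ Fintype.card F - 1) ∧
      Fintype.card F ∈ charDegrees S ∧ Fintype.card F + 1 ∈ charDegrees S ∧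
      Fintype.card F - 1 ∈ charDegrees S := by
  have h0 : charDegrees (ProjectiveSpecialLinearGroup (Fin 2) F) ⊆ charDegrees (G2 F) :=
    charDegrees_quotient_subset _
  have h1 : ∀ d ∈ charDegrees (G2 F), d = Fintype.card F ∨ d ∣ Fintype.card F + 1 ∨
      d ∣ Fintype.card F - 1 := by
    rintro _ ⟨χ, rfl⟩; exact degree_eq_or_dvd χ
  have h2 := mem_charDegrees_psl (exists_degree_card (F := F))
  have h3 : Fintype.card F + 1 ∈ charDegrees (ProjectiveSpecialLinearGroup (Fin 2) F) := by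
    obtain ⟨χ, h3, h4, -⟩ := exists_degree_card_add_one hF
    exact mem_charDegrees_psl ⟨χ, h3, h4⟩
  have h4 := mem_charDegrees_psl (exists_degree_card_sub_one hF)
  rcases hS with ⟨⟨e⟩⟩ | ⟨⟨e⟩⟩ <;> rw [charDegrees_congr e]
  · exact ⟨fun d hd => h1 d (h0 hd), h2, h3, h4⟩
  · exact ⟨h1, h0 h2, h0 h3, h0 h4⟩

theorem degreePrimes_eq {S : Type*} [Group S] {q : ℕ} (hq : 1 ≤ q)
    (h : (∀ d ∈ charDegrees S, d = q ∨ d ∣ q + 1 ∨ d ∣ q - 1) ∧ q ∈ charDegrees S ∧
      q + 1 ∈ charDegrees S ∧ q - 1 ∈ charDegrees S) :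
    degreePrimes S = {r : ℕ | r.Prime ∧ r ∣ q * (q ^ 2 - 1)} := by
  have hsq : q ^ 2 - 1 = (q + 1) * (q - 1) := by rw [← Nat.sq_sub_sq, one_pow]
  ext r
  simp only [degreePrimes, Set.mem_setOf_eq, hsq]
  refine and_congr_right fun hr => ⟨?_, fun h1 => ?_⟩
  · rintro ⟨d, hd, hrd⟩
    rcases h.1 d hd with rfl | h1 | h1
    · exact hrd.mul_right _
    · exact ((hrd.trans h1).mul_right _).mul_left _
    · exact ((hrd.trans h1).mul_left _).mul_left _
  · rcases (hr.dvd_mul).1 h1 with h2 | h2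
    · exact ⟨_, h.2.1, h2⟩
    · rcases (hr.dvd_mul).1 h2 with h3 | h3
      · exact ⟨_, h.2.2.1, h3⟩
      · exact ⟨_, h.2.2.2, h3⟩

theorem degreeGraph_adj {S : Type*} [Group S] {q t a : ℕ} (ht : t.Prime) (hq : q = t ^ a)
    (h : (∀ d ∈ charDegrees S, d = q ∨ d ∣ q + 1 ∨ d ∣ q - 1) ∧ q ∈ charDegrees S ∧
      q + 1 ∈ charDegrees S ∧ q - 1 ∈ charDegrees S) (r s : ℕ) :
    (degreeGraph S).Adj r s ↔ (r ≠ s ∧ r.Prime ∧ s.Prime ∧
      ((r ∣ q + 1 ∧ s ∣ q + 1) ∨ (r ∣ q - 1 ∧ s ∣ q - 1))) := by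
  refine and_congr_right fun hrs => and_congr_right fun hr => and_congr_right fun hs => ⟨?_, ?_⟩
  · rintro ⟨d, hd, hrd⟩
    have h1 := (dvd_mul_right r s).trans hrd
    have h2 := (dvd_mul_left s r).trans hrd
    rcases h.1 d hd with rfl | h3 | h3
    · rw [hq] at h1 h2
      exact absurd (((Nat.prime_dvd_prime_iff_eq hr ht).1 (hr.dvd_of_dvd_pow h1)).trans
        ((Nat.prime_dvd_prime_iff_eq hs ht).1 (hs.dvd_of_dvd_pow h2)).symm) hrs
    · exact Or.inl ⟨h1.trans h3, h2.trans h3⟩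
    · exact Or.inr ⟨h1.trans h3, h2.trans h3⟩
  · have hc := (Nat.coprime_primes hr hs).2 hrs
    rintro (⟨h1, h2⟩ | ⟨h1, h2⟩)
    · exact ⟨_, h.2.2.1, hc.mul_dvd_of_dvd_of_dvd h1 h2⟩
    · exact ⟨_, h.2.2.2, hc.mul_dvd_of_dvd_of_dvd h1 h2⟩

end CT.SL2
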