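import Cfsg.Agent.Lib.Char.SL2Deg
import Cfsg.Agent.Lib.Char.Values
import Cfsg.Agent.Lib.Char.Quot
import Mathlib.LinearAlgebra.Projectivization.PSL.PSL2

/-!
# Values of the characters of `SL₂(2ⁿ)` on involutions
-/

set_option autoImplicit false
set_option linter.unusedSectionVars false

namespace CT.SL2

open Cfsg CT LG Matrix

variable {F : Type*} [Field F]

theorem center_eq_bot_of_two (h2 : (2 : F) = 0) : Subgroup.center (G2 F) = ⊥ := by
  refine eq_bot_iff.2 fun z hz => Subgroup.mem_bot.2 ((eq_of_mem_center hz).elim id fun h => ?_)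
  rw [h]
  refine ext_ent ?_ rfl rfl ?_ <;> change (-1 : F) = 1 <;> linear_combination -h2

/-- `SL₂ = PSL₂` in characteristic two. -/
noncomputable def pslEquivOfTwo (h2 : (2 : F) = 0) :
    ProjectiveSpecialLinearGroup (Fin 2) F ≃* G2 F :=
  (QuotientGroup.quotientMulEquivOfEq (center_eq_bot_of_two h2)).trans QuotientGroup.quotientBot

variable [Fintype F]

theorem two_eq_zero_of_card {n : ℕ} (h : Fintype.card F = 2 ^ n) : (2 : F) = 0 := by
  have := FiniteField.cast_card_eq_zero F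
  rw [h, Nat.cast_pow] at this
  exact_mod_cast pow_eq_zero_iff'.1 this |>.1

theorem isConj_uu_of_two (h2 : (2 : F) = 0) {x : F} (hx : x ≠ 0) : IsConj (uu (1 : F)) (uu x) := by
  obtain ⟨a, rfl⟩ := FiniteField.isSquare_of_char_two
    (CharP.ringChar_of_prime_eq_zero Nat.prime_two (by exact_mod_cast h2)) x
  have ha := left_ne_zero_of_mul hx
  refine isConj_iff.2 ⟨m2 a 0 0 a⁻¹ (by field_simp; ring), ?_⟩
  refine ext_ent ?_ ?_ ?_ ?_ <;> simp [mul_ent, ha]

theorem isConj_uu_one (h2 : (2 : F) = 0) {s : G2 F} (hs : s * s = 1) (h1 : s ≠ 1) :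
    IsConj (uu (1 : F)) s := by
  have h3 : slm s 1 1 = slm s 0 0 := by rw [← inv_00, inv_eq_of_mul_eq_one_right hs]
  have h4 := det_ent s
  rw [h3] at h4
  by_cases hc : slm s 1 0 = 0
  · have h5 : slm s 0 0 = 1 := by
      rw [hc] at h4
      exact sub_eq_zero.1 (pow_eq_zero_iff two_ne_zero |>.1 (by
        linear_combination h4 + (1 - slm s 0 0) * h2))
    have h6 : s = uu (slm s 0 1) := ext_ent h5 rfl hc (h3.trans h5)
    rw [h6]
    exact isConj_uu_of_two h2 fun h => h1 (by rw [h6, h, uu_zero])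
  · refine (isConj_uu_of_two h2 (neg_ne_zero.2 (inv_ne_zero hc))).trans (isConj_iff.2
      ⟨m2 (slm s 0 0 + 1) (-(slm s 1 0)⁻¹) (slm s 1 0) 0 (by field_simp; ring), ?_⟩)
    rw [mul_inv_eq_iff_eq_mul]
    refine ext_ent ?_ ?_ ?_ ?_ <;> simp only [mul_ent, m2_00, m2_01, m2_10, m2_11, uu_00, uu_01,
      uu_10, uu_11, h3]
    · linear_combination h4 + (1 - slm s 0 0 * slm s 0 0) * h2
    · linear_combination (-(slm s 1 0)⁻¹) * h2
    · linear_combination (-slm s 1 0 * slm s 0 0) * h2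
    · ring

theorem apply_one_sub_apply_of_two (h2 : (2 : F) = 0) (hF : 4 ≤ Fintype.card F)
    {ψ : IrrCharacter (G2 F)} (hψ : ψ ≠ irrOne _) {s : G2 F} (hs : s * s = 1) (h1 : s ≠ 1) :
    ψ.1 1 - ψ.1 s = Fintype.card F := by
  classical
  have h3 : ∀ x : F, x ≠ 0 → ψ.1 (uu x) = ψ.1 s := fun x hx => (irr_isClassFunction ψ).of_isConj
    ((isConj_uu_of_two h2 hx).symm.trans (isConj_uu_one h2 hs h1))
  have h4 := sum_psi (F := F) (-1)
  rw [if_neg (by simp), ← Finset.add_sum_erase _ _ (Finset.mem_univ 0)] at h4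
  have h5 : (Fintype.card F : ℂ) * mc ψ.1 1 = ψ.1 1 - ψ.1 s := by
    rw [mc, fc, mul_inv_cancel_left₀ card_ne_zero, ← Finset.add_sum_erase _ _ (Finset.mem_univ 0),
      Finset.sum_congr rfl fun x hx => by rw [h3 x (Finset.ne_of_mem_erase hx)], ← Finset.mul_sum]
    simp only [uu_zero, mul_neg, mul_one, one_mul, neg_zero, AddChar.map_zero_eq_one] at h4 ⊢
    rw [eq_neg_of_add_eq_zero_right h4]; ring
  rcases mc_eq_zero_or_one ψ (one_ne_zero (α := F)) with h | h
  · have := ProjectiveSpecialLinearGroup.rank_two_simple (F := F) (by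
      rwa [Nat.card_eq_fintype_card])
    have := (pslEquivOfTwo h2).symm.isSimpleGroup
    rw [h, mul_zero, eq_comm, sub_eq_zero] at h5
    rcases (irr_ker_normal_inst ψ).eq_bot_or_eq_top with h6 | h6
    · exact absurd (Subgroup.mem_bot.1 (h6 ▸ (irr_mem_ker_iff ψ).2 h5.symm)) h1
    · exact absurd ((ker_irr_eq_top_iff ψ).1 h6) hψ
  · rw [← h5, h, mul_one]

end CT.SL2
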