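import Mathlib.Tactic

/-!
# The class equation of the dihedral case: arithmetic
-/

set_option autoImplicit false

namespace SAD

theorem arith_two {a b g p q : ℕ} (ha : 0 < a) (hb : 0 < b) (hg : 0 < g) (hq : 0 < q)
    (h : (p : ℚ) / q + 1 / g = 1 / (2 * a) + 1 / (2 * b)) :
    q * g * (a + b) = 2 * a * b * p * g + 2 * a * b * q ∧ 2 * a * b * p < q * (a + b) := by
  have h1 : q * g * (a + b) = 2 * a * b * p * g + 2 * a * b * q := by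
    have : (q * g * (a + b) : ℚ) = 2 * a * b * p * g + 2 * a * b * q := by
      field_simp at h; linear_combination -h
    exact_mod_cast this
  refine ⟨h1, lt_of_mul_lt_mul_left (a := g) ?_ (Nat.zero_le _)⟩
  have : 0 < 2 * a * b * q := by positivity
  nlinarith

theorem arith_one {a g p q : ℕ} (ha : 0 < a) (hg : 0 < g) (hq : 0 < q)
    (h : (p : ℚ) / q + 1 / g = 1 / (2 * a)) :
    q * g = 2 * a * p * g + 2 * a * q ∧ 2 * a * p < q := by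
  have h1 : q * g = 2 * a * p * g + 2 * a * q := by
    have : (q * g : ℚ) = 2 * a * p * g + 2 * a * q := by
      field_simp at h; linear_combination -h
    exact_mod_cast this
  refine ⟨h1, lt_of_mul_lt_mul_left (a := g) ?_ (Nat.zero_le _)⟩
  have : 0 < 2 * a * q := by positivity
  nlinarith

theorem arith_c5 {a b g : ℕ} (ha : 4 ≤ a) (hb : 3 ≤ b) (h4 : 4 ∣ a) (hba : b.Coprime a)
    (h5 : b.Coprime 5) (k : 5 * g * (a + b) = 2 * a * b * 1 * g + 2 * a * b * 5 ∧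
      2 * a * b * 1 < 5 * (a + b)) : False := by
  obtain ⟨k1, k2⟩ := k
  obtain ⟨a, rfl⟩ := h4
  have h1 : a ≤ 3 := by nlinarith
  have h1 : b ≤ 6 := by nlinarith
  interval_cases a <;> interval_cases b <;>
    first | omega | exact absurd hba (by decide) | exact absurd h5 (by decide)

theorem arith_c7 {a b g : ℕ} (ha : 4 ≤ a) (hb : 3 ≤ b) (h2 : 2 ∣ a) (hb2 : ¬ 2 ∣ b)
    (k : 7 * g * (a + b) = 2 * a * b * 2 * g + 2 * a * b * 7 ∧ 2 * a * b * 2 < 7 * (a + b)) :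
    a = 4 ∧ g = 168 := by
  obtain ⟨k1, k2⟩ := k
  have h1 : a ≤ 4 := by nlinarith
  obtain rfl : a = 4 := by omega
  obtain rfl : b = 3 := by omega
  omega

theorem arith_c7' {a b g : ℕ} (ha : 4 ≤ a) (hb : 3 ≤ b) (h6 : 6 ∣ a) (hba : b.Coprime a)
    (h7 : b.Coprime 7) (k : 7 * g * (a + b) = 2 * a * b * 1 * g + 2 * a * b * 7 ∧
      2 * a * b * 1 < 7 * (a + b)) : False := by
  obtain ⟨k1, k2⟩ := k
  obtain ⟨a, rfl⟩ := h6
  have h0 : 1 ≤ a := by omega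
  have h1 : b ≤ 8 := by nlinarith
  have h1 : 4 ≤ b := by
    by_contra hh
    obtain rfl : b = 3 := by omega
    exact absurd (Nat.eq_one_of_dvd_coprimes hba dvd_rfl ⟨2 * a, by ring⟩) (by norm_num)
  have h1 : a ≤ 4 := by nlinarith
  interval_cases a <;> interval_cases b <;>
    first | omega | exact absurd hba (by decide) | exact absurd h7 (by decide)

theorem arith_c9 {a b g : ℕ} (ha : 4 ≤ a) (hb : 3 ≤ b) (h2 : 2 ∣ a) (hb2 : ¬ 2 ∣ b)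
    (h9 : b.Coprime 9) (k : 9 * g * (a + b) = 2 * a * b * 2 * g + 2 * a * b * 9 ∧
      2 * a * b * 2 < 9 * (a + b)) : a = 4 ∧ b = 5 ∧ g = 360 := by
  obtain ⟨k1, k2⟩ := k
  have h1 : 5 ≤ b := by
    by_contra hh
    obtain rfl : b = 3 := by omega
    exact absurd h9 (by decide)
  have h1 : a ≤ 4 := by nlinarith
  obtain rfl : a = 4 := by omega
  obtain rfl : b = 5 := by omega
  omega

theorem arith_c9' {a b g : ℕ} (ha : 4 ≤ a) (hb : 3 ≤ b) (h8 : 8 ∣ a) (h3 : ¬ 3 ∣ a)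
    (hba : b.Coprime a) (h9 : b.Coprime 9) (k : 9 * g * (a + b) = 2 * a * b * 1 * g + 2 * a * b * 9 ∧
      2 * a * b * 1 < 9 * (a + b)) : False := by
  obtain ⟨k1, k2⟩ := k
  obtain ⟨a, rfl⟩ := h8
  have h0 : 1 ≤ a := by omega
  have h2 : ¬ 2 ∣ b := fun hh =>
    absurd (Nat.eq_one_of_dvd_coprimes hba hh ⟨4 * a, by ring⟩) (by norm_num)
  have h1 : 5 ≤ b := by
    by_contra hh
    obtain rfl : b = 3 := by omega
    exact absurd h9 (by decide)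
  have h1 : b ≤ 10 := by nlinarith
  have h1 : a ≤ 5 := by nlinarith
  interval_cases a <;> interval_cases b <;>
    first | omega | exact absurd hba (by decide) | exact absurd h9 (by decide)

theorem arith_c63 {a g : ℕ} (h4 : 4 ∣ a) (a0 : 0 < a) (h3 : ¬ 3 ∣ a) (h7 : ¬ 7 ∣ a) (g7 : 7 ∣ g)
    (g9 : 9 ∣ g) (k : 126 * g = 2 * a * 1 * g + 2 * a * 126 ∧ 2 * a * 1 < 126) : False := by
  obtain ⟨k1, k2⟩ := k
  obtain ⟨a, rfl⟩ := h4
  have h1 : a ≤ 15 := by omega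
  interval_cases a <;> omega

/-- the possible pairs `(|B|, |N(B) : B|)` -/
def Typ (a b e : ℕ) : Prop := e = 2 ∨ (b = 7 ∧ e = 3) ∨ (b = 7 ∧ e = 6 ∧ 6 ∣ a) ∨
  (b = 5 ∧ e = 4 ∧ 4 ∣ a) ∨ (b = 9 ∧ e = 4 ∧ 4 ∣ a) ∨ (b = 9 ∧ e = 8 ∧ 8 ∣ a)

theorem arith {a g : ℕ} {D : Finset ℕ} {e : ℕ → ℕ} (ha : 4 ≤ a) (h2 : 2 ∣ a) (hg : 2 * a ∣ g)
    (g0 : 0 < g) (hD : ∀ b ∈ D, 1 < b ∧ b.Coprime a ∧ b ∣ g ∧ Typ a b (e b))
    (hc : ∀ b ∈ D, ∀ b' ∈ D, b ≠ b' → b.Coprime b')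
    (h : (1 : ℚ) = 1 / g + (a - 1) / (2 * a) + ∑ b ∈ D, ((b : ℚ) - 1) / (e b * b)) :
    a = 4 ∧ ((g = 168 ∧ 7 ∈ D ∧ e 7 = 3) ∨ (g = 360 ∧ (∀ b ∈ D, b = 5 ∨ b = 9) ∧ 9 ∈ D ∧ e 9 = 4)) := by
  classical
  have a0 : 0 < a := by omega
  have a0' : (0 : ℚ) < a := by exact_mod_cast a0
  have g0' : (0 : ℚ) < 1 / g := by positivity
  have h3 : ∀ b ∈ D, 3 ≤ b := fun b hb => by
    obtain ⟨h1, h3, -⟩ := hD b hb
    by_contra hh
    obtain rfl : b = 2 := by omega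
    exact absurd (Nat.eq_one_of_dvd_coprimes h3 dvd_rfl h2) (by norm_num)
  have ha8 : (1 : ℚ) / (2 * a) ≤ 1 / 8 :=
    one_div_le_one_div_of_le (by norm_num) (by have : (4 : ℚ) ≤ a := by exact_mod_cast ha
                                               linarith)
  have hga : (1 : ℚ) / g ≤ 1 / (2 * a) :=
    one_div_le_one_div_of_le (by positivity) (by exact_mod_cast Nat.le_of_dvd g0 hg)
  have ea : ((a : ℚ) - 1) / (2 * a) = 1 / 2 - 1 / (2 * a) := by field_simp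
  rw [ea, ← Finset.sum_filter_add_sum_filter_not D fun b => e b = 2] at h
  set D2 := D.filter fun b => e b = 2
  set D3 := D.filter fun b => ¬ e b = 2
  have e2 : ∀ b ∈ D2, ((b : ℚ) - 1) / (e b * b) = 1 / 2 - 1 / (2 * b) ∧
      (1 : ℚ) / (2 * b) ≤ 1 / 6 := fun b hb => by
    obtain ⟨hb, he⟩ := Finset.mem_filter.1 hb
    have : (3 : ℚ) ≤ b := by exact_mod_cast h3 b hb
    exact ⟨by rw [he]; push_cast; field_simp,
      one_div_le_one_div_of_le (by norm_num) (by linarith)⟩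
  have hsub : D3 ⊆ {5, 7, 9} := fun b hb => by
    obtain ⟨hb, he⟩ := Finset.mem_filter.1 hb
    rcases (hD b hb).2.2.2 with h | h | h | h | h | h <;> first | exact absurd h he | simp [h.1]
  have e3 : ∑ b ∈ D3, ((b : ℚ) - 1) / (e b * b) =
      ∑ b ∈ ({5, 7, 9} : Finset ℕ), if b ∈ D3 then ((b : ℚ) - 1) / (e b * b) else 0 := by
    rw [← Finset.sum_filter, Finset.filter_mem_eq_inter, Finset.inter_eq_right.2 hsub]
  rw [e3, Finset.sum_insert (by norm_num), Finset.sum_pair (by norm_num)] at h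
  have t5 : 5 ∈ D3 → e 5 = 4 ∧ 4 ∣ a ∧ ¬ 5 ∣ a := fun hb => by
    obtain ⟨hb, he⟩ := Finset.mem_filter.1 hb
    obtain ⟨-, h1, -, h4⟩ := hD _ hb
    have := (Nat.Prime.coprime_iff_not_dvd Nat.prime_five).1 h1
    rcases h4 with h | h | h | h | h | h <;> omega
  have t7 : 7 ∈ D3 → e 7 = 3 ∨ (e 7 = 6 ∧ 6 ∣ a) := fun hb => by
    obtain ⟨hb, he⟩ := Finset.mem_filter.1 hb
    rcases (hD _ hb).2.2.2 with h | h | h | h | h | h <;> omega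
  have t9 : 9 ∈ D3 → ¬ 3 ∣ a ∧ ((e 9 = 4 ∧ 4 ∣ a) ∨ (e 9 = 8 ∧ 8 ∣ a)) := fun hb => by
    obtain ⟨hb, he⟩ := Finset.mem_filter.1 hb
    obtain ⟨-, h1, -, h4⟩ := hD _ hb
    have := (Nat.Prime.coprime_iff_not_dvd Nat.prime_three).1
      (h1.coprime_dvd_left (by norm_num : 3 ∣ 9))
    rcases h4 with h | h | h | h | h | h <;> omega
  have hT : ∃ T : ℚ, (T = (if 5 ∈ D3 then ((5 : ℕ) - 1 : ℚ) / (e 5 * (5 : ℕ)) else 0) +
      ((if 7 ∈ D3 then ((7 : ℕ) - 1 : ℚ) / (e 7 * (7 : ℕ)) else 0) +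
      (if 9 ∈ D3 then ((9 : ℕ) - 1 : ℚ) / (e 9 * (9 : ℕ)) else 0))) ∧
      (T = 0 ∨ (T = 1 / 5 ∧ 5 ∈ D3 ∧ 4 ∣ a ∧ ¬ 5 ∣ a) ∨ (T = 2 / 7 ∧ 7 ∈ D3 ∧ e 7 = 3) ∨
        (T = 1 / 7 ∧ 7 ∈ D3 ∧ 6 ∣ a) ∨
        (T = 2 / 9 ∧ 9 ∈ D3 ∧ 5 ∉ D3 ∧ 7 ∉ D3 ∧ e 9 = 4 ∧ 4 ∣ a ∧ ¬ 3 ∣ a) ∨
        (T = 1 / 9 ∧ 9 ∈ D3 ∧ 8 ∣ a ∧ ¬ 3 ∣ a) ∨ (7 / 24 ≤ T ∧ T < 1 / 2) ∨
        (T = 1 / 2 + 1 / 126 ∧ 7 ∈ D3 ∧ 9 ∈ D3 ∧ 4 ∣ a) ∨ (T = 1 / 2 + 61 / 630 ∧ 8 ∣ a) ∨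
        5 / 8 ≤ T) := by
    refine ⟨_, rfl, ?_⟩
    by_cases m5 : 5 ∈ D3 <;> by_cases m7 : 7 ∈ D3 <;> by_cases m9 : 9 ∈ D3 <;>
      simp only [m5, m7, m9, if_true, if_false] <;>
      [skip; skip; skip; skip; skip; skip; skip; norm_num]
    · obtain ⟨k5, -⟩ := t5 m5
      obtain ⟨k3, ⟨k9, k⟩ | ⟨k9, k⟩⟩ := t9 m9 <;> obtain k7 | ⟨k7, k6⟩ := t7 m7 <;>
        first | omega | (rw [k5, k7, k9]; norm_num [k])
    · obtain ⟨k5, -⟩ := t5 m5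
      obtain k7 | ⟨k7, k6⟩ := t7 m7 <;> (rw [k5, k7]; norm_num)
    · obtain ⟨k5, -⟩ := t5 m5
      obtain ⟨k3, ⟨k9, k⟩ | ⟨k9, k⟩⟩ := t9 m9 <;> (rw [k5, k9]; norm_num)
    · obtain ⟨k5, k⟩ := t5 m5
      rw [k5]; norm_num [k]
    · obtain ⟨k3, ⟨k9, k⟩ | ⟨k9, k⟩⟩ := t9 m9 <;> obtain k7 | ⟨k7, k6⟩ := t7 m7 <;>
        first | omega | (rw [k7, k9]; norm_num [k])
    · obtain k7 | ⟨k7, k6⟩ := t7 m7 <;> (rw [k7]; norm_num [*])
    · obtain ⟨k3, ⟨k9, k⟩ | ⟨k9, k⟩⟩ := t9 m9 <;> (rw [k9]; norm_num [*])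
  obtain ⟨T, hT, hT'⟩ := hT
  rw [← hT] at h
  have T0 : 0 ≤ T := by
    rcases hT' with h | h | h | h | h | h | h | h | h | h <;> linarith
  have hcard : D2.card ≤ 1 := by
    have : ∑ b ∈ D2, (1 / 3 : ℚ) ≤ ∑ b ∈ D2, ((b : ℚ) - 1) / (e b * b) :=
      Finset.sum_le_sum fun b hb => by rw [(e2 b hb).1]; linarith [(e2 b hb).2]
    rw [Finset.sum_const, nsmul_eq_mul] at this
    by_contra hh
    have : (2 : ℚ) ≤ D2.card := by exact_mod_cast (by omega : 2 ≤ D2.card)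
    linarith
  have mem3 : ∀ {b}, b ∈ D3 → b ∈ D := fun hb => (Finset.mem_filter.1 hb).1
  rcases Finset.card_le_one_iff_subset_singleton.1 hcard with ⟨b, hb⟩
  rcases Finset.subset_singleton_iff.1 hb with h0 | h0
  · rw [h0, Finset.sum_empty] at h
    exfalso
    rcases hT' with k | k | k | k | k | k | k | k | k | k
    any_goals linarith
    · exact arith_c63 k.2.2.2 a0 (t9 k.2.2.1).1 ((Nat.Prime.coprime_iff_not_dvd (by norm_num)).1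
        (hD _ (mem3 k.2.1)).2.1) (hD _ (mem3 k.2.1)).2.2.1 (hD _ (mem3 k.2.2.1)).2.2.1
        (arith_one a0 g0 (by norm_num) (by push_cast; linarith [k.1]))
    · obtain ⟨k1, k2⟩ := arith_one (p := 61) (q := 630) a0 g0 (by norm_num)
        (by push_cast; linarith [k.1])
      omega
  have hb2 : b ∈ D2 := h0 ▸ Finset.mem_singleton_self b
  obtain ⟨hbD, hbe⟩ := Finset.mem_filter.1 hb2
  rw [h0, Finset.sum_singleton, (e2 b hb2).1] at h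
  have hb6 := (e2 b hb2).2
  have hb3 := h3 b hbD
  have b0 : 0 < b := by omega
  have b0' : (0 : ℚ) < 1 / (2 * b) := by positivity
  have hba := (hD b hbD).2.1
  have hb2' : ¬ 2 ∣ b := fun hh => absurd (Nat.eq_one_of_dvd_coprimes hba hh h2) (by norm_num)
  have cop : ∀ {b'}, b' ∈ D3 → b.Coprime b' := fun hb' => hc _ hbD _ (mem3 hb') fun e' =>
    (Finset.mem_filter.1 hb').2 (e' ▸ hbe)
  rcases hT' with k | k | k | k | k | k | k | k | k | k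
  any_goals (exfalso; linarith)
  · exact (arith_c5 ha hb3 k.2.2.1 hba (cop k.2.1) (arith_two a0 b0 g0 (by norm_num)
      (by push_cast; linarith [k.1]))).elim
  · obtain ⟨k1, k2⟩ := arith_c7 ha hb3 h2 hb2' (arith_two a0 b0 g0 (by norm_num)
      (by push_cast; linarith [k.1]))
    exact ⟨k1, .inl ⟨k2, mem3 k.2.1, k.2.2⟩⟩
  · exact (arith_c7' ha hb3 k.2.2 hba (cop k.2.1) (arith_two a0 b0 g0 (by norm_num)
      (by push_cast; linarith [k.1]))).elim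
  · obtain ⟨k1, rfl, k2⟩ := arith_c9 ha hb3 h2 hb2' (cop k.2.1) (arith_two a0 b0 g0 (by norm_num)
      (by push_cast; linarith [k.1]))
    obtain ⟨-, k9, k5, k7, k4, -⟩ := k
    refine ⟨k1, .inr ⟨k2, fun b hb => ?_, mem3 k9, k4⟩⟩
    by_cases he : e b = 2
    · exact .inl (Finset.mem_singleton.1 (h0 ▸ Finset.mem_filter.2 ⟨hb, he⟩))
    · have hb3 : b ∈ D3 := Finset.mem_filter.2 ⟨hb, he⟩
      have := hsub hb3
      simp only [Finset.mem_insert, Finset.mem_singleton] at this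
      rcases this with rfl | rfl | rfl
      exacts [absurd hb3 k5, absurd hb3 k7, .inr rfl]
  · exact (arith_c9' ha hb3 k.2.2.1 k.2.2.2 hba (cop k.2.1) (arith_two a0 b0 g0 (by norm_num)
      (by push_cast; linarith [k.1]))).elim

end SAD
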