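import Cfsg.Agent.Lib.Char.SadSt
import Cfsg.Agent.Lib.Grp.PSL2Rec

/-!
# Simple groups with small average degrees: the primes not dividing `|A|`
-/

set_option autoImplicit false
set_option linter.unusedSectionVars false

namespace SAD

open Cfsg GT FT Subgroup
open scoped Pointwise commutatorElement

universe u

section General

variable {G : Type*} [Group G] [Finite G]

theorem exists_sylow_le {B : Subgroup G} {p : ℕ} [hp : Fact p.Prime] (hd : p ∣ Nat.card B)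
    (h : ∀ y ∈ B, y ≠ 1 → IsPElt p y → 𝐂[y] = B) : ∃ P, IsSylowIn p P ⊤ ∧ P ≤ B := by
  obtain ⟨⟨y, hy⟩, ho⟩ := exists_prime_orderOf_dvd_card' p hd
  replace ho : orderOf y = p := by rwa [← Subgroup.orderOf_coe] at ho
  have hy1 : y ≠ 1 := fun e => hp.out.one_lt.ne (by rw [← ho, e, orderOf_one])
  have hyp : IsPElt p y := ⟨1, by rw [pow_one]; exact ho⟩
  obtain ⟨P, hP, hle⟩ := exists_isSylowIn_ge hyp.isPGroup_zpowers le_top
  have hyP : y ∈ P := hle (mem_zpowers y)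
  obtain ⟨⟨z, hz⟩, hz1⟩ := ne_bot_iff_exists_ne_one.1 (inf_centralizer_ne_bot_of_isPGroup hP.isPGroup
    hP.isPGroup (fun e => hy1 (mem_bot.1 (e ▸ hyP))) le_normalizer)
  have hzB : z ∈ B := h y hy hy1 hyp ▸ cent_le_cent1 hyP hz.2
  exact ⟨P, hP, h z hzB (fun e => hz1 (Subtype.ext e)) (isPElt_of_mem hP.isPGroup hz.1) ▸
    le_cent1_iff.2 hz.2⟩

theorem exists_prime_pow {y : G} (hy : y ≠ 1) :
    ∃ y0 ∈ zpowers y, (orderOf y0).Prime ∧ orderOf y0 ∣ orderOf y := by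
  obtain ⟨p, hp, hd⟩ := Nat.exists_prime_and_dvd (mt orderOf_eq_one_iff.1 hy)
  haveI := Fact.mk hp
  obtain ⟨⟨y0, h0⟩, ho⟩ := exists_prime_orderOf_dvd_card' (G := zpowers y) p
    (by rwa [Nat.card_zpowers])
  rw [← Subgroup.orderOf_coe] at ho
  exact ⟨y0, h0, ho ▸ hp, ho ▸ hd⟩

theorem exists_orderOf_eq {B : Subgroup G} {p : ℕ} (hp : p.Prime) (hd : p ∣ Nat.card B) :
    ∃ y ∈ B, orderOf y = p := by
  haveI := Fact.mk hp
  obtain ⟨⟨y, hy⟩, ho⟩ := exists_prime_orderOf_dvd_card' p hd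
  exact ⟨y, hy, by rwa [← Subgroup.orderOf_coe] at ho⟩

theorem zpowers_eq_of_card_prime {B : Subgroup G} (hB : (Nat.card B).Prime) {w : G} (hw : w ∈ B)
    (h1 : w ≠ 1) : zpowers w = B :=
  eq_of_le_of_card_ge (zpowers_le.2 hw) (by
    rw [Nat.card_zpowers, ((Nat.dvd_prime hB).1 (B.orderOf_dvd_natCard hw)).resolve_left
      (mt orderOf_eq_one_iff.1 h1)])

theorem cent1_le_of_mem_zpowers {y y0 : G} (h : y0 ∈ zpowers y) : 𝐂[y] ≤ 𝐂[y0] := fun _ hg =>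
  mem_cent1.2 (commute_of_mem_zpowers h (mem_cent1.1 hg).symm).symm

theorem mem_norm_cent1_of_inv {y u : G} (h : u * y * u⁻¹ = y⁻¹) : u ∈ 𝐍(𝐂[y]) := by
  rw [← conj_smul_eq_iff_mem_normalizer, conj_smul_centralizer_singleton, h]
  exact le_antisymm (cent1_le_of_mem_zpowers (by simp)) (cent1_le_of_mem_zpowers (by simp))

theorem ncard_clSupp {A : Set G} {L : Subgroup G}
    (hn : ∀ g ∈ L, ∀ a ∈ A, g * a * g⁻¹ ∈ A) (hti : ∀ g : G, ∀ a ∈ A, g * a * g⁻¹ ∈ A → g ∈ L) :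
    (clSupp A ⊤).ncard = A.ncard * L.index := by
  rw [index, ← Nat.card_coe_set_eq, ← Nat.card_coe_set_eq, ← Nat.card_prod]
  refine (Nat.card_congr (Equiv.ofBijective
    (fun p : A × (G ⧸ L) => (⟨p.2.out * p.1 * p.2.out⁻¹, p.1, p.1.2, p.2.out, mem_top _, rfl⟩ :
      clSupp A ⊤)) ⟨?_, ?_⟩)).symm
  · rintro ⟨a, q⟩ ⟨b, r⟩ e
    have e1 : q.out * a * q.out⁻¹ = r.out * b * r.out⁻¹ := congrArg Subtype.val e
    have e2 : r.out⁻¹ * q.out * a * (r.out⁻¹ * q.out)⁻¹ = b := by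
      calc _ = r.out⁻¹ * (q.out * a * q.out⁻¹) * r.out := by group
        _ = b := by rw [e1]; group
    obtain rfl : r = q := by
      rw [← QuotientGroup.out_eq' q, ← QuotientGroup.out_eq' r, QuotientGroup.eq]
      exact hti _ a a.2 (e2 ▸ b.2)
    obtain rfl : a = b := Subtype.ext (by simpa using e2)
    rfl
  · rintro ⟨_, a, ha, g, -, rfl⟩
    obtain ⟨m, hm⟩ := QuotientGroup.mk_out_eq_mul L g
    refine ⟨(⟨_, hn _ (inv_mem m.2) a ha⟩, (g : G ⧸ L)), Subtype.ext ?_⟩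
    change _ * _ * _ = _
    rw [hm]; group

theorem ncard_sharp_add_one (H : Subgroup G) : (sharp H).ncard + 1 = Nat.card H := by
  have : (H : Set G) = insert 1 (sharp H) := by
    ext x; by_cases hx : x = 1 <;> simp [mem_sharp, hx]
  rw [← Set.ncard_insert_of_notMem (a := 1) (by simp [mem_sharp]), ← this, ← Nat.card_coe_set_eq]
  rfl

/-- One class of involutions whose centralizers consist of `A` and further involutions. -/
structure Gen (A : Subgroup G) (t : G) : Prop where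
  tt : t * t = 1
  t1 : t ≠ 1
  conj : ∀ u : G, u * u = 1 → u ≠ 1 → IsConj t u
  tA : t ∈ A
  out : ∀ g ∈ 𝐂[t], g ∉ A → g * g = 1
  cent : ∀ y ∈ A, y * y ≠ 1 → 𝐂[y] = A

theorem Dih.mul_s {A : Subgroup G} {t s : G} (d : Dih A t s) {g : G} (hg : g ∈ 𝐂[t])
    (hA : g ∉ A) : g * s ∈ A := by
  have := (Subgroup.mul_mem_iff_of_index_two (H := A.subgroupOf 𝐂[t]) d.index
    (a := ⟨g, hg⟩) (b := ⟨s, d.sC⟩)).2 (by simp [mem_subgroupOf, hA, d.sA])
  exact this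

theorem Dih.conj_out {A : Subgroup G} {t s : G} (d : Dih A t s) {g : G} (hg : g ∈ 𝐂[t])
    (hA : g ∉ A) {a : G} (ha : a ∈ A) : g * a * g⁻¹ = a⁻¹ := by
  have h1 := d.mul_s hg hA
  have h2 := (isMulCommutative_iff_forall.1 d.comm) _ h1 _ (inv_mem ha)
  calc g * a * g⁻¹ = g * s * (s * a * s⁻¹) * (g * s)⁻¹ := by
        rw [show g * s * (s * a * s⁻¹) * (g * s)⁻¹ = g * (s * s) * a * (s * s)⁻¹ * g⁻¹ by group,
          d.ss]; group
    _ = _ := by rw [d.inv a ha, h2]; group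

theorem Dih.out {A : Subgroup G} {t s : G} (d : Dih A t s) {g : G} (hg : g ∈ 𝐂[t])
    (hA : g ∉ A) : g * g = 1 := by
  have h := d.inv _ (d.mul_s hg hA)
  calc g * g = g * s * (s * (g * s) * s⁻¹) := by
        rw [show g * s * (s * (g * s) * s⁻¹) = g * (s * s) * g by group, d.ss, mul_one]
    _ = 1 := by rw [h, mul_inv_cancel]

theorem Dih.gen {A : Subgroup G} {t s : G} (d : Dih A t s) : Gen A t :=
  ⟨d.tt, d.t1, d.conj, d.tA, fun _ => d.out, fun y hy h => d.cent y hy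
    (by rintro rfl; exact h (mul_one _)) (by rintro rfl; exact h d.tt)⟩

theorem eq_one_of_odd {y : G} (h : y * y = 1) (ho : ¬ 2 ∣ orderOf y) : y = 1 := by
  by_contra h1
  exact ho (orderOf_eq_prime (by rw [pow_two, h]) h1 ▸ dvd_rfl)

/-- elements outside the conjugates of `C(t)` -/
def Ap (A : Subgroup G) (y : G) : Prop := y ≠ 1 ∧ (orderOf y).Coprime (Nat.card A)

/-- strongly real elements -/
def Re (y : G) : Prop := ∃ u, u * u = 1 ∧ u ≠ 1 ∧ u * y * u⁻¹ = y⁻¹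

theorem Ap.conj {A : Subgroup G} {y : G} (h : Ap A y) (g : G) : Ap A (g * y * g⁻¹) :=
  ⟨mt conj_eq_one_iff.1 h.1, by rw [orderOf_conj']; exact h.2⟩

theorem Re.conj {y : G} (h : Re y) (g : G) : Re (g * y * g⁻¹) := by
  obtain ⟨u, hu, h1, h⟩ := h
  exact ⟨g * u * g⁻¹, by rw [conj_mul, hu]; group, mt conj_eq_one_iff.1 h1, by
    rw [show g * u * g⁻¹ * (g * y * g⁻¹) * (g * u * g⁻¹)⁻¹ = g * (u * y * u⁻¹) * g⁻¹ by group, h]
    group⟩

namespace Gen

variable {A : Subgroup G} {t : G} (c : Gen A t)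
include c

theorem even : 2 ∣ Nat.card A :=
  orderOf_eq_prime (by rw [pow_two, c.tt]) c.t1 ▸ A.orderOf_dvd_natCard c.tA

theorem exists_conj_mem {w : G} (hw : (orderOf w).Prime) (hd : orderOf w ∣ Nat.card A) :
    ∃ g, g * w * g⁻¹ ∈ A ∧ ∀ y ∈ 𝐂[w], y * y ≠ 1 → g * y * g⁻¹ ∈ A := by
  have hw1 : w ≠ 1 := fun e => hw.one_lt.ne (by rw [e, orderOf_one])
  have key : ∀ g y, y ∈ 𝐂[w] → g * y * g⁻¹ ∈ 𝐂[g * w * g⁻¹] := fun g y hy => by
    rw [← conj_smul_centralizer_singleton]; exact conj_mem_conj_smul.2 hy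
  by_cases h2 : orderOf w = 2
  · obtain ⟨g, hg⟩ := isConj_iff.1 (c.conj w (by rw [← pow_two, ← h2, pow_orderOf_eq_one]) hw1).symm
    refine ⟨g, hg ▸ c.tA, fun y hy h => by_contra fun hA => h ?_⟩
    have := c.out _ (hg ▸ key g y hy) hA
    rwa [conj_mul, conj_eq_one_iff] at this
  · haveI := Fact.mk hw
    have odd : ∀ y : G, y ≠ 1 → IsPElt (orderOf w) y → y * y ≠ 1 := fun y h1 hy h =>
      h2 ((Nat.prime_dvd_prime_iff_eq hw Nat.prime_two).1
        ((hy.dvd_orderOf h1).trans (orderOf_dvd_of_pow_eq_one (by rw [pow_two, h]))))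
    obtain ⟨P, hP, hPA⟩ := exists_sylow_le hd fun y hy h1 hp => c.cent y hy (odd y h1 hp)
    have hwp : IsPElt (orderOf w) w := ⟨1, (pow_one _).symm⟩
    obtain ⟨g, -, hg⟩ := hP.exists_conj_mem hwp (mem_top w)
    exact ⟨g, hPA hg, fun y hy _ => c.cent _ (hPA hg)
      (odd _ (mt conj_eq_one_iff.1 hw1) (hwp.conj g)) ▸ key g y hy⟩

theorem odd {y : G} (h : Ap A y) : ¬ 2 ∣ orderOf y := fun h2 =>
  absurd (Nat.eq_one_of_dvd_coprimes h.2 h2 c.even) (by norm_num)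

theorem sq_ne {y : G} (h : Ap A y) : y * y ≠ 1 := fun e => h.1 (eq_one_of_odd e (c.odd h))

theorem cop {y : G} (h : Ap A y) : (Nat.card 𝐂[y]).Coprime (Nat.card A) := by
  refine Nat.coprime_of_dvd fun p hp h1 h2 => ?_
  obtain ⟨w, hw, rfl⟩ := exists_orderOf_eq hp h1
  obtain ⟨g, -, hg⟩ := c.exists_conj_mem hp h2
  have := A.orderOf_dvd_natCard (hg y (mem_cent1_comm.1 hw) (c.sq_ne h))
  rw [orderOf_conj'] at this
  exact h.1 (orderOf_eq_one_iff.1 (Nat.eq_one_of_dvd_coprimes h.2 dvd_rfl this))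

theorem ap_of_mem {y b : G} (h : Ap A y) (hb : b ∈ 𝐂[y]) (h1 : b ≠ 1) : Ap A b :=
  ⟨h1, (c.cop h).coprime_dvd_left (Subgroup.orderOf_dvd_natCard _ hb)⟩

theorem not_two {y : G} (h : Ap A y) : ¬ 2 ∣ Nat.card 𝐂[y] := fun h2 =>
  absurd (Nat.eq_one_of_dvd_coprimes (c.cop h) h2 c.even) (by norm_num)

theorem not_comm {y u : G} (h : Ap A y) (hu : u * u = 1) (h1 : u ≠ 1) : y * u ≠ u * y := fun e =>
  c.not_two h (orderOf_eq_prime (by rw [pow_two, hu]) h1 ▸ Subgroup.orderOf_dvd_natCard _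
    (mem_cent1.2 e.symm))

theorem inv_of_norm {B : Subgroup G} (hB : (Nat.card B).Coprime (Nat.card A)) {u : G}
    (hu : u * u = 1) (h1 : u ≠ 1) (hn : u ∈ 𝐍(B)) {b : G} (hb : b ∈ B) : u * b * u⁻¹ = b⁻¹ :=
  conj_eq_inv_of_fpf hn (fun n hn e => by_contra fun h => c.not_comm
    ⟨h, hB.coprime_dvd_left (Subgroup.orderOf_dvd_natCard _ hn)⟩ hu h1 e)
    (by rw [pow_two, hu]; exact one_mem _) hb

theorem re_of_mem {y b : G} (h : Re y) (hy : Ap A y) (hb : b ∈ 𝐂[y]) : Re b := by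
  obtain ⟨u, hu, h1, h⟩ := h
  exact ⟨u, hu, h1, c.inv_of_norm (c.cop hy) hu h1 (mem_norm_cent1_of_inv h) hb⟩

theorem re_comm {y : G} (h : Re y) (hy : Ap A y) : IsMulCommutative 𝐂[y] := by
  obtain ⟨u, hu, h1, h⟩ := h
  exact isMulCommutative_of_conj_eq_inv fun b hb =>
    c.inv_of_norm (c.cop hy) hu h1 (mem_norm_cent1_of_inv h) hb

theorem re_cc {y b : G} (h : Re y) (hy : Ap A y) (hb : b ∈ 𝐂[y]) (h1 : b ≠ 1) : 𝐂[b] = 𝐂[y] :=
  le_antisymm (le_cent1_iff.2 (comm_iff_le_cent.1 (c.re_comm (c.re_of_mem h hy hb)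
    (c.ap_of_mem hy hb h1)) (mem_cent1_comm.1 hb)))
    (le_cent1_iff.2 (comm_iff_le_cent.1 (c.re_comm h hy) hb))

/-- all `p`-elements are real if one of them is -/
theorem re_of_isPElt {y w : G} {p : ℕ} [Fact p.Prime] (h : Re y) (hy : Ap A y)
    (hd : p ∣ Nat.card 𝐂[y]) (hw : IsPElt p w) : Re w := by
  obtain ⟨P, hP, hle⟩ := exists_sylow_le hd fun b hb h1 _ => c.re_cc h hy hb h1
  obtain ⟨g, -, hg⟩ := hP.exists_conj_mem hw (mem_top w)
  have := (c.re_of_mem h hy (hle hg)).conj g⁻¹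
  rwa [show g⁻¹ * (g * w * g⁻¹) * g⁻¹⁻¹ = w by group] at this

end Gen

end General

/-- the standing hypotheses -/
structure Hyp (G : Type u) [Group G] : Prop where
  simple : IsSimpleGroup G
  ns : ¬ Group.IsSolvable G
  sm : ∀ H : Subgroup G, H ≠ ⊤ → AllSm H

variable {G : Type u} [Group G] [Finite G]

theorem Hyp.perfect (h : Hyp G) : commutator G = ⊤ := by
  haveI := h.simple
  refine (Subgroup.Normal.eq_bot_or_eq_top inferInstance).resolve_left fun e => h.ns ?_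
  haveI : IsMulCommutative G := (commutator_eq_bot_iff G).1 e
  exact isSolvable_of_isMulCommutative

theorem Hyp.norm_ne_top (h : Hyp G) {B : Subgroup G} (h1 : B ≠ ⊥) [Group.IsSolvable B] :
    𝐍(B) ≠ ⊤ := fun e => by
  haveI := h.simple
  have := (Subgroup.Normal.eq_bot_or_eq_top (normalizer_eq_top_iff.1 e)).resolve_left h1
  subst this
  exact h.ns (isSolvable_of_mulEquiv topEquiv)

namespace Gen

variable [Tools.{u}] (h : Hyp G) {A : Subgroup G} {t : G} (c : Gen A t)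
include h c

theorem exists_seven {p : ℕ} [hp : Fact p.Prime] (hd : p ∣ Nat.card G) (hA : ¬ p ∣ Nat.card A)
    (hr : ∀ y : G, y ≠ 1 → IsPElt p y → ¬ Re y) :
    p = 7 ∧ ∃ y x : G, orderOf y = 7 ∧ IsPElt 3 x ∧ x ∈ 𝐍(zpowers y) ∧ x ∉ 𝐂[y] := by
  by_contra hcon
  refine not_hasNormalPComplement_of_perfect h.perfect hd
    (hasNormalPComplement_of_forall_isPElt fun P hP h1 r _ hrp x hx hxr => by_contra fun hxC => ?_)
  have hPA : (Nat.card P).Coprime (Nat.card A) := hP.coprime_card hA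
  haveI := IsPGroup.isSolvable' hP
  by_cases h2 : r = 2
  · subst h2
    have hx1 : x ≠ 1 := by rintro rfl; exact hxC (one_mem _)
    obtain ⟨u, hu, ho⟩ := exists_orderOf_eq (B := zpowers x) Nat.prime_two
      (by rw [Nat.card_zpowers]; exact hxr.dvd_orderOf hx1)
    have huu : u * u = 1 := by rw [← pow_two, ← ho, pow_orderOf_eq_one]
    have hu1 : u ≠ 1 := by rintro rfl; simp at ho
    obtain ⟨⟨y, hy⟩, hy1⟩ := ne_bot_iff_exists_ne_one.1 h1
    exact hr y (fun e => hy1 (Subtype.ext e)) (isPElt_of_mem hP hy)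
      ⟨u, huu, hu1, c.inv_of_norm hPA huu hu1 (zpowers_le.2 hx hu) hy⟩
  have hrP : ¬ r ∣ Nat.card P := fun hh => hrp ((isPGroup_iff_isPiNat.1 hP) r Fact.out hh)
  have hact : CoprimeAct (zpowers x) P :=
    coprimeAct_of_isPGroup_left (zpowers_le.2 hx) hxr.isPGroup_zpowers hrP
  have hU : IsPGroup p ↥⁅P, zpowers x⁆ := hP.to_le hact.commutator_le
  have hp2 : ¬ 2 ∣ Nat.card ↥⁅P, zpowers x⁆ := fun hh =>
    hA (((isPGroup_iff_isPiNat.1 hU) 2 Nat.prime_two hh : 2 = p) ▸ c.even)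
  rcases Tools.odd (h.sm _ (h.norm_ne_top h1)) le_normalizer hx h2 hxr hrP hx hxC with
    ⟨h3, h4⟩ | ⟨-, ⟨e⟩⟩ | ⟨h3, h4⟩
  · exact hp2 (h4 ▸ ((Fact.out : r.Prime).eq_two_or_odd'.resolve_left h2).add_one.two_dvd)
  · exact hp2 (by rw [Nat.card_congr e.toEquiv, Nat.card_eq_fintype_card, QuaternionGroup.card]
                  norm_num)
  · subst h3
    obtain ⟨y, hy, ho⟩ := exists_orderOf_eq (by norm_num : Nat.Prime 7) h4.symm.dvd
    have e : zpowers y = ⁅P, zpowers x⁆ := eq_of_le_of_card_ge (zpowers_le.2 hy)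
      (by rw [Nat.card_zpowers, ho, h4])
    refine hcon ⟨((isPGroup_iff_isPiNat.1 hU) 7 (by norm_num) h4.symm.dvd : 7 = p).symm, y, x, ho,
      hxr, e ▸ hact.commutator.norm (mem_zpowers x), fun hc => hxC ?_⟩
    refine le_cent1_iff.1 (centralizer_zpowers x ▸ hact.le_centralizer_of_commutator_le ?_)
    rw [← e, centralizer_zpowers]
    exact zpowers_le.2 (mem_cent1_comm.1 hc)

theorem nonreal_cent {w : G} (hw : Ap A w) (hr : ¬ Re w) : IsPGroup 7 𝐂[w] := by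
  haveI : Fact (Nat.Prime 7) := ⟨by norm_num⟩
  refine isPGroup_iff_isPiNat.2 fun p hp hd => ?_
  haveI := Fact.mk hp
  obtain ⟨v, hv, ho⟩ := exists_orderOf_eq hp hd
  have hv1 : v ≠ 1 := fun e => hp.one_lt.ne (by rw [← ho, e, orderOf_one])
  have hpA : ¬ p ∣ Nat.card A := fun hh =>
    hp.one_lt.ne' (Nat.eq_one_of_dvd_coprimes (c.cop hw) hd hh)
  refine (c.exists_seven h (hd.trans (card_subgroup_dvd_card _)) hpA fun y hy1 hy hre => hr ?_).1
  have hyA : Ap A y := ⟨hy1, hy.coprime_orderOf (hp.coprime_iff_not_dvd.2 hpA)⟩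
  exact c.re_of_mem (c.re_of_isPElt hre hyA ((hy.dvd_orderOf hy1).trans
    (Subgroup.orderOf_dvd_natCard _ (mem_cent1.2 rfl))) ⟨1, by rw [ho, pow_one]⟩)
    (c.ap_of_mem hw hv hv1) (mem_cent1_comm.1 hv)

/-- the non-real case: `7 : 3` -/
theorem seven {y : G} (hy : Ap A y) (hr : ¬ Re y) : orderOf y = 7 ∧ 𝐂[y] = zpowers y ∧
    Nat.card 𝐍(zpowers y) = 21 ∧ ∃ x ∈ 𝐍(zpowers y), x ^ 3 = 1 ∧ x ∉ 𝐂[y] := by
  haveI : Fact (Nat.Prime 7) := ⟨by norm_num⟩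
  have hy7 : IsPElt 7 y := isPElt_of_mem (c.nonreal_cent h hy hr) (mem_cent1.2 rfl)
  have hA : ¬ 7 ∣ Nat.card A := fun hh =>
    absurd (Nat.eq_one_of_dvd_coprimes hy.2 (hy7.dvd_orderOf hy.1) hh) (by norm_num)
  have hap : ∀ w : G, w ≠ 1 → IsPElt 7 w → Ap A w := fun w h1 hw =>
    ⟨h1, hw.coprime_orderOf ((Nat.Prime.coprime_iff_not_dvd Fact.out).2 hA)⟩
  have hnr : ∀ w : G, w ≠ 1 → IsPElt 7 w → ¬ Re w := fun w h1 hw hre =>
    hr (c.re_of_isPElt hre (hap w h1 hw) ((hw.dvd_orderOf h1).trans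
      (Subgroup.orderOf_dvd_natCard _ (mem_cent1.2 rfl))) hy7)
  obtain ⟨-, z, x, hz, hx, hxn, hxc⟩ := c.exists_seven h ((hy7.dvd_orderOf hy.1).trans
    (_root_.orderOf_dvd_natCard y)) hA hnr
  have hz1 : z ≠ 1 := by rintro rfl; simp at hz
  have hz7 : IsPElt 7 z := ⟨1, hz⟩
  have hC := c.nonreal_cent h (hap z hz1 hz7) (hnr z hz1 hz7)
  have hxN : x ∈ 𝐍(𝐂[z]) := centralizer_zpowers z ▸ normalizer_le_normalizer_centralizer _ hxn
  have h3 : ¬ 3 ∣ Nat.card 𝐂[z] := fun hh =>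
    absurd ((isPGroup_iff_isPiNat.1 hC) 3 Nat.prime_three hh) (by norm_num)
  have hact : CoprimeAct (zpowers x) 𝐂[z] :=
    coprimeAct_of_isPGroup_left (zpowers_le.2 hxN) hx.isPGroup_zpowers h3
  have hx1 : x ≠ 1 := by rintro rfl; exact hxc (one_mem _)
  have hbot : 𝐂[z] ⊓ 𝐂(zpowers x) = ⊥ := by
    refine eq_bot_iff.2 fun v hv => mem_bot.2 (by_contra fun h1 => hx1 ?_)
    have hv7 := isPElt_of_mem hC hv.1
    exact hx.eq_one_of_isPRegular ((isPElt_of_mem (c.nonreal_cent h (hap v h1 hv7) (hnr v h1 hv7))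
      (mem_cent1_comm.1 (cent_le_cent1 (mem_zpowers x) hv.2))).isPRegular_of_ne (by norm_num))
  have hcomm : ⁅𝐂[z], zpowers x⁆ = 𝐂[z] := by
    have := hact.inf_centralizer_sup_commutator
    rwa [hbot, bot_sup_eq] at this
  have hzC : z ∈ 𝐂[z] := mem_cent1.2 rfl
  have hne : 𝐂[z] ≠ ⊥ := fun e => hz1 (mem_bot.1 (e ▸ hzC))
  haveI := IsPGroup.isSolvable' hC
  have h2 := c.not_two (hap z hz1 hz7)
  have h7 : Nat.card 𝐂[z] = 7 := by
    rcases Tools.odd (h.sm _ (h.norm_ne_top hne)) le_normalizer hxN (by norm_num) hx h3 hxN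
      (fun hh => hxc (cent_le_cent1 hzC hh)) with ⟨-, h4⟩ | ⟨-, ⟨e⟩⟩ | ⟨-, h4⟩
    · rw [hcomm] at h4; exact absurd (h4 ▸ by norm_num) h2
    · have h4 := Nat.card_congr e.toEquiv
      rw [hcomm, Nat.card_eq_fintype_card (α := QuaternionGroup 2), QuaternionGroup.card] at h4
      exact absurd (h4 ▸ by norm_num) h2
    · rwa [hcomm] at h4
  have hzz : ∀ w ∈ 𝐂[z], w ≠ 1 → zpowers w = 𝐂[z] := fun w hw h1 =>
    zpowers_eq_of_card_prime (h7 ▸ by norm_num) hw h1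
  have hcc : ∀ w ∈ 𝐂[z], w ≠ 1 → 𝐂[w] = 𝐂[z] := fun w hw h1 => by
    rw [← centralizer_zpowers w, (hzz w hw h1).trans (hzz z hzC hz1).symm, centralizer_zpowers]
  obtain ⟨P, hP, hle⟩ := exists_sylow_le (p := 7) h7.symm.dvd fun w hw h1 _ => hcc w hw h1
  obtain ⟨g, -, hg⟩ := hP.exists_conj_mem hy7 (mem_top y)
  have hg1 : g * y * g⁻¹ ≠ 1 := mt conj_eq_one_iff.1 hy.1
  have e1 : MulAut.conj g • zpowers y = zpowers z := by
    rw [conj_smul_zpowers, hzz _ (hle hg) hg1, hzz z hzC hz1]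
  have e2 : MulAut.conj g • 𝐂[y] = zpowers z := by
    rw [conj_smul_centralizer_singleton, hcc _ (hle hg) hg1, hzz z hzC hz1]
  have e3 : 𝐂[y] = zpowers y := by
    rw [← conj_inv_smul_conj_smul g 𝐂[y], e2, ← e1, conj_inv_smul_conj_smul]
  have ho : orderOf y = 7 := by rw [← Nat.card_zpowers, ← card_conj_smul g, e1, Nat.card_zpowers, hz]
  have hx' : g⁻¹ * x * g ∈ 𝐍(zpowers y) := by
    rw [← mem_conj_smul, conj_smul_normalizer, e1]; exact hxn
  have hxc' : g⁻¹ * x * g ∉ 𝐂[y] := by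
    rw [← mem_conj_smul, e2, hzz z hzC hz1]; exact hxc
  have hd := relIndex_centralizer_dvd_card_mulAut (zpowers y)
  rw [IsCyclic.card_mulAut, Nat.card_zpowers, ho, centralizer_zpowers, e3,
    show Nat.totient 7 = 6 by decide] at hd
  have hm := card_mul_relIndex (le_normalizer (H := zpowers y))
  rw [Nat.card_zpowers, ho] at hm
  have hodd : ¬ 2 ∣ Nat.card 𝐍(zpowers y) := fun hh => by
    obtain ⟨u, hu, hu2⟩ := exists_orderOf_eq Nat.prime_two hh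
    have huu : u * u = 1 := by rw [← pow_two, ← hu2, pow_orderOf_eq_one]
    have hu1 : u ≠ 1 := by rintro rfl; simp at hu2
    exact hr ⟨u, huu, hu1, c.inv_of_norm (by rw [Nat.card_zpowers]; exact hy.2) huu hu1 hu
      (mem_zpowers y)⟩
  have h1 : (zpowers y).relIndex 𝐍(zpowers y) ≠ 1 := fun e =>
    hxc' (e3 ▸ relIndex_eq_one.1 e hx')
  have h21 : Nat.card 𝐍(zpowers y) = 21 := by
    have := Nat.le_of_dvd (by norm_num) hd
    generalize (zpowers y).relIndex 𝐍(zpowers y) = k at *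
    interval_cases k <;> omega
  refine ⟨ho, e3, h21, _, hx', ?_, hxc'⟩
  have hx3 : IsPElt 3 (g⁻¹ * x * g) := by simpa using hx.conj g⁻¹
  obtain ⟨k, hk⟩ := hx3
  have := Subgroup.orderOf_dvd_natCard _ hx'
  rw [h21, hk] at this
  refine orderOf_dvd_iff_pow_eq_one.1 (hk ▸ ?_)
  exact (Nat.Coprime.pow_left k (by norm_num : Nat.Coprime 3 7)).dvd_of_dvd_mul_right this

theorem cc {y b : G} (hy : Ap A y) (hb : b ∈ 𝐂[y]) (h1 : b ≠ 1) : 𝐂[b] = 𝐂[y] := by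
  by_cases hr : Re y
  · exact c.re_cc hr hy hb h1
  obtain ⟨h7, e, -⟩ := c.seven h hy hr
  rw [← centralizer_zpowers b, ← centralizer_zpowers y,
    zpowers_eq_of_card_prime (by rw [Nat.card_zpowers, h7]; norm_num) (e ▸ hb) h1]

end Gen

end SAD
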