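import Cfsg.Agent.Lib.Char.SadC
import Cfsg.Agent.Lib.Char.SadAr

/-!
# Simple groups with small average degrees: the class equation in the dihedral case
-/

set_option autoImplicit false
set_option linter.unusedSectionVars false

namespace SAD

open Cfsg GT FT Subgroup
open scoped Pointwise commutatorElement

universe u

/-- T4 for a cyclic group of order four -/
class Tools4 : Prop where
  free4 : ∀ {X : Type u} [Group X] [Finite X] {L B : Subgroup X} {c : X} (_ : AllSm L)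
    (_ : B ≤ L) (_ : c ∈ L) (_ : orderOf c = 4) (_ : c ∈ 𝐍(B)) [IsMulCommutative B]
    (_ : ¬ 2 ∣ Nat.card B) (_ : ∀ b ∈ B, b * c ^ 2 = c ^ 2 * b → b = 1), Nat.card B ≤ 9

section General

variable {G : Type*} [Group G] [Finite G] {A : Subgroup G} {t s : G}

theorem Gen.frob (c : Gen A t) {y : G} (hy : Ap A y) (hr : Re y) :
    ∃ (E : Subgroup G) (u : G), FrobAct E 𝐂[y] ∧ Nat.card 𝐍(𝐂[y]) = Nat.card E * Nat.card 𝐂[y] ∧
      u ∈ E ∧ u * u = 1 ∧ u ≠ 1 ∧ E ≤ 𝐂[u] := by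
  obtain ⟨u, hu, h1, hi⟩ := id hr
  have hun := mem_norm_cent1_of_inv hi
  have hf : FrobAct (𝐍(𝐂[y]) ⊓ 𝐂[u]) 𝐂[y] := ⟨inf_le_left, fun x hx hx1 b hb e => by_contra
    fun hb1 => c.not_comm (c.ap_of_mem hy (c.re_cc hr hy hb hb1 ▸ mem_cent1.2 e.symm) hx1) hu h1
      (mem_cent1.1 hx.2)⟩
  refine ⟨_, u, hf, ?_, ⟨hun, mem_cent1.2 rfl⟩, hu, h1, inf_le_right⟩
  rw [← card_sup_of_disjoint_of_le_normalizer inf_le_left hf.disjoint.symm]
  refine congrArg (fun H : Subgroup G => Nat.card H) ?_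
  refine le_antisymm (fun n hn => ?_) (sup_le inf_le_left le_normalizer)
  have h2 := c.inv_of_norm (c.cop hy) (u := n * u * n⁻¹) (by rw [conj_mul, hu]; group)
    (mt conj_eq_one_iff.1 h1) (mul_mem (mul_mem hn hun) (inv_mem hn)) (mem_cent1.2 rfl)
  have h3 : n * u * n⁻¹ * u⁻¹ ∈ 𝐂[y] := mem_cent1.2 (by
    generalize n * u * n⁻¹ = v at h2
    have e1 : u⁻¹ * y = y⁻¹ * u⁻¹ := by
      rw [← hi, show u⁻¹ = u from inv_eq_of_mul_eq_one_right hu, mul_assoc, mul_assoc, hu, mul_one]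
    have e2 : v * y⁻¹ = y * v := by
      rw [← mul_inv_eq_iff_eq_mul, ← conj_inv, h2, inv_inv]
    rw [mul_assoc, e1, ← mul_assoc, e2, mul_assoc])
  obtain ⟨k, hk, e⟩ := exists_conj_eq_mul_of_fpf hun (hf.fpf u ⟨hun, mem_cent1.2 rfl⟩ h1) h3
  rw [sup_comm]
  refine (mem_sup_of_le_normalizer_left inf_le_left).2 ⟨k, hk, k⁻¹ * n,
    mem_inf.2 ⟨mul_mem (inv_mem (le_normalizer hk)) hn, mem_cent1.2 ?_⟩, by group⟩
  calc k⁻¹ * n * u = k⁻¹ * (n * u * n⁻¹ * u⁻¹ * u) * n := by group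
    _ = _ := by rw [← e]; group

theorem Dih.conj_dih (d : Dih A t s) (g : G) :
    Dih (MulAut.conj g • A) (g * t * g⁻¹) (g * s * g⁻¹) where
  tt := by rw [conj_mul, d.tt]; group
  t1 := mt conj_eq_one_iff.1 d.t1
  conj u hu h1 := (isConj_iff.2 ⟨g, rfl⟩).symm.trans (d.conj u hu h1)
  comm := isMulCommutative_conj d.comm g
  tA := conj_mem_conj_smul.2 d.tA
  uniq u hu h := by
    obtain ⟨v, hv, rfl⟩ := mem_conj_smul'.1 hu
    rw [conj_mul, conj_eq_one_iff] at h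
    exact (d.uniq v hv h).imp (fun e => by simp [e]) fun e => by rw [e]
  le := conj_smul_centralizer_singleton g t ▸ conj_smul_mono g d.le
  index := by rw [← conj_smul_centralizer_singleton, relIndex_conj_smul, d.index]
  sC := conj_smul_centralizer_singleton g t ▸ conj_mem_conj_smul.2 d.sC
  sA := mt conj_mem_conj_smul.1 d.sA
  ss := by rw [conj_mul, d.ss]; group
  inv a ha := by
    obtain ⟨v, hv, rfl⟩ := mem_conj_smul'.1 ha
    rw [show g * s * g⁻¹ * (g * v * g⁻¹) * (g * s * g⁻¹)⁻¹ = g * (s * v * s⁻¹) * g⁻¹ by group,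
      d.inv v hv]
    group
  cent y hy h1 h2 := by
    obtain ⟨v, hv, rfl⟩ := mem_conj_smul'.1 hy
    rw [← conj_smul_centralizer_singleton, d.cent v hv (fun e => h1 (by simp [e]))
      fun e => h2 (by rw [e])]
  four := by rw [card_conj_smul]; exact d.four

theorem Dih.exists_dih (d : Dih A t s) {z : G} (hz : z * z = 1) (h1 : z ≠ 1) :
    ∃ B r, Dih B z r ∧ Nat.card B = Nat.card A := by
  obtain ⟨g, rfl⟩ := isConj_iff.1 (d.conj z hz h1)
  exact ⟨_, _, d.conj_dih g, card_conj_smul g A⟩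

theorem Dih.card_cent (d : Dih A t s) : Nat.card 𝐂[t] = 2 * Nat.card A := by
  rw [← card_mul_relIndex d.le, d.index, mul_comm]

theorem Dih.ncard_clSupp (d : Dih A t s) :
    (clSupp (sharp A) ⊤).ncard = (sharp A).ncard * 𝐂[t].index := by
  refine SAD.ncard_clSupp (fun g hg a ha => ⟨?_, mt conj_eq_one_iff.1 ha.2⟩) fun g a ha hga => ?_
  · by_cases hA : g ∈ A
    · exact mul_mem (mul_mem hA ha.1) (inv_mem hA)
    · exact d.conj_out hg hA ha.1 ▸ inv_mem ha.1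
  · have key : g * t * g⁻¹ ∈ A → g ∈ 𝐂[t] := fun h => mem_cent1.2 (mul_inv_eq_iff_eq_mul.1
      ((d.uniq _ h (by rw [conj_mul, d.tt]; group)).resolve_left (mt conj_eq_one_iff.1 d.t1)))
    by_cases hat : a = t
    · exact key (hat ▸ hga.1)
    have h2 : g * a * g⁻¹ ≠ t := fun e => (d.uniq a ha.1 (by
      have := d.tt
      rwa [← e, conj_mul, conj_eq_one_iff] at this)).elim ha.2 hat
    refine key ?_
    rw [← d.cent _ hga.1 hga.2 h2, ← conj_smul_centralizer_singleton, conj_mem_conj_smul,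
      d.cent a ha.1 ha.2 hat]
    exact d.tA

theorem Gen.mem_clSupp (c : Gen A t) {y : G} :
    y ∈ clSupp (sharp A) ⊤ ↔ y ≠ 1 ∧ ¬ Ap A y := by
  constructor
  · rintro ⟨a, ha, g, -, rfl⟩
    refine ⟨mt conj_eq_one_iff.1 ha.2, fun h => ha.2 (orderOf_eq_one_iff.1 ?_)⟩
    exact Nat.eq_one_of_dvd_coprimes h.2 (orderOf_conj' a g).symm.dvd (A.orderOf_dvd_natCard ha.1)
  · rintro ⟨h1, h2⟩
    have key : ∀ g, g * y * g⁻¹ ∈ A → y ∈ clSupp (sharp A) ⊤ := fun g hg =>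
      ⟨_, ⟨hg, mt conj_eq_one_iff.1 h1⟩, g⁻¹, mem_top _, by group⟩
    by_cases hy : y * y = 1
    · obtain ⟨g, hg⟩ := isConj_iff.1 (c.conj y hy h1).symm
      exact key g (hg ▸ c.tA)
    obtain ⟨p, hp, h3, h4⟩ := Nat.Prime.not_coprime_iff_dvd.1 fun h => h2 ⟨h1, h⟩
    obtain ⟨w, hw, rfl⟩ := exists_orderOf_eq (B := zpowers y) hp (by rwa [Nat.card_zpowers])
    obtain ⟨g, -, hg⟩ := c.exists_conj_mem hp h4
    exact key g (hg y (cent1_le_of_mem_zpowers hw (mem_cent1.2 rfl)) hy)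

end General

variable {G : Type u} [Group G] [Finite G] {A : Subgroup G} {t s : G} [Tools.{u}] (h : Hyp G)
include h

theorem Gen.exists_conj_cent (c : Gen A t) {y z : G} (hy : Ap A y) (hz : Ap A z)
    (hc : ¬ (Nat.card 𝐂[y]).Coprime (Nat.card 𝐂[z])) : ∃ g, g * z * g⁻¹ ∈ 𝐂[y] := by
  obtain ⟨p, hp, h3, h4⟩ := Nat.Prime.not_coprime_iff_dvd.1 hc
  haveI := Fact.mk hp
  obtain ⟨P, hP, hle⟩ := exists_sylow_le h3 fun b hb h1 _ => c.cc h hy hb h1
  obtain ⟨w, hw, ho⟩ := exists_orderOf_eq hp h4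
  have hw1 : w ≠ 1 := fun e => hp.one_lt.ne (by rw [← ho, e, orderOf_one])
  obtain ⟨g, -, hg⟩ := hP.exists_conj_mem (x := w) ⟨1, by rw [ho, pow_one]⟩ (mem_top w)
  refine ⟨g, ?_⟩
  rw [← c.cc h hy (hle hg) (mt conj_eq_one_iff.1 hw1), ← conj_smul_centralizer_singleton,
    conj_mem_conj_smul]
  exact mem_cent1_comm.1 hw

theorem Gen.clSupp_cent (c : Gen A t) {y : G} (hy : Ap A y) :
    clSupp (sharp 𝐂[y]) ⊤ = {z | Ap A z ∧ Nat.card 𝐂[z] = Nat.card 𝐂[y]} := by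
  ext z
  constructor
  · rintro ⟨b, hb, g, -, rfl⟩
    exact ⟨(c.ap_of_mem hy hb.1 hb.2).conj g, by
      rw [← conj_smul_centralizer_singleton, card_conj_smul, c.cc h hy hb.1 hb.2]⟩
  · rintro ⟨hz, e⟩
    obtain ⟨g, hg⟩ := c.exists_conj_cent h hy hz fun hc => hy.1 (by
      rw [e, Nat.coprime_self, card_eq_one] at hc
      exact mem_bot.1 (hc ▸ mem_cent1.2 rfl))
    exact ⟨_, ⟨hg, mt conj_eq_one_iff.1 hz.1⟩, g⁻¹, mem_top _, by group⟩

theorem Gen.ncard_cent (c : Gen A t) {y : G} (hy : Ap A y) :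
    {z | Ap A z ∧ Nat.card 𝐂[z] = Nat.card 𝐂[y]}.ncard = (sharp 𝐂[y]).ncard * 𝐍(𝐂[y]).index := by
  rw [← c.clSupp_cent h hy]
  refine ncard_clSupp (fun g hg a ha => ⟨conj_mem_of_mem_normalizer hg ha.1,
    mt conj_eq_one_iff.1 ha.2⟩) fun g a ha hga => conj_smul_eq_iff_mem_normalizer.1 ?_
  rw [← c.cc h hy ha.1 ha.2, conj_smul_centralizer_singleton, c.cc h hy hga.1 hga.2,
    c.cc h hy ha.1 ha.2]

variable [Tools4.{u}]

theorem Dih.typ (d : Dih A t s) {y : G} (hy : Ap A y) :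
    ∃ e, Nat.card 𝐍(𝐂[y]) = e * Nat.card 𝐂[y] ∧ Typ (Nat.card A) (Nat.card 𝐂[y]) e := by
  have c := d.gen
  by_cases hr : Re y
  swap
  · obtain ⟨h7, e, h21, -⟩ := c.seven h hy hr
    rw [e, h21, Nat.card_zpowers, h7]
    exact ⟨3, rfl, .inr (.inl ⟨rfl, rfl⟩)⟩
  obtain ⟨E, u, hf, hc, hu, huu, hu1, hE⟩ := c.frob hy hr
  refine ⟨_, hc, ?_⟩
  have hne : 𝐂[y] ≠ ⊥ := fun e => hy.1 (mem_bot.1 (e ▸ mem_cent1.2 rfl))
  haveI := c.re_comm hr hy
  haveI : Group.IsSolvable 𝐂[y] := isSolvable_of_isMulCommutative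
  have hsm := h.sm _ (h.norm_ne_top hne)
  have uniq : ∀ x ∈ E, x * x = 1 → x = 1 ∨ x = u := fun x hx e => or_iff_not_imp_left.2 fun h1 =>
    hf.involution_unique hne hx h1 (by rw [pow_two, e]) hu hu1 (by rw [pow_two, huu])
  obtain ⟨B, r, d', hB⟩ := d.exists_dih huu hu1
  have hEB : E ≤ B := fun x hx => by_contra fun hxB =>
    (uniq x hx (d'.out (hE hx) hxB)).elim (fun e => hxB (e ▸ one_mem _)) fun e => hxB (e ▸ d'.tA)
  have ha : Nat.card E ∣ Nat.card A := hB ▸ card_dvd_of_le hEB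
  have h2 : 2 ∣ Nat.card E :=
    orderOf_eq_prime (by rw [pow_two, huu]) hu1 ▸ E.orderOf_dvd_natCard hu
  have hd := hf.card_dvd_sub_one
  have hodd := c.not_two hy
  have h1 : 1 < Nat.card 𝐂[y] := (one_lt_card_iff_ne_bot _).2 hne
  by_cases hp : ∃ r, r.Prime ∧ r ≠ 2 ∧ r ∣ Nat.card E
  · obtain ⟨r, hr, hr2, hrE⟩ := hp
    haveI := Fact.mk hr
    obtain ⟨x, hx, ho⟩ := exists_orderOf_eq hr hrE
    have hx1 : x ≠ 1 := fun e => hr.one_lt.ne (by rw [← ho, e, orderOf_one])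
    have e := (hf.of_le_left (zpowers_le.2 hx)).commutator_eq (zpowers_ne_bot.2 hx1)
    have := Tools.odd hsm le_normalizer (hf.norm hx) hr2 ⟨1, by rw [ho, pow_one]⟩
      (fun hh => hr.one_lt.ne' (Nat.eq_one_of_dvd_coprimes hf.coprime hh hrE)) (hf.norm hx)
      fun hh => hy.1 (hf.fpf x hx hx1 y (mem_cent1.2 rfl) (hh y (mem_cent1.2 rfl)))
    rw [e] at this
    rcases this with ⟨-, h4⟩ | ⟨-, ⟨e⟩⟩ | ⟨rfl, h4⟩
    · exact absurd (h4 ▸ (hr.eq_two_or_odd'.resolve_left hr2).add_one.two_dvd) hodd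
    · exact absurd (by rw [Nat.card_congr e.toEquiv, Nat.card_eq_fintype_card, QuaternionGroup.card]
                       norm_num) hodd
    · rw [h4] at hd ⊢
      have := Nat.le_of_dvd (by norm_num) hd
      have h6 : Nat.card E = 6 := by
        have : 0 < Nat.card E := Nat.card_pos
        omega
      exact .inr (.inr (.inl ⟨rfl, h6, h6 ▸ ha⟩))
  by_cases hx : ∃ x ∈ E, x * x ≠ 1
  swap
  · left
    have : E = zpowers u := le_antisymm (fun x hx' => (uniq x hx' (by_contra fun e =>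
      hx ⟨x, hx', e⟩)).elim (fun e => e ▸ one_mem _) fun e => e ▸ mem_zpowers u) (zpowers_le.2 hu)
    rw [this, Nat.card_zpowers, orderOf_eq_prime (by rw [pow_two, huu]) hu1]
  obtain ⟨x, hx, hxx⟩ := hx
  have h4 : 4 ∣ orderOf x := by
    obtain ⟨k, hk⟩ := (isPiNat_singleton_iff Nat.prime_two (orderOf_pos x).ne').1
      fun r hr hrx => by_contra fun e => hp ⟨r, hr, e, hrx.trans (E.orderOf_dvd_natCard hx)⟩
    rcases k with _ | _ | k
    · exact absurd (by rw [orderOf_eq_one_iff.1 hk, mul_one]) hxx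
    · exact absurd (by rw [← pow_two]; exact orderOf_dvd_iff_pow_eq_one.1 hk.dvd) hxx
    · exact ⟨2 ^ k, by rw [hk]; ring⟩
  have hw := orderOf_pow_orderOf_div (orderOf_pos x).ne' h4
  have hwE := pow_mem hx (orderOf x / 4)
  generalize x ^ (orderOf x / 4) = w at hw hwE
  have h9 := Tools4.free4 hsm le_normalizer (hf.norm hwE) hw (hf.norm hwE) hodd
    (hf.fpf _ (pow_mem hwE 2) fun e => absurd (hw ▸ orderOf_dvd_of_pow_eq_one e) (by norm_num))
  have h4E : 4 ∣ Nat.card E := hw ▸ E.orderOf_dvd_natCard hwE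
  have h5 := h4E.trans hd
  have h6 := Nat.le_of_dvd (by omega) hd
  have h7 : 0 < Nat.card E := Nat.card_pos
  unfold Typ
  generalize Nat.card E = e at *
  generalize Nat.card 𝐂[y] = b at *
  have h8 := h4E.trans ha
  obtain rfl | rfl : e = 4 ∨ e = 8 := by omega
  all_goals omega

theorem Dih.count (d : Dih A t s) : Nat.card A = 4 ∧
    ((Nat.card G = 168 ∧ ∃ y, Ap A y ∧ Nat.card 𝐂[y] = 7 ∧ Nat.card 𝐍(𝐂[y]) = 21) ∨
      (Nat.card G = 360 ∧ (∀ y, Ap A y → Nat.card 𝐂[y] = 5 ∨ Nat.card 𝐂[y] = 9) ∧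
        ∃ y, Ap A y ∧ Nat.card 𝐂[y] = 9 ∧ Nat.card 𝐍(𝐂[y]) = 36)) := by
  classical
  have c := d.gen
  have := Fintype.ofFinite G
  set Y := Finset.univ.filter fun y : G => Ap A y with hY
  set D := Y.image fun y => Nat.card 𝐂[y] with hD
  have ex : ∀ b, ∃ y e, b ∈ D → Ap A y ∧ Nat.card 𝐂[y] = b ∧ Nat.card 𝐍(𝐂[y]) = e * b ∧
      Typ (Nat.card A) b e := fun b => by
    by_cases hb : b ∈ D
    · obtain ⟨y, hy, rfl⟩ := Finset.mem_image.1 hb
      obtain ⟨e, he⟩ := d.typ h (Finset.mem_filter.1 hy).2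
      exact ⟨y, e, fun _ => ⟨(Finset.mem_filter.1 hy).2, rfl, he⟩⟩
    · exact ⟨1, 0, fun hh => absurd hh hb⟩
  choose y e hy using ex
  have memD : ∀ z, Ap A z → Nat.card 𝐂[z] ∈ D := fun z hz =>
    Finset.mem_image_of_mem _ (Finset.mem_filter.2 ⟨Finset.mem_univ _, hz⟩)
  have g0 : (0 : ℚ) < Nat.card G := by exact_mod_cast Nat.card_pos
  have key : ∀ (B L : Subgroup G) (m : ℕ), Nat.card L = m * Nat.card B →
      (((sharp B).ncard * L.index : ℕ) : ℚ) =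
        Nat.card G * (((Nat.card B : ℚ) - 1) / (m * Nat.card B)) := fun B L m hm => by
    have h1 : ((sharp B).ncard : ℚ) + 1 = Nat.card B := by exact_mod_cast ncard_sharp_add_one B
    have h2 : (m : ℚ) * Nat.card B * L.index = Nat.card G := by
      exact_mod_cast hm ▸ L.card_mul_index
    have h3 : (m : ℚ) * Nat.card B ≠ 0 := fun e => by rw [e, zero_mul] at h2; linarith
    rw [← h2, mul_right_comm, mul_div_cancel₀ _ h3, ← h1]
    push_cast
    ring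
  have hsum : (Y.card : ℚ) = Nat.card G * ∑ b ∈ D, ((b : ℚ) - 1) / (e b * b) := by
    rw [Finset.card_eq_sum_card_image (fun y => Nat.card 𝐂[y]) Y, Nat.cast_sum, Finset.mul_sum]
    refine Finset.sum_congr rfl fun b hb => ?_
    obtain ⟨h1, h2, h3, -⟩ := hy b hb
    have := key 𝐂[y b] _ _ (h3.trans (by rw [h2]))
    rw [← c.ncard_cent h h1, h2] at this
    rw [← this, ← Set.ncard_coe_finset]
    congr 2
    ext z; simp [hY]
  have htot : Nat.card G = 1 + (clSupp (sharp A) ⊤).ncard + Y.card := by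
    have e1 : (Set.univ : Set G) = insert 1 (clSupp (sharp A) ⊤ ∪ Y) := by
      ext z; by_cases h1 : z = 1 <;> by_cases h2 : Ap A z <;> simp [c.mem_clSupp, hY, h1, h2]
    rw [← Set.ncard_univ, e1, Set.ncard_insert_of_notMem (by simp [c.mem_clSupp, hY, Ap]),
      Set.ncard_union_eq (Set.disjoint_left.2 fun z hz hz' => (c.mem_clSupp.1 hz).2 (by
        simpa [hY] using hz')), Set.ncard_coe_finset]
    ring
  have heq : (1 : ℚ) = 1 / Nat.card G + ((Nat.card A : ℚ) - 1) / (2 * Nat.card A) +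
      ∑ b ∈ D, ((b : ℚ) - 1) / (e b * b) := by
    have h1 := congrArg (Nat.cast (R := ℚ)) htot
    rw [d.ncard_clSupp, Nat.cast_add, Nat.cast_add, key _ _ 2 d.card_cent, hsum] at h1
    field_simp at h1 ⊢
    push_cast at h1
    linarith
  obtain ⟨h4, h5⟩ := arith d.four c.even (d.card_cent ▸ card_subgroup_dvd_card _) Nat.card_pos
    (fun b hb => by
      obtain ⟨h1, h2, -, h3⟩ := hy b hb
      exact ⟨h2 ▸ (one_lt_card_iff_ne_bot _).2 fun e => h1.1 (mem_bot.1 (e ▸ mem_cent1.2 rfl)),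
        h2 ▸ c.cop h1, h2 ▸ card_subgroup_dvd_card _, h3⟩)
    (fun b hb b' hb' hne => by_contra fun hc => by
      obtain ⟨h1, h2, -⟩ := hy b hb
      obtain ⟨h1', h2', -⟩ := hy b' hb'
      obtain ⟨g, hg⟩ := c.exists_conj_cent h h1 h1' (by rwa [h2, h2'])
      refine hne ?_
      rw [← h2, ← h2', ← c.cc h h1 hg (mt conj_eq_one_iff.1 h1'.1),
        ← conj_smul_centralizer_singleton, card_conj_smul]) heq
  refine ⟨h4, h5.imp (fun k => ⟨k.1, y 7, (hy 7 k.2.1).1, (hy 7 k.2.1).2.1, ?_⟩)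
    fun k => ⟨k.1, fun z hz => k.2.1 _ (memD z hz), y 9, (hy 9 k.2.2.1).1, (hy 9 k.2.2.1).2.1, ?_⟩⟩
  · rw [(hy 7 k.2.1).2.2.1, k.2.2]
  · rw [(hy 9 k.2.2.1).2.2.1, k.2.2.2]

end SAD
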