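import Cfsg.Agent.Lib.FT.Pf.BG6a
import Cfsg.Agent.Lib.Char.Basic

/-!
# Groups all of whose proper subgroups have average character degree at most two: interface

`Tools` lists the consequences of `AllSm` used in the local analysis; `Dih` is the outcome of the
local analysis in the case that does not lead to `SL₂(2^q)` directly.
-/

set_option autoImplicit false

namespace SAD

open Cfsg GT FT Subgroup
open scoped Pointwise commutatorElement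

universe u

/-- average character degree at most two -/
def Sm (H : Type*) [Group H] : Prop :=
  (∑ᶠ χ : IrrCharacter H, charDegree (χ : H → ℂ)) ≤ 2 * Nat.card (IrrCharacter H)

/-- all subgroups of `L` have average character degree at most two -/
def AllSm {X : Type*} [Group X] (L : Subgroup X) : Prop := ∀ H : Subgroup X, H ≤ L → Sm H

theorem sad_realise_eqns : True := by
  have := @Sm.eq_1.{0}
  have := @AllSm.eq_1.{0}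
  trivial

theorem AllSm.mono {X : Type*} [Group X] {L K : Subgroup X} (h : AllSm L) (hK : K ≤ L) :
    AllSm K := fun H hH => h H (hH.trans hK)

/-- The consequences of `AllSm` used in the local analysis. -/
class Tools : Prop where
  /-- T0 -/
  map : ∀ {X Y : Type u} [Group X] [Finite X] [Group Y] [Finite Y] {L : Subgroup X}
    (_ : AllSm L) (f : X →* Y), AllSm (L.map f)
  /-- T1 -/
  solv : ∀ {X : Type u} [Group X] [Finite X] {L : Subgroup X} (_ : AllSm L), Group.IsSolvable L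
  /-- F1 and T3 for an arbitrary `r'`-group `U` and an `r`-element `x`, `r` odd -/
  odd : ∀ {X : Type u} [Group X] [Finite X] {L U : Subgroup X} {x : X} {r : ℕ} [Fact r.Prime]
    (_ : AllSm L) (_ : U ≤ L) (_ : x ∈ L) (_ : r ≠ 2) (_ : IsPElt r x) (_ : ¬ r ∣ Nat.card U)
    (_ : x ∈ 𝐍(U)) (_ : x ∉ 𝐂(U)),
    (IsElementaryAbelian 2 ⁅U, zpowers x⁆ ∧ Nat.card ↥⁅U, zpowers x⁆ = r + 1) ∨
      (r = 3 ∧ Nonempty (↥⁅U, zpowers x⁆ ≃* QuaternionGroup 2)) ∨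
      (r = 3 ∧ Nat.card ↥⁅U, zpowers x⁆ = 7)
  /-- T3 for involutions -/
  inv : ∀ {X : Type u} [Group X] [Finite X] {L U : Subgroup X} {t : X}
    (_ : AllSm L) (_ : U ≤ L) (_ : t ∈ L) (_ : t * t = 1) (_ : ¬ 2 ∣ Nat.card U)
    (_ : t ∈ 𝐍(U)), IsMulCommutative ↥⁅U, zpowers t⁆
  /-- F3 -/
  four : ∀ {X : Type u} [Group X] [Finite X] {L O V : Subgroup X}
    (_ : AllSm L) (_ : O ≤ L) (_ : V ≤ L) (_ : ElemN 2 2 V ⊤) (_ : ¬ 2 ∣ Nat.card O)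
    (_ : V ≤ 𝐍(O)) (_ : V ⊓ 𝐂(O) = ⊥), ∃ a ∈ V, ∃ b ∈ V, a ≠ 1 ∧ b ≠ 1 ∧ a ≠ b ∧
      Nat.card ↥(⁅O, V⁆ ⊓ 𝐂[a]) = 3 ∧ Nat.card ↥(⁅O, V⁆ ⊓ 𝐂[b]) ∈ ({3, 5} : Set ℕ) ∧
      ⁅O, V⁆ ⊓ 𝐂[a * b] = ⊥ ∧ Nat.card ↥⁅O, V⁆ = 3 * Nat.card ↥(⁅O, V⁆ ⊓ 𝐂[b])
  /-- T2: `H` induces `S₃` on the four-group `U`; the condition on `u` says that the linear
  character of `U` with kernel `⟨u⟩` extends to its stabilizer -/
  sym : ∀ {X : Type u} [Group X] [Finite X] {H U : Subgroup X} {u x : X}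
    (_ : AllSm H) (_ : ElemN 2 2 U H) (_ : H ≤ 𝐍(U)) (_ : u ∈ U) (_ : u ≠ 1)
    (_ : x ∈ H) (_ : IsPElt 3 x) (_ : x ∉ 𝐂(U)) (_ : ¬ H ⊓ 𝐂[u] ≤ 𝐂(U))
    (_ : ¬ U ≤ ⁅H ⊓ 𝐂[u], H ⊓ 𝐂[u]⁆), ⁅H, H⁆ ⊓ 𝐂[u] ≤ U
  /-- T5 -/
  quat : ∀ {X : Type u} [Group X] [Finite X] {L W : Subgroup X} {x s : X}
    (_ : AllSm L) (_ : W ≤ L) (_ : x ∈ L) (_ : s ∈ L) (_ : Nonempty (W ≃* QuaternionGroup 2))
    (_ : x ∈ 𝐍(W)) (_ : s ∈ 𝐍(W)) (_ : IsPElt 3 x) (_ : x ∉ 𝐂(W)) (_ : s * x * s⁻¹ = x⁻¹), False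
  /-- T4 for two independent actions of elements of odd order on abelian `2`-groups -/
  indep : ∀ {X : Type u} [Group X] [Finite X] {L U W : Subgroup X} {x y : X}
    (_ : AllSm L) (_ : U ≤ L) (_ : W ≤ L) (_ : x ∈ L) (_ : y ∈ L)
    (_ : IsElementaryAbelian 2 U) (_ : IsElementaryAbelian 2 W) (_ : U ≤ 𝐂(W))
    (_ : ¬ 2 ∣ orderOf x) (_ : ¬ 2 ∣ orderOf y) (_ : x ∈ 𝐍(U)) (_ : x ∉ 𝐂(U)) (_ : x ∈ 𝐂(W))
    (_ : y ∈ 𝐍(W)) (_ : y ∉ 𝐂(W)) (_ : y ∈ 𝐂(U)), False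
  /-- T6 for `2³ : 7 : 3` -/
  eight : ∀ {X : Type u} [Group X] [Finite X] {L W K : Subgroup X}
    (_ : AllSm L) (_ : W ≤ L) (_ : K ≤ L) (_ : ElemN 2 3 W ⊤) (_ : ¬ 2 ∣ Nat.card K)
    (_ : K ≤ 𝐍(W)), ⁅K, K⁆ ≤ 𝐂(W)

/-- one class of involutions, with generalized dihedral centralizer `A ⟨s⟩` -/
structure Dih {G : Type*} [Group G] (A : Subgroup G) (t s : G) : Prop where
  tt : t * t = 1
  t1 : t ≠ 1
  conj : ∀ u : G, u * u = 1 → u ≠ 1 → IsConj t u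
  comm : IsMulCommutative A
  tA : t ∈ A
  uniq : ∀ u ∈ A, u * u = 1 → u = 1 ∨ u = t
  le : A ≤ 𝐂[t]
  index : A.relIndex 𝐂[t] = 2
  sC : s ∈ 𝐂[t]
  sA : s ∉ A
  ss : s * s = 1
  inv : ∀ a ∈ A, s * a * s⁻¹ = a⁻¹
  cent : ∀ y ∈ A, y ≠ 1 → y ≠ t → 𝐂[y] = A
  four : 4 ≤ Nat.card A

/-- The outcome of the local analysis. -/
class Local : Prop where
  main : ∀ (G : Type u) [Group G] [Finite G] [IsSimpleGroup G] (_ : ¬ Group.IsSolvable G)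
    (_ : ∀ H : Subgroup G, H ≠ ⊤ → AllSm H),
    (∃ (F : Type) (_ : Field F) (_ : Fintype F) (q : ℕ), q.Prime ∧ Fintype.card F = 2 ^ q ∧
      Nonempty (G ≃* Matrix.SpecialLinearGroup (Fin 2) F)) ∨ ∃ (A : Subgroup G) (t s : G), Dih A t s

end SAD
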