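import Cfsg.Agent.Lib.Char.GroupAlg

/-!
# Sums of the elements of a subset in a group algebra
-/

set_option autoImplicit false
set_option linter.unusedSectionVars false

namespace CT

open Cfsg
open scoped MonoidAlgebra

variable {R : Type*} [CommRing R] {G : Type*} [Group G] [Finite G]

/-- The group element `g` in the group algebra. -/
noncomputable abbrev gel (R : Type*) [CommRing R] (g : G) : R[G] := MonoidAlgebra.single g 1

omit [Finite G] in
theorem gel_mul (g h : G) : gel R g * gel R h = gel R (g * h) := by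
  simp [gel, MonoidAlgebra.single_mul_single]

omit [Finite G] in
theorem gel_one : gel R (1 : G) = 1 := rfl

omit [Finite G] in
theorem coeff_gel_mul (g : G) (a : R[G]) (x : G) : (gel R g * a).coeff x = a.coeff (g⁻¹ * x) := by
  rw [gel, MonoidAlgebra.coeff_single_mul_apply, one_mul]

omit [Finite G] in
theorem coeff_mul_gel (g : G) (a : R[G]) (x : G) : (a * gel R g).coeff x = a.coeff (x * g⁻¹) := by
  rw [gel, MonoidAlgebra.coeff_mul_single_apply, mul_one]

open Classical in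
/-- The sum of the elements of the set `S`. -/
noncomputable def ssum (R : Type*) [CommRing R] (S : Set G) : R[G] :=
  ofFun fun g => if g ∈ S then 1 else 0

theorem coeff_ssum (S : Set G) (g : G) [Decidable (g ∈ S)] :
    (ssum R S).coeff g = if g ∈ S then 1 else 0 := by
  rw [ssum, coeff_ofFun]; congr

theorem coeff_ssum_of_mem {S : Set G} {g : G} (h : g ∈ S) : (ssum R S).coeff g = 1 := by
  classical
  rw [coeff_ssum, if_pos h]

theorem coeff_ssum_of_not_mem {S : Set G} {g : G} (h : g ∉ S) : (ssum R S).coeff g = 0 := by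
  classical
  rw [coeff_ssum, if_neg h]

theorem ssum_eq_sum {S : Set G} {s : Finset G} (h : ∀ g, g ∈ s ↔ g ∈ S) :
    ssum R S = ∑ g ∈ s, gel R g := by
  classical
  refine ga_ext fun g => ?_
  rw [coeff_sum_apply, coeff_ssum]
  simp only [gel, MonoidAlgebra.coeff_single, Finsupp.single_apply]
  rw [Finset.sum_ite_eq' s g]
  simp only [h]

theorem gel_mul_ssum {S T : Set G} {g : G} (h : ∀ x, x ∈ T ↔ g⁻¹ * x ∈ S) :
    gel R g * ssum R S = ssum R T := by
  classical
  refine ga_ext fun x => ?_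
  rw [coeff_gel_mul, coeff_ssum, coeff_ssum]
  simp only [h]

theorem ssum_mul_gel {S T : Set G} {g : G} (h : ∀ x, x ∈ T ↔ x * g⁻¹ ∈ S) :
    ssum R S * gel R g = ssum R T := by
  classical
  refine ga_ext fun x => ?_
  rw [coeff_mul_gel, coeff_ssum, coeff_ssum]
  simp only [h]

theorem gel_mul_ssum_of_mem {H : Subgroup G} {g : G} (hg : g ∈ H) :
    gel R g * ssum R (H : Set G) = ssum R (H : Set G) :=
  gel_mul_ssum fun x => by
    simp only [SetLike.mem_coe]
    exact ⟨fun h => H.mul_mem (H.inv_mem hg) h, fun h => by simpa using H.mul_mem hg h⟩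

theorem ssum_mul_gel_of_mem {H : Subgroup G} {g : G} (hg : g ∈ H) :
    ssum R (H : Set G) * gel R g = ssum R (H : Set G) :=
  ssum_mul_gel fun x => by
    simp only [SetLike.mem_coe]
    exact ⟨fun h => H.mul_mem h (H.inv_mem hg), fun h => by simpa using H.mul_mem h hg⟩

theorem gel_mul_ssum_comm {S T : Set G} {g : G} (h : ∀ x, x ∈ S ↔ g * x * g⁻¹ ∈ T) :
    gel R g * ssum R S = ssum R T * gel R g := by
  classical
  refine ga_ext fun x => ?_
  rw [coeff_gel_mul, coeff_mul_gel, coeff_ssum, coeff_ssum]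
  simp only [h, mul_inv_cancel_left]

theorem ssum_mul_ssum_comm {A : Set G} {S : Set G}
    (h : ∀ g ∈ A, ∀ x, x ∈ S ↔ g * x * g⁻¹ ∈ S) :
    ssum R A * ssum R S = ssum R S * ssum R A := by
  classical
  have := Fintype.ofFinite G
  rw [ssum_eq_sum (R := R) (S := A) (s := Finset.univ.filter (· ∈ A)) (by simp),
    Finset.sum_mul, Finset.mul_sum]
  refine Finset.sum_congr rfl fun g hg => ?_
  exact gel_mul_ssum_comm (h g (Finset.mem_filter.1 hg).2)

theorem ssum_mul_ssum {A B C : Set G} (h1 : ∀ a ∈ A, ∀ b ∈ B, a * b ∈ C)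
    (h2 : ∀ c ∈ C, ∃ a ∈ A, ∃ b ∈ B, a * b = c)
    (h3 : ∀ a ∈ A, ∀ a' ∈ A, ∀ b ∈ B, ∀ b' ∈ B, a * b = a' * b' → a = a') :
    ssum R A * ssum R B = ssum R C := by
  classical
  have := Fintype.ofFinite G
  refine ga_ext fun c => ?_
  rw [coeff_mul_eq_sum]
  by_cases hc : c ∈ C
  · obtain ⟨a, ha, b, hb, rfl⟩ := h2 c hc
    rw [coeff_ssum_of_mem hc, Finset.sum_eq_single a]
    · rw [coeff_ssum_of_mem ha, inv_mul_cancel_left, coeff_ssum_of_mem hb, one_mul]
    · intro x _ hx
      by_cases hxA : x ∈ A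
      · rw [coeff_ssum_of_not_mem (S := B), mul_zero]
        intro hB
        exact hx (h3 x hxA a ha _ hB b hb (by simp))
      · rw [coeff_ssum_of_not_mem hxA, zero_mul]
    · simp
  · rw [coeff_ssum_of_not_mem hc]
    refine Finset.sum_eq_zero fun x _ => ?_
    by_cases hxA : x ∈ A
    · rw [coeff_ssum_of_not_mem (S := B), mul_zero]
      intro hB
      exact hc (by simpa using h1 x hxA _ hB)
    · rw [coeff_ssum_of_not_mem hxA, zero_mul]

theorem ssum_mul_ssum_subgroup {A B C : Subgroup G} (hA : A ≤ C) (hB : B ≤ C)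
    (h2 : ∀ c ∈ C, ∃ a ∈ A, ∃ b ∈ B, a * b = c) (h3 : ∀ x ∈ A, x ∈ B → x = 1) :
    ssum R (A : Set G) * ssum R (B : Set G) = ssum R (C : Set G) := by
  refine ssum_mul_ssum (fun a ha b hb => C.mul_mem (hA ha) (hB hb)) h2
    fun a ha a' ha' b hb b' hb' h => ?_
  have h4 : a'⁻¹ * a = b' * b⁻¹ := by
    rw [inv_mul_eq_iff_eq_mul, ← mul_assoc, ← h, mul_inv_cancel_right]
  have := h3 _ (A.mul_mem (A.inv_mem ha') ha) (h4 ▸ B.mul_mem hb' (B.inv_mem hb))
  exact (inv_mul_eq_one.1 this).symm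

theorem ssum_mul_of_gel_mul {S : Set G} {a b : R[G]} (h : ∀ g ∈ S, gel R g * a = b) :
    ssum R S * a = (Nat.card S : R) • b := by
  classical
  have := Fintype.ofFinite G
  rw [ssum_eq_sum (R := R) (S := S) (s := S.toFinset) (by simp), Finset.sum_mul,
    Finset.sum_congr rfl (g := fun _ => b) (fun g hg => h g (by simpa using hg)),
    Finset.sum_const, Set.toFinset_card, Nat.card_eq_fintype_card, Nat.cast_smul_eq_nsmul]

theorem mul_ssum_mul_of_gel {S : Set G} {a b c : R[G]} (h : ∀ g ∈ S, a * gel R g * b = c) :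
    a * ssum R S * b = (Nat.card S : R) • c := by
  classical
  have := Fintype.ofFinite G
  rw [ssum_eq_sum (R := R) (S := S) (s := S.toFinset) (by simp), Finset.mul_sum, Finset.sum_mul,
    Finset.sum_congr rfl (g := fun _ => c) (fun g hg => h g (by simpa using hg)),
    Finset.sum_const, Set.toFinset_card, Nat.card_eq_fintype_card, Nat.cast_smul_eq_nsmul]

variable {p : ℕ} [Fact p.Prime] [CharP R p]

theorem sum_eq_zero_of_left_inv [Fintype G] {Q : Subgroup G} (hQ : IsPGroup p Q) (hQ1 : Q ≠ ⊥)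
    (f : G → R) (hf : ∀ q ∈ Q, ∀ x, f (q * x) = f x) : ∑ x, f x = 0 := by
  classical
  rw [sum_eq_sum_fixedPoints hQ f (fun q x => hf q q.2 x)]
  refine Finset.sum_eq_zero fun x hx => ?_
  exfalso
  apply hQ1
  rw [eq_bot_iff]
  intro q hq
  have h1 : q * x = x := (Finset.mem_filter.1 hx).2 ⟨q, hq⟩
  simpa using h1

theorem ssum_mul_eq_zero {U Q : Subgroup G} (hQ : IsPGroup p Q) (hQ1 : Q ≠ ⊥) (hQU : Q ≤ U)
    {a : R[G]} (ha : ∀ q ∈ Q, gel R q * a = a) : ssum R (U : Set G) * a = 0 := by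
  classical
  have := Fintype.ofFinite G
  refine ga_ext fun y => ?_
  rw [coeff_mul_eq_sum, ← Equiv.sum_comp (Equiv.inv G)]
  refine sum_eq_zero_of_left_inv hQ hQ1 _ fun q hq x => ?_
  simp only [Equiv.inv_apply, inv_inv, coeff_ssum, SetLike.mem_coe, inv_mem_iff]
  congr 1
  · have : q * x ∈ U ↔ x ∈ U :=
      ⟨fun h => by simpa using U.mul_mem (U.inv_mem (hQU hq)) h, fun h => U.mul_mem (hQU hq) h⟩
    simp only [this]
  · conv_rhs => rw [← ha q⁻¹ (Q.inv_mem hq), coeff_gel_mul]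
    rw [inv_inv, mul_assoc]

theorem ssum_mul_gel_mul_ssum_eq_zero {U V : Subgroup G} (hU : IsPGroup p U) {t g : G}
    (ht : t ∈ U) (ht1 : t ≠ 1) (htg : g⁻¹ * t * g ∈ V) :
    ssum R (U : Set G) * gel R g * ssum R (V : Set G) = 0 := by
  rw [mul_assoc]
  have hle : Subgroup.zpowers t ≤ U := by simpa using ht
  refine ssum_mul_eq_zero (hU.to_le hle) (by simpa using ht1) hle fun q hq => ?_
  have h1 : g⁻¹ * q * g ∈ V := by
    obtain ⟨k, rfl⟩ := hq
    have := V.zpow_mem htg k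
    rwa [show g⁻¹ * t * g = g⁻¹ * t * g⁻¹⁻¹ by rw [inv_inv], conj_zpow, inv_inv] at this
  rw [← mul_assoc, gel_mul, show q * g = g * (g⁻¹ * q * g) by group, ← gel_mul, mul_assoc,
    gel_mul_ssum_of_mem h1]

/-- The trace `∑ g x g⁻¹` is killed by the Brauer map of a nontrivial `p`-subgroup. -/
theorem br_sum_cj_eq_zero [Fintype G] {Q : Subgroup G} (hQ : IsPGroup p Q) (hQ1 : Q ≠ ⊥)
    (x : R[G]) : br Q (∑ g : G, cj g x) = 0 := by
  classical
  rw [br_def, trunc_eq_zero_iff]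
  intro y hy
  rw [coeff_sum_apply]
  refine sum_eq_zero_of_left_inv hQ hQ1 _ fun q hq g => ?_
  rw [coeff_cj, coeff_cj]
  congr 1
  have := (Subgroup.mem_centralizer_iff.1 hy) q hq
  calc (q * g)⁻¹ * y * (q * g) = g⁻¹ * (q⁻¹ * (y * q)) * g := by group
    _ = g⁻¹ * y * g := by rw [← this]; group

omit [Finite G] [Fact p.Prime] [CharP R p] in
theorem isCentral_sum_cj [Fintype G] (x : R[G]) : IsCentral (∑ g : G, cj g x) := by
  rw [isCentral_iff_cj]
  intro h
  rw [map_sum]
  conv_rhs => rw [← Equiv.sum_comp (Equiv.mulLeft h)]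
  simp only [Equiv.coe_mulLeft, cj_mul]

omit [Fact p.Prime] [CharP R p] in
/-- An element fixed by `U` on whose support `U` acts freely is a trace from `1` to `U`. -/
theorem exists_eq_sum_cj {U : Subgroup G} [Fintype U] {e : R[G]} (he : IsFixed U e)
    (h : ∀ y, e.coeff y ≠ 0 → ∀ u ∈ U, u * y = y * u → u = 1) :
    ∃ x : R[G], e = ∑ u : U, cj (u : G) x := by
  classical
  let s : Setoid G :=
    { r := fun y z => ∃ u ∈ U, u * y * u⁻¹ = z
      iseqv := ⟨fun y => ⟨1, U.one_mem, by simp⟩,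
        fun ⟨u, hu, h⟩ => ⟨u⁻¹, U.inv_mem hu, by rw [← h]; group⟩,
        fun ⟨u, hu, h⟩ ⟨v, hv, h'⟩ => ⟨v * u, U.mul_mem hv hu, by rw [← h', ← h]; group⟩⟩ }
  let rep : G → G := fun y => (Quotient.mk s y).out
  have hrep : ∀ y, ∃ u ∈ U, u * rep y * u⁻¹ = y := fun y => Quotient.mk_out (s := s) y
  have hrep' : ∀ y, ∀ u ∈ U, rep (u⁻¹ * y * u) = rep y := fun y u hu => by
    simp only [rep]
    congr 1
    exact Quotient.sound ⟨u, hu, by group⟩
  refine ⟨ofFun fun y => if rep y = y then e.coeff y else 0, ga_ext fun y => ?_⟩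
  rw [coeff_sum_apply]
  simp only [coeff_cj, coeff_ofFun]
  have h1 : ∀ u : U, e.coeff ((u : G)⁻¹ * y * u) = e.coeff y := fun u => by
    have := he u⁻¹ (U.inv_mem u.2) y
    rwa [inv_inv] at this
  simp only [h1]
  by_cases hy : e.coeff y = 0
  · simp [hy]
  obtain ⟨u, hu, huy⟩ := hrep y
  rw [Finset.sum_eq_single ⟨u, hu⟩]
  · rw [if_pos]
    rw [hrep' y u hu]
    conv_rhs => rw [← huy]
    simp [mul_assoc]
  · intro v _ hv
    rw [if_neg]
    rw [hrep' y v v.2]
    intro h2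
    apply hv
    have h3 : (u * (v : G)⁻¹) * y = y * (u * (v : G)⁻¹) := by
      conv_rhs => rw [← huy, h2]
      group
    have := h y hy _ (U.mul_mem hu (U.inv_mem v.2)) h3
    exact Subtype.ext (mul_inv_eq_one.1 this).symm
  · simp

end CT
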