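import Cfsg.Agent.Lib.Char.TIFam
import Cfsg.Agent.Lib.Grp.Frob

/-!
# The local structure of a Suzuki group, abstractly

`SzStr m Z Q K B w` lists the facts about `Sz(q)`, `q = 2 ^ (2 m + 1)`, which are checked on
matrices; here the TI subgroups `Q`, `K` and the two nonsplit tori are derived from them.
-/

set_option autoImplicit false
set_option linter.unusedSectionVars false

namespace CT

open Cfsg Subgroup
open scoped commutatorElement

variable {G : Type*} [Group G]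

/-- The split BN-pair of a Suzuki group. -/
structure SzStr (m : ℕ) (Z Q K B : Subgroup G) (w : G) : Prop where
  hm : 1 ≤ m
  ZQ : Z ≤ Q
  QB : Q ≤ B
  KB : K ≤ B
  cardZ : Nat.card Z = 2 ^ (2 * m + 1)
  cardQ : Nat.card Q = (2 ^ (2 * m + 1)) ^ 2
  cardK : Nat.card K + 1 = 2 ^ (2 * m + 1)
  normQ : ∀ b ∈ B, ∀ u ∈ Q, b⁻¹ * u * b ∈ Q
  normZ : ∀ b ∈ B, ∀ u ∈ Z, b⁻¹ * u * b ∈ Z
  dec : ∀ b ∈ B, ∃ u ∈ Q, ∃ k ∈ K, b = u * k
  frob : ∀ k ∈ K, k ≠ 1 → ∀ u ∈ Q, u * k = k * u → u = 1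
  ww : w * w = 1
  wk : ∀ k ∈ K, w * k * w = k⁻¹
  bruhat : ∀ g, g ∉ B → ∃ u ∈ Q, ∃ b ∈ B, g = u * w * b
  wu : ∀ u ∈ Q, w * u * w ∈ B → u = 1
  comm : ∀ u ∈ Q, ∀ v ∈ Q, ⁅u, v⁆ ∈ Z
  cent : ∀ z ∈ Z, ∀ u ∈ Q, u * z = z * u
  rad : ∀ H R : Subgroup G, H < Z → R ≤ Q → (∀ u ∈ R, ∀ v ∈ Q, ⁅v, u⁆ ∈ H) →
    Nat.card R ≤ 2 * 2 ^ (2 * m + 1)
  tor : ∀ x : G, (orderOf x).Prime → orderOf x ∣ (2 ^ (2 * m + 1)) ^ 2 + 1 →
    (∀ a b : G, a * x = x * a → b * x = x * b → a * b = b * a) ∧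
      ∀ T : Finset G, (∀ y ∈ T, IsConj x y ∧ y * x = x * y) → T.card ≤ 4

/-- The elements not conjugate into `B`. -/
def notConjInto (B : Subgroup G) : Set G := {g | ∀ x : G, x⁻¹ * g * x ∉ B}

theorem card_dvd_index_of_notConjInto [Finite G] {A B : Subgroup G}
    (h : ∀ a ∈ A, a ≠ 1 → a ∈ notConjInto B) : Nat.card A ∣ B.index := by
  have e := MulAction.selfEquivOrbitsQuotientProd (G := A) (X := G ⧸ B) (fun x => by
    rw [eq_bot_iff]
    intro a ha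
    by_contra h1
    obtain ⟨x, rfl⟩ := QuotientGroup.mk_surjective x
    refine h a a.2 (fun e => h1 (Subtype.ext e)) x ?_
    have : ((a * x : G) : G ⧸ B) = x := ha
    have := B.inv_mem (QuotientGroup.eq.1 this)
    simpa [mul_assoc] using this)
  rw [index, Nat.card_congr e, Nat.card_prod]
  exact Dvd.intro_left _ rfl

namespace SzStr

variable {m : ℕ} {Z Q K B : Subgroup G} {w : G} (S : SzStr m Z Q K B w)
include S

theorem w_inv : w⁻¹ = w := inv_eq_of_mul_eq_one_right S.ww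

theorem eight_le : 8 ≤ 2 ^ (2 * m + 1) :=
  (show 8 = 2 ^ 3 by norm_num) ▸ Nat.pow_le_pow_right two_pos (by have := S.hm; omega)

theorem eq_one_of_mem {k : G} (hk : k ∈ K) (hq : k ∈ Q) : k = 1 := by
  by_contra h
  exact h (S.frob k hk h k hq rfl)

theorem K_comm {a b : G} (ha : a ∈ K) (hb : b ∈ K) : a * b = b * a := by
  have h1 := S.wk _ (K.mul_mem ha hb)
  have h2 : w * (a * b) * w = w * a * w * (w * b * w) := by
    calc w * (a * b) * w = w * a * (w * w) * b * w := by rw [S.ww]; group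
      _ = _ := by group
  rw [h2, S.wk a ha, S.wk b hb, ← mul_inv_rev] at h1
  exact (inv_injective h1).symm

theorem comm_mem {b u : G} (hb : b ∈ B) (hu : u ∈ Q) : u⁻¹ * b * u * b⁻¹ ∈ Q := by
  have := Q.mul_mem (Q.inv_mem hu) (S.normQ _ (B.inv_mem hb) u hu)
  simpa [mul_assoc] using this

theorem mem_K_of_mem_B {x g : G} (hx : x ∈ K) (h1 : x ≠ 1) (hg : g ∈ B) (h : g⁻¹ * x * g ∈ K) :
    g ∈ K := by
  obtain ⟨u, hu, c, hc, rfl⟩ := S.dec g hg
  have h2 : u⁻¹ * x * u * x⁻¹ ∈ K := by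
    have := K.mul_mem (K.mul_mem (K.mul_mem hc h) (K.inv_mem hc)) (K.inv_mem hx)
    simpa [mul_assoc] using this
  have h3 := S.eq_one_of_mem h2 (S.comm_mem (S.KB hx) hu)
  have h4 : u = 1 := S.frob x hx h1 u hu (by
    have : x * u = u * (u⁻¹ * x * u * x⁻¹) * x := by group
    rw [this, h3, mul_one])
  rw [h4, one_mul]; exact hc

theorem mem_K_or {x g : G} (hx : x ∈ K) (h1 : x ≠ 1) (h : g⁻¹ * x * g ∈ K) :
    g ∈ K ∨ w * g ∈ K := by
  by_cases hg : g ∈ B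
  · exact Or.inl (S.mem_K_of_mem_B hx h1 hg h)
  right
  obtain ⟨u, hu, b, hb, rfl⟩ := S.bruhat g hg
  have h2 : w * (u⁻¹ * x * u * x⁻¹) * w ∈ B := by
    have h3 := B.mul_mem (B.mul_mem (B.mul_mem hb (S.KB h)) (B.inv_mem hb)) (S.KB hx)
    have h4 : w * x⁻¹ * w = x := by rw [S.wk _ (K.inv_mem hx), inv_inv]
    have : w * (u⁻¹ * x * u * x⁻¹) * w = w⁻¹ * (u⁻¹ * x * u) * w * (w * x⁻¹ * w) := by
      rw [S.w_inv]
      calc _ = w * (u⁻¹ * x * u) * (w * w) * x⁻¹ * w := by rw [S.ww]; group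
        _ = _ := by group
    rw [this, h4]
    convert h3 using 1; group
  have h3 := S.wu _ (S.comm_mem (S.KB hx) hu) h2
  have h4 : u = 1 := S.frob x hx h1 u hu (by
    have : x * u = u * (u⁻¹ * x * u * x⁻¹) * x := by group
    rw [this, h3, mul_one])
  subst h4
  rw [one_mul, ← mul_assoc, S.ww, one_mul]
  refine S.mem_K_of_mem_B (K.inv_mem hx) (inv_ne_one.2 h1) hb ?_
  rw [← S.wk x hx]
  convert h using 1
  rw [one_mul, mul_inv_rev, S.w_inv]; group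

theorem tiQ : TISub Q B where
  le := S.QB
  norm := S.normQ
  ti x hx h1 g hg := by
    by_contra hB
    obtain ⟨u, hu, b, hb, rfl⟩ := S.bruhat g hB
    refine conj_ne_one' h1 u (S.wu _ (S.normQ u (S.QB hu) x hx) ?_)
    have := B.mul_mem (B.mul_mem hb (S.QB hg)) (B.inv_mem hb)
    convert this using 1
    rw [mul_inv_rev, mul_inv_rev, S.w_inv]; group

theorem w_mem_normalizer : w ∈ normalizer (K : Set G) := by
  rw [mem_normalizer_iff]
  intro k
  rw [S.w_inv]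
  refine ⟨fun hk => S.wk k hk ▸ K.inv_mem hk, fun hk => ?_⟩
  have := S.wk _ hk
  rw [show w * (w * k * w) * w = (w * w) * k * (w * w) by group, S.ww, one_mul, mul_one] at this
  rw [this]; exact K.inv_mem hk

variable [Finite G]

theorem odd_cardK : Odd (Nat.card K) := by
  have h := S.cardK
  rw [pow_succ] at h
  exact ⟨2 ^ (2 * m) - 1, by have := Nat.one_le_two_pow (n := 2 * m); omega⟩

theorem eq_one_of_sq {k : G} (hk : k ∈ K) (h : k * k = 1) : k = 1 := by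
  obtain ⟨j, hj⟩ := S.odd_cardK
  have h1 : k ^ Nat.card K = 1 := by
    exact congrArg Subtype.val (pow_card_eq_one' (x := (⟨k, hk⟩ : K)))
  rwa [hj, pow_succ, pow_mul, sq, h, one_pow, one_mul] at h1

theorem K_ne_bot : K ≠ ⊥ := by
  intro h
  have h1 := S.cardK
  have h2 := S.eight_le
  rw [h, card_bot] at h1
  omega

theorem Z_ne_bot : Z ≠ ⊥ := by
  intro h
  have h1 := S.cardZ
  have h2 := S.eight_le
  rw [h, card_bot] at h1
  omega

theorem w_notMem : w ∉ B := by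
  intro h
  obtain ⟨⟨z, hz⟩, h1⟩ := ne_bot_iff_exists_ne_one.1 S.Z_ne_bot
  exact h1 (Subtype.ext (S.wu z (S.ZQ hz) (B.mul_mem (B.mul_mem h (S.QB (S.ZQ hz))) h)))

theorem caK : CATorus K where
  ne_bot := S.K_ne_bot
  cent y hy h1 := by
    refine le_antisymm (fun g hg => ?_) fun g hg => mem_centralizer_singleton_iff.2 (S.K_comm hg hy)
    rw [mem_centralizer_singleton_iff] at hg
    have h2 : g⁻¹ * y * g = y := by rw [mul_assoc, ← hg, inv_mul_cancel_left]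
    refine (S.mem_K_or hy h1 (by rw [h2]; exact hy)).resolve_right fun h3 => h1 ?_
    refine S.eq_one_of_sq hy ?_
    have h4 := S.K_comm h3 hy
    have h5 : w * y * w * (w * g) = w * g * y := by
      calc _ = w * y * (w * w) * g := by group
        _ = _ := by rw [S.ww, mul_one, mul_assoc, ← hg, mul_assoc]
    rw [S.wk y hy, h4] at h5
    have h6 := mul_right_cancel h5
    nth_rewrite 1 [← h6]
    exact inv_mul_cancel y

theorem relIndex_K : K.relIndex (normalizer (K : Set G)) = 2 := by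
  rw [relIndex, index_eq_two_iff']
  refine ⟨⟨w, S.w_mem_normalizer⟩, fun g => ?_⟩
  obtain ⟨⟨x, hx⟩, h1⟩ := ne_bot_iff_exists_ne_one.1 S.K_ne_bot
  have h := S.mem_K_or hx (fun e => h1 (Subtype.ext e)) ((mem_normalizer_iff''.1 g.2 x).1 hx)
  have h2 : ¬ (w * (g : G) ∈ K ∧ (g : G) ∈ K) := fun h => S.w_notMem (S.KB (by
    simpa using K.mul_mem h.1 (K.inv_mem h.2)))
  simp only [mem_subgroupOf, Xor, coe_mul]
  tauto

theorem cardB : Nat.card B = Nat.card Q * Nat.card K := by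
  rw [← Nat.card_prod]
  refine (Nat.card_congr (Equiv.ofBijective
    (fun p : Q × K => (⟨p.1 * p.2, B.mul_mem (S.QB p.1.2) (S.KB p.2.2)⟩ : B)) ⟨?_, ?_⟩)).symm
  · rintro ⟨u, k⟩ ⟨u', k'⟩ e
    have e : (u : G) * k = u' * k' := congrArg Subtype.val e
    have h1 : (k : G) * (k' : G)⁻¹ = (u : G)⁻¹ * u' := by
      rw [eq_inv_mul_iff_mul_eq, ← mul_assoc, e, mul_inv_cancel_right]
    have h2 := S.eq_one_of_mem (K.mul_mem k.2 (K.inv_mem k'.2))
      (h1 ▸ Q.mul_mem (Q.inv_mem u.2) u'.2)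
    rw [h2] at h1
    exact Prod.ext (Subtype.ext (inv_mul_eq_one.1 h1.symm)) (Subtype.ext (mul_inv_eq_one.1 h2))
  · rintro ⟨b, hb⟩
    obtain ⟨u, hu, k, hk, rfl⟩ := S.dec b hb
    exact ⟨(⟨u, hu⟩, ⟨k, hk⟩), rfl⟩

theorem indexB : B.index = (2 ^ (2 * m + 1)) ^ 2 + 1 := by
  rw [← S.cardQ, ← Finite.card_option, index]
  refine (Nat.card_congr (Equiv.ofBijective
    (fun o : Option Q => o.elim ((1 : G) : G ⧸ B) fun u => ((u * w : G) : G ⧸ B)) ⟨?_, ?_⟩)).symm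
  · have aux : ∀ u : Q, ((1 : G) : G ⧸ B) ≠ ((u * w : G) : G ⧸ B) := fun u e => S.w_notMem (by
      have := B.mul_mem (B.inv_mem (S.QB u.2)) (QuotientGroup.eq.1 e)
      simpa using this)
    rintro (_ | u) (_ | v) e
    · rfl
    · exact absurd e (aux v)
    · exact absurd e.symm (aux u)
    · have h1 := QuotientGroup.eq.1 e
      have h2 := S.wu _ (Q.mul_mem (Q.inv_mem u.2) v.2) (by
        convert h1 using 1
        rw [mul_inv_rev, S.w_inv]; group)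
      rw [Subtype.ext (inv_mul_eq_one.1 h2)]
  · intro c
    obtain ⟨g, rfl⟩ := QuotientGroup.mk_surjective c
    by_cases hg : g ∈ B
    · exact ⟨none, QuotientGroup.eq.2 (by simpa using hg)⟩
    · obtain ⟨u, hu, b, hb, rfl⟩ := S.bruhat g hg
      exact ⟨some ⟨u, hu⟩, QuotientGroup.eq.2 (by simpa [mul_assoc] using hb)⟩

theorem mem_normalizer_Q {b : G} (hb : b ∈ B) : b ∈ normalizer (Q : Set G) :=
  mem_normalizer_iff''.2 fun y => ⟨S.normQ b hb y, fun hy => by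
    simpa [mul_assoc] using S.normQ _ (B.inv_mem hb) _ hy⟩

theorem fpf {b : G} (hb : b ∈ B) (hq : b ∉ Q) : ∃ x ∈ Q, x⁻¹ * b * x ∈ K := by
  obtain ⟨u, hu, k, hk, rfl⟩ := S.dec b hb
  have h1 : k ≠ 1 := by rintro rfl; exact hq (by simpa using hu)
  obtain ⟨x, hx, e⟩ :=
    GT.exists_conj_eq_mul_of_fpf (S.mem_normalizer_Q (S.KB hk)) (S.frob k hk h1) hu
  exact ⟨x, hx, by rw [← e]; simpa [mul_assoc] using hk⟩

theorem centralizer_le_Q {x : G} (hx : x ∈ Q) (h1 : x ≠ 1) : centralizer ({x} : Set G) ≤ Q := by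
  intro g hg
  rw [mem_centralizer_singleton_iff] at hg
  have hb : g ∈ B := S.tiQ.ti x hx h1 g (by rw [mul_assoc, ← hg, inv_mul_cancel_left]; exact hx)
  by_contra hq
  obtain ⟨y, hy, hk⟩ := S.fpf hb hq
  refine conj_ne_one' h1 y (S.frob _ hk (fun e => hq ?_) _ (S.normQ y (S.QB hy) x hx) ?_)
  · have : g = y * (y⁻¹ * g * y) * y⁻¹ := by group
    rw [this, e]; simp
  · calc _ = y⁻¹ * (x * g) * y := by group
      _ = _ := by rw [← hg]; group

theorem mem_conjInto_or {g : G} (h1 : g ≠ 1) (hg : g ∉ notConjInto B) :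
    g ∈ conjInto Q ∨ g ∈ conjInto K := by
  obtain ⟨x, hx⟩ := not_forall.1 hg
  rw [not_not] at hx
  by_cases hq : x⁻¹ * g * x ∈ Q
  · exact Or.inl ⟨h1, x, hq⟩
  · obtain ⟨y, -, hy⟩ := S.fpf hx hq
    exact Or.inr ⟨h1, x * y, by simpa [mul_assoc] using hy⟩

theorem notConjInto_of_commute {x y : G} (hx : x ∈ notConjInto B) (h1 : y ≠ 1)
    (h : x * y = y * x) : y ∈ notConjInto B := by
  by_contra hy
  rcases S.mem_conjInto_or h1 hy with ⟨-, g, hg⟩ | ⟨-, g, hg⟩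
  · exact hx g (S.QB (S.centralizer_le_Q hg (conj_ne_one' h1 g)
      ((conj_mem_centralizer_conj g).2 (mem_centralizer_singleton_iff.2 h))))
  · refine hx g (S.KB ?_)
    rw [← S.caK.cent _ hg (conj_ne_one' h1 g)]
    exact (conj_mem_centralizer_conj g).2 (mem_centralizer_singleton_iff.2 h)

theorem disjoint_QK : Disjoint (conjInto Q) (conjInto K) := by
  rw [Set.disjoint_left]
  rintro g ⟨h1, y, hy⟩ ⟨-, x, hx⟩
  have h2 : orderOf g ∣ Nat.card Q := by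
    have := orderOf_dvd_natCard (⟨_, hy⟩ : Q)
    rwa [← orderOf_coe, show ((⟨_, hy⟩ : Q) : G) = MulAut.conj y⁻¹ g by simp,
      MulEquiv.orderOf_eq] at this
  have h3 : orderOf g ∣ Nat.card K := by
    have := orderOf_dvd_natCard (⟨_, hx⟩ : K)
    rwa [← orderOf_coe, show ((⟨_, hx⟩ : K) : G) = MulAut.conj x⁻¹ g by simp,
      MulEquiv.orderOf_eq] at this
  rw [S.cardQ, ← pow_mul] at h2
  exact h1 (orderOf_eq_one_iff.1 (Nat.eq_one_of_dvd_coprimes
    ((Nat.coprime_two_left.2 S.odd_cardK).pow_left _) h2 h3))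

theorem eq_top_of_normal {N : Subgroup G} [hN : N.Normal] (h : Z ≤ N) : N = ⊤ := by
  obtain ⟨⟨z, hz⟩, h1⟩ := ne_bot_iff_exists_ne_one.1 S.Z_ne_bot
  have h2 : w * z * w ∉ B := fun e => h1 (Subtype.ext (S.wu z (S.ZQ hz) e))
  have h3 : w * z * w ∈ N := by simpa [S.w_inv] using hN.conj_mem z (h hz) w
  obtain ⟨u, hu, b, hb, e⟩ := S.bruhat _ h2
  rw [e] at h3
  obtain ⟨v, hv, c, hc, e'⟩ := S.dec (b * u) (B.mul_mem hb (S.QB hu))
  have h4 : w * (v * c) ∈ N := by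
    rw [← e', ← mul_assoc]; exact hN.mem_comm (by rwa [← mul_assoc])
  have h5 : ∀ k ∈ K, v * k * v⁻¹ * k⁻¹ * (k * k) ∈ N := by
    intro k hk
    have h6 := N.mul_mem (hN.conj_mem _ (N.mul_mem h4 (hN.conj_mem _ (N.inv_mem h4) k)) w)
      (N.one_mem)
    have h7 : w * k⁻¹ * w = k := by rw [S.wk _ (K.inv_mem hk), inv_inv]
    convert h6 using 1
    rw [S.w_inv]
    calc _ = v * (k * c) * c⁻¹ * v⁻¹ * k := by group
      _ = v * (c * k) * c⁻¹ * v⁻¹ * (w * k⁻¹ * w) := by rw [S.K_comm hk hc, h7]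
      _ = (w * w) * v * (c * k) * c⁻¹ * v⁻¹ * (w * k⁻¹ * w) := by rw [S.ww, one_mul]
      _ = _ := by rw [mul_inv_rev w, S.w_inv]; group
  have h6 : ∀ k ∈ K, v * k * v⁻¹ * k⁻¹ ∈ Q := fun k hk => by
    simpa using S.comm_mem (S.KB hk) (Q.inv_mem hv)
  have hQ : Q ≤ N := by
    obtain ⟨⟨k, hk⟩, hk1⟩ := ne_bot_iff_exists_ne_one.1 S.K_ne_bot
    have h7 : v * k * v⁻¹ * k⁻¹ * (k * k) ∉ Q := fun e => hk1 (Subtype.ext
      (S.eq_one_of_sq hk (S.eq_one_of_mem (K.mul_mem hk hk) ((Q.mul_mem_cancel_left (h6 k hk)).1 e))))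
    obtain ⟨x, -, hx⟩ := S.fpf (B.mul_mem (S.QB (h6 k hk)) (S.KB (K.mul_mem hk hk))) h7
    refine GT.le_of_fpf_of_mem (S.mem_normalizer_Q (S.KB hx))
      (S.frob _ hx (conj_ne_one' (fun e => h7 (by rw [e]; exact Q.one_mem)) x)) (by
        rw [normalizer_eq_top]; exact le_top) ?_
    simpa using hN.conj_mem _ (h5 k hk) x⁻¹
  have hK : K ≤ N := by
    intro k hk
    have h7 : k * k ∈ N := (N.mul_mem_cancel_left (hQ (h6 k hk))).1 (h5 k hk)
    obtain ⟨j, hj⟩ := S.odd_cardK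
    have h8 : k ^ Nat.card K = 1 :=
      congrArg Subtype.val (pow_card_eq_one' (x := (⟨k, hk⟩ : K)))
    have : k = (k * k) ^ (j + 1) := by
      rw [← sq, ← pow_mul, mul_add, mul_one, show 2 * j + 2 = Nat.card K + 1 by omega, pow_succ,
        h8, one_mul]
    rw [this]; exact N.pow_mem h7 _
  have hB : B ≤ N := fun g hg => by
    obtain ⟨u, hu, k, hk, rfl⟩ := S.dec g hg
    exact N.mul_mem (hQ hu) (hK hk)
  have hw : w ∈ N := (N.mul_mem_cancel_right (N.mul_mem (hQ hv) (hK hc))).1 h4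
  rw [eq_top_iff]
  intro g _
  by_cases hg : g ∈ B
  · exact hB hg
  · obtain ⟨u, hu, b, hb, rfl⟩ := S.bruhat g hg
    exact N.mul_mem (N.mul_mem (hQ hu) hw) (hB hb)

theorem ncard_notConjInto :
    (notConjInto B).ncard + (conjInto Q).ncard + (conjInto K).ncard + 1 = Nat.card G := by
  have d1 : Disjoint (notConjInto B) (conjInto Q) :=
    Set.disjoint_left.2 fun g hg ⟨_, x, hx⟩ => hg x (S.QB hx)
  have d2 : Disjoint (notConjInto B ∪ conjInto Q) (conjInto K) := by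
    rw [Set.disjoint_left]
    rintro g (hg | hg) h
    · obtain ⟨-, x, hx⟩ := h
      exact hg x (S.KB hx)
    · exact Set.disjoint_left.1 S.disjoint_QK hg h
  have d3 : Disjoint (notConjInto B ∪ conjInto Q ∪ conjInto K) {1} := by
    rw [Set.disjoint_singleton_right]
    rintro ((h | h) | h)
    · exact h 1 (by simp)
    · exact h.1 rfl
    · exact h.1 rfl
  rw [← Set.ncard_union_eq d1, ← Set.ncard_union_eq d2, ← Set.ncard_singleton (1 : G),
    ← Set.ncard_union_eq d3, ← Set.ncard_univ]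
  congr 1
  refine Set.eq_univ_of_forall fun g => ?_
  by_cases h1 : g = 1
  · exact Or.inr h1
  by_cases h2 : g ∈ notConjInto B
  · exact Or.inl (Or.inl (Or.inl h2))
  · exact Or.inl ((S.mem_conjInto_or h1 h2).imp_left Or.inr)

theorem caTorus {g : G} (hg : g ∈ notConjInto B) : CATorus (centralizer ({g} : Set G)) ∧
    (∀ y ∈ centralizer ({g} : Set G), y ≠ 1 → y ∈ notConjInto B) ∧
    Nat.card (centralizer ({g} : Set G)) ∣ (2 ^ (2 * m + 1)) ^ 2 + 1 ∧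
    (centralizer ({g} : Set G)).relIndex (normalizer (centralizer ({g} : Set G) : Set G)) ≤ 4 := by
  have ne1 : ∀ {y : G}, y ∈ notConjInto B → y ≠ 1 := by
    rintro y hy rfl; exact hy 1 (by simp)
  have sub : ∀ {y : G}, y ∈ notConjInto B → ∀ z ∈ centralizer ({y} : Set G), z ≠ 1 →
      z ∈ notConjInto B := fun hy z hz h1 =>
    S.notConjInto_of_commute hy h1 (mem_centralizer_singleton_iff.1 hz).symm
  have pr : ∀ {y : G}, y ∈ notConjInto B → ∃ k : ℕ, y ^ k ≠ 1 ∧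
      (∀ a b : G, a * y ^ k = y ^ k * a → b * y ^ k = y ^ k * b → a * b = b * a) ∧
      ∀ T : Finset G, (∀ z ∈ T, IsConj (y ^ k) z ∧ z * y ^ k = y ^ k * z) → T.card ≤ 4 := by
    intro y hy
    obtain ⟨s, hs, k, hk⟩ := Nat.exists_prime_and_dvd (orderOf_eq_one_iff.not.2 (ne1 hy))
    have h0 : 0 < orderOf y := orderOf_pos y
    have hk0 : k ≠ 0 := by rintro rfl; omega
    have h1 : orderOf (y ^ k) = s := by
      rw [orderOf_pow_of_dvd hk0 ⟨s, by rw [hk, mul_comm]⟩, hk,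
        Nat.mul_div_cancel _ (Nat.pos_of_ne_zero hk0)]
    refine ⟨k, fun e => hs.one_lt.ne' (by rw [← h1, e, orderOf_one]), S.tor _ (h1 ▸ hs) ?_⟩
    rw [← S.indexB, ← Nat.card_zpowers]
    refine card_dvd_index_of_notConjInto fun a ha => sub hy a ?_
    obtain ⟨n, rfl⟩ := mem_zpowers_iff.1 ha
    exact mem_centralizer_singleton_iff.2 (((Commute.refl y).pow_left k).zpow_left n)
  have ab : ∀ {y : G}, y ∈ notConjInto B → ∀ a ∈ centralizer ({y} : Set G),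
      ∀ b ∈ centralizer ({y} : Set G), a * b = b * a := by
    intro y hy a ha b hb
    obtain ⟨k, -, h2, -⟩ := pr hy
    exact h2 a b (Commute.pow_right (mem_centralizer_singleton_iff.1 ha) k)
      (Commute.pow_right (mem_centralizer_singleton_iff.1 hb) k)
  have self : ∀ y : G, y ∈ centralizer ({y} : Set G) := fun y => mem_centralizer_singleton_iff.2 rfl
  have ca : CATorus (centralizer ({g} : Set G)) := by
    refine ⟨fun e => ne1 hg (by simpa [e] using self g), fun y hy h1 => le_antisymm ?_ ?_⟩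
    · intro z hz
      exact mem_centralizer_singleton_iff.2 (ab (sub hg y hy h1) z hz g
        (mem_centralizer_singleton_iff.2 (mem_centralizer_singleton_iff.1 hy).symm))
    · intro z hz
      exact mem_centralizer_singleton_iff.2 (ab hg z hz y hy)
  refine ⟨ca, sub hg, S.indexB ▸ card_dvd_index_of_notConjInto (sub hg), ?_⟩
  obtain ⟨k, h1, -, h3⟩ := pr hg
  exact ca.relIndex_le (pow_mem (self g) k) h1 h3

theorem cardG : Nat.card G = ((2 ^ (2 * m + 1)) ^ 2 + 1) * ((2 ^ (2 * m + 1)) ^ 2 * Nat.card K) := by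
  rw [← B.index_mul_card, S.indexB, S.cardB, S.cardQ]

theorem indexK : K.index = ((2 ^ (2 * m + 1)) ^ 2 + 1) * (2 ^ (2 * m + 1)) ^ 2 :=
  Nat.eq_of_mul_eq_mul_right (Nat.card_pos (α := K)) (by rw [K.index_mul_card, S.cardG, mul_assoc])

theorem two_mul_ncard :
    2 * (notConjInto B).ncard = (2 ^ (2 * m + 1)) ^ 3 * Nat.card K ^ 2 := by
  have h1 := S.ncard_notConjInto
  have h2 := S.tiQ.ncard_conjInto
  have h3 := S.caK.ncard_mul
  rw [S.relIndex_K, S.indexK, S.cardG] at h3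
  rw [S.indexB, S.cardQ] at h2
  rw [S.cardG] at h1
  rw [← S.cardK] at h1 h2 h3 ⊢
  zify at h1 h2 h3 ⊢
  linear_combination 2 * h1 - 2 * h2 - h3

end SzStr

/-! ### The nonsplit tori -/

theorem sz_torus_bound {n c l a i : ℕ} (h : c * l + i = n) (hi : i * a = n) (ha : 5 ≤ a) :
    4 * n ≤ 5 * (c * l) := by
  nlinarith

theorem sz_one_torus {k c l a b : ℕ} (hk : 7 ≤ k) (hab : a * b = (k + 1) ^ 2 + 1) (ha : 5 ≤ a)
    (hl : l = 1 ∨ l = 2 ∨ l = 4) (hc : 2 * c = (k + 1) ^ 3 * k ^ 2)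
    (h : c * l + b * ((k + 1) ^ 2 * k) = a * b * ((k + 1) ^ 2 * k)) : False := by
  have h1 : (k + 1) * k * l + 2 * b = 2 * (a * b) := by
    refine Nat.eq_of_mul_eq_mul_left (show 0 < (k + 1) ^ 2 * k by positivity) ?_
    zify at h hc ⊢
    linear_combination 2 * h - l * hc
  have h2 : 5 * b ≤ a * b := Nat.mul_le_mul_right b ha
  rw [hab] at h1 h2
  rcases hl with rfl | rfl | rfl
  · nlinarith
  · have hb : b = k + 2 := by nlinarith
    subst hb
    rcases le_or_gt a k with h3 | h3 <;> nlinarith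
  · nlinarith

theorem sz_two_tori {k r c₁ c₂ a₁ a₂ e : ℕ} (hk : 7 ≤ k) (hr : r ^ 2 = 2 * (k + 1))
    (ho : Odd k) (he : a₁ * a₂ * e = (k + 1) ^ 2 + 1) (hc : 2 * (c₁ + c₂) = (k + 1) ^ 3 * k ^ 2)
    (h₁ : c₁ * 4 + a₂ * e * ((k + 1) ^ 2 * k) = a₁ * a₂ * e * ((k + 1) ^ 2 * k))
    (h₂ : c₂ * 4 + a₁ * e * ((k + 1) ^ 2 * k) = a₁ * a₂ * e * ((k + 1) ^ 2 * k)) :
    (a₁ = k + 2 + r ∧ a₂ + r = k + 2) ∨ (a₂ = k + 2 + r ∧ a₁ + r = k + 2) := by
  have h1 : 2 * ((k + 1) * k) + (a₁ + a₂) * e = 2 * (a₁ * a₂ * e) := by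
    refine Nat.eq_of_mul_eq_mul_left (show 0 < (k + 1) ^ 2 * k by positivity) ?_
    zify at h₁ h₂ hc ⊢
    linear_combination h₁ + h₂ - 2 * hc
  rw [he] at h1
  have h2 : (a₁ + a₂) * e = 2 * k + 4 := by nlinarith
  have h3 : e ∣ 2 ^ 2 := by
    have h4 : e ∣ k * (2 * k + 4) := Dvd.dvd.mul_left ⟨a₁ + a₂, by rw [← h2, mul_comm]⟩ k
    have h5 : e ∣ k * (2 * k + 4) + 2 ^ 2 := ⟨2 * (a₁ * a₂), by nlinarith⟩
    exact (Nat.dvd_add_right h4).1 h5
  have h4 : Odd e := by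
    have : Odd (a₁ * a₂ * e) := he ▸ (ho.add_one.pow_of_ne_zero two_ne_zero).add_one
    exact Nat.Odd.of_mul_right this
  have h5 : e = 1 := Nat.eq_one_of_dvd_coprimes ((Nat.coprime_two_left.2 h4).pow_left 2) h3 dvd_rfl
  subst h5
  rw [mul_one] at he h2
  have h6 : ((a₁ : ℤ) - (k + 2) - r) * ((a₁ : ℤ) - (k + 2) + r) = 0 := by
    zify at he h2 hr
    linear_combination (a₁ : ℤ) * h2 - he - hr
  rcases mul_eq_zero.1 h6 with h | h
  · left; omega
  · right; omega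

/-- A nonsplit torus of a Suzuki group. -/
structure SzTorus (B A : Subgroup G) : Prop where
  ca : CATorus A
  sub : ∀ y ∈ A, y ≠ 1 → y ∈ notConjInto B
  four : A.relIndex (normalizer (A : Set G)) = 4

theorem SzStr.exists_tori [Finite G] {m : ℕ} {Z Q K B : Subgroup G} {w : G}
    (S : SzStr m Z Q K B w) : ∃ A₁ A₂ : Subgroup G, SzTorus B A₁ ∧ SzTorus B A₂ ∧
      Nat.card A₁ = 2 ^ (2 * m + 1) + 1 + 2 ^ (m + 1) ∧
      Nat.card A₂ + 2 ^ (m + 1) = 2 ^ (2 * m + 1) + 1 := by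
  have hK := S.cardK
  have h8 := S.eight_le
  have hΦ := S.two_mul_ncard
  have hG := S.cardG
  have h3 : 2 ^ (2 * m + 1) % 3 = 2 := by
    rw [pow_succ, pow_mul, Nat.mul_mod, Nat.pow_mod]; norm_num
  have hr : (2 ^ (m + 1)) ^ 2 = 2 * 2 ^ (2 * m + 1) := by ring
  have tor := fun g hg => S.caTorus (g := g) hg
  rw [← hK] at h8 hΦ hG h3 hr tor ⊢
  have ho := S.odd_cardK
  set k := Nat.card K
  have hk0 : 0 < k := by omega
  have h3G : ¬ 3 ∣ Nat.card G := by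
    rw [hG]
    intro h
    obtain ⟨j, hj⟩ : ∃ j, k = 3 * j + 1 := ⟨k / 3, by omega⟩
    rw [hj] at h
    have : ((3 * j + 1 + 1) ^ 2 + 1) * ((3 * j + 1 + 1) ^ 2 * (3 * j + 1)) =
      3 * (81 * j ^ 5 + 243 * j ^ 4 + 297 * j ^ 3 + 183 * j ^ 2 + 56 * j + 6) + 2 := by ring
    omega
  set C : G → Subgroup G := fun g => centralizer ({g} : Set G)
  set l : G → ℕ := fun g => (C g).relIndex (normalizer (C g : Set G))
  set c : G → ℕ := fun g => (conjInto (C g)).ncard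
  have key : ∀ g ∈ notConjInto B, conjInto (C g) ⊆ notConjInto B ∧ g ∈ conjInto (C g) ∧
      5 ≤ Nat.card (C g) ∧ (l g = 1 ∨ l g = 2 ∨ l g = 4) ∧ 4 * Nat.card G ≤ 5 * (c g * l g) ∧
      ∀ b, Nat.card (C g) * b = (k + 1) ^ 2 + 1 →
        c g * l g + b * ((k + 1) ^ 2 * k) = ((k + 1) ^ 2 + 1) * ((k + 1) ^ 2 * k) := by
    intro g hg
    obtain ⟨h1, h2, h4, h5⟩ := tor g hg
    have ha : 5 ≤ Nat.card (C g) := by
      have e1 : Nat.card (C g) ≠ 1 := fun e => h1.ne_bot (card_eq_one.1 e)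
      have e2 : Nat.card (C g) ≠ 3 := fun e => h3G (e ▸ card_subgroup_dvd_card _)
      have e3 : Odd (Nat.card (C g)) :=
        Odd.of_dvd_nat (ho.add_one.pow_of_ne_zero two_ne_zero).add_one h4
      obtain ⟨j, hj⟩ := e3
      omega
    refine ⟨?_, ⟨?_, 1, by simpa using mem_centralizer_singleton_iff.2 rfl⟩, ha, ?_,
      sz_torus_bound h1.ncard_mul (index_mul_card _) ha, fun b hb => ?_⟩
    · rintro y ⟨hy, x, hx⟩ z hz
      exact h2 _ hx (conj_ne_one' hy x) (x⁻¹ * z) (by simpa [mul_assoc] using hz)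
    · rintro rfl; exact hg 1 (by simp)
    · have e1 : l g ≠ 0 := index_ne_zero_of_finite
      have e2 : l g ≠ 3 := fun e => h3G (e ▸ (index_dvd_card _).trans (card_subgroup_dvd_card _))
      have e3 : l g ≤ 4 := h5
      omega
    · have e1 := h1.ncard_mul
      have e2 : (C g).index = b * ((k + 1) ^ 2 * k) :=
        Nat.eq_of_mul_eq_mul_right (Nat.card_pos (α := C g)) (by
          rw [index_mul_card, hG, ← hb]; ring)
      rw [← hG, ← e2]; exact e1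
  have hlt : 2 * (notConjInto B).ncard < Nat.card G := by
    rw [hΦ, hG]; nlinarith [show 0 < (k + 1) ^ 2 * k by positivity]
  obtain ⟨g₁, hg₁⟩ : (notConjInto B).Nonempty := by
    refine Set.nonempty_of_ncard_ne_zero fun e => ?_
    rw [e] at hΦ
    exact absurd hΦ (by positivity)
  obtain ⟨s₁, -, a₁, l₁, b₁, e₁⟩ := key g₁ hg₁
  obtain ⟨g₂, hg₂, n₂⟩ : ∃ g₂ ∈ notConjInto B, g₂ ∉ conjInto (C g₁) := by
    by_contra! h
    obtain ⟨b, hb⟩ := (tor g₁ hg₁).2.2.1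
    have e : c g₁ = (notConjInto B).ncard := congrArg Set.ncard (Set.Subset.antisymm s₁ h)
    exact sz_one_torus (by omega) hb.symm a₁ l₁ (e ▸ hΦ) (hb ▸ e₁ b hb.symm)
  obtain ⟨s₂, m₂, a₂, l₂, b₂, e₂⟩ := key g₂ hg₂
  have self : ∀ y : G, y ∈ C y := fun y => mem_centralizer_singleton_iff.2 rfl
  have d₁₂ := (tor g₁ hg₁).1.disjoint (tor g₂ hg₂).1 (self g₂) m₂.1 n₂
  have hsub : conjInto (C g₁) ∪ conjInto (C g₂) ⊆ notConjInto B := Set.union_subset s₁ s₂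
  have hle : c g₁ + c g₂ ≤ (notConjInto B).ncard := by
    rw [← Set.ncard_union_eq d₁₂]; exact Set.ncard_le_ncard hsub
  have hl₁ : l g₁ = 4 := by
    rcases l₁ with h | h | h <;> rcases l₂ with h' | h' | h' <;> rw [h] at b₁ <;>
      rw [h'] at b₂ <;> omega
  have hl₂ : l g₂ = 4 := by
    rcases l₂ with h' | h' | h' <;> rw [hl₁] at b₁ <;> rw [h'] at b₂ <;> omega
  have heq : c g₁ + c g₂ = (notConjInto B).ncard := by
    rw [← Set.ncard_union_eq d₁₂]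
    congr 1
    refine Set.Subset.antisymm hsub fun g₃ hg₃ => ?_
    by_contra n₃
    obtain ⟨s₃, m₃, -, l₃, b₃, -⟩ := key g₃ hg₃
    have d₃ : Disjoint (conjInto (C g₁) ∪ conjInto (C g₂)) (conjInto (C g₃)) :=
      Set.disjoint_union_left.2
        ⟨(tor g₁ hg₁).1.disjoint (tor g₃ hg₃).1 (self g₃) m₃.1 fun h => n₃ (Or.inl h),
        (tor g₂ hg₂).1.disjoint (tor g₃ hg₃).1 (self g₃) m₃.1 fun h => n₃ (Or.inr h)⟩
    have hle₃ : c g₁ + c g₂ + c g₃ ≤ (notConjInto B).ncard := by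
      rw [← Set.ncard_union_eq d₁₂, ← Set.ncard_union_eq d₃]
      exact Set.ncard_le_ncard (Set.union_subset hsub s₃)
    rw [hl₁] at b₁
    rw [hl₂] at b₂
    rcases l₃ with h | h | h <;> rw [h] at b₃ <;> omega
  obtain ⟨e, he⟩ := ((tor g₁ hg₁).1.coprime (tor g₂ hg₂).1 d₁₂).mul_dvd_of_dvd_of_dvd
    (tor g₁ hg₁).2.2.1 (tor g₂ hg₂).2.2.1
  have T₁ : SzTorus B (C g₁) := ⟨(tor g₁ hg₁).1, (tor g₁ hg₁).2.1, hl₁⟩
  have T₂ : SzTorus B (C g₂) := ⟨(tor g₂ hg₂).1, (tor g₂ hg₂).2.1, hl₂⟩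
  have f₁ := e₁ (Nat.card (C g₂) * e) (by rw [he, mul_assoc])
  have f₂ := e₂ (Nat.card (C g₁) * e) (by rw [he]; ring)
  rw [hl₁, he] at f₁
  rw [hl₂, he] at f₂
  rcases sz_two_tori (by omega) hr ho he.symm (heq ▸ hΦ) f₁ f₂ with h | h
  · exact ⟨C g₁, C g₂, T₁, T₂, h.1, h.2⟩
  · exact ⟨C g₂, C g₁, T₂, T₁, h.1, h.2⟩

end CT
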