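import Cfsg.Agent.Lib.Char.Degrees

/-!
# TI subgroups and families of exceptional characters

`TISub A N`: `N` normalises `A`, and an element conjugating a nonidentity element of `A` into `A`
lies in `N`.  For `A` abelian and the centraliser of each of its nonidentity elements, a
generalised character `f` vanishing on `A#` of the right norm produces `(|A| - 1) / |N : A|`
irreducible characters `± (f - λ^G)`.
-/

set_option autoImplicit false

namespace CT

open Cfsg
open scoped ComplexConjugate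

variable {G : Type*} [Group G]

/-- `A` is a TI subgroup with normaliser `N`. -/
structure TISub (A N : Subgroup G) : Prop where
  le : A ≤ N
  norm : ∀ n ∈ N, ∀ a ∈ A, n⁻¹ * a * n ∈ A
  ti : ∀ x ∈ A, x ≠ 1 → ∀ g : G, g⁻¹ * x * g ∈ A → g ∈ N

/-- The nonidentity elements conjugate into `A`. -/
def conjInto (A : Subgroup G) : Set G := {g | g ≠ 1 ∧ ∃ x : G, x⁻¹ * g * x ∈ A}

theorem mem_conjInto {A : Subgroup G} {g : G} :
    g ∈ conjInto A ↔ g ≠ 1 ∧ ∃ x : G, x⁻¹ * g * x ∈ A := Iff.rfl

theorem conj_ne_one' {g : G} (hg : g ≠ 1) (x : G) : x⁻¹ * g * x ≠ 1 := by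
  intro h
  apply hg
  have : g = x * (x⁻¹ * g * x) * x⁻¹ := by group
  rw [this, h]; group

namespace TISub

variable {A N : Subgroup G} (h : TISub A N)
include h

theorem normal : (A.subgroupOf N).Normal := ⟨fun a ha n => by
  have := h.norm _ (N.inv_mem n.2) _ ha
  rw [inv_inv] at this
  exact this⟩

variable [Finite G]

theorem ind_apply {η : N → ℂ} (hη : IsClassFunction N η) (hv : ∀ n : N, (n : G) ∉ A → η n = 0)
    (n : N) (hn : (n : G) ∈ A) (h1 : n ≠ 1) : ind N η n = η n := by
  refine ind_apply_of_TI_aux hη n fun g hg => ?_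
  by_cases hm : g⁻¹ * n * g ∈ N
  · rw [extendByZero_of_mem N η hm]
    exact hv _ fun hX => hg (h.ti _ hn (fun e => h1 (Subtype.ext e)) g hX)
  · exact extendByZero_of_notMem N η hm

theorem ip_ind_ind {η η' : N → ℂ} (hη' : IsClassFunction N η')
    (hv : ∀ n : N, (n : G) ∉ A → η n = 0) (hv' : ∀ n : N, (n : G) ∉ A → η' n = 0) :
    ip (ind N η) (ind N η') =
      ip η η' + ((N.index : ℂ) - 1) * η 1 * conj (η' 1) / Nat.card N := by
  classical
  have := Fintype.ofFinite N
  rw [ip_ind_left N η (isClassFunction_ind N η'), ip_def, ip_def]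
  have key : ∀ n : N, η n * conj (res N (ind N η') n) =
      η n * conj (η' n) + if n = 1 then ((N.index : ℂ) - 1) * η 1 * conj (η' 1) else 0 := by
    intro n
    by_cases h1 : n = 1
    · subst h1
      rw [if_pos rfl, res_apply, OneMemClass.coe_one, ind_apply_one, map_mul, map_natCast]
      ring
    · rw [if_neg h1, add_zero, res_apply]
      by_cases hn : (n : G) ∈ A
      · rw [h.ind_apply hη' hv' n hn h1]
      · rw [hv n hn, zero_mul, zero_mul]
  simp only [key, Finset.sum_add_distrib, Finset.sum_ite_eq', Finset.mem_univ, if_true]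
  have hN : (Nat.card N : ℂ) ≠ 0 := card_cast_ne_zero
  field_simp

theorem ncard_conjInto : (conjInto A).ncard + N.index = N.index * Nat.card A := by
  classical
  have := Fintype.ofFinite G
  have := Fintype.ofFinite N
  have := Fintype.ofFinite A
  set η : N → ℂ := fun n => if (n : G) ∈ A ∧ n ≠ 1 then 1 else 0 with hη
  have hc : IsClassFunction N η := by
    intro a b
    have e1 : ((b * a * b⁻¹ : N) : G) ∈ A ↔ (a : G) ∈ A :=
      (h.normal.mem_comm_iff (a := b * a) (b := b⁻¹)).trans (by simp [Subgroup.mem_subgroupOf])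
    have e2 : b * a * b⁻¹ ≠ 1 ↔ a ≠ 1 := by simp
    simp only [hη, e1, e2]
  have hv : ∀ n : N, (n : G) ∉ A → η n = 0 := fun n hn => by simp [hη, hn]
  have hind : ∀ g, ind N η g = if g ∈ conjInto A then 1 else 0 := by
    intro g
    split_ifs with hg
    · obtain ⟨h1, x, hx⟩ := hg
      rw [← (isClassFunction_ind N η).conj' g x]
      have := h.ind_apply hc hv ⟨_, h.le hx⟩ hx
        (fun e => conj_ne_one' h1 x (congrArg Subtype.val e))
      rw [this]
      simp only [hη]
      rw [if_pos ⟨hx, fun e => conj_ne_one' h1 x (congrArg Subtype.val e)⟩]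
    · refine ind_apply_eq_zero' fun k hk => ?_
      simp only [hη]
      rw [if_neg]
      rintro ⟨h1, h2⟩
      obtain ⟨c, hc⟩ := isConj_iff.1 hk
      refine hg ⟨?_, c⁻¹, by rw [inv_inv, hc]; exact h1⟩
      rintro rfl
      exact h2 (Subtype.ext (by simpa using hc.symm))
  have h1 := ip_ind_left N η (χ := fun _ => 1) (isCharacter_one).isClassFunction
  rw [ip_def, ip_def] at h1
  simp only [hind, map_one, mul_one, res_apply, Finset.sum_boole] at h1
  simp only [hη, Finset.sum_boole] at h1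
  have h2 : (Finset.univ.filter fun g : G => g ∈ conjInto A).card = (conjInto A).ncard := by
    rw [← Set.ncard_coe_finset]; congr 1; ext; simp
  have h3 : (Finset.univ.filter fun n : N => (n : G) ∈ A ∧ n ≠ 1).card + 1 = Nat.card A := by
    rw [← Nat.card_congr (Subgroup.subgroupOfEquivOfLe h.le).toEquiv, Nat.card_eq_fintype_card,
      Fintype.card_subtype, ← Finset.card_erase_add_one (a := (1 : N))
        (s := Finset.univ.filter fun n : N => n ∈ A.subgroupOf N) (by simp)]
    congr 2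
    ext n
    simp [Subgroup.mem_subgroupOf, and_comm]
  rw [h2] at h1
  have hN : (Nat.card N : ℂ) ≠ 0 := card_cast_ne_zero
  have hG : (Nat.card G : ℂ) = N.index * Nat.card N := by exact_mod_cast N.index_mul_card.symm
  have hI : (N.index : ℂ) ≠ 0 := Nat.cast_ne_zero.2 N.index_ne_zero_of_finite
  rw [hG] at h1
  field_simp at h1
  rw [← h3]
  have : ((conjInto A).ncard : ℂ) + N.index = N.index *
      ((Finset.univ.filter fun n : N => (n : G) ∈ A ∧ n ≠ 1).card + 1) := by
    rw [h1]; ring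
  exact_mod_cast this

/-- The characters of the Frobenius group `N` not containing `A` in the kernel. -/
theorem irr_spec [IsMulCommutative A]
    (hc : ∀ x ∈ A, x ≠ 1 → Subgroup.centralizer ({x} : Set G) ≤ A) {ψ : IrrCharacter N}
    (hψ : ¬ A.subgroupOf N ≤ ker ψ.1) :
    charDegree ψ.1 = A.relIndex N ∧ ∀ n : N, (n : G) ∉ A → ψ.1 n = 0 := by
  have := h.normal
  obtain ⟨θ, -, e⟩ := exists_ind_eq_of_centralizer_le (N := A.subgroupOf N) (fun x hx h1 y hy => by
    refine hc x hx (fun e => h1 (Subtype.ext e)) ?_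
    rw [Subgroup.mem_centralizer_singleton_iff] at hy ⊢
    exact congrArg Subtype.val hy) hψ
  have h1 : charDegree θ.1 = 1 := irr_degree_eq_one_of_comm (fun a b => Subtype.ext <| Subtype.ext <|
    setLike_mul_comm (s := A) a.2 b.2) θ
  refine ⟨?_, fun n hn => ?_⟩
  · rw [← e, charDegree_ind (irr_isCharacter θ), h1, mul_one, Subgroup.relIndex]
  · rw [← e]; exact ind_apply_eq_zero_of_normal _ hn

theorem ip_sub_ind {f : G → ℂ} (hf : IsClassFunction G f) (hv : ∀ x ∈ A, x ≠ 1 → f x = 0)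
    (hr : conj (f 1) = f 1)
    (hn : Nat.card A * ip f f - 2 * f 1 + A.index - A.relIndex N = 0)
    {η η' : N → ℂ} (hη' : IsClassFunction N η')
    (h0 : ∀ n : N, (n : G) ∉ A → η n = 0) (h0' : ∀ n : N, (n : G) ∉ A → η' n = 0)
    (h1 : η 1 = A.relIndex N) (h1' : η' 1 = A.relIndex N) :
    ip (f - ind N η) (f - ind N η') = ip η η' := by
  classical
  have := Fintype.ofFinite N
  have hN : (Nat.card N : ℂ) = A.relIndex N * Nat.card A := by
    rw [← Nat.card_congr (Subgroup.subgroupOfEquivOfLe h.le).toEquiv]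
    exact_mod_cast (A.subgroupOf N).index_mul_card.symm
  have hI : (A.index : ℂ) = A.relIndex N * N.index := by
    exact_mod_cast (Subgroup.relIndex_mul_index h.le).symm
  have hA : (Nat.card A : ℂ) ≠ 0 := card_cast_ne_zero
  have hl : (A.relIndex N : ℂ) ≠ 0 := Nat.cast_ne_zero.2 (A.subgroupOf N).index_ne_zero_of_finite
  have aux : ∀ {ζ : N → ℂ}, (∀ n : N, (n : G) ∉ A → ζ n = 0) → ζ 1 = A.relIndex N →
      ip (ind N ζ) f = f 1 / Nat.card A := by
    intro ζ hz hz1
    rw [ip_ind_left N ζ hf, ip_def, Finset.sum_eq_single 1]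
    · rw [hz1, res_apply, OneMemClass.coe_one, hr, hN]; field_simp
    · intro n _ hn1
      by_cases hn : (n : G) ∈ A
      · rw [res_apply, hv _ hn (fun e => hn1 (Subtype.ext e)), map_zero, mul_zero]
      · rw [hz n hn, zero_mul]
    · simp
  have e1 := aux h0 h1
  have e2 : ip f (ind N η') = f 1 / Nat.card A := by
    rw [← conj_ip, aux h0' h1', map_div₀, hr, map_natCast]
  rw [ip_sub_left, ip_sub_right, ip_sub_right, e1, e2, h.ip_ind_ind hη' h0 h0', h1, h1', map_natCast,
    hN]
  rw [hI] at hn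
  field_simp
  linear_combination hn

/-- A family of exceptional characters. -/
theorem exists_family [IsMulCommutative A]
    (hc : ∀ x ∈ A, x ≠ 1 → Subgroup.centralizer ({x} : Set G) ≤ A)
    {f : G → ℂ} (hf : IsGeneralizedCharacter G f) (hv : ∀ x ∈ A, x ≠ 1 → f x = 0)
    (hn : Nat.card A * ip f f - 2 * f 1 + A.index - A.relIndex N = 0) {d : ℕ}
    (hd : (f 1 - A.index) ^ 2 = (d : ℂ) ^ 2) :
    ∃ E : Finset (IrrCharacter G), E.card * A.relIndex N + 1 = Nat.card A ∧
      ∀ χ ∈ E, charDegree χ.1 = d := by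
  classical
  have := h.normal
  have hr : conj (f 1) = f 1 := by
    obtain ⟨n, hn⟩ := hf.exists_int_apply_one
    rw [hn, map_intCast]
  set T : Finset (IrrCharacter N) := Finset.univ.filter fun ψ => ¬ A.subgroupOf N ≤ ker ψ.1 with hT
  have hTs : ∀ ψ ∈ T, charDegree ψ.1 = A.relIndex N ∧ ∀ n : N, (n : G) ∉ A → ψ.1 n = 0 :=
    fun ψ hψ => h.irr_spec hc (Finset.mem_filter.1 hψ).2
  have hip : ∀ ψ ∈ T, ∀ ψ' ∈ T, ip (f - ind N ψ.1) (f - ind N ψ'.1) = ip ψ.1 ψ'.1 :=
    fun ψ hψ ψ' hψ' => h.ip_sub_ind hf.isClassFunction hv hr hn (irr_isClassFunction ψ')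
      (hTs ψ hψ).2 (hTs ψ' hψ').2 (by rw [irr_apply_one, (hTs ψ hψ).1])
      (by rw [irr_apply_one, (hTs ψ' hψ').1])
  have hex : ∀ ψ ∈ T, ∃ χ : IrrCharacter G, f - ind N ψ.1 = χ.1 ∨ f - ind N ψ.1 = -χ.1 :=
    fun ψ hψ => (hf.sub (irr_isCharacter ψ).ind.isGen).eq_irr_or_neg_of_ip_self
      (by rw [hip ψ hψ ψ hψ, ip_irr_self])
  choose! c hcs using hex
  have hinj : Set.InjOn c T := by
    intro ψ hψ ψ' hψ' e
    by_contra hne
    have h1 := hip ψ hψ ψ' hψ'
    rw [ip_irr_ne hne] at h1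
    rcases hcs ψ hψ with e1 | e1 <;> rcases hcs ψ' hψ' with e2 | e2 <;>
      simp [e1, e2, e, ip_neg_left, ip_neg_right, ip_irr_self] at h1
  refine ⟨T.image c, ?_, fun χ hχ => ?_⟩
  · rw [Finset.card_image_of_injOn hinj]
    have h1 := sum_irr_degree_sq (G := N)
    rw [← Finset.sum_filter_add_sum_filter_not Finset.univ
      (fun ψ : IrrCharacter N => A.subgroupOf N ≤ ker ψ.1), sum_le_ker_degree_sq,
      Finset.sum_congr rfl (g := fun _ => A.relIndex N ^ 2) (fun ψ hψ => by rw [(hTs ψ hψ).1]),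
      Finset.sum_const, smul_eq_mul, ← (A.subgroupOf N).index_mul_card,
      Nat.card_congr (Subgroup.subgroupOfEquivOfLe h.le).toEquiv] at h1
    have hl : 0 < A.relIndex N := Nat.pos_of_ne_zero (A.subgroupOf N).index_ne_zero_of_finite
    change A.relIndex N + T.card * A.relIndex N ^ 2 = A.relIndex N * Nat.card A at h1
    refine Nat.eq_of_mul_eq_mul_left hl ?_
    rw [← h1]; ring
  · obtain ⟨ψ, hψ, rfl⟩ := Finset.mem_image.1 hχ
    have hI : (A.index : ℂ) = A.relIndex N * N.index := by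
      exact_mod_cast (Subgroup.relIndex_mul_index h.le).symm
    have h1 : (f - ind N ψ.1) 1 = f 1 - A.index := by
      rw [Pi.sub_apply, ind_apply_one, irr_apply_one, (hTs ψ hψ).1, hI, mul_comm]
    have h2 : ((charDegree (c ψ).1 : ℂ)) ^ 2 = (d : ℂ) ^ 2 := by
      rw [← hd, ← h1, ← irr_apply_one]
      rcases hcs ψ hψ with e | e <;> simp only [e, Pi.neg_apply, neg_sq]
    exact (Nat.pow_left_injective two_ne_zero) (by exact_mod_cast h2)

end TISub

end CT

namespace CT

open Cfsg Subgroup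

variable {G : Type*} [Group G]

/-- A nontrivial subgroup which is the centraliser of each of its nonidentity elements. -/
structure CATorus (A : Subgroup G) : Prop where
  ne_bot : A ≠ ⊥
  cent : ∀ y ∈ A, y ≠ 1 → centralizer ({y} : Set G) = A

theorem conj_mem_centralizer_conj {x y : G} (g : G) :
    g⁻¹ * y * g ∈ centralizer ({g⁻¹ * x * g} : Set G) ↔ y ∈ centralizer ({x} : Set G) := by
  rw [mem_centralizer_singleton_iff, mem_centralizer_singleton_iff]
  constructor
  · intro h
    have : y * x = g * (g⁻¹ * y * g * (g⁻¹ * x * g)) * g⁻¹ := by group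
    rw [this, h]; group
  · intro h
    have : g⁻¹ * y * g * (g⁻¹ * x * g) = g⁻¹ * (y * x) * g := by group
    rw [this, h]; group

namespace CATorus

variable {A A' : Subgroup G}

theorem mem_iff (h : CATorus A) {x : G} (hx : x ∈ A) (h1 : x ≠ 1) {y : G} :
    y ∈ A ↔ y * x = x * y := by
  rw [← mem_centralizer_singleton_iff, h.cent x hx h1]

theorem comm (h : CATorus A) : IsMulCommutative A := ⟨⟨fun a b => Subtype.ext <| by
  by_cases hb : (b : G) = 1
  · simp [hb]
  · exact (h.mem_iff b.2 hb).1 a.2⟩⟩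

theorem conj_mem_iff (h : CATorus A) (h' : CATorus A') {x g : G} (hx : x ∈ A) (h1 : x ≠ 1)
    (hg : g⁻¹ * x * g ∈ A') (y : G) : g⁻¹ * y * g ∈ A' ↔ y ∈ A := by
  rw [← h'.cent _ hg (conj_ne_one' h1 g), conj_mem_centralizer_conj, h.cent x hx h1]

theorem tiSub (h : CATorus A) : TISub A (normalizer (A : Set G)) where
  le := le_normalizer
  norm _ hn a ha := (mem_normalizer_iff''.1 hn a).1 ha
  ti _ hx h1 _ hg := mem_normalizer_iff''.2 fun y => (h.conj_mem_iff h hx h1 hg y).symm

theorem disjoint (h : CATorus A) (h' : CATorus A') {x : G} (hx : x ∈ A') (h1 : x ≠ 1)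
    (hn : x ∉ conjInto A) : Disjoint (conjInto A) (conjInto A') := by
  rw [Set.disjoint_left]
  rintro y ⟨hy, g, hg⟩ ⟨-, g', hg'⟩
  refine hn ⟨h1, g'⁻¹ * g, ?_⟩
  refine (h'.conj_mem_iff h hg' (conj_ne_one' hy g') (g := g'⁻¹ * g) ?_ x).2 hx
  convert hg using 1; group

variable [Finite G]

theorem coprime (h : CATorus A) (h' : CATorus A') (hd : Disjoint (conjInto A) (conjInto A')) :
    (Nat.card A).Coprime (Nat.card A') := by
  by_contra hc
  obtain ⟨s, hs, h1, h2⟩ := Nat.Prime.not_coprime_iff_dvd.1 hc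
  have := Fact.mk hs
  have aux : ∀ {C : Subgroup G}, s ∣ Nat.card C →
      ∃ y ∈ C, y ≠ 1 ∧ ∃ S : Sylow s G, y ∈ (S : Subgroup G) := by
    intro C hC
    obtain ⟨y, hy⟩ := exists_prime_orderOf_dvd_card' s hC
    have hy' : orderOf (y : G) = s := by rw [← hy, orderOf_coe]
    have hp : IsPGroup s (zpowers (y : G)) := IsPGroup.of_card (n := 1) (by
      rw [Nat.card_zpowers, hy', pow_one])
    obtain ⟨S, hS⟩ := hp.exists_le_sylow
    refine ⟨y, y.2, fun e => ?_, S, hS (mem_zpowers _)⟩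
    rw [e, orderOf_one] at hy'
    exact hs.one_lt.ne hy'
  obtain ⟨y, hy, hy1, S, hS⟩ := aux h1
  obtain ⟨y', hy', hy1', S', hS'⟩ := aux h2
  obtain ⟨g, rfl⟩ := MulAction.exists_smul_eq G S' S
  have : Nontrivial S' := ⟨⟨⟨y', hS'⟩, 1, fun e => hy1' (congrArg Subtype.val e)⟩⟩
  have := S'.isPGroup'.center_nontrivial
  obtain ⟨⟨z, hz⟩, hz1⟩ := exists_ne (1 : Subgroup.center S')
  have hz1' : (z : G) ≠ 1 := fun e => hz1 (Subtype.ext (Subtype.ext e))
  have hzc : ∀ u ∈ (S' : Subgroup G), (z : G) * u = u * z := fun u hu =>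
    (congrArg Subtype.val (mem_center_iff.1 hz ⟨u, hu⟩)).symm
  have hzA' : (z : G) ∈ A' := by
    rw [← h'.cent y' hy' hy1', mem_centralizer_singleton_iff]; exact hzc _ hS'
  have hyS : g⁻¹ * y * g ∈ (S' : Subgroup G) := by
    rw [Sylow.coe_subgroup_smul, mem_pointwise_smul_iff_inv_smul_mem] at hS
    simpa using hS
  have hzA : g⁻¹⁻¹ * z * g⁻¹ ∈ A := by
    rw [← h.cent y hy hy1, ← conj_mem_centralizer_conj g, mem_centralizer_singleton_iff]
    have := hzc _ hyS
    simpa [mul_assoc] using this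
  exact Set.disjoint_left.1 hd ⟨hz1', _, hzA⟩ ⟨hz1', 1, by simpa using hzA'⟩

theorem relIndex_le (h : CATorus A) {x : G} (hx : x ∈ A) (h1 : x ≠ 1) {k : ℕ}
    (hk : ∀ T : Finset G, (∀ y ∈ T, IsConj x y ∧ y * x = x * y) → T.card ≤ k) :
    A.relIndex (normalizer (A : Set G)) ≤ k := by
  classical
  set N := normalizer (A : Set G)
  have := Fintype.ofFinite (N ⧸ A.subgroupOf N)
  set f : N ⧸ A.subgroupOf N → G := fun c => (c.out : G) * x * (c.out : G)⁻¹ with hf
  have hinj : Function.Injective f := by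
    intro c c' e
    rw [← c.out_eq, ← c'.out_eq]
    refine Quotient.sound (QuotientGroup.leftRel_apply.2 ?_)
    rw [mem_subgroupOf, h.mem_iff hx h1]
    simp only [hf] at e
    have e2 : ((c.out⁻¹ * c'.out : N) : G) * x =
        (c.out : G)⁻¹ * ((c'.out : G) * x * (c'.out : G)⁻¹) * c'.out := by
      push_cast; group
    rw [e2, ← e]; push_cast; group
  have h2 := hk (Finset.univ.image f) (by
    intro y hy
    obtain ⟨c, -, rfl⟩ := Finset.mem_image.1 hy
    refine ⟨isConj_iff.2 ⟨_, rfl⟩, ?_⟩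
    rw [← mem_centralizer_singleton_iff, h.cent x hx h1]
    exact (mem_normalizer_iff.1 c.out.2 x).1 hx)
  rwa [Finset.card_image_of_injective _ hinj, Finset.card_univ, ← Nat.card_eq_fintype_card] at h2

theorem ncard_mul (h : CATorus A) :
    (conjInto A).ncard * A.relIndex (normalizer (A : Set G)) + A.index = Nat.card G := by
  have h1 := h.tiSub.ncard_conjInto
  rw [← A.index_mul_card, ← relIndex_mul_index (le_normalizer (H := A)),
    mul_assoc, ← h1]
  ring

end CATorus

end CT
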