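import Cfsg.Agent.Lib.Char.Mackey
import Cfsg.Agent.Lib.Char.Clifford
import Cfsg.Agent.Lib.Char.Values
import Cfsg.Agent.Lib.Block.Coherence
import Cfsg.Agent.Lib.Grp.NormalCompl

/-!
# Sylow subgroups with uniform centralizers (Brauer–Leonard)
-/

set_option autoImplicit false
set_option linter.unusedSectionVars false

namespace CT

open Cfsg GT MulAction Subgroup
open scoped ComplexConjugate Pointwise commutatorElement

section Icf
variable {G : Type*} [Group G] [Finite G]

/-- Integer coefficient of an irreducible character in a generalized character. -/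
noncomputable def icf (θ : G → ℂ) (χ : IrrCharacter G) : ℤ := ⌊(ip θ χ.1).re⌋

theorem icf_cast {θ : G → ℂ} (hθ : IsGeneralizedCharacter G θ) (χ : IrrCharacter G) :
    (icf θ χ : ℂ) = ip θ χ.1 := by
  obtain ⟨n, hn⟩ := hθ.exists_int_ip (irr_isCharacter χ).isGen
  simp [icf, hn]

theorem icf_eq_of_ip {θ : G → ℂ} {χ : IrrCharacter G} {n : ℤ} (h : ip θ χ.1 = n) :
    icf θ χ = n := by
  simp [icf, h]

theorem icf_sub {θ η : G → ℂ} (hθ : IsGeneralizedCharacter G θ)
    (hη : IsGeneralizedCharacter G η) (χ : IrrCharacter G) :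
    icf (θ - η) χ = icf θ χ - icf η χ :=
  icf_eq_of_ip (by rw [ip_sub_left, ← icf_cast hθ, ← icf_cast hη]; push_cast; rfl)

theorem icf_eq_mult {θ : G → ℂ} (hθ : IsCharacter G θ) (χ : IrrCharacter G) :
    icf θ χ = mult θ χ.1 :=
  icf_eq_of_ip (by rw [hθ.ip_eq_mult (irr_isCharacter χ)]; simp)

theorem sum_icf_mul_icf {θ η : G → ℂ} (hθ : IsGeneralizedCharacter G θ)
    (hη : IsGeneralizedCharacter G η) :
    ((∑ χ : IrrCharacter G, icf θ χ * icf η χ : ℤ) : ℂ) = ip θ η := by
  rw [ip_eq_sum_irr hθ.isClassFunction hη.isClassFunction]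
  push_cast
  refine Finset.sum_congr rfl fun χ _ => ?_
  rw [← icf_cast hθ, ← icf_cast hη, map_intCast]

theorem sum_degree_mul_icf {θ : G → ℂ} (hθ : IsGeneralizedCharacter G θ) :
    ((∑ χ : IrrCharacter G, (charDegree χ.1 : ℤ) * icf θ χ : ℤ) : ℂ) = θ 1 := by
  rw [hθ.isClassFunction.apply_eq_sum_irr 1]
  push_cast
  refine Finset.sum_congr rfl fun χ _ => ?_
  rw [← icf_cast hθ, irr_apply_one, mul_comm]

end Icf

/-- Local data: `P ≤ C` normal subgroups of `N`, `P` central in `C` with a retraction, and `N/C`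
acting fixed point freely on `P`. -/
structure UCLoc {N : Type*} [Group N] (P C : Subgroup N) (π : C →* P) : Prop where
  le : P ≤ C
  cent : C ≤ centralizer (P : Set N)
  proj : ∀ x : P, π ⟨x, le x.2⟩ = x
  fpf : ∀ n : N, ∀ x ∈ P, x ≠ 1 → n * x * n⁻¹ = x → n ∈ C

namespace UCLoc
variable {N : Type*} [Group N] [Finite N] {P C : Subgroup N} [P.Normal] [C.Normal] {π : C →* P}
  (S : UCLoc P C π)
include S

theorem comm : IsMulCommutative P :=
  ⟨⟨fun a b => Subtype.ext ((S.cent (S.le a.2) b b.2).symm)⟩⟩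

theorem over_unique {η : IrrCharacter C} {μ μ' : IrrCharacter P}
    (h : LiesOverLe S.le η.1 μ.1) (h' : LiesOverLe S.le η.1 μ'.1) : μ = μ' := by
  obtain ⟨t, ht, rfl⟩ := h.exists_smul h'
  rw [conjSmul_of_mem_centralizer (S.cent ht)]

theorem stabilizer_eq {μ : IrrCharacter P} (hμ : μ ≠ irrOne P) : stabilizer N μ = C := by
  have := S.comm
  refine le_antisymm (fun n hn => ?_) (S.cent.trans (centralizer_le_inertia μ))
  by_contra hnC
  obtain ⟨f, rfl⟩ := exists_linChar_eq_of_isMulCommutative μ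
  have hinj : Function.Injective fun x : P => x⁻¹ * MulAut.conjNormal n x := by
    intro x y hxy
    by_contra hne
    refine hnC (S.fpf n (x * y⁻¹ : P) (x * y⁻¹).2 (fun h => hne ?_) ?_)
    · exact mul_inv_eq_one.1 (Subtype.ext h)
    · have h1 : MulAut.conjNormal n (x * y⁻¹) = x * y⁻¹ := by
        simp only at hxy
        rw [map_mul, map_inv, eq_comm, mul_inv_eq_iff_eq_mul, mul_assoc,
          mul_comm' (MulAut.conjNormal n y)⁻¹ y, ← mul_assoc, eq_mul_inv_iff_mul_eq]
        calc x * MulAut.conjNormal n y = x * y * (y⁻¹ * MulAut.conjNormal n y) := by group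
          _ = x * y * (x⁻¹ * MulAut.conjNormal n x) := by rw [hxy]
          _ = _ := by rw [mul_comm' x y, mul_assoc, mul_inv_cancel_left, mul_comm']
      exact congrArg Subtype.val h1
  refine hμ (linChar_eq_irrOne_iff.2 (MonoidHom.ext fun y => ?_))
  obtain ⟨x, rfl⟩ := (Finite.injective_iff_surjective.1 hinj) y
  have h2 := conjSmul_eq_iff.1 (mem_stabilizer_iff.1 hn) x
  simp only [linChar_apply, Units.val_inj] at h2
  simp [h2]

theorem exists_twist (η : IrrCharacter C) (μ : IrrCharacter P) :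
    ∃ η' : IrrCharacter C, LiesOverLe S.le η'.1 μ.1 ∧ ∀ c, π c = 1 → η'.1 c = η.1 c := by
  have := S.comm
  obtain ⟨μ₁, h₁⟩ := exists_irr_liesUnderLe S.le η
  obtain ⟨f, rfl⟩ := exists_linChar_eq_of_isMulCommutative μ
  obtain ⟨f₁, rfl⟩ := exists_linChar_eq_of_isMulCommutative μ₁
  refine ⟨((f * f₁⁻¹).comp π) • η, ?_, fun c hc => by simp [hc]⟩
  have h2 : resLe S.le (((f * f₁⁻¹).comp π) • η).1 = resLe S.le η.1 * (linChar (f * f₁⁻¹)).1 := by
    funext x
    simp [S.proj, mul_comm]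
  unfold LiesOverLe at h₁ ⊢
  rw [h2, ip_mul_left, cbar_linChar, ← linChar_mul_val]
  rwa [show (f * f₁⁻¹)⁻¹ * f = f₁ by ext x; simp]

theorem ip_ind_self {η : IrrCharacter C} {μ : IrrCharacter P} (h : LiesOverLe S.le η.1 μ.1)
    (hμ : μ ≠ irrOne P) : ip (ind C η.1) (ind C η.1) = 1 := by
  rw [ip_ind_ind_self_normal, Nat.cast_eq_one, relIndex_eq_one]
  refine le_trans (fun n hn => ?_) (S.stabilizer_eq hμ).le
  have h1 := (liesOverLe_smul_iff S.le n η μ).2 h
  rw [mem_stabilizer_iff.1 hn] at h1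
  exact S.over_unique h1 h

theorem ip_ind_ne {η η' : IrrCharacter C} {μ μ' : IrrCharacter P} (h : LiesOverLe S.le η.1 μ.1)
    (h' : LiesOverLe S.le η'.1 μ'.1) (hμ : μ' ∉ orbit N μ) :
    ip (ind C η.1) (ind C η'.1) = 0 := by
  classical
  rw [ip_ind_ind_normal, if_neg]
  rintro ⟨n, rfl⟩
  exact hμ ⟨n, S.over_unique ((liesOverLe_smul_iff S.le n η μ).2 h) h'⟩

theorem exists_reps : ∃ R : Finset (IrrCharacter P), (∀ r ∈ R, r ≠ irrOne P) ∧
    (∀ r ∈ R, ∀ r' ∈ R, r' ∈ orbit N r → r' = r) ∧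
    (∀ μ, μ ≠ irrOne P → ∃ r ∈ R, μ ∈ orbit N r) ∧
    ∀ F : IrrCharacter P → ℕ, (∀ (n : N) μ, F (n • μ) = F μ) →
      ∑ μ, F μ = F (irrOne P) + C.index * ∑ r ∈ R, F r := by
  classical
  let o : IrrCharacter P → IrrCharacter P := fun μ => (Quotient.mk (orbitRel N _) μ).out
  have ho : ∀ μ, μ ∈ orbit N (o μ) := fun μ =>
    orbitRel_apply.1 (Quotient.exact (Quotient.out_eq (Quotient.mk (orbitRel N _) μ)).symm)
  have ho' : ∀ μ μ', μ' ∈ orbit N μ → o μ' = o μ := fun μ μ' h => by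
    simp only [o]
    rw [Quotient.sound (s := orbitRel N _) (orbitRel_apply.2 h)]
  have hoo : ∀ μ, o (o μ) = o μ := fun μ => (ho' _ _ (ho μ)).symm
  have hne : ∀ μ, μ ≠ irrOne P → o μ ≠ irrOne P := fun μ hμ h => by
    obtain ⟨n, hn⟩ := ho μ
    exact hμ (by rw [← hn, h]; exact conjSmul_irrOne n)
  refine ⟨Finset.univ.filter fun μ => o μ = μ ∧ μ ≠ irrOne P, fun r hr => (Finset.mem_filter.1 hr).2.2,
    fun r hr r' hr' h => ?_, fun μ hμ => ⟨o μ, by simp [hoo, hne μ hμ], ho μ⟩, fun F hF => ?_⟩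
  · rw [← (Finset.mem_filter.1 hr).2.1, ← (Finset.mem_filter.1 hr').2.1, ho' _ _ h]
  rw [← Finset.add_sum_erase _ _ (Finset.mem_univ (irrOne P)), Finset.mul_sum,
    ← Finset.sum_fiberwise_of_maps_to (g := o)
      (t := Finset.univ.filter fun μ => o μ = μ ∧ μ ≠ irrOne P)
      (fun μ hμ => by simp [hoo, hne μ (Finset.mem_erase.1 hμ).1])]
  congr 1
  refine Finset.sum_congr rfl fun r hr => ?_
  obtain ⟨-, hr1, hr2⟩ := Finset.mem_filter.1 hr
  have h1 : (Finset.univ.erase (irrOne P)).filter (fun μ => o μ = r) = conjOrbit N r := by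
    ext μ
    simp only [Finset.mem_filter, Finset.mem_erase, Finset.mem_univ, and_true, mem_conjOrbit]
    refine ⟨fun h => h.2 ▸ ho μ, fun h => ⟨?_, (ho' _ _ h).trans hr1⟩⟩
    rintro rfl
    obtain ⟨n, hn⟩ := h
    exact hr2 (by rw [← inv_smul_smul n r, show n • r = _ from hn, conjSmul_irrOne])
  rw [h1, Finset.sum_congr rfl (g := fun _ => F r), Finset.sum_const, card_conjOrbit,
    S.stabilizer_eq hr2, smul_eq_mul]
  intro μ hμ
  obtain ⟨n, rfl⟩ := mem_conjOrbit.1 hμ
  exact hF n r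

end UCLoc

theorem unifCent_comb {X ι : Type*} [Fintype X] [Fintype ι] [DecidableEq ι] (deg : X → ℤ)
    (hdeg : ∀ x, 0 < deg x) (w : ι → X → ℤ) {i₀ i₀' i₁ : ι} (hi : i₀' ≠ i₀)
    (hG : ∀ i j, i ≠ i₀ → j ≠ i₀ →
      ∑ x, (w i x - w i₀ x) * (w j x - w i₀ x) = 1 + if i = j then 1 else 0)
    (h0 : ∀ i, ∑ x, deg x * (w i x - w i₀ x) = 0) {ψ one : X} (h1 : 0 < w i₁ ψ)
    (h2 : w i₀ ψ = 0) (h3 : w i₀' ψ = 0) (hψ : deg ψ ≠ deg one) (b : X → ℤ)
    (hb : ∑ x, b x * b x ≤ Fintype.card ι) (hb0 : ∑ x, deg x * b x = 0) (hb1 : 0 < b one)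
    (hb2 : 0 < b ψ) (hb3 : ∀ i, i ≠ i₀ → ∑ x, b x * (w i₁ x - w i x) = 0) : False := by
  classical
  obtain ⟨θ, ε, hθ, hε, -, hw⟩ := BT.coherence w deg hdeg hi hG h0
  have e1 := hw i₁ i₀ ψ
  have e2 := hw i₁ i₀' ψ
  rw [h2] at e1
  rw [h3] at e2
  have hε1 : ε = 1 ∧ ψ = θ i₁ := by
    unfold BT.dl at e1 e2
    rcases hε with rfl | rfl
    · refine ⟨rfl, ?_⟩
      by_contra h
      rw [if_neg h] at e1
      split_ifs at e1 <;> omega
    · exfalso
      have a1 : ψ = θ i₀ := by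
        by_contra h
        rw [if_neg h] at e1
        split_ifs at e1 <;> omega
      have a2 : ψ = θ i₀' := by
        by_contra h
        rw [if_neg h] at e2
        split_ifs at e2 <;> omega
      exact hi (hθ (a2.symm.trans a1))
  obtain ⟨rfl, rfl⟩ := hε1
  have hd : ∀ i, deg (θ i) = deg (θ i₀) := fun i => by
    have := h0 i
    simp only [hw, one_mul, mul_sub, Finset.sum_sub_distrib, BT.sum_mul_dl] at this
    omega
  have hbi : ∀ i, i ≠ i₀ → 0 < b (θ i) := fun i hi => by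
    have := hb3 i hi
    simp only [hw, one_mul, mul_sub, Finset.sum_sub_distrib, BT.sum_mul_dl] at this
    omega
  let s : Finset X := insert one ((Finset.univ.erase i₀).image θ)
  have hs : ∀ x ∈ s, 0 < b x := fun x hx => by
    rcases Finset.mem_insert.1 hx with rfl | hx
    · exact hb1
    · obtain ⟨i, hi, rfl⟩ := Finset.mem_image.1 hx
      exact hbi i (Finset.mem_erase.1 hi).1
  have hcard : s.card = Fintype.card ι := by
    rw [Finset.card_insert_of_notMem, Finset.card_image_of_injective _ hθ,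
      Finset.card_erase_of_mem (Finset.mem_univ _), Finset.card_univ]
    · have : 0 < Fintype.card ι := Fintype.card_pos_iff.2 ⟨i₀⟩
      omega
    · intro h
      obtain ⟨i, -, rfl⟩ := Finset.mem_image.1 h
      exact hψ ((hd _).trans (hd _).symm)
  have h4 := (BT.card_le_sum_mul_self s b fun x hx => (hs x hx).ne').1
  rw [← Finset.sum_add_sum_compl s] at hb hb0
  have h5 : ∑ x ∈ sᶜ, b x * b x = 0 :=
    le_antisymm (by omega) (Finset.sum_nonneg fun x _ => mul_self_nonneg _)
  rw [Finset.sum_eq_zero_iff_of_nonneg fun x _ => mul_self_nonneg _] at h5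
  rw [Finset.sum_eq_zero (s := sᶜ) fun x hx => by rw [mul_self_eq_zero.1 (h5 x hx), mul_zero]] at hb0
  have : 0 < ∑ x ∈ s, deg x * b x :=
    Finset.sum_pos (fun x hx => mul_pos (hdeg x) (hs x hx)) ⟨one, Finset.mem_insert_self _ _⟩
  omega

section Main
variable {G : Type*} [Group G] [Finite G] {N : Subgroup G} {P C : Subgroup N} [P.Normal] [C.Normal]
  {π : C →* P} (S : UCLoc P C π) {X : Set G}
  (hTI : ∀ x ∈ X, ∀ g : G, g⁻¹ * x * g ∈ X → g ∈ N)
  (hX : ∀ n : N, (n : G) ∉ X → ∀ c : C, IsConj n (c : N) → π c = 1)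
include S hTI hX

theorem UCLoc.ip_ind_ind {f h : C → ℂ} (hf : ∀ c, π c = 1 → f c = 0)
    (hh : ∀ c, π c = 1 → h c = 0) :
    ip (ind N (ind C f)) (ind N (ind C h)) = ip (ind C f) (ind C h) :=
  ip_ind_ind_of_TI hTI (isClassFunction_ind _ _)
    (fun n hn => ind_apply_eq_zero' fun c hc => hf c (hX n hn c hc))
    (fun n hn => ind_apply_eq_zero' fun c hc => hh c (hX n hn c hc))

theorem UCLoc.ip_res_self_eq_one
    (hker : ∀ ψ : IrrCharacter G, ψ ≠ irrOne G → ¬ P ≤ ker (res N ψ.1))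
    {χ : IrrCharacter G} (hχ : χ ≠ irrOne G) (hdeg : charDegree χ.1 ^ 2 + 1 < Nat.card P) :
    ip (res C (res N χ.1)) (res C (res N χ.1)) = 1 := by
  classical
  have := S.comm
  obtain ⟨R, hR1, hR2, hR3, hR⟩ := S.exists_reps
  -- nontrivial constituents on `P`
  have hP : ∀ ψ : IrrCharacter G, ψ ≠ irrOne G → ∃ r ∈ R, LiesOver P (res N ψ.1) r.1 := by
    intro ψ hψ
    have hc : IsCharacter N (res N ψ.1) := (irr_isCharacter ψ).res N
    by_contra hcon
    push Not at hcon
    refine hker ψ hψ fun x hx => ?_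
    change (⟨x, hx⟩ : P) ∈ (ker (res N ψ.1)).subgroupOf P
    rw [← IsCharacter.ker_res hc, (hc.res P).mem_ker_iff_forall_irr]
    intro μ hμ
    by_cases h1 : μ = irrOne P
    · rw [h1, (irr_ker_eq_top_iff _).2 rfl]; trivial
    · obtain ⟨r, hr, n, rfl⟩ := hR3 μ h1
      exact absurd ((liesOver_conjSmul_iff hc.isClassFunction n r).1 hμ) (hcon r hr)
  have hdegsum : ∀ {Θ : G → ℂ}, IsCharacter G Θ → charDegree Θ =
      mult (res P (res N Θ)) (irrOne P).1 + C.index * ∑ r ∈ R, mult (res P (res N Θ)) r.1 := by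
    intro Θ hΘ
    rw [← hR (fun μ => mult (res P (res N Θ)) μ.1)
      (fun n μ => mult_res_conjSmul (hΘ.res N).isClassFunction n μ), ← charDegree_res N,
      ← charDegree_res P, ((hΘ.res N).res P).degree_eq_sum_mult]
    simp [irr_degree_eq_one_of_isMulCommutative]
  have hcard : Nat.card P = 1 + C.index * R.card := by
    have := hR (fun _ => 1) (fun _ _ => rfl)
    simpa [← card_irr_of_isMulCommutative (G := P)] using this
  have hχc := irr_isCharacter χ
  obtain ⟨r₁, hr₁, hχ₁⟩ := hP χ hχ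
  rw [liesOver_iff_mult_pos (hχc.res N) (irr_isCharacter r₁)] at hχ₁
  have he1 : C.index ≤ charDegree χ.1 := by
    rw [hdegsum hχc]
    have := Finset.single_le_sum (f := fun r => mult (res P (res N χ.1)) r.1)
      (fun _ _ => Nat.zero_le _) hr₁
    nlinarith
  have he0 : 0 < C.index := index_pos C
  have ht : C.index + 1 ≤ R.card := by
    by_contra h
    have : R.card ≤ C.index := by omega
    nlinarith
  let Θ : G → ℂ := χ.1 * cbar χ.1
  have hΘ : IsCharacter G Θ := hχc.mul hχc.cbar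
  have hΘd : charDegree Θ = charDegree χ.1 ^ 2 :=
    charDegree_eq_of_apply_one (by simp [Θ, irr_apply_one, sq])
  have hΘ1 : C.index ≤ mult (res P (res N Θ)) (irrOne P).1 := by
    have h1 : ip (res P (res N Θ)) (irrOne P).1 =
        ip (res P (res N χ.1)) (res P (res N χ.1)) := by
      rw [res_mul, res_mul, ip_mul_left]
      congr 1
      funext x
      simp
    rw [((hχc.res N).res P).ip_self_eq_sum_mult_sq,
      hR (fun μ => mult (res P (res N χ.1)) μ.1 ^ 2)
        (fun n μ => by rw [mult_res_conjSmul (hχc.res N).isClassFunction n μ])] at h1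
    rw [mult_eq_of_ip_eq h1]
    have := Finset.single_le_sum (f := fun r => mult (res P (res N χ.1)) r.1 ^ 2)
      (fun _ _ => Nat.zero_le _) hr₁
    have h2 : 1 ≤ mult (res P (res N χ.1)) r₁.1 ^ 2 := Nat.one_le_pow _ _ hχ₁
    nlinarith
  -- two orbits not occurring in `Θ`
  have h2 : 1 < (R.filter fun r => mult (res P (res N Θ)) r.1 = 0).card := by
    have h3 := Finset.card_filter_add_card_filter_not (s := R)
      (fun r => mult (res P (res N Θ)) r.1 = 0)
    have h4 : (R.filter fun r => ¬ mult (res P (res N Θ)) r.1 = 0).card ≤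
        ∑ r ∈ R, mult (res P (res N Θ)) r.1 := by
      rw [Finset.card_filter]
      exact Finset.sum_le_sum fun r _ => by split_ifs <;> omega
    have h5 := hdegsum hΘ
    by_contra h6
    have h7 : R.card ≤ 1 + ∑ r ∈ R, mult (res P (res N Θ)) r.1 := by omega
    have h8 := Nat.mul_le_mul_left C.index h7
    rw [mul_add] at h8
    omega
  obtain ⟨r₀, hr₀, r₀', hr₀', hne⟩ := Finset.one_lt_card.1 h2
  obtain ⟨hr₀, hm₀⟩ := Finset.mem_filter.1 hr₀
  obtain ⟨hr₀', hm₀'⟩ := Finset.mem_filter.1 hr₀'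
  -- a nontrivial constituent `ψ` of `Θ` with `1_C` in `ψ_C`
  by_contra hcon
  have hex : ∃ ψ : IrrCharacter G, ψ ≠ irrOne G ∧ ip Θ ψ.1 ≠ 0 ∧
      ip (res C (res N ψ.1)) (irrOne C).1 ≠ 0 := by
    by_contra hno
    push Not at hno
    apply hcon
    have h1 : ip (res C (res N Θ)) (irrOne C).1 =
        ip (res C (res N χ.1)) (res C (res N χ.1)) := by
      rw [res_mul, res_mul, ip_mul_left]
      congr 1
      funext x
      simp
    have h3 : ip Θ (irrOne G).1 = 1 := by
      rw [ip_mul_left, ← ip_irr_self χ]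
      congr 1
      funext x
      simp
    rw [← h1, hΘ.isClassFunction.eq_sum_irr, res_sum, res_sum, ip_sum_left,
      Finset.sum_eq_single (irrOne G) _ (by simp), h3, one_smul]
    · exact ip_irr_self (irrOne C)
    · intro ψ _ hψ
      rw [res_smul, res_smul, ip_smul_left]
      by_cases h : ip Θ ψ.1 = 0
      · rw [h, zero_mul]
      · rw [hno ψ hψ h, mul_zero]
  obtain ⟨ψ, hψ1, hψ2, hψ3⟩ := hex
  have hψc := irr_isCharacter ψ
  obtain ⟨r₂, hr₂, hψ4⟩ := hP ψ hψ1
  obtain ⟨η₂, hη₂, hη₂'⟩ := hψ4.exists_between S.le (hψc.res N).isClassFunction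
  have hψ0 : ∀ r : IrrCharacter P, mult (res P (res N Θ)) r.1 = 0 → ∀ η : IrrCharacter C,
      LiesOverLe S.le η.1 r.1 → ip η.1 (res C (res N ψ.1)) = 0 := by
    intro r hr η hη
    by_contra h
    rw [(irr_isCharacter η).ip_comm ((hψc.res N).res C)] at h
    have h1 := LiesOver.trans_le S.le (hψc.res N) (irr_isCharacter r) h hη
    have h3 := ip_comp_ne_zero_trans (N.subtype.comp P.subtype) hΘ (irr_isCharacter r) hψ2 h1
    exact h3 (by
      have := ((hΘ.res N).res P).ip_eq_mult (irr_isCharacter r)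
      rw [hr, Nat.cast_zero] at this
      exact this)
  have hfam : ∀ μ : IrrCharacter P, ∃ η' : IrrCharacter C, LiesOverLe S.le η'.1 μ.1 ∧
      (∀ c, π c = 1 → η'.1 c = η₂.1 c) ∧ (μ = r₂ → η' = η₂) := fun μ => by
    by_cases h : μ = r₂
    · exact ⟨η₂, h ▸ hη₂', fun _ _ => rfl, fun _ => rfl⟩
    · obtain ⟨η', h1, h2⟩ := S.exists_twist η₂ μ
      exact ⟨η', h1, h2, fun h' => absurd h' h⟩
  choose η hη hη' hη'' using hfam
  obtain ⟨η₀, hη₀, hη₀'⟩ := S.exists_twist (irrOne C) r₀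
  have hηr : η r₂ = η₂ := hη'' _ rfl
  let τ : (C → ℂ) → G → ℂ := fun f => ind N (ind C f)
  have hτ : ∀ ξ : IrrCharacter C, IsGeneralizedCharacter G (τ ξ.1) := fun ξ =>
    (irr_isCharacter ξ).ind.ind.isGen
  have hτs : ∀ f h, τ (f - h) = τ f - τ h := fun f h => by simp only [τ, ind_sub]
  have hτip : ∀ f (x : IrrCharacter G), ip (τ f) x.1 = ip f (res C (res N x.1)) := fun f x => by
    rw [ip_ind_left _ _ (irr_isClassFunction x), ip_ind_left _ _ ((irr_isClassFunction x).res N)]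
  have hτ1 : ∀ f, f 1 = 0 → τ f 1 = 0 := fun f hf => by
    simp only [τ]
    rw [ind_apply_one, ind_apply_one, hf, mul_zero, mul_zero]
  have hsum : ∀ a b c d : IrrCharacter C, (∀ x, π x = 1 → a.1 x = b.1 x) →
      (∀ x, π x = 1 → c.1 x = d.1 x) →
      ((∑ x, (icf (τ a.1) x - icf (τ b.1) x) * (icf (τ c.1) x - icf (τ d.1) x) : ℤ) : ℂ) =
        ip (ind C a.1) (ind C c.1) - ip (ind C b.1) (ind C c.1) -
          (ip (ind C a.1) (ind C d.1) - ip (ind C b.1) (ind C d.1)) := by
    intro a b c d hab hcd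
    simp only [← icf_sub (hτ _) (hτ _)]
    rw [sum_icf_mul_icf ((hτ _).sub (hτ _)) ((hτ _).sub (hτ _)), ← hτs, ← hτs,
      S.ip_ind_ind hTI hX (fun x hx => by simp [hab x hx]) (fun x hx => by simp [hcd x hx]),
      ind_sub, ind_sub, ip_sub_right, ip_sub_left, ip_sub_left]
  have hdsum : ∀ a b : IrrCharacter C, (∀ x, π x = 1 → a.1 x = b.1 x) →
      ∑ x, (charDegree x.1 : ℤ) * (icf (τ a.1) x - icf (τ b.1) x) = 0 := by
    intro a b hab
    simp only [← icf_sub (hτ _) (hτ _)]
    have := sum_degree_mul_icf ((hτ a).sub (hτ b))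
    rw [← hτs, hτ1 _ (by simp [hab 1 (map_one π)])] at this
    rw [← hτs]
    exact_mod_cast this
  have hip : ∀ (a b : IrrCharacter C) (i j : R), LiesOverLe S.le a.1 i.1.1 →
      LiesOverLe S.le b.1 j.1.1 → i ≠ j → ip (ind C a.1) (ind C b.1) = 0 :=
    fun a b i j ha hb hij => S.ip_ind_ne ha hb fun h => hij (Subtype.ext (hR2 _ i.2 _ j.2 h).symm)
  have hηη : ∀ i j : R, ip (ind C (η i).1) (ind C (η j).1) = if i = j then 1 else 0 := by
    intro i j
    split_ifs with h
    · subst h; exact S.ip_ind_self (hη i) (hR1 _ i.2)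
    · exact hip _ _ i j (hη i) (hη j) h
  have hone : LiesOverLe S.le (irrOne C).1 (irrOne P).1 := liesOverLe_of_resLe_eq rfl
  have honeη : ∀ (a : IrrCharacter C) (i : R), LiesOverLe S.le a.1 i.1.1 →
      ip (ind C (irrOne C).1) (ind C a.1) = 0 := fun a i ha => S.ip_ind_ne hone ha (by
    rintro ⟨n, hn⟩
    exact hR1 _ i.2 (hn.symm.trans (conjSmul_irrOne n)))
  have hicf : ∀ (a : IrrCharacter C) (x : IrrCharacter G),
      icf (τ a.1) x = mult (res C (res N x.1)) a.1 := fun a x => icf_eq_of_ip (by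
    have hx := ((irr_isCharacter x).res N).res C
    rw [hτip, (irr_isCharacter a).ip_comm hx, hx.ip_eq_mult (irr_isCharacter a)]; simp)
  have hne₂ : r₂ ≠ r₀ := by
    rintro rfl
    exact hη₂ (by
      rw [((hψc.res N).res C).ip_comm (irr_isCharacter η₂)]; exact hψ0 _ hm₀ _ hη₂')
  refine unifCent_comb (ι := R) (fun x => (charDegree x.1 : ℤ))
    (fun x => by exact_mod_cast irr_degree_pos x) (fun i x => icf (τ (η i).1) x)
    (i₀ := ⟨r₀, hr₀⟩) (i₀' := ⟨r₀', hr₀'⟩) (i₁ := ⟨r₂, hr₂⟩)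
    (fun h => hne (congrArg Subtype.val h).symm) (fun i j hi hj => ?_) (fun i => ?_) (ψ := ψ)
    (one := irrOne G) ?_ ?_ ?_ ?_ (fun x => icf (τ (irrOne C).1) x - icf (τ η₀.1) x) ?_ ?_ ?_ ?_
    (fun i hi => ?_)
  · have := hsum (η i) (η r₀) (η j) (η r₀) (fun x hx => by rw [hη' _ x hx, hη' _ x hx])
      (fun x hx => by rw [hη' _ x hx, hη' _ x hx])
    rw [hηη i j, hηη ⟨r₀, hr₀⟩ j, hηη i ⟨r₀, hr₀⟩, hηη ⟨r₀, hr₀⟩ ⟨r₀, hr₀⟩, if_neg hi,
      if_neg hj.symm, if_pos rfl] at this
    apply Int.cast_injective (α := ℂ)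
    rw [this]
    split_ifs <;> norm_num
  · exact hdsum _ _ fun x hx => by rw [hη' _ x hx, hη' _ x hx]
  · simp only
    rw [hicf, hηr]
    exact_mod_cast (liesOver_iff_mult_pos (hψc.res N) (irr_isCharacter η₂)).1 hη₂
  · exact icf_eq_of_ip (by rw [hτip, hψ0 _ hm₀ _ (hη _)]; simp)
  · exact icf_eq_of_ip (by rw [hτip, hψ0 _ hm₀' _ (hη _)]; simp)
  · simp only [charDegree_irrOne]
    intro h
    have h1 : charDegree (res C (res N ψ.1)) ≤ charDegree (irrOne C).1 := by
      rw [charDegree_res, charDegree_res, charDegree_irrOne]; omega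
    have h3 := ((hψc.res N).res C).eq_irr_of_ip_ne_zero_of_degree_le _ hψ3 h1
    refine hη₂ ?_
    rw [h3]
    refine ip_irr_ne ?_
    rintro rfl
    exact hR1 _ hr₂ (S.over_unique hη₂' hone)
  · have := hsum (irrOne C) η₀ (irrOne C) η₀ (fun x hx => (hη₀' x hx).symm)
      (fun x hx => (hη₀' x hx).symm)
    rw [honeη η₀ ⟨r₀, hr₀⟩ hη₀, S.ip_ind_self hη₀ (hR1 _ hr₀), ← conj_ip (ind C (irrOne C).1) (ind C η₀.1),
      honeη η₀ ⟨r₀, hr₀⟩ hη₀, ip_ind_ind_self_normal,
      forall_smul_iff_inertia_eq_top.1 conjSmul_irrOne, relIndex_top_right] at this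
    have h3 : ∑ x, (icf (τ (irrOne C).1) x - icf (τ η₀.1) x) *
        (icf (τ (irrOne C).1) x - icf (τ η₀.1) x) = (C.index : ℤ) + 1 := by
      apply Int.cast_injective (α := ℂ)
      rw [this]
      simp
    rw [h3, Fintype.card_coe]
    exact_mod_cast ht
  · exact hdsum _ _ fun x hx => (hη₀' x hx).symm
  · have h3 : η₀ ≠ irrOne C := by
      rintro rfl
      exact hR1 _ hr₀ (S.over_unique hη₀ hone)
    rw [icf_eq_of_ip (n := 1) (by rw [hτip]; exact (ip_irr_self (irrOne C)).trans (by simp)),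
      icf_eq_of_ip (n := 0) (by rw [hτip]; exact (ip_irr_ne h3).trans (by simp))]
    norm_num
  · rw [icf_eq_of_ip (θ := τ η₀.1) (n := 0) (by rw [hτip, hψ0 _ hm₀ _ hη₀]; simp), hicf, sub_zero]
    exact_mod_cast (liesOver_iff_mult_pos (hψc.res N) (irr_isCharacter _)).1 hψ3
  · have := hsum (irrOne C) η₀ (η r₂) (η i) (fun x hx => (hη₀' x hx).symm)
      (fun x hx => by rw [hη' _ x hx, hη' _ x hx])
    rw [honeη _ ⟨r₂, hr₂⟩ (hη _), honeη _ i (hη _),
      hip _ _ ⟨r₀, hr₀⟩ ⟨r₂, hr₂⟩ hη₀ (hη _) (fun h => hne₂ (congrArg Subtype.val h).symm),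
      hip _ _ ⟨r₀, hr₀⟩ i hη₀ (hη _) hi.symm] at this
    apply Int.cast_injective (α := ℂ)
    rw [this]
    simp

end Main

section Global
variable {G : Type*} [Group G] [Finite G] {p : ℕ} [Fact p.Prime]

theorem pPart_mul_of_sylow_le_center (P : Sylow p G) (h : (P : Subgroup G) ≤ Subgroup.center G)
    (a b : G) : pPart p (a * b) = pPart p a * pPart p b := by
  have hc : ∀ g : G, pPart p g ∈ Subgroup.center G := fun g => h
    ((isSylowIn_sylow P).mem_of_mem_normalizer (isPElt_pPart p g) trivial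
      (centralizer_le_normalizer _ fun y hy => (mem_center_iff.1 (h hy) _).symm))
  have hcm : ∀ g x : G, Commute (pPart p g) x := fun g x => (mem_center_iff.1 (hc g) x).symm
  refine (pPart_eq_and_pRegPart_eq (y := pRegPart p a * pRegPart p b) ?_
    ((hcm a _).mul_left (hcm b _)) ((isPElt_pPart p a).mul_of_commute (isPElt_pPart p b) (hcm a _))
    (hasNormalPComplement_iff_forall_mul.1 (hasNormalPComplement_of_sylow_le_center P h) _ _
      (isPRegular_pRegPart p a) (isPRegular_pRegPart p b))).1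
  rw [mul_assoc, ← mul_assoc (pPart p b), (hcm b _).eq, mul_assoc, pPart_mul_pRegPart, ← mul_assoc,
    pPart_mul_pRegPart]

/-- All nonidentity elements of `P` have the same centralizer as `P`. -/
def UnifCent (P : Subgroup G) : Prop :=
  ∀ x ∈ P, x ≠ 1 → centralizer ({x} : Set G) = centralizer (P : Set G)

theorem UnifCent.le_centralizer {P : Subgroup G} (h : UnifCent P) :
    P ≤ centralizer (P : Set G) := fun x hx => by
  by_cases h1 : x = 1
  · rw [h1]; exact one_mem _
  · rw [← h x hx h1]; exact mem_centralizer_singleton_iff.2 rfl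

theorem UnifCent.mem_normalizer {P : Sylow p G} (h : UnifCent (P : Subgroup G)) {x g : G}
    (hx : x ∈ (P : Subgroup G)) (h1 : x ≠ 1) (hg : g * x * g⁻¹ ∈ (P : Subgroup G)) :
    g ∈ normalizer ((P : Subgroup G) : Set G) := by
  refine (isSylowIn_sylow_of_le P h.le_centralizer).normalizer_le_normalizer
    (centralizer_le_normalizer _) ?_
  rw [← conj_smul_eq_iff_mem_normalizer]
  nth_rewrite 1 [← h x hx h1]
  rw [conj_smul_centralizer_singleton, h _ hg (by simpa [mul_inv_eq_one] using h1)]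

theorem pPart_mem_of_mem_centralizer (P : Sylow p G) {c : G}
    (hc : c ∈ centralizer ((P : Subgroup G) : Set G)) : pPart p c ∈ (P : Subgroup G) :=
  (isSylowIn_sylow P).mem_of_mem_normalizer (isPElt_pPart p c) trivial
    (centralizer_le_normalizer _ (pPart_mem p hc))

theorem UnifCent.pPart_mul {P : Sylow p G} (h : UnifCent (P : Subgroup G)) {a b : G}
    (ha : a ∈ centralizer ((P : Subgroup G) : Set G))
    (hb : b ∈ centralizer ((P : Subgroup G) : Set G)) :
    pPart p (a * b) = pPart p a * pPart p b := by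
  have := pPart_mul_of_sylow_le_center (isSylowIn_sylow_of_le P h.le_centralizer).toSylow
    (fun x hx => mem_center_iff.2 fun y => Subtype.ext (y.2 x hx).symm) ⟨a, ha⟩ ⟨b, hb⟩
  simpa [coe_pPart] using congrArg Subtype.val this

theorem UnifCent.degree_eq_one {P : Sylow p G} (h : UnifCent (P : Subgroup G))
    (hno : ∀ K : Subgroup G, K.Normal → (P : Subgroup G) ≤ K → K = ⊤)
    {χ : IrrCharacter G} (hdeg : charDegree χ.1 ^ 2 + 1 < Nat.card P) : charDegree χ.1 = 1 := by
  by_cases hχ : χ = irrOne G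
  · rw [hχ, charDegree_irrOne]
  let N := normalizer ((P : Subgroup G) : Set G)
  let C := (centralizer ((P : Subgroup G) : Set G)).subgroupOf N
  let Q := (P : Subgroup G).subgroupOf N
  have : C.Normal := normal_subgroupOf_centralizer_normalizer _
  let π : C →* Q := MonoidHom.mk' (fun c => ⟨⟨pPart p (c.1 : G), le_normalizer
    (pPart_mem_of_mem_centralizer P c.2)⟩, pPart_mem_of_mem_centralizer P c.2⟩)
    (fun a b => Subtype.ext (Subtype.ext (h.pPart_mul a.2 b.2)))
  have S : UCLoc Q C π :=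
    { le := fun x hx => h.le_centralizer hx
      cent := fun c hc x hx => Subtype.ext (hc x hx)
      proj := fun x => Subtype.ext (Subtype.ext (isPElt_of_mem_sylow P x.2).pPart_eq)
      fpf := fun n x hx h1 hn => by
        change (n : G) ∈ centralizer ((P : Subgroup G) : Set G)
        rw [← h x hx (fun h => h1 (Subtype.ext h)), mem_centralizer_singleton_iff]
        exact mul_inv_eq_iff_eq_mul.1 (congrArg Subtype.val hn) }
  have h1 := S.ip_res_self_eq_one (X := {g | g ∈ centralizer ((P : Subgroup G) : Set G) ∧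
      pPart p g ≠ 1}) (fun x hx g hg => ?_) (fun n hn c hc => ?_) (fun ψ hψ hle => ?_) hχ
    (by rwa [card_subgroupOf_of_le le_normalizer])
  · have hc : IsCharacter C (res C (res N χ.1)) := ((irr_isCharacter χ).res N).res C
    rw [← irr_center_eq_top_iff]
    refine hno _ inferInstance fun x hx => ?_
    have h2 := center_le_irr_center (G := C) ⟨_, hc.isIrr_iff_ip_self.2 h1⟩
      (x := ⟨⟨x, le_normalizer hx⟩, h.le_centralizer hx⟩)
      (mem_center_iff.2 fun y => Subtype.ext (Subtype.ext (y.2 x hx).symm))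
    rw [hc.mem_center_iff, charDegree_res, charDegree_res] at h2
    exact (irr_mem_center_iff χ).2 h2
  · have := h.mem_normalizer (g := g⁻¹) (pPart_mem_of_mem_centralizer P hx.1) hx.2 (by
      rw [inv_inv, ← pPart_conj']
      exact pPart_mem_of_mem_centralizer P hg.1)
    exact inv_inv g ▸ inv_mem this
  · refine Subtype.ext (Subtype.ext ?_)
    change pPart p (c.1 : G) = 1
    obtain ⟨u, hu⟩ := isConj_iff.1 hc
    have hn1 : (n : G) ∈ centralizer ((P : Subgroup G) : Set G) := by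
      have := this.conj_mem _ c.2 u⁻¹
      rw [← hu] at this
      have h3 : n ∈ C := by simpa [mul_assoc] using this
      exact h3
    have hn2 : pPart p (n : G) = 1 := by
      by_contra h2
      exact hn ⟨hn1, h2⟩
    rw [← hu]
    simp [pPart_conj, hn2]
  · refine hψ ((irr_ker_eq_top_iff ψ).1 (hno _ inferInstance fun x hx => ?_))
    have := hle (x := ⟨x, le_normalizer hx⟩) hx
    rwa [(irr_isCharacter ψ).ker_res] at this

theorem UnifCent.normalizer_le {P : Sylow p G} (h : UnifCent (P : Subgroup G))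
    (hno : ∀ K : Subgroup G, K.Normal → (P : Subgroup G) ≤ K → K = ⊤)
    (hc : commutator G ≠ ⊤) :
    normalizer ((P : Subgroup G) : Set G) ≤ centralizer ((P : Subgroup G) : Set G) := by
  intro n hn
  by_contra hnC
  have : IsMulCommutative (P : Subgroup G) :=
    ⟨⟨fun a b => Subtype.ext (h.le_centralizer a.2 b b.2).symm⟩⟩
  let σ := (P : Subgroup G).normalizerMonoidHom ⟨n, hn⟩
  have hinj : Function.Injective fun x : (P : Subgroup G) => x⁻¹ * σ x := by
    intro x y hxy
    by_contra hne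
    apply hnC
    rw [← h (x * y⁻¹ : (P : Subgroup G)) (x * y⁻¹).2
      (fun h => hne (mul_inv_eq_one.1 (Subtype.ext h))), mem_centralizer_singleton_iff]
    have h1 : σ (x * y⁻¹) = x * y⁻¹ := by
      simp only at hxy
      rw [map_mul, map_inv, eq_comm, mul_inv_eq_iff_eq_mul, mul_assoc,
        mul_comm' (σ y)⁻¹ y, ← mul_assoc, eq_mul_inv_iff_mul_eq]
      calc x * σ y = x * y * (y⁻¹ * σ y) := by group
        _ = x * y * (x⁻¹ * σ x) := by rw [hxy]
        _ = _ := by rw [mul_comm' x y, mul_assoc, mul_inv_cancel_left, mul_comm']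
    exact mul_inv_eq_iff_eq_mul.1 (congrArg Subtype.val h1)
  refine hc (hno _ inferInstance fun y hy => ?_)
  obtain ⟨x, hx⟩ := (Finite.injective_iff_surjective.1 hinj) ⟨y, hy⟩
  have h2 : y = ⁅(x : G)⁻¹, n⁆ := by
    rw [← show _ = y from congrArg Subtype.val hx, commutatorElement_def]
    simp only [coe_mul, coe_inv, inv_inv, mul_assoc]
    rw [← mul_assoc n]
    rfl
  rw [h2]
  exact commutator_mem_commutator (mem_top _) (mem_top _)

/-- **Brauer–Leonard.** -/
theorem UnifCent.normal_of_faithful {p : ℕ} [Fact p.Prime] (G : Type*) [Group G] [Finite G] :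
    ∀ {P : Sylow p G}, UnifCent (P : Subgroup G) → ∀ {χ : G → ℂ}, IsCharacter G χ → ker χ = ⊥ →
      charDegree χ ^ 2 + 1 < Nat.card P → (P : Subgroup G).Normal := by
  refine induction_on_card (P := fun G _ _ => ∀ {P : Sylow p G}, UnifCent (P : Subgroup G) →
    ∀ {χ : G → ℂ}, IsCharacter G χ → ker χ = ⊥ →
      charDegree χ ^ 2 + 1 < Nat.card P → (P : Subgroup G).Normal) (fun G _ _ ih => ?_) G
  intro P h χ hχ hk hdeg
  by_cases hno : ∀ K : Subgroup G, K.Normal → (P : Subgroup G) ≤ K → K = ⊤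
  · have : commutator G ≤ ker χ := fun g hg => by
      rw [hχ.mem_ker_iff_forall_irr]
      intro ψ hψ
      have h1 := hχ.degree_le_of_ip_ne_zero ψ hψ
      exact (irr_commutator_le_ker_iff ψ).2 (h.degree_eq_one hno
        (lt_of_le_of_lt (by gcongr) hdeg)) hg
    rw [hk, le_bot_iff] at this
    refine ⟨fun x hx g => ?_⟩
    have h1 : ⁅g, x⁆ ∈ commutator G := commutator_mem_commutator (mem_top _) (mem_top _)
    rw [this, mem_bot, commutatorElement_eq_one_iff_mul_comm] at h1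
    rwa [h1, mul_inv_cancel_right]
  · push Not at hno
    obtain ⟨K, hK, hPK, hK1⟩ := hno
    have hs := isSylowIn_sylow_of_le P hPK
    have h1 := ih K (card_lt_of_ne_top hK1) (P := hs.toSylow) (fun x hx h1 => by
      ext y
      rw [mem_centralizer_singleton_iff, Subtype.ext_iff, coe_mul, coe_mul,
        ← mem_centralizer_singleton_iff, h x hx (fun h => h1 (Subtype.ext h))]
      exact ⟨fun hy z hz => Subtype.ext (hy z hz),
        fun hy z hz => congrArg Subtype.val (hy ⟨z, hPK hz⟩ hz)⟩) (hχ.res K)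
      (by rw [hχ.ker_res, hk, bot_subgroupOf])
      (by rwa [charDegree_res, hs.coe_toSylow, card_subgroupOf_of_le hPK])
    rw [← normalizer_eq_top_iff, eq_top_iff, ← normalizer_eq_top_iff.2 hK]
    exact hs.normalizer_le_normalizer ((normal_subgroupOf_iff_le_normalizer hPK).1 h1)

end Global

end CT
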