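import Cfsg.Agent.Lib.Char.Monomial
import Cfsg.Agent.Lib.Char.Prod

/-!
# Characters of finite direct products `∀ i, D i` and of regular wreath products
-/

set_option autoImplicit false

namespace CT

open Cfsg MulAction
open scoped ComplexConjugate

section Pi

variable {ι : Type*} [Fintype ι] {D : ι → Type*} [∀ i, Group (D i)]

/-- The outer product of a family of functions. -/
def piFun (φ : ∀ i, D i → ℂ) : (∀ i, D i) → ℂ := fun f => ∏ i, φ i (f i)

omit [∀ i, Group (D i)] in
@[simp] theorem piFun_apply (φ : ∀ i, D i → ℂ) (f : ∀ i, D i) : piFun φ f = ∏ i, φ i (f i) := rfl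

theorem isCharacter_prod {G : Type*} [Group G] {κ : Type*} (s : Finset κ) (χ : κ → G → ℂ)
    (h : ∀ i ∈ s, IsCharacter G (χ i)) : IsCharacter G (∏ i ∈ s, χ i) :=
  Finset.prod_induction χ (IsCharacter G) (fun _ _ => IsCharacter.mul) isCharacter_one h

theorem isCharacter_piFun {φ : ∀ i, D i → ℂ} (h : ∀ i, IsCharacter (D i) (φ i)) :
    IsCharacter (∀ i, D i) (piFun φ) := by
  have := isCharacter_prod Finset.univ (fun i (f : ∀ i, D i) => φ i (Pi.evalMonoidHom D i f))
    fun i _ => (h i).comp _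
  convert this using 1
  ext f
  simp

theorem charDegree_piFun {φ : ∀ i, D i → ℂ} (h : ∀ i, IsCharacter (D i) (φ i)) :
    charDegree (piFun φ) = ∏ i, charDegree (φ i) := by
  apply charDegree_eq_of_apply_one
  rw [piFun_apply, Nat.cast_prod]
  exact Finset.prod_congr rfl fun i _ => (h i).apply_one

variable [∀ i, Finite (D i)]

theorem ip_piFun (φ ψ : ∀ i, D i → ℂ) : ip (piFun φ) (piFun ψ) = ∏ i, ip (φ i) (ψ i) := by
  classical
  have := fun i => Fintype.ofFinite (D i)
  simp only [ip_def, piFun_apply, Finset.prod_mul_distrib, Finset.prod_univ_sum, Nat.card_pi,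
    Fintype.piFinset_univ, map_prod, Nat.cast_prod, Finset.prod_inv_distrib]

theorem isIrr_piFun (φ : ∀ i, IrrCharacter (D i)) :
    IsIrrCharacter (∀ i, D i) (piFun fun i => (φ i).1) := by
  rw [(isCharacter_piFun fun i => irr_isCharacter (φ i)).isIrr_iff_ip_self, ip_piFun]
  exact Finset.prod_eq_one fun i _ => ip_irr_self _

/-- The outer product of irreducible characters. -/
def irrPi (φ : ∀ i, IrrCharacter (D i)) : IrrCharacter (∀ i, D i) := ⟨_, isIrr_piFun φ⟩

theorem irrPi_val (φ : ∀ i, IrrCharacter (D i)) : (irrPi φ).1 = piFun fun i => (φ i).1 := rfl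

theorem irrPi_injective : Function.Injective (irrPi (D := D)) := fun φ ψ h => by
  have h1 := ip_irr_self (irrPi φ)
  nth_rewrite 2 [h] at h1
  rw [irrPi_val, irrPi_val, ip_piFun] at h1
  ext1 i
  exact irr_eq_of_ip_ne_zero (Finset.prod_ne_zero_iff.1 (h1 ▸ one_ne_zero) i (Finset.mem_univ i))

theorem irrPi_surjective : Function.Surjective (irrPi (D := D)) := fun χ => by
  classical
  by_contra hc
  push Not at hc
  have h1 : ∑ φ : (∀ i, IrrCharacter (D i)), (irrPi φ).1 1 • (irrPi φ).1 =
      ∑ ψ : IrrCharacter (∀ i, D i), ψ.1 1 • ψ.1 := by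
    ext f
    simp only [Finset.sum_apply, Pi.smul_apply, smul_eq_mul, sum_irr_degree_mul, irrPi_val,
      piFun_apply, ← Finset.prod_mul_distrib, Pi.one_apply]
    rw [← Fintype.piFinset_univ, ← Finset.prod_univ_sum _ fun i (φ : IrrCharacter (D i)) =>
      φ.1 1 * φ.1 (f i)]
    simp only [sum_irr_degree_mul]
    split_ifs with h
    · simp [h, Nat.card_pi]
    · obtain ⟨i, hi⟩ := Function.ne_iff.1 h
      exact Finset.prod_eq_zero (Finset.mem_univ i) (if_neg hi)
  have h2 := ip_sum_irr_left (fun ψ : IrrCharacter (∀ i, D i) => ψ.1 1) χ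
  rw [← h1, ip_sum_left, Finset.sum_eq_zero fun φ _ => by
    rw [ip_smul_left, ip_irr_ne (hc φ), mul_zero]] at h2
  exact irr_apply_one_ne_zero χ h2.symm

end Pi

variable {G : Type*} [Group G] [Finite G] {H : Type*} [Group H] [Finite H]

theorem isMonomial_of_ip_ne_zero {f : H →* G} (hf : Function.Injective f) {lam : H → ℂ}
    (hl : IsCharacter H lam) (h1 : charDegree lam = 1) {χ : IrrCharacter G}
    (h : ip lam (fun x => χ.1 (f x)) ≠ 0) (hd : Nat.card G = Nat.card H * charDegree χ.1) :
    IsMonomial χ.1 := by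
  rw [← ip_indHom_left f lam (irr_isClassFunction χ)] at h
  rw [← (hl.indHom f).eq_irr_of_ip_ne_zero_of_degree_le χ h ?_]
  · exact (isMonomial_of_degree_one hl h1).indHom hf
  · rw [charDegree_indHom hf hl, h1, mul_one]
    refine Nat.le_of_mul_le_mul_left (le_of_eq ?_) (Nat.card_pos (α := H))
    rw [← hd, ← f.range.card_mul_index, Nat.card_congr (MonoidHom.ofInjective hf).toEquiv]

theorem IsMonomial.exists_ip_ne_zero {χ : IrrCharacter G} (h : IsMonomial χ.1) :
    ∃ (K : Subgroup G) (lam : K →* ℂ), ip (fun k => lam k) (res K χ.1) ≠ 0 ∧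
      Nat.card G = Nat.card K * charDegree χ.1 := by
  obtain ⟨K, lam, h⟩ := h
  have h1 := (isIrrCharacter_of_monoidHom lam).isCharacter
  refine ⟨K, lam, ?_, ?_⟩
  · rw [← ip_ind_left K _ (irr_isClassFunction χ), h, ip_irr_self]
    exact one_ne_zero
  · rw [← h, charDegree_ind h1, charDegree_eq_of_apply_one (n := 1) (by simp), mul_one,
      K.card_mul_index]

theorem IsMGroup.pi {ι : Type*} [Finite ι] {D : ι → Type*} [∀ i, Group (D i)] [∀ i, Finite (D i)]
    (h : ∀ i, IsMGroup (D i)) : IsMGroup (∀ i, D i) := fun χ => by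
  have := Fintype.ofFinite ι
  obtain ⟨φ, rfl⟩ := irrPi_surjective χ
  choose K lam h1 h2 using fun i => (h i (φ i)).exists_ip_ne_zero
  have h3 := fun i => (isIrrCharacter_of_monoidHom (lam i)).isCharacter
  refine isMonomial_of_ip_ne_zero (f := MonoidHom.piMap fun i => (K i).subtype)
    (fun a b e => funext fun i => Subtype.ext (congrFun e i)) (isCharacter_piFun h3)
    (charDegree_eq_of_apply_one (by simp)) ?_ ?_
  · change ip _ (piFun fun i => res (K i) (φ i).1) ≠ 0
    rw [ip_piFun]
    exact Finset.prod_ne_zero_iff.2 fun i _ => h1 i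
  · rw [irrPi_val, charDegree_piFun fun i => irr_isCharacter _, Nat.card_pi, Nat.card_pi,
      ← Finset.prod_mul_distrib]
    exact Finset.prod_congr rfl fun i _ => h2 i

section Wreath

variable {D D' Q : Type*} [Group D] [Group D'] [Group Q]

open RegularWreathProduct

/-- Functoriality of the regular wreath product. -/
def wreathMap (Q : Type*) [Group Q] (f : D →* D') : D ≀ᵣ Q →* D' ≀ᵣ Q :=
  MonoidHom.mk' (fun w => ⟨fun x => f (w.left x), w.right⟩) fun _ _ => by ext <;> simp

theorem wreathMap_injective {f : D →* D'} (hf : Function.Injective f) :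
    Function.Injective (wreathMap Q f) := fun a b e =>
  RegularWreathProduct.ext (funext fun x => hf (congrFun (congrArg left e) x)) (congrArg right e :)

/-- The base group of the wreath product. -/
def wreathBase (D Q : Type*) [Group D] [Group Q] :
    (Q → D) ≃* (rightHom : D ≀ᵣ Q →* Q).ker where
  toFun f := ⟨⟨f, 1⟩, rfl⟩
  invFun w := w.1.left
  left_inv _ := rfl
  right_inv w := Subtype.ext (RegularWreathProduct.ext rfl (Eq.symm w.2))
  map_mul' a b := Subtype.ext (by ext <;> simp)

theorem rightHom_surjective : Function.Surjective (rightHom : D ≀ᵣ Q →* Q) := fun q => ⟨inl q, rfl⟩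

theorem index_ker_rightHom (D Q : Type*) [Group D] [Group Q] : (rightHom : D ≀ᵣ Q →* Q).ker.index = Nat.card Q := by
  rw [Subgroup.index_ker, MonoidHom.range_eq_top.2 rightHom_surjective, Subgroup.card_top]

/-- The Kaloujnine–Krasner embedding. -/
noncomputable def wreathEmb {G : Type*} [Group G] (N : Subgroup G) [N.Normal] :
    G →* N ≀ᵣ (G ⧸ N) :=
  MonoidHom.mk' (fun g => ⟨fun x => ⟨x.out⁻¹ * g * (((g : G ⧸ N))⁻¹ * x).out, by
    rw [← QuotientGroup.eq_one_iff]; simp⟩, g⟩) fun a b => by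
      ext
      · simp [mul_assoc]
      · simp

theorem wreathEmb_injective {G : Type*} [Group G] (N : Subgroup G) [N.Normal] :
    Function.Injective (wreathEmb N) := (injective_iff_map_eq_one _).2 fun g e => by
  have h1 : (g : G ⧸ N) = 1 := congrArg right e
  have h2 : (1 : G ⧸ N).out⁻¹ * g * (((g : G ⧸ N))⁻¹ * 1).out = 1 :=
    congrArg Subtype.val (congrFun (congrArg left e) 1)
  rw [h1, inv_one, one_mul, mul_assoc, inv_mul_eq_one] at h2
  exact right_eq_mul.1 h2

variable [Finite D] [Finite Q]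

theorem IsMGroup.wreath (h : IsMGroup D) (hQ : (Nat.card Q).Prime) : IsMGroup (D ≀ᵣ Q) := by
  intro χ
  have := Fintype.ofFinite Q
  obtain ⟨θ, hθ⟩ := exists_irr_liesUnder (rightHom : D ≀ᵣ Q →* Q).ker χ
  rcases res_eq_or_ind_eq_of_prime (index_ker_rightHom D Q ▸ hQ) hθ with h1 | h1
  swap
  · exact h1 ▸ ((IsMGroup.pi fun _ => h).of_surjective (f := (wreathBase D Q).toMonoidHom)
      (wreathBase D Q).surjective θ).ind
  obtain ⟨φ, hφ⟩ := irrPi_surjective (irrComp (wreathBase D Q).toMonoidHom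
    (wreathBase D Q).surjective θ)
  have h2 : ∀ f : Q → D, χ.1 ⟨f, 1⟩ = ∏ x, (φ x).1 (f x) := fun f =>
    (congrFun h1 (wreathBase D Q f)).trans (congrFun (congrArg Subtype.val hφ) f).symm
  have h3 : ∀ x, φ x = φ 1 := fun q => by
    have h3 : irrPi (fun x => φ (q * x)) = irrPi φ := Subtype.ext (funext fun f => by
      have h4 := irr_isClassFunction χ ⟨f, 1⟩ (inl q)
      rw [irrPi_val, irrPi_val, piFun_apply, piFun_apply, ← h2, ← h4,
        show inl q * ⟨f, 1⟩ * (inl q)⁻¹ = (⟨fun x => f (q⁻¹ * x), 1⟩ : D ≀ᵣ Q) by ext <;> simp, h2]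
      exact Fintype.prod_equiv (Equiv.mulLeft q) _ _ fun x => by simp)
    simpa using congrFun (irrPi_injective h3) 1
  obtain ⟨K, lam, h4, h5⟩ := (h (φ 1)).exists_ip_ne_zero
  let μ : K ≀ᵣ Q →* ℂ :=
    { toFun := fun w => ∏ x, lam (w.left x)
      map_one' := by simp
      map_mul' := fun a b => by
        simp only [mul_left, Pi.mul_apply, map_mul, Finset.prod_mul_distrib]
        congr 1
        exact Fintype.prod_equiv (Equiv.mulLeft a.right⁻¹) _ _ fun x => rfl }
  have hμ := (isIrrCharacter_of_monoidHom μ).isCharacter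
  have hχ := (irr_isCharacter χ).comp (wreathMap Q K.subtype)
  have h6 := ip_res_res_eq_sum_inflate (rightHom : K ≀ᵣ Q →* Q).ker hμ.isClassFunction
    hχ.isClassFunction
  have h7 : ip (res (rightHom : K ≀ᵣ Q →* Q).ker fun w => μ w)
      (res _ fun w => χ.1 (wreathMap Q K.subtype w)) ≠ 0 := by
    rw [← ip_comp_mulEquiv (wreathBase K Q)]
    change ip (piFun fun _ k => lam k) (fun f => χ.1 ⟨fun x => f x, 1⟩) ≠ 0
    simp only [h2, h3]
    change ip _ (piFun fun _ => res K (φ 1).1) ≠ 0
    rw [ip_piFun]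
    exact Finset.prod_ne_zero_iff.2 fun _ _ => h4
  obtain ⟨β, -, hβ⟩ := Finset.exists_ne_zero_of_sum_ne_zero (h6 ▸ h7)
  have h8 : charDegree (inflate _ β).1 = 1 := irr_degree_eq_one_of_le_ker
    (commutator_le_of_index_prime (index_ker_rightHom K Q ▸ hQ)) (le_ker_inflate _ β)
  refine isMonomial_of_ip_ne_zero (wreathMap_injective K.subtype_injective)
    ((irr_isCharacter (inflate _ β)).mul hμ) ?_ (right_ne_zero_of_mul hβ) ?_
  · rw [(irr_isCharacter _).charDegree_mul hμ, h8, one_mul]
    exact charDegree_eq_of_apply_one (by simp)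
  · have h9 : charDegree χ.1 = charDegree (φ 1).1 ^ Nat.card Q := charDegree_eq_of_apply_one (by
      rw [show (1 : D ≀ᵣ Q) = ⟨1, 1⟩ from rfl, h2]
      simp [h3, irr_apply_one])
    rw [RegularWreathProduct.card, RegularWreathProduct.card, h5, h9, mul_pow, mul_right_comm]

end Wreath

universe u

/-- Dade: every solvable group embeds in an M-group. -/
theorem exists_isMGroup_embedding (G : Type u) [Group G] [Finite G] (hs : Group.IsSolvable G) :
    ∃ (M : Type u) (_ : Group M) (_ : Finite M), IsMGroup M ∧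
      ∃ f : G →* M, Function.Injective f := by
  revert hs
  refine GT.induction_on_card (P := fun G _ _ => Group.IsSolvable G → ∃ (M : Type u) (_ : Group M)
    (_ : Finite M), IsMGroup M ∧ ∃ f : G →* M, Function.Injective f) ?_ G
  intro G _ _ ih _
  rcases subsingleton_or_nontrivial G with h | h
  · exact ⟨G, inferInstance, inferInstance, isMGroup_of_nilpotent, MonoidHom.id G, fun _ _ h => h⟩
  obtain ⟨N, _, hN⟩ := GT.exists_normal_index_prime G
  obtain ⟨M, _, _, hM, f, hf⟩ := ih N (GT.card_lt_of_ne_top fun e => hN.ne_one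
    (Subgroup.index_eq_one.2 e)) inferInstance
  exact ⟨M ≀ᵣ (G ⧸ N), inferInstance, inferInstance, hM.wreath hN,
    (wreathMap _ f).comp (wreathEmb N), (wreathMap_injective hf).comp (wreathEmb_injective N)⟩

end CT
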